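import Mathlib.Algebra.Homology.HomotopyCategory.Acyclic
import Mathlib.Algebra.Homology.HomologySequenceLemmas
import Mathlib.Algebra.Homology.HomologicalComplexAbelian
import Mathlib.Algebra.Homology.HomologicalComplexBiprod
import Mathlib.Algebra.Homology.HomotopyCategory.MappingCone
import Mathlib.Algebra.Homology.HomotopyCategory.Pretriangulated

/-!
# Acyclic complexes and quasi-isomorphisms: two out of three, functors preserving quasi-isomorphisms
-/

set_option autoImplicit false

open CategoryTheory CategoryTheory.Limits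

namespace Groth.Agent.KFlat

variable {A : Type*} [Category A] [Abelian A]

theorem acyclic_iff_isZero (K : CochainComplex A ℤ) : K.Acyclic ↔ ∀ i, IsZero (K.homology i) :=
  forall_congr' fun i => HomologicalComplex.exactAt_iff_isZero_homology K i

theorem quasiIso_of_acyclic {K L : CochainComplex A ℤ} (f : K ⟶ L) (hK : K.Acyclic) (hL : L.Acyclic) :
    QuasiIso f :=
  ⟨fun i => (quasiIsoAt_iff_exactAt f i (hK i)).2 (hL i)⟩

theorem acyclic_of_quasiIso_left {K L : CochainComplex A ℤ} (f : K ⟶ L) [QuasiIso f] (hK : K.Acyclic) :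
    L.Acyclic :=
  fun i => (quasiIsoAt_iff_exactAt f i (hK i)).1 inferInstance

theorem acyclic_of_quasiIso_right {K L : CochainComplex A ℤ} (f : K ⟶ L) [QuasiIso f] (hL : L.Acyclic) :
    K.Acyclic :=
  fun i => (quasiIsoAt_iff_exactAt' f i (hL i)).1 inferInstance

variable {S : ShortComplex (CochainComplex A ℤ)}

theorem quasiIso_f_of_acyclic (hS : S.ShortExact) (h : S.X₃.Acyclic) : QuasiIso S.f := by
  have h' := (acyclic_iff_isZero _).1 h
  refine ⟨fun i => ?_⟩
  rw [quasiIsoAt_iff_isIso_homologyMap]
  have hm : Mono (HomologicalComplex.homologyMap S.f i) :=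
    (hS.homology_exact₁ (i - 1) i (by simp)).mono_g ((h' (i - 1)).eq_of_src _ _)
  have he : Epi (HomologicalComplex.homologyMap S.f i) :=
    (hS.homology_exact₂ i).epi_f ((h' i).eq_of_tgt _ _)
  exact isIso_of_mono_of_epi _

theorem quasiIso_g_of_acyclic (hS : S.ShortExact) (h : S.X₁.Acyclic) : QuasiIso S.g := by
  have h' := (acyclic_iff_isZero _).1 h
  refine ⟨fun i => ?_⟩
  rw [quasiIsoAt_iff_isIso_homologyMap]
  have hm : Mono (HomologicalComplex.homologyMap S.g i) :=
    (hS.homology_exact₂ i).mono_g ((h' i).eq_of_src _ _)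
  have he : Epi (HomologicalComplex.homologyMap S.g i) :=
    (hS.homology_exact₃ i (i + 1) (by simp)).epi_f ((h' (i + 1)).eq_of_tgt _ _)
  exact isIso_of_mono_of_epi _

theorem acyclic_middle (hS : S.ShortExact) (h₁ : S.X₁.Acyclic) (h₃ : S.X₃.Acyclic) : S.X₂.Acyclic :=
  have := quasiIso_f_of_acyclic hS h₃
  acyclic_of_quasiIso_left S.f h₁

theorem acyclic_left (hS : S.ShortExact) (h₂ : S.X₂.Acyclic) (h₃ : S.X₃.Acyclic) : S.X₁.Acyclic :=
  have := quasiIso_f_of_acyclic hS h₃
  acyclic_of_quasiIso_right S.f h₂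

theorem acyclic_right (hS : S.ShortExact) (h₁ : S.X₁.Acyclic) (h₂ : S.X₂.Acyclic) : S.X₃.Acyclic :=
  have := quasiIso_g_of_acyclic hS h₁
  acyclic_of_quasiIso_left S.g h₂

theorem shortExact_of_splitting (S : ShortComplex (CochainComplex A ℤ))
    (σ : ∀ n, (S.map (HomologicalComplex.eval A (ComplexShape.up ℤ) n)).Splitting) : S.ShortExact :=
  HomologicalComplex.shortExact_of_degreewise_shortExact S fun n => (σ n).shortExact

theorem acyclic_mappingCone_id (K : CochainComplex A ℤ) :
    (CochainComplex.mappingCone (𝟙 K)).Acyclic := by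
  rw [acyclic_iff_isZero]
  intro i
  rw [IsZero.iff_id_eq_zero, ← HomologicalComplex.homologyMap_id,
    (CochainComplex.mappingCone.homotopyToZeroOfId K).homologyMap_eq i]
  simp

theorem acyclic_mappingCone_of_quasiIso {K L : CochainComplex A ℤ} (f : K ⟶ L) [QuasiIso f] :
    (CochainComplex.mappingCone f).Acyclic := by
  rw [← HomotopyCategory.quotient_obj_mem_subcategoryAcyclic_iff_acyclic]
  have hT := HomotopyCategory.mappingCone_triangleh_distinguished f
  refine ((HomotopyCategory.subcategoryAcyclic A).trW_iff_of_distinguished _ hT).1 ?_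
  rw [← HomotopyCategory.quasiIso_eq_trW_subcategoryAcyclic]
  exact (HomotopyCategory.quotient_map_mem_quasiIso_iff f).2 (by rw [HomologicalComplex.mem_quasiIso_iff]; infer_instance)

theorem quasiIso_of_acyclic_mappingCone {K L : CochainComplex A ℤ} (f : K ⟶ L)
    (h : (CochainComplex.mappingCone f).Acyclic) : QuasiIso f := by
  rw [← HomologicalComplex.mem_quasiIso_iff, ← HomotopyCategory.quotient_map_mem_quasiIso_iff,
    HomotopyCategory.quasiIso_eq_trW_subcategoryAcyclic]
  refine ((HomotopyCategory.subcategoryAcyclic A).trW_iff_of_distinguished _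
    (HomotopyCategory.mappingCone_triangleh_distinguished f)).2 ?_
  exact (HomotopyCategory.quotient_obj_mem_subcategoryAcyclic_iff_acyclic _).2 h

/-- An additive functor on complexes preserves quasi-isomorphisms as soon as it preserves acyclic
complexes and sends degreewise split sequences to short exact sequences. -/
theorem quasiIso_map {B : Type*} [Category B] [Abelian B]
    (Φ : CochainComplex A ℤ ⥤ CochainComplex B ℤ) [Φ.Additive]
    (hac : ∀ K : CochainComplex A ℤ, K.Acyclic → (Φ.obj K).Acyclic)
    (hse : ∀ (S : ShortComplex (CochainComplex A ℤ)),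
      (∀ n, (S.map (HomologicalComplex.eval A (ComplexShape.up ℤ) n)).Splitting) → (S.map Φ).ShortExact)
    {K L : CochainComplex A ℤ} (f : K ⟶ L) [hf : QuasiIso f] : QuasiIso (Φ.map f) := by
  let Cn := CochainComplex.mappingCone (𝟙 K)
  let j : K ⟶ L ⊞ Cn := biprod.lift f (CochainComplex.mappingCone.inr (𝟙 K))
  let R : ShortComplex (CochainComplex A ℤ) :=
    ShortComplex.mk (biprod.inr : Cn ⟶ L ⊞ Cn) biprod.fst (by simp)
  have hR : R.Splitting :=
    { r := biprod.snd
      s := biprod.inl
      id := by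
        rw [add_comm]
        exact biprod.total }
  have hfst : QuasiIso (biprod.fst : L ⊞ Cn ⟶ L) :=
    quasiIso_g_of_acyclic hR.shortExact (acyclic_mappingCone_id K)
  have hΦfst : QuasiIso (Φ.map (biprod.fst : L ⊞ Cn ⟶ L)) :=
    quasiIso_g_of_acyclic (hR.map Φ).shortExact (hac _ (acyclic_mappingCone_id K))
  have hj : QuasiIso j := by
    have : QuasiIso (j ≫ biprod.fst) := by simpa [j] using hf
    exact quasiIso_of_comp_right j biprod.fst
  have hmono : ∀ n, Mono (j.f n) := fun n => by
    have : j.f n ≫ (biprod.snd : L ⊞ Cn ⟶ Cn).f n ≫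
        (CochainComplex.mappingCone.snd (𝟙 K)).v n n (add_zero n) = 𝟙 _ := by
      rw [← Category.assoc, ← HomologicalComplex.comp_f, biprod.lift_snd]
      simp
    exact mono_of_mono_fac this
  have : Mono j := HomologicalComplex.mono_of_mono_f j hmono
  let S : ShortComplex (CochainComplex A ℤ) := ShortComplex.mk j (cokernel.π j) (cokernel.condition j)
  have hS : S.ShortExact :=
    { exact := S.exact_of_g_is_cokernel (cokernelIsCokernel j)
      mono_f := this
      epi_g := coequalizer.π_epi }
  have σ : ∀ n, (S.map (HomologicalComplex.eval A (ComplexShape.up ℤ) n)).Splitting := fun n => by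
    have hn := hS.map_of_exact (HomologicalComplex.eval A (ComplexShape.up ℤ) n)
    have := hn.epi_g
    refine ShortComplex.Splitting.ofExactOfRetraction _ hn.exact
      ((biprod.snd : L ⊞ Cn ⟶ Cn).f n ≫ (CochainComplex.mappingCone.snd (𝟙 K)).v n n (add_zero n)) ?_ this
    change j.f n ≫ (biprod.snd : L ⊞ Cn ⟶ Cn).f n ≫
        (CochainComplex.mappingCone.snd (𝟙 K)).v n n (add_zero n) = 𝟙 (K.X n)
    rw [← Category.assoc, ← HomologicalComplex.comp_f, biprod.lift_snd]
    simp
  have hΦj : QuasiIso (Φ.map j) :=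
    quasiIso_f_of_acyclic (hse S σ) (hac _ (hS.acyclic_X₃ hj))
  have : Φ.map f = Φ.map j ≫ Φ.map biprod.fst := by rw [← Φ.map_comp, biprod.lift_fst]
  rw [this]
  infer_instance

end Groth.Agent.KFlat
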