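import Groth.Agent.KFlat.Totals
import Groth.Agent.KFlat.Homological
import Mathlib.Tactic.Ring

/-!
# Total complex with a complex concentrated in one degree; symmetry
-/

set_option autoImplicit false

open CategoryTheory CategoryTheory.Limits

namespace Groth.Agent.KFlat

section Diff

variable {A B E : Type*} [Category A] [Category B] [Category E]
  [Preadditive A] [Preadditive B] [Preadditive E]
  (F : A ⥤ B ⥤ E) [F.Additive] [∀ X, (F.obj X).Additive]
  [∀ (K : CochainComplex A ℤ) (L : CochainComplex B ℤ),
    HomologicalComplex.HasMapBifunctor K L F (ComplexShape.up ℤ)]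

@[reassoc]
theorem totι_d (L : CochainComplex A ℤ) (K : CochainComplex B ℤ) (p q n : ℤ) (h : p + q = n) :
    totι F L K p q n h ≫ (((tot F).obj L).obj K).d n (n + 1) =
      (F.map (L.d p (p + 1))).app (K.X q) ≫ totι F L K (p + 1) q (n + 1) (by omega) +
        p.negOnePow • ((F.obj (L.X p)).map (K.d q (q + 1)) ≫ totι F L K p (q + 1) (n + 1) (by omega)) := by
  change HomologicalComplex.ιMapBifunctor L K F (ComplexShape.up ℤ) p q n h ≫
    (HomologicalComplex.mapBifunctor L K F (ComplexShape.up ℤ)).d n (n + 1) = _
  rw [HomologicalComplex.mapBifunctor.d_eq, Preadditive.comp_add,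
    HomologicalComplex.mapBifunctor.ι_D₁, HomologicalComplex.mapBifunctor.ι_D₂,
    HomologicalComplex.mapBifunctor.d₁_eq _ _ _ _ (show (ComplexShape.up ℤ).Rel p (p + 1) by simp) q
      (n + 1) (show p + 1 + q = n + 1 by omega),
    HomologicalComplex.mapBifunctor.d₂_eq _ _ _ _ p (show (ComplexShape.up ℤ).Rel q (q + 1) by simp)
      (n + 1) (show p + (q + 1) = n + 1 by omega)]
  simp [totι, ComplexShape.ε₁, ComplexShape.ε₂, TotalComplexShape.ε₁, TotalComplexShape.ε₂]
  rfl

end Diff

section Single

variable {A B E : Type*} [Category A] [Category B] [Category E]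
  [Preadditive A] [Preadditive B] [Abelian E] [HasZeroObject B]
  (F : A ⥤ B ⥤ E) [F.Additive] [∀ X, (F.obj X).Additive]
  [∀ (K : CochainComplex A ℤ) (L : CochainComplex B ℤ),
    HomologicalComplex.HasMapBifunctor K L F (ComplexShape.up ℤ)]

variable (L : CochainComplex A ℤ) (n : ℤ) (X : B)

open scoped Classical in
/-- The terms of `L ⊗ X[-n]`. -/
noncomputable def totSingleIso (p k : ℤ) (h : p + n = k) :
    (F.flip.obj X).obj (L.X p) ≅
      (((tot F).obj L).obj ((HomologicalComplex.single B (ComplexShape.up ℤ) n).obj X)).X k where
  hom := (F.obj (L.X p)).map (HomologicalComplex.singleObjXSelf (ComplexShape.up ℤ) n X).inv ≫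
    totι F L _ p n k h
  inv := totDesc (F := F) (L := L) fun p' q h' =>
    if hq : q = n then
      (F.obj (L.X p')).map (HomologicalComplex.singleObjXIsoOfEq (ComplexShape.up ℤ) n X q hq).hom ≫
        (F.map (eqToHom (congrArg L.X (by omega : p' = p)))).app X
    else 0
  hom_inv_id := by
    rw [Category.assoc, totι_desc, dif_pos rfl, ← Functor.map_comp_assoc]
    simp [HomologicalComplex.singleObjXSelf]
  inv_hom_id := tot_hom_ext fun p' q h' => by
    rw [Category.comp_id, totι_desc_assoc]
    by_cases hq : q = n
    · subst hq
      obtain rfl : p' = p := by omega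
      rw [dif_pos rfl, eqToHom_refl, F.map_id, NatTrans.id_app, Category.assoc]
      erw [Category.id_comp]
      rw [← Functor.map_comp_assoc]
      simp [HomologicalComplex.singleObjXSelf]
    · exact ((F.obj (L.X p')).map_isZero
        (HomologicalComplex.isZero_single_obj_X (ComplexShape.up ℤ) n X q hq)).eq_of_src _ _

theorem totSingleIso_hom_d (p k : ℤ) (h : p + n = k) :
    (totSingleIso F L n X p k h).hom ≫
        (((tot F).obj L).obj ((HomologicalComplex.single B (ComplexShape.up ℤ) n).obj X)).d k (k + 1) =
      (F.flip.obj X).map (L.d p (p + 1)) ≫ (totSingleIso F L n X (p + 1) (k + 1) (by omega)).hom := by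
  dsimp [totSingleIso]
  rw [Category.assoc, totι_d, HomologicalComplex.single_obj_d, Functor.map_zero, zero_comp, smul_zero,
    add_zero]
  exact NatTrans.naturality_assoc _ _ _

theorem totSingleIso_comm (p k k' : ℤ) (h : p + n = k) (hk : k' = k + 1) :
    (totSingleIso F L n X p k h).hom ≫
        (((tot F).obj L).obj ((HomologicalComplex.single B (ComplexShape.up ℤ) n).obj X)).d k k' =
      (F.flip.obj X).map (L.d p (p + 1)) ≫ (totSingleIso F L n X (p + 1) k' (by omega)).hom := by
  subst hk
  exact totSingleIso_hom_d F L n X p k h

theorem acyclic_tot_single [(F.flip.obj X).Additive] [(F.flip.obj X).PreservesHomology]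
    (hL : L.Acyclic) :
    HomologicalComplex.Acyclic (((tot F).obj L).obj ((HomologicalComplex.single B (ComplexShape.up ℤ) n).obj X)) := by
  intro k
  obtain ⟨p, rfl⟩ : ∃ p, p + 1 + n = k := ⟨k - 1 - n, by omega⟩
  rw [HomologicalComplex.exactAt_iff' _ (p + n) (p + 1 + n) (p + 1 + 1 + n) (by simp; omega) (by simp; omega)]
  have hex := ((L.exactAt_iff' p (p + 1) (p + 1 + 1) (by simp) (by simp)).1 (hL (p + 1))).map (F.flip.obj X)
  refine ShortComplex.exact_of_iso (ShortComplex.isoMk (totSingleIso F L n X p _ rfl)
    (totSingleIso F L n X (p + 1) _ rfl) (totSingleIso F L n X (p + 1 + 1) _ rfl) ?_ ?_) hex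
  · have e : p + n + 1 = p + 1 + n := by omega
    exact totSingleIso_comm F L n X p _ _ rfl e.symm
  · have e : p + 1 + n + 1 = p + 1 + 1 + n := by omega
    exact totSingleIso_comm F L n X (p + 1) _ _ rfl e.symm

end Single

section Flip

variable {A E : Type*} [Category A] [Category E] [Preadditive A] [Preadditive E]
  (F : A ⥤ A ⥤ E) [F.Additive] [∀ X, (F.obj X).Additive]
  [∀ (K : CochainComplex A ℤ) (L : CochainComplex A ℤ),
    HomologicalComplex.HasMapBifunctor K L F (ComplexShape.up ℤ)]

/-- Symmetry of the total complex, from symmetry of the bifunctor. -/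
noncomputable def totFlipIso (τ : F.flip ≅ F) : (tot F).flip ≅ tot F :=
  NatIso.ofComponents (fun K => NatIso.ofComponents (fun L =>
    HomologicalComplex.Hom.isoOfComponents
      (fun j =>
        { hom := totDesc (F := F) (L := L) (K := K) fun p q h => (ComplexShape.up ℤ).σ (ComplexShape.up ℤ) (ComplexShape.up ℤ) p q •
            ((τ.hom.app (K.X q)).app (L.X p) ≫ totι F K L q p j (by omega))
          inv := totDesc (F := F) (L := K) (K := L) fun p q h => (ComplexShape.up ℤ).σ (ComplexShape.up ℤ) (ComplexShape.up ℤ) p q •
            ((τ.inv.app (K.X p)).app (L.X q) ≫ totι F L K q p j (by omega))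
          hom_inv_id := tot_hom_ext fun p q h => by
            rw [totι_desc_assoc, Linear.units_smul_comp, Category.assoc, totι_desc, Linear.comp_units_smul,
              smul_smul, ← NatTrans.comp_app_assoc, ← NatTrans.comp_app, τ.hom_inv_id]
            simp [ComplexShape.σ, TotalComplexShapeSymmetry.σ, mul_comm q p, Int.units_mul_self]
          inv_hom_id := tot_hom_ext fun p q h => by
            rw [totι_desc_assoc, Linear.units_smul_comp, Category.assoc, totι_desc, Linear.comp_units_smul,
              smul_smul, ← NatTrans.comp_app_assoc, ← NatTrans.comp_app, τ.inv_hom_id]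
            simp [ComplexShape.σ, TotalComplexShapeSymmetry.σ, mul_comm q p, Int.units_mul_self] })
      (fun i j hij => by
        obtain rfl : i + 1 = j := hij
        refine tot_hom_ext fun p q h => ?_
        dsimp only [Functor.flip_obj_obj]
        rw [totι_desc_assoc, totι_d_assoc, Linear.units_smul_comp, Category.assoc, totι_d,
          Preadditive.comp_add, Preadditive.add_comp, smul_add, Linear.comp_units_smul, smul_smul,
          Category.assoc, totι_desc, Linear.units_smul_comp, Category.assoc, totι_desc,
          Linear.comp_units_smul, Linear.comp_units_smul, smul_smul]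
        refine (add_comm _ _).trans ?_
        congr 1
        · congr 1
          · change (p * q).negOnePow * q.negOnePow = ((p + 1) * q).negOnePow
            rw [← Int.negOnePow_add]
            congr 1
            ring
          · rw [← Category.assoc, ← Category.assoc]
            congr 1
            exact ((τ.hom.app (K.X q)).naturality (L.d p (p + 1))).symm
        · congr 1
          · change (p * q).negOnePow = p.negOnePow * (p * (q + 1)).negOnePow
            rw [← Int.negOnePow_add, Int.negOnePow_eq_iff]
            exact ⟨-p, by ring⟩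
          · rw [← Category.assoc, ← Category.assoc]
            congr 1
            exact (congrArg (fun φ => φ.app (L.X p)) (τ.hom.naturality (K.d q (q + 1)))).symm))
    (fun {L L'} g => by
      ext n : 1
      refine tot_hom_ext fun p q h => ?_
      simp only [HomologicalComplex.comp_f, HomologicalComplex.Hom.isoOfComponents_hom_f, Functor.flip_obj_map]
      rw [totι_map_left_assoc, totι_desc, totι_desc_assoc, Linear.units_smul_comp, Linear.comp_units_smul,
        Category.assoc, totι_map_right, ← Category.assoc, ← Category.assoc]
      congr 2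
      exact (τ.hom.app (K.X q)).naturality (g.f p)))
    (fun {K K'} g => by
      apply NatTrans.ext; funext L
      ext n : 1
      refine tot_hom_ext fun p q h => ?_
      simp only [HomologicalComplex.comp_f, HomologicalComplex.Hom.isoOfComponents_hom_f, NatTrans.comp_app, NatIso.ofComponents_hom_app, Functor.flip_map_app]
      rw [totι_map_right_assoc, totι_desc, totι_desc_assoc, Linear.units_smul_comp, Linear.comp_units_smul,
        Category.assoc, totι_map_left, ← Category.assoc, ← Category.assoc]
      congr 2
      exact congrArg (fun φ => φ.app (L.X p)) (τ.hom.naturality (g.f q)))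

end Flip

end Groth.Agent.KFlat
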