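import Groth.Agent.KFlat.Flat
import Groth.Agent.KFlat.Single

/-!
# K-flat complexes: basic properties and closure properties
-/

set_option autoImplicit false

universe u

open CategoryTheory CategoryTheory.Limits MonoidalCategory Opposite

namespace Groth.Agent.KFlat

variable {C : Type u} [SmallCategory C] {J : GrothendieckTopology C} {O : Sheaf J CommRingCat.{u}}

open ModSite

/-- The tensor product of complexes in this library's notation. -/
noncomputable abbrev tens (O : Sheaf J CommRingCat.{u}) :
    CochainComplex (Mod O) ℤ ⥤ CochainComplex (Mod O) ℤ ⥤ CochainComplex (Mod O) ℤ :=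
  ModSite.tensorCx O

theorem isKFlat_iff (K : CochainComplex (Mod O) ℤ) :
    ModSite.IsKFlat K ↔
      ∀ L : CochainComplex (Mod O) ℤ, L.Acyclic → HomologicalComplex.Acyclic (((tens O).obj L).obj K) := by
  simp only [acyclic_iff_isZero]
  rfl

instance additive_tensorBi_flip (X : Mod O) : ((tensorBi O).flip.obj X).Additive :=
  additive_tensorBi_flip_obj X

instance additive_tens_obj (L : CochainComplex (Mod O) ℤ) : ((tens O).obj L).Additive :=
  additive_map₂_obj (tensorBi O) L

instance additive_tens_flip_obj (L : CochainComplex (Mod O) ℤ) : ((tens O).flip.obj L).Additive :=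
  additive_map₂_flip_obj (tensorBi O) L

theorem preservesColimitsOfShape_tens_obj (L : CochainComplex (Mod O) ℤ) (K : Type u) [Category.{u} K] :
    PreservesColimitsOfShape K ((tens O).obj L) :=
  preservesColimitsOfShape_mapRight (tensorBi O) L K

theorem preservesColimitsOfShape_tens_flip_obj (L : CochainComplex (Mod O) ℤ) (K : Type u) [Category.{u} K] :
    PreservesColimitsOfShape K ((tens O).flip.obj L) :=
  preservesColimitsOfShape_mapLeft (tensorBi O) L K

variable (O) in
/-- Symmetry of the tensor product of complexes. -/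
noncomputable def tensFlipIso : (tens O).flip ≅ tens O :=
  totFlipIso (tensorBi O) (tensorBiFlipIso O)

theorem acyclic_of_iso {K L : CochainComplex (Mod O) ℤ} (e : K ≅ L) (h : K.Acyclic) : L.Acyclic :=
  acyclic_of_quasiIso_left e.hom h

theorem isKFlat_of_iso {K K' : CochainComplex (Mod O) ℤ} (e : K ≅ K') (h : ModSite.IsKFlat K) :
    ModSite.IsKFlat K' :=
  (isKFlat_iff _).2 fun L hL => acyclic_of_iso (((tens O).obj L).mapIso e) ((isKFlat_iff _).1 h L hL)

/-- K-flat complexes also give acyclic tensor products in the other variable. -/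
theorem acyclic_tens_left {K L : CochainComplex (Mod O) ℤ} (hK : ModSite.IsKFlat K) (hL : L.Acyclic) :
    HomologicalComplex.Acyclic (((tens O).obj K).obj L) :=
  acyclic_of_iso (((tensFlipIso O).app K).app L) ((isKFlat_iff _).1 hK L hL)

theorem acyclic_of_isZero {K : CochainComplex (Mod O) ℤ} (h : IsZero K) : K.Acyclic := fun i => by
  rw [HomologicalComplex.exactAt_iff_isZero_homology]
  exact Functor.map_isZero (HomologicalComplex.homologyFunctor _ _ i) h

theorem isKFlat_single {F : Mod O} (hF : TensorMono F) (n : ℤ) :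
    ModSite.IsKFlat ((HomologicalComplex.single (Mod O) (ComplexShape.up ℤ) n).obj F) := by
  rw [isKFlat_iff]
  intro L hL
  have := preservesFiniteLimits_of_tensorMono hF
  have : ((tensorBi O).flip.obj F).PreservesHomology :=
    Functor.preservesHomologyOfExact _
  exact acyclic_tot_single (tensorBi O) L n F hL

theorem shortExact_tens {S : ShortComplex (CochainComplex (Mod O) ℤ)}
    (σ : ∀ n, (S.map (HomologicalComplex.eval (Mod O) (ComplexShape.up ℤ) n)).Splitting)
    (L : CochainComplex (Mod O) ℤ) : (S.map ((tens O).obj L)).ShortExact :=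
  shortExact_of_splitting _ (splittingMapRight (tensorBi O) L S σ)

theorem shortExact_tens_flip {S : ShortComplex (CochainComplex (Mod O) ℤ)}
    (σ : ∀ n, (S.map (HomologicalComplex.eval (Mod O) (ComplexShape.up ℤ) n)).Splitting)
    (L : CochainComplex (Mod O) ℤ) : (S.map ((tens O).flip.obj L)).ShortExact :=
  shortExact_of_splitting _ (splittingMapLeft (tensorBi O) L S σ)

section TwoOfThree

variable {S : ShortComplex (CochainComplex (Mod O) ℤ)}
  (hS : ∀ L : CochainComplex (Mod O) ℤ, L.Acyclic → (S.map ((tens O).obj L)).ShortExact)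

include hS

theorem isKFlat_middle (h₁ : ModSite.IsKFlat S.X₁) (h₃ : ModSite.IsKFlat S.X₃) : ModSite.IsKFlat S.X₂ :=
  (isKFlat_iff _).2 fun L hL =>
    acyclic_middle (hS L hL) ((isKFlat_iff _).1 h₁ L hL) ((isKFlat_iff _).1 h₃ L hL)

theorem isKFlat_left (h₂ : ModSite.IsKFlat S.X₂) (h₃ : ModSite.IsKFlat S.X₃) : ModSite.IsKFlat S.X₁ :=
  (isKFlat_iff _).2 fun L hL =>
    acyclic_left (hS L hL) ((isKFlat_iff _).1 h₂ L hL) ((isKFlat_iff _).1 h₃ L hL)

theorem isKFlat_right (h₁ : ModSite.IsKFlat S.X₁) (h₂ : ModSite.IsKFlat S.X₂) : ModSite.IsKFlat S.X₃ :=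
  (isKFlat_iff _).2 fun L hL =>
    acyclic_right (hS L hL) ((isKFlat_iff _).1 h₁ L hL) ((isKFlat_iff _).1 h₂ L hL)

end TwoOfThree

theorem acyclic_of_isColimit {K : Type u} [Category.{u} K] [HasExactColimitsOfShape K (Mod O)]
    {D : K ⥤ CochainComplex (Mod O) ℤ} {c : Cocone D} (hc : IsColimit c)
    (h : ∀ j, HomologicalComplex.Acyclic (D.obj j)) : HomologicalComplex.Acyclic c.pt := by
  intro n
  rw [HomologicalComplex.exactAt_iff]
  let T : (K ⥤ Mod O) ⥤ Mod O := colim
  have hcol : ∀ i, IsColimit ((HomologicalComplex.eval (Mod O) (ComplexShape.up ℤ) i).mapCocone c) :=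
    fun i => isColimitOfPreserves _ hc
  let Φ : ShortComplex (K ⥤ Mod O) := ShortComplex.mk
    (Functor.whiskerLeft D
      ({ app := fun X => X.d ((ComplexShape.up ℤ).prev n) n
         naturality := fun _ _ f => f.comm _ _ } :
        HomologicalComplex.eval (Mod O) (ComplexShape.up ℤ) ((ComplexShape.up ℤ).prev n) ⟶
          HomologicalComplex.eval (Mod O) (ComplexShape.up ℤ) n))
    (Functor.whiskerLeft D
      ({ app := fun X => X.d n ((ComplexShape.up ℤ).next n)
         naturality := fun _ _ f => f.comm _ _ } :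
        HomologicalComplex.eval (Mod O) (ComplexShape.up ℤ) n ⟶
          HomologicalComplex.eval (Mod O) (ComplexShape.up ℤ) ((ComplexShape.up ℤ).next n)))
    (NatTrans.ext (funext fun j => (D.obj j).d_comp_d _ _ _))
  have hΦ : Φ.Exact := by
    rw [ShortComplex.exact_iff_isZero_homology]
    refine Functor.isZero _ fun j => IsZero.of_iso ?_ (Φ.mapHomologyIso ((evaluation K (Mod O)).obj j)).symm
    exact (ShortComplex.exact_iff_isZero_homology _).1 ((HomologicalComplex.exactAt_iff _ _).1 (h j n))
  have hΦ' := hΦ.map T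
  refine ShortComplex.exact_of_iso (ShortComplex.isoMk
    ((colimit.isColimit _).coconePointUniqueUpToIso (hcol _))
    ((colimit.isColimit _).coconePointUniqueUpToIso (hcol n))
    ((colimit.isColimit _).coconePointUniqueUpToIso (hcol _)) ?_ ?_) hΦ'
  all_goals
    refine colimit.hom_ext fun j => ?_
    dsimp [Φ, T]
    erw [colimit.comp_coconePointUniqueUpToIso_hom_assoc, colimit.ι_map_assoc,
      colimit.comp_coconePointUniqueUpToIso_hom]
    exact (c.ι.app j).comm _ _

theorem isKFlat_of_isColimit {K : Type u} [Category.{u} K] [HasExactColimitsOfShape K (Mod O)]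
    {D : K ⥤ CochainComplex (Mod O) ℤ} {c : Cocone D} (hc : IsColimit c)
    (h : ∀ j, ModSite.IsKFlat (D.obj j)) : ModSite.IsKFlat c.pt := by
  rw [isKFlat_iff]
  intro L hL
  have := preservesColimitsOfShape_tens_obj L K
  exact acyclic_of_isColimit (isColimitOfPreserves ((tens O).obj L) hc)
    fun j => (isKFlat_iff _).1 (h j) L hL

theorem isKFlat_sigma {ι : Type u} (K : ι → CochainComplex (Mod O) ℤ) (h : ∀ i, ModSite.IsKFlat (K i)) :
    ModSite.IsKFlat (∐ K) :=
  isKFlat_of_isColimit (coproductIsCoproduct K) fun j => h j.as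

theorem quasiIso_tens_flip {K : CochainComplex (Mod O) ℤ} (hK : ModSite.IsKFlat K)
    {F G : CochainComplex (Mod O) ℤ} (f : F ⟶ G) [QuasiIso f] :
    QuasiIso (((tens O).flip.obj K).map f) :=
  quasiIso_map ((tens O).flip.obj K) (fun L hL => (isKFlat_iff _).1 hK L hL)
    (fun _ σ => shortExact_tens_flip σ K) f

theorem quasiIso_tens_obj {K : CochainComplex (Mod O) ℤ} (hK : ModSite.IsKFlat K)
    {F G : CochainComplex (Mod O) ℤ} (f : F ⟶ G) [QuasiIso f] :
    QuasiIso (((tens O).obj K).map f) :=
  quasiIso_map ((tens O).obj K) (fun _ hL => acyclic_tens_left hK hL)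
    (fun _ σ => shortExact_tens σ K) f

end Groth.Agent.KFlat
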