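import Groth.Agent.KFlat.StalkTensor
import Groth.Prelude.Def_FlatMod2

/-!
# Stalks and skyscrapers; flatness is stalkwise
-/

set_option autoImplicit false

universe u

open CategoryTheory CategoryTheory.Limits MonoidalCategory AlgebraicGeometry Opposite TopologicalSpace
open Groth.Agent.PullStalk.Sky Groth.Agent.PullStalk.Exact TensorProduct

namespace Groth.Agent.KFlat.StalkTensor

variable {X : Scheme.{u}} (x : X)

theorem ofSky_toSky {M : X.Modules} {N : Type u} [AddCommGroup N] [Module (X.presheaf.stalk x) N]
    (φ : M.presheaf.stalk x →ₗ[X.presheaf.stalk x] N) : ofSky (toSky φ) = φ :=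
  LinearMap.ext fun t => by
    obtain ⟨U, hx, m, rfl⟩ := exists_germM_eq M x t
    exact (ofSky_germ _ U hx m).trans (toSky_app φ U m ⟨hx⟩)

/-- Pushing a linear map into skyscrapers. -/
noncomputable def skyMap {N N' : ModuleCat.{u} (X.presheaf.stalk x)} (f : N ⟶ N') : sky x N ⟶ sky x N' :=
  toSky (f.hom.comp (ofSky (𝟙 (sky x N))))

theorem skyMap_app {N N' : ModuleCat.{u} (X.presheaf.stalk x)} (f : N ⟶ N') (U : X.Opens)
    (g : Γ(sky x N, U)) :
    (skyMap x f).app U g = fun h : PLift (x ∈ U) => f.hom ((show PLift (x ∈ U) → N from g) h) := by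
  funext h
  exact (toSky_app _ U g h).trans (congrArg f.hom (ofSky_germ (𝟙 (sky x N)) U h.down g))

theorem toSky_comp {M : X.Modules} {N N' : ModuleCat.{u} (X.presheaf.stalk x)}
    (φ : M.presheaf.stalk x →ₗ[X.presheaf.stalk x] N) (f : N ⟶ N') :
    toSky φ ≫ skyMap x f = toSky (f.hom.comp φ) := by
  ext U m
  exact skyMap_app x f U _

/-- The skyscraper functor. -/
noncomputable def skyF : ModuleCat.{u} (X.presheaf.stalk x) ⥤ X.Modules where
  obj N := sky x N
  map f := skyMap x f
  map_id N := by
    ext U g
    exact skyMap_app x (𝟙 N) U g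
  map_comp {N N' N''} f g := by
    rw [show skyMap x f ≫ skyMap x g = toSky (g.hom.comp (f.hom.comp (ofSky (𝟙 (sky x N))))) from
      toSky_comp x _ g]
    rfl

/-- The stalk is left adjoint to the skyscraper. -/
noncomputable def stalkSkyAdj : DerSch.stalkFunctor X x ⊣ skyF x :=
  Adjunction.mkOfHomEquiv
    { homEquiv := fun M N =>
        { toFun := fun φ => toSky φ.hom
          invFun := fun ψ => ModuleCat.ofHom (ofSky ψ)
          left_inv := fun φ => ModuleCat.hom_ext (ofSky_toSky x φ.hom)
          right_inv := fun ψ => toSky_ofSky ψ }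
      homEquiv_naturality_left_symm := fun {M M' N} f g => ModuleCat.hom_ext (LinearMap.ext fun t => by
        obtain ⟨U, hx, m, rfl⟩ := exists_germM_eq M x t
        refine (ofSky_germ (f ≫ g) U hx m).trans ?_
        refine Eq.trans ?_ (congrArg (ofSky g) (DerSch.stalkFunctor_map_germ x f U hx m)).symm
        exact (ofSky_germ g U hx (f.app U m)).symm)
      homEquiv_naturality_right := fun {M N N'} φ f => (toSky_comp x φ.hom f).symm }

instance : (DerSch.stalkFunctor X x).IsLeftAdjoint := (stalkSkyAdj x).isLeftAdjoint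

instance : (skyF x).IsRightAdjoint := (stalkSkyAdj x).isRightAdjoint

theorem stalk_map_injective {M N : X.Modules} (φ : M ⟶ N) [Mono φ] :
    Function.Injective ((DerSch.stalkFunctor X x).map φ).hom := by
  let S := ShortComplex.mk φ (cokernel.π φ) (cokernel.condition φ)
  have hS : S.ShortExact :=
    { exact := S.exact_of_g_is_cokernel (cokernelIsCokernel φ)
      mono_f := inferInstanceAs (Mono φ)
      epi_g := coequalizer.π_epi }
  exact (stalk_exact hS x).1

instance : (DerSch.stalkFunctor X x).PreservesMonomorphisms where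
  preserves f _ := (ModuleCat.mono_iff_injective _).2 (stalk_map_injective x f)

instance preservesHomology_stalkFunctor : (DerSch.stalkFunctor X x).PreservesHomology :=
  Functor.preservesHomology_of_preservesMonos_and_cokernels _

/-- The stalk of a skyscraper is the module itself. -/
theorem isIso_counit_stalkSkyAdj (N : ModuleCat.{u} (X.presheaf.stalk x)) :
    IsIso ((stalkSkyAdj x).counit.app N) := by
  rw [ConcreteCategory.isIso_iff_bijective]
  change Function.Bijective (ofSky (𝟙 (sky x N)))
  refine ⟨?_, fun n => ⟨germM (sky x N) ⊤ x trivial (fun _ => n), ofSky_germ (𝟙 _) ⊤ trivial _⟩⟩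
  rw [injective_iff_map_eq_zero]
  intro t ht
  obtain ⟨U, hx, g, rfl⟩ := exists_germM_eq _ x t
  have : (show PLift (x ∈ U) → N from g) = 0 := funext fun _ => (ofSky_germ (𝟙 _) U hx g).symm.trans ht
  exact (congrArg (germM (sky x N) U x hx) this).trans (map_zero ((sky x N).presheaf.germ U x hx).hom)

instance : IsIso (stalkSkyAdj x).counit :=
  have := isIso_counit_stalkSkyAdj x
  NatIso.isIso_of_isIso_app _

theorem sky_surjective {N N' : ModuleCat.{u} (X.presheaf.stalk x)} (f : N ⟶ N')
    (hf : Function.Surjective f.hom) (U : X.Opens) : Function.Surjective ((skyMap x f).app U) := fun g =>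
  ⟨fun h => (hf ((show PLift (x ∈ U) → N' from g) h)).choose,
    (skyMap_app x f U _).trans (funext fun h => (hf _).choose_spec)⟩

theorem epi_of_app_surjective {M N : X.Modules} (φ : M ⟶ N)
    (h : ∀ U : X.Opens, Function.Surjective (φ.app U)) : Epi φ := by
  refine ⟨fun a b e => ?_⟩
  ext U n
  obtain ⟨m, rfl⟩ := h U n
  exact congrArg (fun χ => Scheme.Modules.Hom.app χ U m) e

instance : (skyF x).PreservesEpimorphisms where
  preserves f _ := epi_of_app_surjective _ fun U => sky_surjective x f ((ModuleCat.epi_iff_surjective f).1 ‹_›) U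

instance : (skyF x).Additive :=
  have : (DerSch.stalkFunctor X x).Additive := inferInstance
  (stalkSkyAdj x).right_adjoint_additive

instance preservesHomology_skyF : (skyF x).PreservesHomology :=
  Functor.preservesHomology_of_preservesEpis_and_kernels _

variable {x}

theorem mono_of_stalk_injective {M N : X.Modules} (φ : M ⟶ N)
    (h : ∀ y : X, Function.Injective ((DerSch.stalkFunctor X y).map φ).hom) : Mono φ := by
  refine ⟨fun {P} a b e => ?_⟩
  ext U p
  refine TopCat.Presheaf.section_ext (F := ⟨M.presheaf, M.isSheaf⟩) U _ _ fun y hy => ?_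
  refine h y ?_
  refine (DerSch.stalkFunctor_map_germ y φ U hy _).trans (Eq.trans ?_ (DerSch.stalkFunctor_map_germ y φ U hy _).symm)
  exact congrArg (fun χ => N.presheaf.germ U y hy (Scheme.Modules.Hom.app χ U p)) e

variable (x)

/-- The tensor product of two morphisms. -/
noncomputable abbrev tensMap {M M' N N' : X.Modules} (f : M ⟶ M') (g : N ⟶ N') : tensM M N ⟶ tensM M' N' :=
  ((ModSite.tensorBi X.sheaf).map f).app N ≫ ((ModSite.tensorBi X.sheaf).obj M').map g

theorem stalkTensor_natural {M M' N N' : X.Modules} (f : M ⟶ M') (g : N ⟶ N') :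
    (toTensor M' N' x).comp ((DerSch.stalkFunctor X x).map (tensMap f g)).hom =
    (TensorProduct.map ((DerSch.stalkFunctor X x).map f).hom ((DerSch.stalkFunctor X x).map g).hom).comp
      (toTensor M N x) := by
  refine hom_ext_tgerm _ _ fun U hx m n => ?_
  have key : (tensMap f g).app U
      (tmulSec U m n) = tmulSec U (f.app U m) (g.app U n) := by
    have h₁ := (preAdj X.sheaf).unit.naturality ((ModSite.toPre X.sheaf).map f ▷ (ModSite.toPre X.sheaf).obj N)
    have h₂ := (preAdj X.sheaf).unit.naturality ((ModSite.toPre X.sheaf).obj M' ◁ (ModSite.toPre X.sheaf).map g)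
    have e₁ := congrArg (fun χ => PresheafOfModules.Hom.app χ (op U)
      ((show ((ModSite.toPre X.sheaf).obj M).obj (op U) from m) ⊗ₜ[X.sheaf.obj.obj (op U)]
        (show ((ModSite.toPre X.sheaf).obj N).obj (op U) from n))) h₁
    have e₂ := congrArg (fun χ => PresheafOfModules.Hom.app χ (op U)
      ((show ((ModSite.toPre X.sheaf).obj M').obj (op U) from f.app U m) ⊗ₜ[X.sheaf.obj.obj (op U)]
        (show ((ModSite.toPre X.sheaf).obj N).obj (op U) from n))) h₂
    exact (congrArg (fun z => Scheme.Modules.Hom.app
      (show tensM M' N ⟶ tensM M' N' from ((ModSite.tensorBi X.sheaf).obj M').map g) U z) e₁.symm).trans e₂.symm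
  change toTensor M' N' x (((DerSch.stalkFunctor X x).map (tensMap f g)).hom (tgerm M N x U hx m n)) =
    TensorProduct.map ((DerSch.stalkFunctor X x).map f).hom ((DerSch.stalkFunctor X x).map g).hom
      (toTensor M N x (tgerm M N x U hx m n))
  rw [toTensor_tgerm]
  refine Eq.trans ?_ (TensorProduct.map_tmul _ _ _ _).symm
  refine (congrArg (toTensor M' N' x)
    ((DerSch.stalkFunctor_map_germ x _ U hx (tmulSec U m n)).trans
      (congrArg (germM (tensM M' N') U x hx) key))).trans ?_
  refine (toTensor_tgerm U hx _ _).trans ?_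
  exact congrArg₂ (fun a b => a ⊗ₜ[X.presheaf.stalk x] b)
    (DerSch.stalkFunctor_map_germ x f U hx m).symm (DerSch.stalkFunctor_map_germ x g U hx n).symm

theorem stalkTensor_natural_left {M M' : X.Modules} (f : M ⟶ M') (F : X.Modules)
    (t : (tensM M F).presheaf.stalk x) :
    stalkTensorEquiv M' F x (((DerSch.stalkFunctor X x).map (((ModSite.tensorBi X.sheaf).map f).app F)).hom t) =
      LinearMap.rTensor (F.presheaf.stalk x) ((DerSch.stalkFunctor X x).map f).hom (stalkTensorEquiv M F x t) := by
  have h := LinearMap.congr_fun (stalkTensor_natural x f (𝟙 F)) t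
  have e₁ : tensMap f (𝟙 F) = ((ModSite.tensorBi X.sheaf).map f).app F :=
    (congrArg (((ModSite.tensorBi X.sheaf).map f).app F ≫ ·)
      (((ModSite.tensorBi X.sheaf).obj M').map_id F)).trans (Category.comp_id _)
  rw [e₁, CategoryTheory.Functor.map_id] at h
  exact h

/-- Flatness by stalks implies that tensoring preserves monomorphisms. -/
theorem tensorMono_of_flat {F : X.Modules} (h : FlatMod.IsFlat F) : TensorMono (O := X.sheaf) F := by
  refine ⟨fun {M N} f _ => mono_of_stalk_injective _ fun y => ?_⟩
  intro a b e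
  have : Module.Flat (X.presheaf.stalk y) (F.presheaf.stalk y) := h y
  refine (stalkTensorEquiv M F y).injective
    (Module.Flat.rTensor_preserves_injective_linearMap (M := F.presheaf.stalk y) _ (@stalk_map_injective X y M N f (by assumption)) ?_)
  exact (stalkTensor_natural_left y f F a).symm.trans
    ((congrArg (stalkTensorEquiv N F y) e).trans (stalkTensor_natural_left y f F b))

/-- If tensoring preserves monomorphisms then the stalks are flat. -/
theorem flat_of_tensorMono {F : X.Modules} (h : TensorMono (O := X.sheaf) F) : FlatMod.IsFlat F := by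
  intro y
  refine (Module.Flat.iff_rTensor_preserves_injective_linearMap).2 fun N N' _ _ _ _ i hi => ?_
  let f : ModuleCat.of (X.presheaf.stalk y) N ⟶ ModuleCat.of (X.presheaf.stalk y) N' := ModuleCat.ofHom i
  have : Mono f := (ModuleCat.mono_iff_injective f).2 hi
  let S := DerSch.stalkFunctor X y
  have hsk : Mono ((skyF y).map f) := inferInstance
  have hm : Mono (((ModSite.tensorBi X.sheaf).flip.obj F).map ((skyF y).map f)) := @h.preserves _ _ _ hsk
  have hinj : Function.Injective (LinearMap.rTensor (F.presheaf.stalk y) (S.map ((skyF y).map f)).hom) := by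
    intro a b e
    obtain ⟨a, rfl⟩ := (stalkTensorEquiv _ F y).surjective a
    obtain ⟨b, rfl⟩ := (stalkTensorEquiv _ F y).surjective b
    rw [← stalkTensor_natural_left, ← stalkTensor_natural_left] at e
    have hs : Function.Injective (S.map (((ModSite.tensorBi X.sheaf).flip.obj F).map ((skyF y).map f))).hom :=
      @stalk_map_injective X y (tensM _ F) (tensM _ F) _ hm
    exact congrArg _ (hs ((stalkTensorEquiv _ F y).injective e))
  let e₁ := (asIso ((stalkSkyAdj y).counit.app (ModuleCat.of (X.presheaf.stalk y) N))).toLinearEquiv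
  let e₂ := (asIso ((stalkSkyAdj y).counit.app (ModuleCat.of (X.presheaf.stalk y) N'))).toLinearEquiv
  have hi' : i = e₂.toLinearMap.comp ((S.map ((skyF y).map f)).hom.comp e₁.symm.toLinearMap) := by
    refine LinearMap.ext fun n => ?_
    obtain ⟨t, rfl⟩ := e₁.surjective n
    have := LinearMap.congr_fun (congrArg ModuleCat.Hom.hom ((stalkSkyAdj y).counit.naturality f)) t
    simp only [LinearMap.comp_apply, LinearEquiv.coe_coe, LinearEquiv.symm_apply_apply]
    exact this.symm
  rw [hi', LinearMap.rTensor_comp, LinearMap.rTensor_comp, LinearMap.coe_comp, LinearMap.coe_comp]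
  exact (TensorProduct.congr e₂ (LinearEquiv.refl _ _)).injective.comp
    (hinj.comp (TensorProduct.congr e₁.symm (LinearEquiv.refl _ _)).injective)

theorem tensorMono_iff_flat {F : X.Modules} : TensorMono (O := X.sheaf) F ↔ FlatMod.IsFlat F :=
  ⟨flat_of_tensorMono, tensorMono_of_flat⟩

end Groth.Agent.KFlat.StalkTensor
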