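import Groth.Agent.KFlat.Single

/-!
# Functors compatible with two bifunctors commute with total complexes
-/

set_option autoImplicit false

open CategoryTheory CategoryTheory.Limits

namespace Groth.Agent.KFlat

variable {A B E A' B' E' : Type*} [Category A] [Category B] [Category E] [Category A'] [Category B']
  [Category E'] [Preadditive A] [Preadditive B] [Preadditive E] [Preadditive A'] [Preadditive B']
  [Preadditive E']
  (F : A ⥤ B ⥤ E) [F.Additive] [∀ X, (F.obj X).Additive]
  [∀ (K : CochainComplex A ℤ) (L : CochainComplex B ℤ),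
    HomologicalComplex.HasMapBifunctor K L F (ComplexShape.up ℤ)]
  (F' : A' ⥤ B' ⥤ E') [F'.Additive] [∀ X, (F'.obj X).Additive]
  [∀ (K : CochainComplex A' ℤ) (L : CochainComplex B' ℤ),
    HomologicalComplex.HasMapBifunctor K L F' (ComplexShape.up ℤ)]
  (GA : A ⥤ A') (GB : B ⥤ B') (G : E ⥤ E') [GA.Additive] [GB.Additive] [G.Additive]
  (e : ∀ a b, G.obj ((F.obj a).obj b) ≅ (F'.obj (GA.obj a)).obj (GB.obj b))
  (el : ∀ {a a' : A} (f : a ⟶ a') (b : B),
    G.map ((F.map f).app b) ≫ (e a' b).hom = (e a b).hom ≫ (F'.map (GA.map f)).app (GB.obj b))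
  (er : ∀ (a : A) {b b' : B} (g : b ⟶ b'),
    G.map ((F.obj a).map g) ≫ (e a b').hom = (e a b).hom ≫ (F'.obj (GA.obj a)).map (GB.map g))
  [∀ I : Type, PreservesColimitsOfShape (Discrete I) G]

variable (L : CochainComplex A ℤ) (K : CochainComplex B ℤ)

/-- Images of the summands of a total complex form a colimit cofan. -/
noncomputable def isColimitMapTotι (n : ℤ) :
    IsColimit (Cofan.mk (G.obj ((((tot F).obj L).obj K).X n))
      (fun i : {i : ℤ × ℤ // i.1 + i.2 = n} => G.map (totι F L K i.1.1 i.1.2 n i.2))) :=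
  let c : Cofan (fun i : {i : ℤ × ℤ // i.1 + i.2 = n} => (F.obj (L.X i.1.1)).obj (K.X i.1.2)) :=
    Cofan.mk ((((tot F).obj L).obj K).X n) fun i => totι F L K i.1.1 i.1.2 n i.2
  let hc : IsColimit c := mkCofanColimit c
    (fun s => totDesc (F := F) (L := L) (K := K) fun p q h => s.inj ⟨(p, q), h⟩)
    (fun s i => totι_desc _ _ _ _)
    (fun s m hm => tot_hom_ext fun p q h => by
      rw [totι_desc]
      exact hm ⟨(p, q), h⟩)
  (isColimitMapCoconeCofanMkEquiv G _ fun i : {i : ℤ × ℤ // i.1 + i.2 = n} =>
    totι F L K i.1.1 i.1.2 n i.2) (isColimitOfPreserves G hc)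

/-- The comparison on one summand. -/
noncomputable def summandIso (p q : ℤ) :
    G.obj ((F.obj (L.X p)).obj (K.X q)) ≅
      (F'.obj (((GA.mapHomologicalComplex _).obj L).X p)).obj (((GB.mapHomologicalComplex _).obj K).X q) :=
  e (L.X p) (K.X q)

include el in
theorem summandIso_left (p p' q : ℤ) :
    G.map ((F.map (L.d p p')).app (K.X q)) ≫ (summandIso F F' GA GB G e L K p' q).hom =
      (summandIso F F' GA GB G e L K p q).hom ≫ (F'.map (((GA.mapHomologicalComplex _).obj L).d p p')).app
        (((GB.mapHomologicalComplex _).obj K).X q) :=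
  el (L.d p p') (K.X q)

include er in
theorem summandIso_right (p q q' : ℤ) :
    G.map ((F.obj (L.X p)).map (K.d q q')) ≫ (summandIso F F' GA GB G e L K p q').hom =
      (summandIso F F' GA GB G e L K p q).hom ≫
        (F'.obj (((GA.mapHomologicalComplex _).obj L).X p)).map (((GB.mapHomologicalComplex _).obj K).d q q') :=
  er (L.X p) (K.d q q')

/-- The comparison in a given degree. -/
noncomputable def totMapX (n : ℤ) :
    G.obj ((((tot F).obj L).obj K).X n) ≅
      (((tot F').obj ((GA.mapHomologicalComplex _).obj L)).obj ((GB.mapHomologicalComplex _).obj K)).X n where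
  hom := Cofan.IsColimit.desc (isColimitMapTotι F G L K n) fun i =>
    (summandIso F F' GA GB G e L K i.1.1 i.1.2).hom ≫
      totι F' ((GA.mapHomologicalComplex _).obj L) ((GB.mapHomologicalComplex _).obj K) i.1.1 i.1.2 n i.2
  inv := totDesc (F := F') (L := (GA.mapHomologicalComplex _).obj L) (K := (GB.mapHomologicalComplex _).obj K)
    fun p q h => (summandIso F F' GA GB G e L K p q).inv ≫ G.map (totι F L K p q n h)
  hom_inv_id := Cofan.IsColimit.hom_ext (isColimitMapTotι F G L K n) _ _ fun i => by
    have hfac : G.map (totι F L K i.1.1 i.1.2 n i.2) ≫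
        (Cofan.IsColimit.desc (isColimitMapTotι F G L K n) fun i => (summandIso F F' GA GB G e L K i.1.1 i.1.2).hom ≫
          totι F' ((GA.mapHomologicalComplex _).obj L) ((GB.mapHomologicalComplex _).obj K) i.1.1 i.1.2 n i.2) =
        (summandIso F F' GA GB G e L K i.1.1 i.1.2).hom ≫
          totι F' ((GA.mapHomologicalComplex _).obj L) ((GB.mapHomologicalComplex _).obj K) i.1.1 i.1.2 n i.2 :=
      Cofan.IsColimit.fac (isColimitMapTotι F G L K n) _ i
    change G.map (totι F L K i.1.1 i.1.2 n i.2) ≫ _ = G.map (totι F L K i.1.1 i.1.2 n i.2) ≫ _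
    rw [← Category.assoc, hfac, Category.assoc, totι_desc, Iso.hom_inv_id_assoc, Category.comp_id]
  inv_hom_id := tot_hom_ext fun p q h => by
    rw [totι_desc_assoc, Category.assoc, Category.comp_id]
    exact (congrArg ((summandIso F F' GA GB G e L K p q).inv ≫ ·)
      (Cofan.IsColimit.fac (isColimitMapTotι F G L K n) _ ⟨(p, q), h⟩)).trans (Iso.inv_hom_id_assoc _ _)

theorem totι_totMapX (p q n : ℤ) (h : p + q = n) :
    G.map (totι F L K p q n h) ≫ (totMapX F F' GA GB G e L K n).hom = (summandIso F F' GA GB G e L K p q).hom ≫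
      totι F' ((GA.mapHomologicalComplex _).obj L) ((GB.mapHomologicalComplex _).obj K) p q n h :=
  Cofan.IsColimit.fac (isColimitMapTotι F G L K n) _ ⟨(p, q), h⟩

include el er in
theorem totMapX_comm (i j : ℤ) (hij : i + 1 = j) :
    (totMapX F F' GA GB G e L K i).hom ≫
        (((tot F').obj ((GA.mapHomologicalComplex _).obj L)).obj ((GB.mapHomologicalComplex _).obj K)).d i j =
      G.map ((((tot F).obj L).obj K).d i j) ≫ (totMapX F F' GA GB G e L K j).hom := by
  subst hij
  refine Cofan.IsColimit.hom_ext (isColimitMapTotι F G L K i) _ _ fun x => ?_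
  obtain ⟨⟨p, q⟩, h⟩ := x
  change G.map (totι F L K p q i h) ≫ _ = G.map (totι F L K p q i h) ≫ _
  have h' : p + q = i := h
  rw [← Category.assoc, totι_totMapX F F' GA GB G e L K p q i h', Category.assoc, totι_d,
    Preadditive.comp_add, ← Category.assoc (G.map (totι F L K p q i h)), ← G.map_comp, totι_d,
    G.map_add, Preadditive.add_comp, G.map_comp, Category.assoc, totι_totMapX, ← Category.assoc,
    ← Category.assoc, summandIso_left F F' GA GB G e el, Functor.map_units_smul, G.map_comp, Linear.units_smul_comp]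
  simp only [Category.assoc]
  rw [totι_totMapX, ← Category.assoc (G.map ((F.obj (L.X p)).map (K.d q (q + 1)))),
    summandIso_right F F' GA GB G e er]
  simp only [Linear.comp_units_smul, Category.assoc]

include el er in
/-- A functor compatible with two bifunctors commutes with the total complexes. -/
noncomputable def totMapIso :
    (G.mapHomologicalComplex _).obj (((tot F).obj L).obj K) ≅
      ((tot F').obj ((GA.mapHomologicalComplex _).obj L)).obj ((GB.mapHomologicalComplex _).obj K) :=
  HomologicalComplex.Hom.isoOfComponents (fun n => totMapX F F' GA GB G e L K n)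
    fun i j hij => totMapX_comm F F' GA GB G e el er L K i j hij

end Groth.Agent.KFlat
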