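import Groth.Prelude.Def_DCoh4
import Groth.Agent.KFlat.StalkFlat
import Groth.Agent.KFlat.TotMap
import Groth.Agent.KFlat.Closure
import Mathlib.Algebra.Category.ModuleCat.Monoidal.Closed
import Mathlib.Algebra.Category.ModuleCat.Colimits
import Mathlib.Algebra.Homology.Monoidal

/-!
# K-flatness is stalkwise
-/

set_option autoImplicit false

universe u

open CategoryTheory CategoryTheory.Limits MonoidalCategory AlgebraicGeometry Opposite
open Groth.Agent.KFlat.StalkTensor

namespace Groth.Agent.KFlat.StalkCx

variable {X : Scheme.{u}} (x : X)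

/-- The stalk of a complex. -/
noncomputable abbrev stCx : CochainComplex X.Modules ℤ ⥤ CochainComplex (ModuleCat.{u} (X.presheaf.stalk x)) ℤ :=
  (DerSch.stalkFunctor X x).mapHomologicalComplex (ComplexShape.up ℤ)

/-- The stalk of a tensor product, as an isomorphism of modules. -/
noncomputable def stIso (M N : X.Modules) :
    (DerSch.stalkFunctor X x).obj (((DCoh.tensorBi (X := X)).obj M).obj N) ≅
      (DerSch.stalkFunctor X x).obj M ⊗ (DerSch.stalkFunctor X x).obj N :=
  (stalkTensorEquiv M N x).toModuleIso

theorem stIso_left {M M' : X.Modules} (f : M ⟶ M') (N : X.Modules) :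
    (DerSch.stalkFunctor X x).map (((DCoh.tensorBi (X := X)).map f).app N) ≫ (stIso x M' N).hom =
      (stIso x M N).hom ≫ (DerSch.stalkFunctor X x).map f ▷ (DerSch.stalkFunctor X x).obj N :=
  ModuleCat.hom_ext (LinearMap.ext fun t => stalkTensor_natural_left x f N t)

theorem stIso_right (M : X.Modules) {N N' : X.Modules} (g : N ⟶ N') :
    (DerSch.stalkFunctor X x).map (((DCoh.tensorBi (X := X)).obj M).map g) ≫ (stIso x M N').hom =
      (stIso x M N).hom ≫ (DerSch.stalkFunctor X x).obj M ◁ (DerSch.stalkFunctor X x).map g := by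
  refine ModuleCat.hom_ext (LinearMap.ext fun t => ?_)
  have h := LinearMap.congr_fun (stalkTensor_natural x (𝟙 M) g) t
  have e₁ : tensMap (X := X) (𝟙 M) g = ((DCoh.tensorBi (X := X)).obj M).map g :=
    (congrArg (fun (z : NatTrans _ _) => z.app N ≫ ((DCoh.tensorBi (X := X)).obj M).map g)
      ((DCoh.tensorBi (X := X)).map_id M)).trans (Category.id_comp _)
  have e₂ : ((DerSch.stalkFunctor X x).map (𝟙 M)).hom = LinearMap.id :=
    congrArg ModuleCat.Hom.hom ((DerSch.stalkFunctor X x).map_id M)
  rw [e₁, e₂] at h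
  exact h

/-- The stalk of the total tensor complex. -/
noncomputable def stTensIso (L K : CochainComplex (X.Modules) ℤ) :
    (stCx x).obj ((DCoh.tensorCx.obj L).obj K) ≅ ((stCx x).obj L ⊗ (stCx x).obj K) :=
  totMapIso (DCoh.tensorBi (X := X)) (curriedTensor (ModuleCat.{u} (X.presheaf.stalk x)))
    (DerSch.stalkFunctor X x) (DerSch.stalkFunctor X x) (DerSch.stalkFunctor X x)
    (stIso x) (fun f b => stIso_left x f b) (fun a _ _ g => stIso_right x a g) L K

variable {x}

theorem isZero_of_isZero_stalk {M : X.Modules} (h : ∀ y : X, IsZero ((DerSch.stalkFunctor X y).obj M)) :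
    IsZero M := by
  rw [IsZero.iff_id_eq_zero]
  have hm : Mono (0 : M ⟶ M) := mono_of_stalk_injective _ fun y a b _ =>
    @Subsingleton.elim _ (ModuleCat.subsingleton_of_isZero (h y)) a b
  exact hm.right_cancellation _ _ (by simp)

/-- Acyclicity is stalkwise. -/
theorem acyclic_iff_stalk (K : CochainComplex X.Modules ℤ) :
    (∀ i, IsZero (K.homology i)) ↔ ∀ (y : X) (i : ℤ), IsZero (((stCx y).obj K).homology i) := by
  constructor
  · intro h y i
    exact IsZero.of_iso ((DerSch.stalkFunctor X y).map_isZero (h i))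
      ((K.sc i).mapHomologyIso (DerSch.stalkFunctor X y))
  · intro h i
    exact isZero_of_isZero_stalk fun y =>
      IsZero.of_iso (h y i) ((K.sc i).mapHomologyIso (DerSch.stalkFunctor X y)).symm

/-- The acyclicity criterion for tensor complexes through stalks. -/
theorem isKFlat_iff_stalk (F : CochainComplex X.Modules ℤ) :
    DCoh.IsKFlat F ↔ ∀ y : X, DRing.IsKFlat (X.presheaf.stalk y) ((stCx y).obj F) := by
  constructor
  · intro hF y M hM
    let L : CochainComplex X.Modules ℤ := ((skyF y).mapHomologicalComplex (ComplexShape.up ℤ)).obj M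
    have hL : ∀ i, IsZero (L.homology i) := fun i =>
      IsZero.of_iso ((skyF y).map_isZero (hM i)) ((M.sc i).mapHomologyIso (skyF y))
    let c : (stCx y).obj L ≅ M :=
      HomologicalComplex.Hom.isoOfComponents (fun n => (asIso (stalkSkyAdj y).counit).app (M.X n))
        (fun i j _ => ((stalkSkyAdj y).counit.naturality (M.d i j)).symm)
    intro i
    have h := (acyclic_iff_stalk _).1 (hF L hL) y i
    exact IsZero.of_iso h ((HomologicalComplex.homologyFunctor _ _ i).mapIso
      (stTensIso y L F ≪≫ MonoidalCategory.whiskerRightIso c ((stCx y).obj F))).symm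
  · intro h L hL
    refine (acyclic_iff_stalk _).2 fun y i => ?_
    exact IsZero.of_iso (h y ((stCx y).obj L) ((acyclic_iff_stalk L).1 hL y) i)
      ((HomologicalComplex.homologyFunctor _ _ i).mapIso (stTensIso y L F))

end Groth.Agent.KFlat.StalkCx
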