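import Groth.Prelude.Def_KFlatSite
import Mathlib.Algebra.Category.ModuleCat.Presheaf.Generator
import Mathlib.Algebra.Category.ModuleCat.Presheaf.Monoidal
import Mathlib.Algebra.Category.ModuleCat.Sheaf.Localization
import Mathlib.LinearAlgebra.DirectSum.Finsupp
import Mathlib.RingTheory.Flat.Basic

/-!
# Sheafification of modules and the sectionwise tensor product
-/

set_option autoImplicit false

universe u

open CategoryTheory CategoryTheory.Limits MonoidalCategory Opposite

namespace Groth.Agent.KFlat

variable {C : Type u} [SmallCategory C] {J : GrothendieckTopology C} (O : Sheaf J CommRingCat.{u})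

open ModSite

/-- Sheafification is left adjoint to the forgetful functor. -/
noncomputable abbrev preAdj : shPre O ⊣ toPre O :=
  PresheafOfModules.sheafificationAdjunction (𝟙 (ringSh O).obj)

instance : (shPre O).IsLeftAdjoint := (preAdj O).isLeftAdjoint

instance : (toPre O).IsRightAdjoint := (preAdj O).isRightAdjoint

instance isIso_preAdj_counit : IsIso (preAdj O).counit :=
  inferInstanceAs (IsIso (PresheafOfModules.sheafificationAdjunction (𝟙 (ringSh O).obj)).counit)

variable {O}

/-- A morphism of presheaves is inverted by sheafification iff it is locally bijective. -/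
theorem isIso_shPre_map_iff {P Q : preMod O} (f : P ⟶ Q) :
    IsIso ((shPre O).map f) ↔
      Presheaf.IsLocallyInjective J ((PresheafOfModules.toPresheaf _).map f) ∧
      Presheaf.IsLocallySurjective J ((PresheafOfModules.toPresheaf _).map f) := by
  have h := PresheafOfModules.inverseImage_W_toPresheaf_eq_inverseImage_isomorphisms
    (J := J) (𝟙 (ringSh O).obj)
  rw [← GrothendieckTopology.W_iff_isLocallyBijective]
  exact (MorphismProperty.ext_iff.1 h f).symm

instance isIso_shPre_map_unit (P : preMod O) : IsIso ((shPre O).map ((preAdj O).unit.app P)) := by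
  have := (preAdj O).left_triangle_components P
  have h2 : IsIso ((shPre O).map ((preAdj O).unit.app P) ≫ (preAdj O).counit.app ((shPre O).obj P)) := by
    rw [this]; infer_instance
  exact IsIso.of_isIso_comp_right _ ((preAdj O).counit.app ((shPre O).obj P))

/-! ### Tensoring with a free presheaf preserves local bijectivity -/

theorem whiskerLeft_locallySurjective (Q : preMod O) {P P' : preMod O} (f : P ⟶ P')
    (hf : Presheaf.IsLocallySurjective J ((PresheafOfModules.toPresheaf _).map f)) :
    Presheaf.IsLocallySurjective J ((PresheafOfModules.toPresheaf _).map (Q ◁ f)) := by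
  constructor
  intro U x
  induction x using TensorProduct.induction_on with
  | zero =>
    refine J.superset_covering ?_ (J.top_mem U)
    intro V g _
    exact ⟨0, by rw [map_zero]; exact (map_zero (((PresheafOfModules.toPresheaf _).obj (Q ⊗ P')).map g.op).hom).symm⟩
  | tmul q p =>
    refine J.superset_covering ?_ (Presheaf.imageSieve_mem J ((PresheafOfModules.toPresheaf _).map f) p)
    rintro V g ⟨t, ht⟩
    let q' : Q.obj (op V) := Q.map g.op q
    let t' : P.obj (op V) := t
    refine ⟨(q' ⊗ₜ[O.obj.obj (op V)] t' : TensorProduct (O.obj.obj (op V)) (Q.obj (op V)) (P.obj (op V))), ?_⟩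
    exact (congrArg (fun z : P'.obj (op V) => q' ⊗ₜ[O.obj.obj (op V)] z) ht).trans rfl
  | add x y hx hy =>
    refine J.superset_covering ?_ (J.intersection_covering hx hy)
    rintro V g ⟨⟨s, hs⟩, ⟨t, ht⟩⟩
    refine ⟨s + t, ?_⟩
    exact (map_add _ s t).trans ((congrArg₂ (· + ·) hs ht).trans (map_add _ x y).symm)

theorem exists_free_decomp {A : Type u} [CommRing A] {ι : Type u} {M M' : Type u}
    [AddCommGroup M] [Module A M] [AddCommGroup M'] [Module A M'] (f : M →ₗ[A] M')
    (z : TensorProduct A (ι →₀ A) M) (hz : f.lTensor (ι →₀ A) z = 0) :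
    ∃ c : ι →₀ M, (∀ i, f (c i) = 0) ∧ z = c.sum fun i m => Finsupp.single i (1 : A) ⊗ₜ[A] m := by
  classical
  have key : ∀ w, TensorProduct.finsuppScalarLeft A M' ι (f.lTensor _ w) =
      Finsupp.mapRange.linearMap f (TensorProduct.finsuppScalarLeft A M ι w) := by
    intro w
    induction w using TensorProduct.induction_on with
    | zero => simp
    | tmul q p => ext i; simp [TensorProduct.finsuppScalarLeft_apply_tmul_apply]
    | add a b ha hb => rw [map_add, map_add, ha, hb, map_add, map_add]
  refine ⟨TensorProduct.finsuppScalarLeft A M ι z, fun i => ?_, ?_⟩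
  · have := DFunLike.congr_fun (key z) i
    rw [hz, map_zero] at this
    simpa using this.symm
  · apply (TensorProduct.finsuppScalarLeft A M ι).injective
    rw [map_finsuppSum]
    conv_lhs => rw [← Finsupp.sum_single (TensorProduct.finsuppScalarLeft A M ι z)]
    refine Finsupp.sum_congr fun i _ => ?_
    rw [← TensorProduct.finsuppScalarLeft_symm_apply_single, LinearEquiv.apply_symm_apply]

theorem whiskerLeft_free_locallyInjective (F : Cᵒᵖ ⥤ Type u) {P P' : preMod O} (f : P ⟶ P')
    (hf : Presheaf.IsLocallyInjective J ((PresheafOfModules.toPresheaf _).map f)) :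
    Presheaf.IsLocallyInjective J
      ((PresheafOfModules.toPresheaf _).map (PresheafOfModules.freeObj F ◁ f)) := by
  classical
  constructor
  intro U x y hxy
  let φU := (((PresheafOfModules.toPresheaf _).map (PresheafOfModules.freeObj F ◁ f)).app U).hom
  have hd : φU (x - y) = 0 := by rw [map_sub, sub_eq_zero]; exact hxy
  obtain ⟨c, hci, hsum⟩ := exists_free_decomp (A := O.obj.obj U) (f.app U).hom (x - y) hd
  have hS : c.support.inf (fun i => Presheaf.equalizerSieve
      (F := (PresheafOfModules.toPresheaf _).obj P) (c i) 0) ∈ J U.unop := by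
    refine Finset.inf_induction (p := fun S => S ∈ J U.unop) (J.top_mem _)
      (fun _ h₁ _ h₂ => J.intersection_covering h₁ h₂) (fun i _ => ?_)
    exact Presheaf.equalizerSieve_mem J ((PresheafOfModules.toPresheaf _).map f) (c i) 0
      ((hci i).trans (map_zero (f.app U).hom).symm)
  refine J.superset_covering ?_ hS
  intro V g hg
  have hzero : ∀ i ∈ c.support, P.map g.op (c i) = 0 := fun i hi => by
    have := (Finset.inf_le hi (f := fun i => Presheaf.equalizerSieve
      (F := (PresheafOfModules.toPresheaf _).obj P) (c i) 0)) g hg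
    exact this.trans (map_zero (P.map g.op).hom)
  let φ := (((PresheafOfModules.toPresheaf _).obj (PresheafOfModules.freeObj F ⊗ P)).map g.op).hom
  change φ x = φ y
  rw [← sub_eq_zero, ← map_sub]
  refine (congrArg φ hsum).trans ((map_finsuppSum φ c _).trans (Finset.sum_eq_zero fun i hi => ?_))
  let e₁ : (PresheafOfModules.freeObj (R := O.obj ⋙ forget₂ _ RingCat) F).obj (op V) :=
    (PresheafOfModules.freeObj F).map g.op (Finsupp.single i 1)
  exact (congrArg (fun z : P.obj (op V) => e₁ ⊗ₜ[O.obj.obj (op V)] z) (hzero i hi)).trans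
    (TensorProduct.tmul_zero _ _)

theorem isIso_shPre_whiskerLeft_free (F : Cᵒᵖ ⥤ Type u) {P P' : preMod O} (f : P ⟶ P')
    [hf : IsIso ((shPre O).map f)] :
    IsIso ((shPre O).map (PresheafOfModules.freeObj F ◁ f)) := by
  obtain ⟨h₁, h₂⟩ := (isIso_shPre_map_iff f).1 hf
  exact (isIso_shPre_map_iff _).2
    ⟨whiskerLeft_free_locallyInjective F f h₁, whiskerLeft_locallySurjective _ f h₂⟩

/-! ### The class of objects where a natural transformation is an isomorphism -/

theorem isIso_app_of_isColimit {A B : Type*} [Category A] [Category B] {F G : A ⥤ B}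
    (τ : F ⟶ G) {K : Type*} [Category K] {D : K ⥤ A} {c : Cocone D} (hc : IsColimit c)
    [PreservesColimit D F] [PreservesColimit D G] [∀ j, IsIso (τ.app (D.obj j))] :
    IsIso (τ.app c.pt) := by
  let e := IsColimit.coconePointsIsoOfNatIso (isColimitOfPreserves F hc) (isColimitOfPreserves G hc)
    (NatIso.ofComponents (fun j => asIso (τ.app (D.obj j))) (fun g => τ.naturality _) : D ⋙ F ≅ D ⋙ G)
  have : τ.app c.pt = e.hom := by
    apply (isColimitOfPreserves F hc).hom_ext
    intro j
    rw [IsColimit.comp_coconePointsIsoOfNatIso_hom]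
    exact τ.naturality _
  rw [this]
  exact e.isIso_hom

/-- Sheafification inverts `Q ◁ f` as soon as it inverts `f`. -/
instance isIso_shPre_whiskerLeft (Q : preMod O) {P P' : preMod O} (f : P ⟶ P')
    [IsIso ((shPre O).map f)] : IsIso ((shPre O).map (Q ◁ f)) := by
  obtain ⟨τ, hτ⟩ : ∃ τ : tensorRight P ⋙ shPre O ⟶ tensorRight P' ⋙ shPre O,
      τ = Functor.whiskerRight ((curriedTensor (preMod O)).flip.map f) (shPre O) := ⟨_, rfl⟩
  have hfree : ∀ X : C, IsIso (τ.app ((PresheafOfModules.free _).obj (yoneda.obj X))) := by
    subst hτ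
    exact fun X => isIso_shPre_whiskerLeft_free (yoneda.obj X) f
  suffices h : IsIso (τ.app Q) by
    subst hτ
    exact h
  have h₁ : PreservesColimitsOfSize.{u, u} (tensorRight P ⋙ shPre O) := by
    have : PreservesColimitsOfSize.{u, u} (shPre O) := (preAdj O).leftAdjoint_preservesColimits
    exact comp_preservesColimits _ _
  have h₂ : PreservesColimitsOfSize.{u, u} (tensorRight P' ⋙ shPre O) := by
    have : PreservesColimitsOfSize.{u, u} (shPre O) := (preAdj O).leftAdjoint_preservesColimits
    exact comp_preservesColimits _ _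
  clear hτ
  have hcop : ∀ M : preMod O, IsIso (τ.app M.freeYonedaCoproduct) := fun M => by
    have : ∀ j, IsIso (τ.app ((Discrete.functor
        (PresheafOfModules.Elements.freeYoneda (M := M))).obj j)) := fun j => hfree _
    exact isIso_app_of_isColimit τ (coproductIsCoproduct _)
  have : ∀ j : WalkingParallelPair, IsIso (τ.app
      ((parallelPair Q.toFreeYonedaCoproduct 0).obj j)) := by
    rintro (_ | _)
    · exact hcop _
    · exact hcop _
  exact isIso_app_of_isColimit τ Q.isColimitFreeYonedaCoproductsCokernelCofork

instance isIso_shPre_whiskerRight (Q : preMod O) {P P' : preMod O} (f : P ⟶ P')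
    [IsIso ((shPre O).map f)] : IsIso ((shPre O).map (f ▷ Q)) := by
  have : f ▷ Q = (β_ P Q).hom ≫ Q ◁ f ≫ (β_ P' Q).inv := by simp
  rw [this, Functor.map_comp, Functor.map_comp]
  infer_instance

/-! ### The tensor product of sheaves of modules -/

variable (O)

theorem tensorBi_obj_eq (F : Mod O) :
    (tensorBi O).obj F = toPre O ⋙ tensorLeft ((toPre O).obj F) ⋙ shPre O := rfl

theorem tensorBi_flip_obj_eq (G : Mod O) :
    (tensorBi O).flip.obj G = toPre O ⋙ tensorRight ((toPre O).obj G) ⋙ shPre O := rfl

theorem preservesColimitsOfShape_of_comp_leftAdjoint {A B E K : Type*} [Category A] [Category B]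
    [Category E] [Category K] {L : A ⥤ B} {T : B ⥤ A} (adj : L ⊣ T) [IsIso adj.counit]
    [HasColimitsOfShape K A] (G : B ⥤ E) [PreservesColimitsOfShape K (L ⋙ G)] :
    PreservesColimitsOfShape K G := by
  have : L.IsLeftAdjoint := adj.isLeftAdjoint
  have : PreservesColimitsOfShape K L := (adj.leftAdjoint_preservesColimits).preservesColimitsOfShape
  refine ⟨fun {D} => ?_⟩
  let e : D ≅ (D ⋙ T) ⋙ L :=
    (Functor.rightUnitor D).symm ≪≫ Functor.isoWhiskerLeft D (asIso adj.counit).symm ≪≫
      (Functor.associator _ _ _).symm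
  have : PreservesColimit ((D ⋙ T) ⋙ L) G :=
    preservesColimit_of_preserves_colimit_cocone
      (isColimitOfPreserves L (colimit.isColimit (D ⋙ T)))
      (isColimitOfPreserves (L ⋙ G) (colimit.isColimit (D ⋙ T)))
  exact preservesColimit_of_iso_diagram G e.symm

/-- `- ⊗ G` restricted along sheafification. -/
noncomputable def shPreCompTensorRight (G : Mod O) :
    shPre O ⋙ (tensorBi O).flip.obj G ≅ tensorRight ((toPre O).obj G) ⋙ shPre O :=
  (NatIso.ofComponents (F := tensorRight ((toPre O).obj G) ⋙ shPre O) (G := shPre O ⋙ (tensorBi O).flip.obj G)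
    (fun P => (asIso ((shPre O).map ((preAdj O).unit.app P ▷ (toPre O).obj G)) :))
    (fun {P Q} g => by
      dsimp [tensorBi_flip_obj_eq]
      rw [← Functor.map_comp, ← Functor.map_comp]
      congr 1
      rw [← comp_whiskerRight, ← comp_whiskerRight]
      exact congrArg (· ▷ _) ((preAdj O).unit.naturality g))).symm

/-- `F ⊗ -` restricted along sheafification. -/
noncomputable def shPreCompTensorLeft (F : Mod O) :
    shPre O ⋙ (tensorBi O).obj F ≅ tensorLeft ((toPre O).obj F) ⋙ shPre O :=
  (NatIso.ofComponents (F := tensorLeft ((toPre O).obj F) ⋙ shPre O) (G := shPre O ⋙ (tensorBi O).obj F)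
    (fun P => (asIso ((shPre O).map ((toPre O).obj F ◁ (preAdj O).unit.app P)) :))
    (fun {P Q} g => by
      dsimp [tensorBi_obj_eq]
      rw [← Functor.map_comp, ← Functor.map_comp]
      congr 1
      rw [← MonoidalCategory.whiskerLeft_comp, ← MonoidalCategory.whiskerLeft_comp]
      exact congrArg (_ ◁ ·) ((preAdj O).unit.naturality g))).symm

instance preservesColimitsOfSize_tensorBi_flip_obj (G : Mod O) :
    PreservesColimitsOfSize.{u, u} ((tensorBi O).flip.obj G) where
  preservesColimitsOfShape {K} _ := by
    have : PreservesColimitsOfShape K (shPre O ⋙ (tensorBi O).flip.obj G) :=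
      preservesColimitsOfShape_of_natIso (shPreCompTensorRight O G).symm
    exact preservesColimitsOfShape_of_comp_leftAdjoint (preAdj O) _

instance preservesColimitsOfSize_tensorBi_obj (F : Mod O) :
    PreservesColimitsOfSize.{u, u} ((tensorBi O).obj F) where
  preservesColimitsOfShape {K} _ := by
    have : PreservesColimitsOfShape K (shPre O ⋙ (tensorBi O).obj F) :=
      preservesColimitsOfShape_of_natIso (shPreCompTensorLeft O F).symm
    exact preservesColimitsOfShape_of_comp_leftAdjoint (preAdj O) _

/-- The tensor product is symmetric. -/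
noncomputable def tensorBiFlipIso : (tensorBi O).flip ≅ tensorBi O :=
  NatIso.ofComponents
    (fun G => NatIso.ofComponents
      (fun F => (shPre O).mapIso (β_ ((toPre O).obj F) ((toPre O).obj G)))
      (fun {F F'} g => by
        dsimp [tensorBi_obj_eq, tensorBi_flip_obj_eq]
        refine (Functor.map_comp _ _ _).symm.trans (Eq.trans (congrArg _ ?_) (Functor.map_comp _ _ _))
        exact BraidedCategory.braiding_naturality_left _ _))
    (fun {G G'} g => by
      apply NatTrans.ext; funext F
      change (shPre O).map ((toPre O).obj F ◁ (toPre O).map g) ≫ (shPre O).map (β_ _ _).hom =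
        (shPre O).map (β_ _ _).hom ≫ (shPre O).map ((toPre O).map g ▷ (toPre O).obj F)
      rw [← Functor.map_comp, ← Functor.map_comp, BraidedCategory.braiding_naturality_right])

end Groth.Agent.KFlat
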