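import Groth.Agent.KFlat.FlatPull
import Groth.Agent.QCoh.Pullback
import Mathlib.AlgebraicGeometry.Restrict

/-!
# Inverse images of finite locally free modules and of strictly perfect complexes
-/

set_option autoImplicit false

universe u

open CategoryTheory CategoryTheory.Limits AlgebraicGeometry

namespace Groth.Agent.KFlat.LocFree

variable {X Y : Scheme.{u}} (f : X ⟶ Y)

/-- `f^* O^n ≅ O^n`. -/
noncomputable def pullFreeIso (n : ℕ) :
    (Scheme.Modules.pullback f).obj (FlatMod.freeMod Y n) ≅ FlatMod.freeMod X n :=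
  have : PreservesColimitsOfSize.{0, 0} (Scheme.Modules.pullback f) :=
    (Scheme.Modules.pullbackPushforwardAdjunction f).leftAdjoint_preservesColimits
  PreservesCoproduct.iso (Scheme.Modules.pullback f) _ ≪≫
    Sigma.mapIso fun _ => Groth.Agent.QCoh.pullbackUnitIso f

/-- The restriction of an inverse image, through the restricted morphism. -/
noncomputable def restrictPullIso (U : Y.Opens) (V : X.Opens) (h : V ≤ f ⁻¹ᵁ U) (M : Y.Modules) :
    ((Scheme.Modules.pullback f).obj M).restrict V.ι ≅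
      (Scheme.Modules.pullback (f.resLE U V h)).obj (M.restrict U.ι) :=
  (Scheme.Modules.restrictFunctorIsoPullback V.ι).app _ ≪≫
    (Scheme.Modules.pullbackComp V.ι f).app M ≪≫
    (Scheme.Modules.pullbackCongr (Scheme.Hom.resLE_comp_ι f h).symm).app M ≪≫
    ((Scheme.Modules.pullbackComp (f.resLE U V h) U.ι).app M).symm ≪≫
    (Scheme.Modules.pullback _).mapIso ((Scheme.Modules.restrictFunctorIsoPullback U.ι).app M).symm

theorem isFinLocFree_pull {M : Y.Modules} (h : FlatMod.IsFinLocFree M) :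
    FlatMod.IsFinLocFree ((Scheme.Modules.pullback f).obj M) := fun x => by
  obtain ⟨U, n, hU, ⟨e⟩⟩ := h (f x)
  exact ⟨f ⁻¹ᵁ U, n, hU, ⟨restrictPullIso f U _ le_rfl M ≪≫
    (Scheme.Modules.pullback _).mapIso e ≪≫ pullFreeIso _ n⟩⟩

theorem isFinLocFree_of_iso {M N : X.Modules} (e : M ≅ N) (h : FlatMod.IsFinLocFree M) :
    FlatMod.IsFinLocFree N := fun x => by
  obtain ⟨U, n, hU, ⟨e'⟩⟩ := h x
  exact ⟨U, n, hU, ⟨((Scheme.Modules.restrictFunctor U.ι).mapIso e).symm ≪≫ e'⟩⟩

theorem isFinLocFree_restrict {M : X.Modules} (h : FlatMod.IsFinLocFree M) (V : X.Opens) :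
    FlatMod.IsFinLocFree (M.restrict V.ι) :=
  isFinLocFree_of_iso ((Scheme.Modules.restrictFunctorIsoPullback V.ι).app M).symm (isFinLocFree_pull V.ι h)

theorem isStrictlyPerfect_pullCx {E : CochainComplex Y.Modules ℤ} (h : DCoh.IsStrictlyPerfect E) :
    DCoh.IsStrictlyPerfect ((Pull.pullCx f).obj E) := by
  obtain ⟨⟨a, b, hv⟩, hE⟩ := h
  exact ⟨⟨a, b, fun i hi => (Scheme.Modules.pullback f).map_isZero (hv i hi)⟩,
    fun i => isFinLocFree_pull f (hE i)⟩

theorem isStrictlyPerfect_restrict {E : CochainComplex X.Modules ℤ} (h : DCoh.IsStrictlyPerfect E)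
    (V : X.Opens) : DCoh.IsStrictlyPerfect ((DCoh.restrictCx V).obj E) := by
  obtain ⟨⟨a, b, hv⟩, hE⟩ := h
  exact ⟨⟨a, b, fun i hi => (Scheme.Modules.restrictFunctor V.ι).map_isZero (hv i hi)⟩,
    fun i => isFinLocFree_restrict (hE i) V⟩

end Groth.Agent.KFlat.LocFree
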