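import Groth.Agent.KFlat.PullTensor
import Groth.Agent.KFlat.LocFree
import Groth.Agent.KFlat.Tensor
import Groth.Agent.LFFrame.Basic
import Mathlib.Data.Int.Interval

/-!
# Tensor products of finite locally free modules and of strictly perfect complexes
-/

set_option autoImplicit false

universe u

open CategoryTheory CategoryTheory.Limits AlgebraicGeometry MonoidalCategory
open Groth.Agent.KFlat.StalkTensor

namespace Groth.Agent.KFlat.TensorLocFree

variable {X : Scheme.{u}}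

/-- `O ⊗ N ≅ N`. -/
noncomputable def unitTensorIso (N : X.Modules) : tensM (Coh.structureModule X) N ≅ N :=
  (ModSite.shPre X.sheaf).mapIso (λ_ ((ModSite.toPre X.sheaf).obj N)) ≪≫
    (asIso (preAdj X.sheaf).counit).app N

instance preservesColimits_tensorBi_obj (M : X.Modules) :
    PreservesColimitsOfSize.{0, 0} ((ModSite.tensorBi X.sheaf).obj M) :=
  preservesColimitsOfSize_shrink.{0, u, 0, u} _

instance preservesColimits_tensorBi_flip_obj (M : X.Modules) :
    PreservesColimitsOfSize.{0, 0} ((ModSite.tensorBi X.sheaf).flip.obj M) :=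
  preservesColimitsOfSize_shrink.{0, u, 0, u} _

/-- Coproducts only depend on the non-zero summands. -/
noncomputable def sigmaSupportIso {A : Type*} [Category A] [HasZeroMorphisms A] {ι : Type*} (F : ι → A)
    [HasCoproduct F] (P : ι → Prop) [HasCoproduct fun i : {i // P i} => F i.1]
    (h : ∀ i, ¬ P i → IsZero (F i)) : ∐ F ≅ ∐ fun i : {i // P i} => F i.1 := by
  classical
  exact
  { hom := Sigma.desc fun i => if hi : P i then Sigma.ι (fun i : {i // P i} => F i.1) ⟨i, hi⟩ else 0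
    inv := Sigma.desc fun i => Sigma.ι F i.1
    hom_inv_id := Sigma.hom_ext _ _ fun i => by
      by_cases hi : P i
      · simp [hi]
      · exact (h i hi).eq_of_src _ _
    inv_hom_id := Sigma.hom_ext _ _ fun i => by simp [i.2] }

theorem exists_free_sigma {n : ℕ} {ι : Type} [Finite ι] (k : ι → ℕ) (hn : n = ∑ᶠ i, k i) :
    Nonempty ((∐ fun i => FlatMod.freeMod X (k i)) ≅ FlatMod.freeMod X n) := by
  have : Fintype ι := Fintype.ofFinite ι
  have hc : Fintype.card (Σ i, Fin (k i)) = n := by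
    rw [hn, finsum_eq_sum_of_fintype]; simp
  let e : (Σ i, Fin (k i)) ≃ Fin n := (Fintype.equivFin _).trans (finCongr hc)
  exact ⟨{
    hom := Sigma.desc fun i => Sigma.desc fun j =>
      Sigma.ι (fun _ : Fin n => Coh.structureModule X) (e ⟨i, j⟩)
    inv := Sigma.desc fun a => Sigma.ι (fun _ : Fin (k (e.symm a).1) => Coh.structureModule X) (e.symm a).2 ≫
      Sigma.ι (fun i => FlatMod.freeMod X (k i)) (e.symm a).1
    hom_inv_id := Sigma.hom_ext _ _ fun i => Sigma.hom_ext _ _ fun j => by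
      have key : ∀ p : Σ i, Fin (k i), p = ⟨i, j⟩ →
          Sigma.ι (fun _ : Fin (k p.1) => Coh.structureModule X) p.2 ≫
            Sigma.ι (fun i => FlatMod.freeMod X (k i)) p.1 =
          Sigma.ι (fun _ : Fin (k i) => Coh.structureModule X) j ≫
            Sigma.ι (fun i => FlatMod.freeMod X (k i)) i := by rintro _ rfl; rfl
      simpa using key _ (e.symm_apply_apply ⟨i, j⟩)
    inv_hom_id := Sigma.hom_ext _ _ fun a => by simp }⟩

/-- `O^n ⊗ O^m ≅ O^(n m)`. -/
theorem exists_free_tensor (n m : ℕ) :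
    Nonempty (tensM (FlatMod.freeMod X n) (FlatMod.freeMod X m) ≅ FlatMod.freeMod X (∑ᶠ _ : Fin n, m)) := by
  obtain ⟨e⟩ := exists_free_sigma (X := X) (ι := Fin n) (fun _ => m) rfl
  exact ⟨PreservesCoproduct.iso ((ModSite.tensorBi X.sheaf).flip.obj (FlatMod.freeMod X m)) _ ≪≫
    Sigma.mapIso (fun _ => unitTensorIso (FlatMod.freeMod X m)) ≪≫ e⟩

theorem restrict_freeOn_mono {M : X.Modules} {U V : X.Opens} (h : V ≤ U) {n : ℕ}
    (e : M.restrict U.ι ≅ FlatMod.freeMod (U : Scheme.{u}) n) :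
    Nonempty (M.restrict V.ι ≅ FlatMod.freeMod (V : Scheme.{u}) n) :=
  ⟨(Scheme.Modules.restrictFunctorIsoPullback V.ι).app M ≪≫
    (Scheme.Modules.pullbackCongr (X.homOfLE_ι h).symm).app M ≪≫
    ((Scheme.Modules.pullbackComp (X.homOfLE h) U.ι).app M).symm ≪≫
    (Scheme.Modules.pullback _).mapIso (((Scheme.Modules.restrictFunctorIsoPullback U.ι).app M).symm ≪≫ e) ≪≫
    LocFree.pullFreeIso _ n⟩

/-- Restriction commutes with tensor products. -/
noncomputable def restrictTensorIso (M N : X.Modules) (V : X.Opens) :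
    (tensM M N).restrict V.ι ≅ tensM (M.restrict V.ι) (N.restrict V.ι) :=
  (Scheme.Modules.restrictFunctorIsoPullback V.ι).app _ ≪≫ PullTensor.pullTensorIso V.ι M N ≪≫
    ((ModSite.tensorBi (V : Scheme.{u}).sheaf).mapIso
      ((Scheme.Modules.restrictFunctorIsoPullback V.ι).app M).symm).app _ ≪≫
    ((ModSite.tensorBi (V : Scheme.{u}).sheaf).obj (M.restrict V.ι)).mapIso
      ((Scheme.Modules.restrictFunctorIsoPullback V.ι).app N).symm

theorem isFinLocFree_tensM {M N : X.Modules} (hM : FlatMod.IsFinLocFree M) (hN : FlatMod.IsFinLocFree N) :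
    FlatMod.IsFinLocFree (tensM M N) := fun x => by
  obtain ⟨U, n, hU, ⟨e⟩⟩ := hM x
  obtain ⟨U', m, hU', ⟨e'⟩⟩ := hN x
  obtain ⟨a⟩ := restrict_freeOn_mono (inf_le_left : U ⊓ U' ≤ U) e
  obtain ⟨b⟩ := restrict_freeOn_mono (inf_le_right : U ⊓ U' ≤ U') e'
  obtain ⟨c⟩ := exists_free_tensor (X := (U ⊓ U' : X.Opens)) n m
  exact ⟨U ⊓ U', _, ⟨hU, hU'⟩, ⟨restrictTensorIso M N _ ≪≫
    ((ModSite.tensorBi (U ⊓ U' : X.Opens).toScheme.sheaf).mapIso a).app _ ≪≫
    ((ModSite.tensorBi (U ⊓ U' : X.Opens).toScheme.sheaf).obj _).mapIso b ≪≫ c⟩⟩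

theorem isFinLocFree_sigma {ι : Type} (F : ι → X.Modules) (s : Finset ι)
    (hz : ∀ i, i ∉ s → IsZero (F i)) (h : ∀ i, FlatMod.IsFinLocFree (F i)) :
    FlatMod.IsFinLocFree (∐ F) := fun x => by
  choose U n hU e using fun i => h i x
  let V : X.Opens := ⟨⋂ i : {i // i ∈ s}, (U i.1 : Set X), isOpen_iInter_of_finite fun i => (U i.1).2⟩
  have hV : ∀ i : {i // i ∈ s}, V ≤ U i.1 := fun i => Set.iInter_subset (fun i : {i // i ∈ s} => (U i.1 : Set X)) i
  let e' := fun i : {i // i ∈ s} => (restrict_freeOn_mono (hV i) (e i.1).some).some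
  obtain ⟨c⟩ := exists_free_sigma (X := (V : Scheme.{u})) (fun i : {i // i ∈ s} => n i.1) rfl
  have : PreservesColimitsOfSize.{0, 0} (Scheme.Modules.restrictFunctor V.ι) :=
    (Scheme.Modules.restrictAdjunction V.ι).leftAdjoint_preservesColimits
  exact ⟨V, _, Set.mem_iInter.2 fun i => hU i.1, ⟨(Scheme.Modules.restrictFunctor V.ι).mapIso
      (sigmaSupportIso F (· ∈ s) hz) ≪≫ PreservesCoproduct.iso _ _ ≪≫ Sigma.mapIso e' ≪≫ c⟩⟩

theorem isStrictlyPerfect_tensorCx {K L : CochainComplex X.Modules ℤ} (hK : DCoh.IsStrictlyPerfect K)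
    (hL : DCoh.IsStrictlyPerfect L) : DCoh.IsStrictlyPerfect ((DCoh.tensorCx.obj K).obj L) := by
  classical
  obtain ⟨⟨a, b, hv⟩, hK⟩ := hK
  obtain ⟨⟨c, d, hw⟩, hL⟩ := hL
  let I := fun n : ℤ => {i : ℤ × ℤ //
    ComplexShape.π (ComplexShape.up ℤ) (ComplexShape.up ℤ) (ComplexShape.up ℤ) i = n}
  let F := fun n (i : I n) => ((DCoh.tensorBi (X := X)).obj (K.X i.1.1)).obj (L.X i.1.2)
  have hz : ∀ n (i : I n), (i.1.1 < a ∨ b < i.1.1) ∨ (i.1.2 < c ∨ d < i.1.2) → IsZero (F n i) := by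
    rintro n i (h | h)
    · exact ((DCoh.tensorBi (X := X)).flip.obj (L.X i.1.2)).map_isZero (hv _ h)
    · exact ((DCoh.tensorBi (X := X)).obj (K.X i.1.1)).map_isZero (hw _ h)
  let s : ∀ n, Finset (I n) := fun n =>
    (Finset.Icc a b ×ˢ Finset.Icc c d).subtype _
  have key : ∀ n, FlatMod.IsFinLocFree (∐ F n) := fun n =>
    isFinLocFree_sigma (F n) (s n) (fun i hi => hz n i (by
      by_contra hc
      refine hi (Finset.mem_subtype.2 (Finset.mem_product.2 ⟨Finset.mem_Icc.2 ?_, Finset.mem_Icc.2 ?_⟩)) <;>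
        omega)) fun i => isFinLocFree_tensM (hK _) (hL _)
  refine ⟨⟨a + c, b + d, fun n hn => ?_⟩, fun n => key n⟩
  change IsZero (∐ F n)
  rw [IsZero.iff_id_eq_zero]
  refine Sigma.hom_ext _ _ fun i => (hz n i ?_).eq_of_src _ _
  have : i.1.1 + i.1.2 = n := i.2
  omega

end Groth.Agent.KFlat.TensorLocFree
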