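import Groth.Agent.KFlat.Pull
import Groth.Agent.KFlat.TotMap
import Groth.Agent.PullStalk.Basic
import Groth.Prelude.Def_DCoh4

/-!
# Inverse images commute with tensor products
-/

set_option autoImplicit false

universe u

open CategoryTheory CategoryTheory.Limits MonoidalCategory AlgebraicGeometry Opposite TopologicalSpace
open Groth.Agent.PullStalk.Sky Groth.Agent.PullStalk.Basic Groth.Agent.KFlat.StalkTensor TensorProduct

namespace Groth.Agent.KFlat.PullTensor

variable {X Y : Scheme.{u}} (f : X ⟶ Y) (M N : Y.Modules)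

/-- The unit of the inverse image on sections. -/
noncomputable abbrev ηS (U : Y.Opens) (m : Γ(M, U)) : Γ((Scheme.Modules.pullback f).obj M, f ⁻¹ᵁ U) :=
  ((Scheme.Modules.pullbackPushforwardAdjunction f).unit.app M).app U m

variable {M} in
theorem ηS_add (U : Y.Opens) (m m' : Γ(M, U)) : ηS f M U (m + m') = ηS f M U m + ηS f M U m' :=
  map_add (((Scheme.Modules.pullbackPushforwardAdjunction f).unit.app M).app U).hom m m'

variable {M} in
theorem ηS_smul (U : Y.Opens) (r : Γ(Y, U)) (m : Γ(M, U)) :
    ηS f M U (r • m) = (f.app U r) • ηS f M U m :=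
  Scheme.Modules.Hom.app_smul _ _ _

/-- The presheaf map underlying the comparison, on sections. -/
noncomputable def prePullSec (U : Y.Opensᵒᵖ) :
    (tensP M N).obj U ⟶ ((ModSite.toPre Y.sheaf).obj ((Scheme.Modules.pushforward f).obj
      (tensM ((Scheme.Modules.pullback f).obj M) ((Scheme.Modules.pullback f).obj N)))).obj U :=
  letI : Module (Y.sheaf.obj.obj U) (((PresheafOfModules.pushforward₀ (Opens.map f.base)
      ((sheafToPresheaf (Opens.grothendieckTopology X) RingCat.{u}).obj X.ringCatSheaf)).obj
        (tensM ((Scheme.Modules.pullback f).obj M) ((Scheme.Modules.pullback f).obj N)).val).obj U) :=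
    inferInstanceAs (Module Γ(Y, U.unop) Γ((Scheme.Modules.pushforward f).obj
      (tensM ((Scheme.Modules.pullback f).obj M) ((Scheme.Modules.pullback f).obj N)), U.unop))
  letI : Module ((Y.sheaf.obj ⋙ forget₂ CommRingCat.{u} RingCat.{u}).obj U)
      (((PresheafOfModules.pushforward₀ (Opens.map f.base)
      ((sheafToPresheaf (Opens.grothendieckTopology X) RingCat.{u}).obj X.ringCatSheaf)).obj
        (tensM ((Scheme.Modules.pullback f).obj M) ((Scheme.Modules.pullback f).obj N)).val).obj U) :=
    inferInstanceAs (Module Γ(Y, U.unop) Γ((Scheme.Modules.pushforward f).obj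
      (tensM ((Scheme.Modules.pullback f).obj M) ((Scheme.Modules.pullback f).obj N)), U.unop))
  ModuleCat.ofHom (TensorProduct.lift (LinearMap.mk₂ (Y.sheaf.obj.obj U)
    (fun (m : ((ModSite.toPre Y.sheaf).obj M).obj U) (n : ((ModSite.toPre Y.sheaf).obj N).obj U) =>
      show ((ModSite.toPre Y.sheaf).obj ((Scheme.Modules.pushforward f).obj
          (tensM ((Scheme.Modules.pullback f).obj M) ((Scheme.Modules.pullback f).obj N)))).obj U from
        tmulSec (f ⁻¹ᵁ U.unop) (ηS f M U.unop m) (ηS f N U.unop n))
    (fun m m' n => (congrArg (tmulSec _ · _) (ηS_add f U.unop m m')).trans (tmulSec_add_left _ _ _ _))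
    (fun r m n => (congrArg (tmulSec _ · _) (ηS_smul f U.unop r m)).trans (tmulSec_smul_left _ _ _ _))
    (fun m n n' => (congrArg (tmulSec _ _ ·) (ηS_add f U.unop n n')).trans (tmulSec_add_right _ _ _ _))
    (fun r m n => (congrArg (tmulSec _ _ ·) (ηS_smul f U.unop r n)).trans (tmulSec_smul_right _ _ _ _))))

theorem ηS_res {U V : Y.Opens} (i : V ⟶ U) (m : Γ(M, U)) :
    ηS f M V (M.presheaf.map i.op m) =
      ((Scheme.Modules.pullback f).obj M).presheaf.map ((Opens.map f.base).map i).op (ηS f M U m) :=
  NatTrans.naturality_apply ((Scheme.Modules.pullbackPushforwardAdjunction f).unit.app M).mapPresheaf i.op m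

/-- The presheaf map underlying the comparison. -/
noncomputable def prePull :
    tensP M N ⟶ (ModSite.toPre Y.sheaf).obj ((Scheme.Modules.pushforward f).obj
      (tensM ((Scheme.Modules.pullback f).obj M) ((Scheme.Modules.pullback f).obj N))) where
  app U := prePullSec f M N U
  naturality {U V} i := by
    refine ModuleCat.hom_ext (LinearMap.ext fun z => ?_)
    induction z using TensorProduct.induction_on with
    | zero => exact (map_zero _).trans (map_zero _).symm
    | tmul m n =>
      exact (congrArg₂ (tmulSec _) (ηS_res f M i.unop m) (ηS_res f N i.unop n)).trans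
        (tmulSec_res ((Opens.map f.base).map i.unop) _ _).symm
    | add a b ha hb => exact (map_add _ a b).trans ((congrArg₂ (· + ·) ha hb).trans (map_add _ a b).symm)

/-- The comparison between the inverse image of a tensor product and the tensor product of inverse images. -/
noncomputable def pullTensor :
    (Scheme.Modules.pullback f).obj (tensM M N) ⟶
      tensM ((Scheme.Modules.pullback f).obj M) ((Scheme.Modules.pullback f).obj N) :=
  ((Scheme.Modules.pullbackPushforwardAdjunction f).homEquiv _ _).symm
    (((preAdj Y.sheaf).homEquiv _ _).symm (prePull f M N))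

variable {M N}

theorem pullTensor_ηS (U : Y.Opens) (m : Γ(M, U)) (n : Γ(N, U)) :
    (pullTensor f M N).app (f ⁻¹ᵁ U) (ηS f (tensM M N) U (tmulSec U m n)) =
      tmulSec (f ⁻¹ᵁ U) (ηS f M U m) (ηS f N U n) := by
  have h₁ := ((Scheme.Modules.pullbackPushforwardAdjunction f).homEquiv (tensM M N) _).apply_symm_apply
    (((preAdj Y.sheaf).homEquiv _ _).symm (prePull f M N))
  rw [Adjunction.homEquiv_unit] at h₁
  have h₂ := ((preAdj Y.sheaf).homEquiv (tensP M N) _).apply_symm_apply (prePull f M N)
  rw [Adjunction.homEquiv_unit] at h₂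
  exact (congrArg (fun φ => Scheme.Modules.Hom.app φ U (tmulSec U m n)) h₁).trans
    (congrArg (fun φ => PresheafOfModules.Hom.app φ (op U)
      ((show ((ModSite.toPre Y.sheaf).obj M).obj (op U) from m) ⊗ₜ[Y.sheaf.obj.obj (op U)]
        (show ((ModSite.toPre Y.sheaf).obj N).obj (op U) from n))) h₂)

theorem stalk_pullTensor_tgerm (x : X) (U : Y.Opens) (hx : f x ∈ U) (m : Γ(M, U)) (n : Γ(N, U)) :
    ((DerSch.stalkFunctor X x).map (pullTensor f M N)).hom
        (unitStalkHom f (tensM M N) x (tgerm M N (f x) U hx m n)) =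
      StalkTensor.fromTensor _ _ x (unitStalkHom f M x (germM M U (f x) hx m) ⊗ₜ
        unitStalkHom f N x (germM N U (f x) hx n)) := by
  rw [unitStalkHom_germ, unitStalkHom_germ, fromTensor_germ]
  refine (congrArg _ (unitStalkHom_germ f (tensM M N) x U hx (tmulSec U m n))).trans ?_
  refine (DerSch.stalkFunctor_map_germ x (pullTensor f M N) (f ⁻¹ᵁ U) hx _).trans ?_
  exact congrArg (germM _ (f ⁻¹ᵁ U) x hx) (pullTensor_ηS f U m n)

theorem stalk_pullTensor_pairing (x : X) (s : M.presheaf.stalk (f x)) (t : N.presheaf.stalk (f x)) :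
    ((DerSch.stalkFunctor X x).map (pullTensor f M N)).hom
        (unitStalkHom f (tensM M N) x (StalkTensor.fromTensor M N (f x) (s ⊗ₜ t))) =
      StalkTensor.fromTensor _ _ x (unitStalkHom f M x s ⊗ₜ unitStalkHom f N x t) := by
  obtain ⟨U, hx, m, n, rfl, rfl⟩ := exists_rep s t
  rw [fromTensor_germ]
  exact stalk_pullTensor_tgerm f x U hx m n

variable (M N)

theorem bijective_stalk_pullTensor (x : X) :
    Function.Bijective ((DerSch.stalkFunctor X x).map (pullTensor f M N)).hom := by
  let := (f.stalkMap x).hom.toAlgebra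
  let := moduleOver f M x
  let := moduleOver f N x
  let := moduleOver f (tensM M N) x
  have : IsScalarTower (Y.presheaf.stalk (f x)) (X.presheaf.stalk x)
      (((Scheme.Modules.pullback f).obj M).presheaf.stalk x) :=
    IsScalarTower.of_algebraMap_smul fun _ _ => rfl
  have : IsScalarTower (Y.presheaf.stalk (f x)) (X.presheaf.stalk x)
      (((Scheme.Modules.pullback f).obj N).presheaf.stalk x) :=
    IsScalarTower.of_algebraMap_smul fun _ _ => rfl
  have : IsScalarTower (Y.presheaf.stalk (f x)) (X.presheaf.stalk x)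
      (((Scheme.Modules.pullback f).obj (tensM M N)).presheaf.stalk x) :=
    IsScalarTower.of_algebraMap_smul fun _ _ => rfl
  let e₀ := (TensorProduct.AlgebraTensorModule.congr (LinearEquiv.refl (X.presheaf.stalk x) (X.presheaf.stalk x))
    (stalkTensorEquiv M N (f x)).symm).trans (isBaseChange_unitStalk f (tensM M N) x).equiv
  let e₁ := ((TensorProduct.AlgebraTensorModule.distribBaseChange (Y.presheaf.stalk (f x)) (X.presheaf.stalk x)
      (M.presheaf.stalk (f x)) (N.presheaf.stalk (f x))).trans
    (TensorProduct.congr (isBaseChange_unitStalk f M x).equiv (isBaseChange_unitStalk f N x).equiv)).trans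
    (stalkTensorEquiv _ _ x).symm
  let c : ((Scheme.Modules.pullback f).obj (tensM M N)).presheaf.stalk x →ₗ[X.presheaf.stalk x]
      (tensM ((Scheme.Modules.pullback f).obj M) ((Scheme.Modules.pullback f).obj N)).presheaf.stalk x :=
    ((DerSch.stalkFunctor X x).map (pullTensor f M N)).hom
  have key : ∀ z, c (e₀ z) = e₁ z := by
    intro z
    induction z using TensorProduct.induction_on with
    | zero => rw [map_zero, map_zero, map_zero]
    | tmul a w =>
      induction w using TensorProduct.induction_on with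
      | zero => rw [TensorProduct.tmul_zero, map_zero, map_zero, map_zero]
      | tmul s t =>
        have h := stalk_pullTensor_pairing f x s t
        change c (a • unitStalkHom f (tensM M N) x (StalkTensor.fromTensor M N (f x) (s ⊗ₜ t))) =
          StalkTensor.fromTensor _ _ x ((a • unitStalkHom f M x s) ⊗ₜ ((1 : X.presheaf.stalk x) • unitStalkHom f N x t))
        rw [map_smul, one_smul, ← TensorProduct.smul_tmul', map_smul]
        exact congrArg (a • ·) h
      | add w w' h h' => rw [TensorProduct.tmul_add, map_add, map_add, map_add, h, h']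
    | add z z' h h' => rw [map_add, map_add, map_add, h, h']
  have hc : ∀ p, c p = e₁ (e₀.symm p) := fun p => by rw [← key, e₀.apply_symm_apply]
  change Function.Bijective c
  rw [show (c : _ → _) = e₁ ∘ e₀.symm from funext hc]
  exact e₁.bijective.comp e₀.symm.bijective

theorem isIso_of_stalk_bijective {A B : X.Modules} (φ : A ⟶ B)
    (h : ∀ x : X, Function.Bijective ((DerSch.stalkFunctor X x).map φ).hom) : IsIso φ := by
  have := mono_of_stalk_injective φ fun y => (h y).1
  have : Epi φ := ⟨fun {Z} a b e => by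
    ext U p
    refine TopCat.Presheaf.section_ext (F := ⟨Z.presheaf, Z.isSheaf⟩) U _ _ fun y hy => ?_
    obtain ⟨t, ht⟩ := (h y).2 (germM B U y hy p)
    obtain ⟨V, hV, q, rfl⟩ := exists_germM_eq A y t
    refine (DerSch.stalkFunctor_map_germ y a U hy p).symm.trans (Eq.trans ?_ (DerSch.stalkFunctor_map_germ y b U hy p))
    refine (congrArg ((DerSch.stalkFunctor X y).map a).hom ht).symm.trans (Eq.trans ?_
      (congrArg ((DerSch.stalkFunctor X y).map b).hom ht))
    exact (ConcreteCategory.congr_hom ((DerSch.stalkFunctor X y).map_comp φ a) _).symm.trans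
      ((congrArg (fun χ => ((DerSch.stalkFunctor X y).map χ).hom (germM A V y hV q)) e).trans
        (ConcreteCategory.congr_hom ((DerSch.stalkFunctor X y).map_comp φ b) _))⟩
  exact isIso_of_mono_of_epi φ

instance isIso_pullTensor : IsIso (pullTensor f M N) :=
  isIso_of_stalk_bijective _ (bijective_stalk_pullTensor f M N)

variable {M N}

theorem hom_ext_pull {B : X.Modules} (a b : (Scheme.Modules.pullback f).obj (tensM M N) ⟶ B)
    (h : ∀ (U : Y.Opens) (m : Γ(M, U)) (n : Γ(N, U)),
      a.app (f ⁻¹ᵁ U) (ηS f (tensM M N) U (tmulSec U m n)) = b.app (f ⁻¹ᵁ U) (ηS f (tensM M N) U (tmulSec U m n))) :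
    a = b := by
  refine ((Scheme.Modules.pullbackPushforwardAdjunction f).homEquiv _ _).injective ?_
  refine ((preAdj Y.sheaf).homEquiv (tensP M N) _).injective ?_
  rw [Adjunction.homEquiv_unit, Adjunction.homEquiv_unit, Adjunction.homEquiv_unit, Adjunction.homEquiv_unit]
  refine PresheafOfModules.hom_ext fun U => ?_
  refine ModuleCat.hom_ext (LinearMap.ext fun z => ?_)
  induction z using TensorProduct.induction_on with
  | zero => exact (map_zero _).trans (map_zero _).symm
  | tmul m n => exact h U.unop m n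
  | add p q hp hq => exact (map_add _ p q).trans ((congrArg₂ (· + ·) hp hq).trans (map_add _ p q).symm)

theorem ηS_natural {M M' : Y.Modules} (φ : M ⟶ M') (U : Y.Opens) (m : Γ(M, U)) :
    ((Scheme.Modules.pullback f).map φ).app (f ⁻¹ᵁ U) (ηS f M U m) = ηS f M' U (φ.app U m) :=
  (congrArg (fun χ => Scheme.Modules.Hom.app χ U m)
    ((Scheme.Modules.pullbackPushforwardAdjunction f).unit.naturality φ)).symm

theorem tensMap_tmulSec {M M' N N' : X.Modules} (φ : M ⟶ M') (ψ : N ⟶ N') (U : X.Opens) (m : Γ(M, U))
    (n : Γ(N, U)) : (tensMap φ ψ).app U (tmulSec U m n) = tmulSec U (φ.app U m) (ψ.app U n) := by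
  have h₁ := (preAdj X.sheaf).unit.naturality ((ModSite.toPre X.sheaf).map φ ▷ (ModSite.toPre X.sheaf).obj N)
  have h₂ := (preAdj X.sheaf).unit.naturality ((ModSite.toPre X.sheaf).obj M' ◁ (ModSite.toPre X.sheaf).map ψ)
  have e₁ := congrArg (fun χ => PresheafOfModules.Hom.app χ (op U)
    ((show ((ModSite.toPre X.sheaf).obj M).obj (op U) from m) ⊗ₜ[X.sheaf.obj.obj (op U)]
      (show ((ModSite.toPre X.sheaf).obj N).obj (op U) from n))) h₁
  have e₂ := congrArg (fun χ => PresheafOfModules.Hom.app χ (op U)
    ((show ((ModSite.toPre X.sheaf).obj M').obj (op U) from φ.app U m) ⊗ₜ[X.sheaf.obj.obj (op U)]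
      (show ((ModSite.toPre X.sheaf).obj N).obj (op U) from n))) h₂
  exact (congrArg (fun z => Scheme.Modules.Hom.app
    (show tensM M' N ⟶ tensM M' N' from ((ModSite.tensorBi X.sheaf).obj M').map ψ) U z) e₁.symm).trans e₂.symm

theorem pullTensor_natural {M M' N N' : Y.Modules} (φ : M ⟶ M') (ψ : N ⟶ N') :
    (Scheme.Modules.pullback f).map (tensMap φ ψ) ≫ pullTensor f M' N' =
      pullTensor f M N ≫ tensMap ((Scheme.Modules.pullback f).map φ) ((Scheme.Modules.pullback f).map ψ) := by
  refine hom_ext_pull f _ _ fun U m n => ?_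
  have h1 := ηS_natural f (tensMap φ ψ) U (tmulSec U m n)
  rw [tensMap_tmulSec] at h1
  refine (congrArg ((pullTensor f M' N').app (f ⁻¹ᵁ U)) h1).trans ?_
  refine (pullTensor_ηS f U _ _).trans ?_
  refine Eq.trans ?_ (congrArg ((tensMap ((Scheme.Modules.pullback f).map φ)
    ((Scheme.Modules.pullback f).map ψ)).app (f ⁻¹ᵁ U)) (pullTensor_ηS f U m n)).symm
  rw [tensMap_tmulSec, ηS_natural, ηS_natural]

variable (M N)

/-- Inverse images commute with tensor products. -/
noncomputable def pullTensorIso :
    (Scheme.Modules.pullback f).obj (((DCoh.tensorBi (X := Y)).obj M).obj N) ≅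
      ((DCoh.tensorBi (X := X)).obj ((Scheme.Modules.pullback f).obj M)).obj ((Scheme.Modules.pullback f).obj N) :=
  @asIso _ _ _ _ (pullTensor f M N) (isIso_pullTensor f M N)

theorem tensMap_id_right {M M' : X.Modules} (φ : M ⟶ M') (N : X.Modules) :
    tensMap φ (𝟙 N) = ((ModSite.tensorBi X.sheaf).map φ).app N :=
  (congrArg (((ModSite.tensorBi X.sheaf).map φ).app N ≫ ·)
    (((ModSite.tensorBi X.sheaf).obj M').map_id N)).trans (Category.comp_id _)

theorem tensMap_id_left (M : X.Modules) {N N' : X.Modules} (ψ : N ⟶ N') :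
    tensMap (𝟙 M) ψ = ((ModSite.tensorBi X.sheaf).obj M).map ψ :=
  (congrArg (fun τ => NatTrans.app τ N ≫ ((ModSite.tensorBi X.sheaf).obj M).map ψ)
    ((ModSite.tensorBi X.sheaf).map_id M)).trans (Category.id_comp _)

theorem pullTensorIso_left {M M' : Y.Modules} (φ : M ⟶ M') (N : Y.Modules) :
    (Scheme.Modules.pullback f).map (((DCoh.tensorBi (X := Y)).map φ).app N) ≫ (pullTensorIso f M' N).hom =
      (pullTensorIso f M N).hom ≫ ((DCoh.tensorBi (X := X)).map ((Scheme.Modules.pullback f).map φ)).app
        ((Scheme.Modules.pullback f).obj N) := by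
  have h := pullTensor_natural f φ (𝟙 N)
  rw [tensMap_id_right, CategoryTheory.Functor.map_id, tensMap_id_right] at h
  exact h

theorem pullTensorIso_right (M : Y.Modules) {N N' : Y.Modules} (ψ : N ⟶ N') :
    (Scheme.Modules.pullback f).map (((DCoh.tensorBi (X := Y)).obj M).map ψ) ≫ (pullTensorIso f M N').hom =
      (pullTensorIso f M N).hom ≫ ((DCoh.tensorBi (X := X)).obj ((Scheme.Modules.pullback f).obj M)).map
        ((Scheme.Modules.pullback f).map ψ) := by
  have h := pullTensor_natural f (𝟙 M) ψ
  rw [tensMap_id_left, CategoryTheory.Functor.map_id, tensMap_id_left] at h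
  exact h

instance : PreservesColimitsOfSize.{0, 0} (Scheme.Modules.pullback f) :=
  (Scheme.Modules.pullbackPushforwardAdjunction f).leftAdjoint_preservesColimits

open Groth.Agent.KFlat.Pull in
/-- Inverse images commute with tensor products of complexes. -/
noncomputable def pullTensorCxIso (K L : CochainComplex Y.Modules ℤ) :
    (pullCx f).obj ((DCoh.tensorCx.obj K).obj L) ≅
      (DCoh.tensorCx.obj ((pullCx f).obj K)).obj ((pullCx f).obj L) :=
  totMapIso (DCoh.tensorBi (X := Y)) (DCoh.tensorBi (X := X)) (Scheme.Modules.pullback f)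
    (Scheme.Modules.pullback f) (Scheme.Modules.pullback f) (fun a b => pullTensorIso f a b)
    (fun φ b => pullTensorIso_left f φ b) (fun a _ _ ψ => pullTensorIso_right f a ψ) K L

end Groth.Agent.KFlat.PullTensor
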