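import Groth.Agent.KFlat.Flat
import Groth.Agent.PullStalk.Exact
import Groth.Prelude.Def_DerSch

/-!
# The stalk of a tensor product of sheaves of modules on a scheme
-/

set_option autoImplicit false

universe u

open CategoryTheory CategoryTheory.Limits MonoidalCategory AlgebraicGeometry Opposite TopologicalSpace
open Groth.Agent.PullStalk.Sky TensorProduct

namespace Groth.Agent.KFlat.StalkTensor

variable {X : Scheme.{u}}

/-- The sheaf tensor product. -/
noncomputable abbrev tensM (M N : X.Modules) : X.Modules := ((ModSite.tensorBi X.sheaf).obj M).obj N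

/-- The presheaf tensor product. -/
noncomputable abbrev tensP (M N : X.Modules) : ModSite.preMod X.sheaf :=
  (ModSite.toPre X.sheaf).obj M ⊗ (ModSite.toPre X.sheaf).obj N

/-- The canonical section `m ⊗ n` of the sheaf tensor product. -/
noncomputable def tmulSec {M N : X.Modules} (U : X.Opens) (m : Γ(M, U)) (n : Γ(N, U)) :
    Γ(tensM M N, U) :=
  ((preAdj X.sheaf).unit.app (tensP M N)).app (op U)
    ((show ((ModSite.toPre X.sheaf).obj M).obj (op U) from m) ⊗ₜ[X.sheaf.obj.obj (op U)]
      (show ((ModSite.toPre X.sheaf).obj N).obj (op U) from n))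

theorem tmulSec_res {M N : X.Modules} {U V : X.Opens} (i : V ⟶ U) (m : Γ(M, U)) (n : Γ(N, U)) :
    (tensM M N).presheaf.map i.op (tmulSec U m n) =
      tmulSec V (M.presheaf.map i.op m) (N.presheaf.map i.op n) :=
  (PresheafOfModules.naturality_apply ((preAdj X.sheaf).unit.app (tensP M N)) i.op _).symm

theorem tmulSec_add_left {M N : X.Modules} (U : X.Opens) (m m' : Γ(M, U)) (n : Γ(N, U)) :
    tmulSec U (m + m') n = tmulSec U m n + tmulSec U m' n :=
  (congrArg _ (TensorProduct.add_tmul _ _ _)).trans
    (map_add (((preAdj X.sheaf).unit.app (tensP M N)).app (op U)).hom _ _)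

theorem tmulSec_add_right {M N : X.Modules} (U : X.Opens) (m : Γ(M, U)) (n n' : Γ(N, U)) :
    tmulSec U m (n + n') = tmulSec U m n + tmulSec U m n' :=
  (congrArg _ (TensorProduct.tmul_add _ _ _)).trans
    (map_add (((preAdj X.sheaf).unit.app (tensP M N)).app (op U)).hom _ _)

theorem tmulSec_smul_left {M N : X.Modules} (U : X.Opens) (r : Γ(X, U)) (m : Γ(M, U)) (n : Γ(N, U)) :
    tmulSec U (r • m) n = r • tmulSec U m n :=
  (congrArg (fun z => ((preAdj X.sheaf).unit.app (tensP M N)).app (op U) z)
    (TensorProduct.smul_tmul' (R := X.sheaf.obj.obj (op U)) (show X.sheaf.obj.obj (op U) from r)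
      (show ((ModSite.toPre X.sheaf).obj M).obj (op U) from m)
      (show ((ModSite.toPre X.sheaf).obj N).obj (op U) from n)).symm).trans
    (map_smul (((preAdj X.sheaf).unit.app (tensP M N)).app (op U)).hom r _)

theorem tmulSec_smul_right {M N : X.Modules} (U : X.Opens) (r : Γ(X, U)) (m : Γ(M, U)) (n : Γ(N, U)) :
    tmulSec U m (r • n) = r • tmulSec U m n :=
  (congrArg (fun z => ((preAdj X.sheaf).unit.app (tensP M N)).app (op U) z)
    (TensorProduct.tmul_smul (R := X.sheaf.obj.obj (op U)) (show X.sheaf.obj.obj (op U) from r)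
      (show ((ModSite.toPre X.sheaf).obj M).obj (op U) from m)
      (show ((ModSite.toPre X.sheaf).obj N).obj (op U) from n))).trans
    (map_smul (((preAdj X.sheaf).unit.app (tensP M N)).app (op U)).hom r _)

variable (M N : X.Modules) (x : X)

/-- The germ of `m ⊗ n`. -/
noncomputable def tgerm (U : X.Opens) (hx : x ∈ U) (m : Γ(M, U)) (n : Γ(N, U)) :
    (tensM M N).presheaf.stalk x :=
  germM (tensM M N) U x hx (tmulSec U m n)

variable {M N x}

theorem tgerm_res {U V : X.Opens} (i : V ⟶ U) (hx : x ∈ V) (m : Γ(M, U)) (n : Γ(N, U)) :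
    tgerm M N x V hx (M.presheaf.map i.op m) (N.presheaf.map i.op n) = tgerm M N x U (leOfHom i hx) m n := by
  unfold tgerm
  rw [← tmulSec_res]
  exact (tensM M N).presheaf.germ_res_apply i x hx _

theorem tgerm_eq {U V : X.Opens} (hU : x ∈ U) (hV : x ∈ V) (m : Γ(M, U)) (n : Γ(N, U))
    (m' : Γ(M, V)) (n' : Γ(N, V)) (hm : germM M U x hU m = germM M V x hV m')
    (hn : germM N U x hU n = germM N V x hV n') : tgerm M N x U hU m n = tgerm M N x V hV m' n' := by
  obtain ⟨W, hW, iU, iV, e⟩ := M.presheaf.germ_eq x hU hV m m' hm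
  obtain ⟨W', hW', iU', iV', e'⟩ := N.presheaf.germ_eq x hU hV n n' hn
  let j : W ⊓ W' ⟶ W := homOfLE inf_le_left
  let j' : W ⊓ W' ⟶ W' := homOfLE inf_le_right
  have e₁ : M.presheaf.map (j ≫ iU).op m = M.presheaf.map (j ≫ iV).op m' := by
    simp only [op_comp, Functor.map_comp, ConcreteCategory.comp_apply, e]
  have e₂ : N.presheaf.map (j ≫ iU).op n = N.presheaf.map (j ≫ iV).op n' := by
    rw [show j ≫ iU = j' ≫ iU' from Subsingleton.elim _ _, show j ≫ iV = j' ≫ iV' from Subsingleton.elim _ _]
    simp only [op_comp, Functor.map_comp, ConcreteCategory.comp_apply, e']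
  rw [← tgerm_res (j ≫ iU) (show x ∈ W ⊓ W' from ⟨hW, hW'⟩) m n, e₁, e₂,
    tgerm_res (j ≫ iV) (show x ∈ W ⊓ W' from ⟨hW, hW'⟩)]

/-- Representatives of two germs on a common neighbourhood. -/
theorem exists_rep (s : M.presheaf.stalk x) (t : N.presheaf.stalk x) :
    ∃ (U : X.Opens) (hx : x ∈ U) (m : Γ(M, U)) (n : Γ(N, U)),
      germM M U x hx m = s ∧ germM N U x hx n = t := by
  obtain ⟨U, hU, m, rfl⟩ := exists_germM_eq M x s
  obtain ⟨V, hV, n, rfl⟩ := exists_germM_eq N x t
  exact ⟨U ⊓ V, ⟨hU, hV⟩, M.presheaf.map (homOfLE inf_le_left).op m,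
    N.presheaf.map (homOfLE inf_le_right).op n, M.presheaf.germ_res_apply (homOfLE inf_le_left) x _ m,
    N.presheaf.germ_res_apply (homOfLE inf_le_right) x _ n⟩

variable (M N x)

/-- The bilinear pairing on stalks. -/
noncomputable def pairing (s : M.presheaf.stalk x) (t : N.presheaf.stalk x) :
    (tensM M N).presheaf.stalk x :=
  tgerm M N x (exists_rep s t).choose (exists_rep s t).choose_spec.choose
    (exists_rep s t).choose_spec.choose_spec.choose (exists_rep s t).choose_spec.choose_spec.choose_spec.choose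

variable {M N x}

theorem pairing_germ (U : X.Opens) (hx : x ∈ U) (m : Γ(M, U)) (n : Γ(N, U)) :
    pairing M N x (germM M U x hx m) (germM N U x hx n) = tgerm M N x U hx m n := by
  obtain ⟨h₁, h₂⟩ := (exists_rep (germM M U x hx m) (germM N U x hx n)).choose_spec.choose_spec.choose_spec.choose_spec
  exact tgerm_eq _ hx _ _ _ _ h₁ h₂

theorem pairing_add_left (s s' : M.presheaf.stalk x) (t : N.presheaf.stalk x) :
    pairing M N x (s + s') t = pairing M N x s t + pairing M N x s' t := by
  obtain ⟨U, hU, m, n, rfl, rfl⟩ := exists_rep s t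
  obtain ⟨V, hV, m', rfl⟩ := exists_germM_eq M x s'
  have hW : x ∈ U ⊓ V := ⟨hU, hV⟩
  rw [show germM M U x hU m = germM M (U ⊓ V) x hW (M.presheaf.map (homOfLE inf_le_left).op m) from
      (M.presheaf.germ_res_apply _ x hW m).symm,
    show germM N U x hU n = germM N (U ⊓ V) x hW (N.presheaf.map (homOfLE inf_le_left).op n) from
      (N.presheaf.germ_res_apply _ x hW n).symm,
    show germM M V x hV m' = germM M (U ⊓ V) x hW (M.presheaf.map (homOfLE inf_le_right).op m') from
      (M.presheaf.germ_res_apply _ x hW m').symm]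
  rw [show ∀ a b, germM M (U ⊓ V) x hW a + germM M (U ⊓ V) x hW b = germM M (U ⊓ V) x hW (a + b) from
      fun a b => (map_add (M.presheaf.germ (U ⊓ V) x hW).hom a b).symm,
    pairing_germ, pairing_germ, pairing_germ]
  unfold tgerm
  rw [tmulSec_add_left]
  exact map_add ((tensM M N).presheaf.germ (U ⊓ V) x hW).hom _ _

theorem pairing_add_right (s : M.presheaf.stalk x) (t t' : N.presheaf.stalk x) :
    pairing M N x s (t + t') = pairing M N x s t + pairing M N x s t' := by
  obtain ⟨U, hU, m, n, rfl, rfl⟩ := exists_rep s t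
  obtain ⟨V, hV, n', rfl⟩ := exists_germM_eq N x t'
  have hW : x ∈ U ⊓ V := ⟨hU, hV⟩
  rw [show germM M U x hU m = germM M (U ⊓ V) x hW (M.presheaf.map (homOfLE inf_le_left).op m) from
      (M.presheaf.germ_res_apply _ x hW m).symm,
    show germM N U x hU n = germM N (U ⊓ V) x hW (N.presheaf.map (homOfLE inf_le_left).op n) from
      (N.presheaf.germ_res_apply _ x hW n).symm,
    show germM N V x hV n' = germM N (U ⊓ V) x hW (N.presheaf.map (homOfLE inf_le_right).op n') from
      (N.presheaf.germ_res_apply _ x hW n').symm]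
  rw [show ∀ a b, germM N (U ⊓ V) x hW a + germM N (U ⊓ V) x hW b = germM N (U ⊓ V) x hW (a + b) from
      fun a b => (map_add (N.presheaf.germ (U ⊓ V) x hW).hom a b).symm,
    pairing_germ, pairing_germ, pairing_germ]
  unfold tgerm
  rw [tmulSec_add_right]
  exact map_add ((tensM M N).presheaf.germ (U ⊓ V) x hW).hom _ _

theorem exists_rep₃ (r : X.presheaf.stalk x) (s : M.presheaf.stalk x) (t : N.presheaf.stalk x) :
    ∃ (U : X.Opens) (hx : x ∈ U) (a : Γ(X, U)) (m : Γ(M, U)) (n : Γ(N, U)),
      X.presheaf.germ U x hx a = r ∧ germM M U x hx m = s ∧ germM N U x hx n = t := by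
  obtain ⟨U, hU, m, n, rfl, rfl⟩ := exists_rep s t
  obtain ⟨V, hV, a, rfl⟩ := X.presheaf.exists_germ_eq (x := x) r
  exact ⟨U ⊓ V, ⟨hU, hV⟩, X.presheaf.map (homOfLE inf_le_right).op a,
    M.presheaf.map (homOfLE inf_le_left).op m, N.presheaf.map (homOfLE inf_le_left).op n,
    X.presheaf.germ_res_apply _ x _ a, M.presheaf.germ_res_apply _ x _ m, N.presheaf.germ_res_apply _ x _ n⟩

theorem pairing_smul_left (r : X.presheaf.stalk x) (s : M.presheaf.stalk x) (t : N.presheaf.stalk x) :
    pairing M N x (r • s) t = r • pairing M N x s t := by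
  obtain ⟨U, hU, a, m, n, rfl, rfl, rfl⟩ := exists_rep₃ r s t
  rw [← germM_smul, pairing_germ, pairing_germ]
  unfold tgerm
  rw [tmulSec_smul_left, germM_smul]

theorem pairing_smul_right (r : X.presheaf.stalk x) (s : M.presheaf.stalk x) (t : N.presheaf.stalk x) :
    pairing M N x s (r • t) = r • pairing M N x s t := by
  obtain ⟨U, hU, a, m, n, rfl, rfl, rfl⟩ := exists_rep₃ r s t
  rw [← germM_smul, pairing_germ, pairing_germ]
  unfold tgerm
  rw [tmulSec_smul_right, germM_smul]

variable (M N x)

/-- The map from the tensor product of the stalks. -/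
noncomputable def fromTensor :
    M.presheaf.stalk x ⊗[X.presheaf.stalk x] N.presheaf.stalk x →ₗ[X.presheaf.stalk x]
      (tensM M N).presheaf.stalk x :=
  TensorProduct.lift (LinearMap.mk₂ _ (pairing M N x) pairing_add_left
    (fun r s t => pairing_smul_left r s t) pairing_add_right (fun r s t => pairing_smul_right r s t))

variable {M N x}

theorem fromTensor_germ (U : X.Opens) (hx : x ∈ U) (m : Γ(M, U)) (n : Γ(N, U)) :
    fromTensor M N x (germM M U x hx m ⊗ₜ germM N U x hx n) = tgerm M N x U hx m n :=
  pairing_germ U hx m n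

/-- Maps out of the stalk of a tensor product are determined by the germs of `m ⊗ n`. -/
theorem hom_ext_tgerm {P : Type u} [AddCommGroup P] [Module (X.presheaf.stalk x) P]
    (φ ψ : (tensM M N).presheaf.stalk x →ₗ[X.presheaf.stalk x] P)
    (h : ∀ (U : X.Opens) (hx : x ∈ U) (m : Γ(M, U)) (n : Γ(N, U)),
      φ (tgerm M N x U hx m n) = ψ (tgerm M N x U hx m n)) : φ = ψ := by
  have key : toSky φ = toSky ψ := by
    refine ((preAdj X.sheaf).homEquiv (tensP M N) (sky x P)).injective ?_
    rw [Adjunction.homEquiv_unit, Adjunction.homEquiv_unit]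
    refine PresheafOfModules.hom_ext fun U => ?_
    refine ModuleCat.hom_ext (LinearMap.ext fun z => ?_)
    induction z using TensorProduct.induction_on with
    | zero => exact (map_zero _).trans (map_zero _).symm
    | tmul m n =>
      funext hU
      exact h U.unop hU.down m n
    | add a b ha hb => exact (map_add _ a b).trans ((congrArg₂ (· + ·) ha hb).trans (map_add _ a b).symm)
  refine LinearMap.ext fun t => ?_
  obtain ⟨U, hx, m, rfl⟩ := exists_germM_eq _ x t
  exact congr_fun (congrArg (fun χ => Scheme.Modules.Hom.app χ U m) key) ⟨hx⟩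

variable (M N x)

/-- The presheaf map to the skyscraper on the tensor product of stalks, on sections. -/
noncomputable def toSkySec (U : X.Opensᵒᵖ) :
    (tensP M N).obj U ⟶ ((ModSite.toPre X.sheaf).obj
      (sky x (M.presheaf.stalk x ⊗[X.presheaf.stalk x] N.presheaf.stalk x))).obj U :=
  letI : Module (X.sheaf.obj.obj U)
      ((skyAb x (M.presheaf.stalk x ⊗[X.presheaf.stalk x] N.presheaf.stalk x)).obj U) :=
    skyModule x _ U
  letI : Module ((X.sheaf.obj ⋙ forget₂ CommRingCat.{u} RingCat.{u}).obj U)
      ((skyAb x (M.presheaf.stalk x ⊗[X.presheaf.stalk x] N.presheaf.stalk x)).obj U) :=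
    skyModule x _ U
  ModuleCat.ofHom (TensorProduct.lift (LinearMap.mk₂ (X.sheaf.obj.obj U)
    (fun (m : ((ModSite.toPre X.sheaf).obj M).obj U) (n : ((ModSite.toPre X.sheaf).obj N).obj U) =>
      show ((ModSite.toPre X.sheaf).obj
          (sky x (M.presheaf.stalk x ⊗[X.presheaf.stalk x] N.presheaf.stalk x))).obj U from
        fun h : PLift (x ∈ U.unop) => germM M U.unop x h.down m ⊗ₜ[X.presheaf.stalk x] germM N U.unop x h.down n)
    (fun m m' n => funext fun h => by
      change germM M U.unop x h.down (show Γ(M, U.unop) from m + m') ⊗ₜ[X.presheaf.stalk x] _ = _ + _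
      rw [show germM M U.unop x h.down (show Γ(M, U.unop) from m + m') =
        germM M U.unop x h.down m + germM M U.unop x h.down m' from
          map_add (M.presheaf.germ U.unop x h.down).hom m m', TensorProduct.add_tmul])
    (fun r m n => funext fun h => by
      change germM M U.unop x h.down ((show Γ(X, U.unop) from r) • (show Γ(M, U.unop) from m)) ⊗ₜ[X.presheaf.stalk x] _ =
        X.presheaf.germ U.unop x h.down (show Γ(X, U.unop) from r) • _
      rw [germM_smul, TensorProduct.smul_tmul'])
    (fun m n n' => funext fun h => by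
      change _ ⊗ₜ[X.presheaf.stalk x] germM N U.unop x h.down (show Γ(N, U.unop) from n + n') = _ + _
      rw [show germM N U.unop x h.down (show Γ(N, U.unop) from n + n') =
        germM N U.unop x h.down n + germM N U.unop x h.down n' from
          map_add (N.presheaf.germ U.unop x h.down).hom n n', TensorProduct.tmul_add])
    (fun r m n => funext fun h => by
      change _ ⊗ₜ[X.presheaf.stalk x] germM N U.unop x h.down ((show Γ(X, U.unop) from r) • (show Γ(N, U.unop) from n)) =
        X.presheaf.germ U.unop x h.down (show Γ(X, U.unop) from r) • _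
      rw [germM_smul, TensorProduct.tmul_smul])))

/-- The presheaf map to the skyscraper on the tensor product of stalks. -/
noncomputable def toSkyPre :
    tensP M N ⟶ (ModSite.toPre X.sheaf).obj
      (sky x (M.presheaf.stalk x ⊗[X.presheaf.stalk x] N.presheaf.stalk x)) where
  app U := toSkySec M N x U
  naturality {U V} i := by
    refine ModuleCat.hom_ext (LinearMap.ext fun z => ?_)
    induction z using TensorProduct.induction_on with
    | zero => exact (map_zero _).trans (map_zero _).symm
    | tmul m n =>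
      funext h
      exact congrArg₂ (fun a b => a ⊗ₜ[X.presheaf.stalk x] b)
        (M.presheaf.germ_res_apply i.unop x h.down m) (N.presheaf.germ_res_apply i.unop x h.down n)
    | add a b ha hb => exact (map_add _ a b).trans ((congrArg₂ (· + ·) ha hb).trans (map_add _ a b).symm)

/-- The map to the tensor product of the stalks. -/
noncomputable def toTensor :
    (tensM M N).presheaf.stalk x →ₗ[X.presheaf.stalk x]
      M.presheaf.stalk x ⊗[X.presheaf.stalk x] N.presheaf.stalk x :=
  ofSky (((preAdj X.sheaf).homEquiv (tensP M N) _).symm (toSkyPre M N x))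

variable {M N x}

theorem toTensor_tgerm (U : X.Opens) (hx : x ∈ U) (m : Γ(M, U)) (n : Γ(N, U)) :
    toTensor M N x (tgerm M N x U hx m n) = germM M U x hx m ⊗ₜ germM N U x hx n := by
  refine (ofSky_germ _ U hx _).trans ?_
  have h := ((preAdj X.sheaf).homEquiv (tensP M N) _).apply_symm_apply (toSkyPre M N x)
  rw [Adjunction.homEquiv_unit] at h
  exact congrArg (fun φ => (show PLift (x ∈ U) → _ from
    PresheafOfModules.Hom.app φ (op U)
      ((show ((ModSite.toPre X.sheaf).obj M).obj (op U) from m) ⊗ₜ[X.sheaf.obj.obj (op U)]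
        (show ((ModSite.toPre X.sheaf).obj N).obj (op U) from n))) ⟨hx⟩) h

variable (M N x)

/-- The stalk of a tensor product is the tensor product of the stalks. -/
noncomputable def stalkTensorEquiv :
    (tensM M N).presheaf.stalk x ≃ₗ[X.presheaf.stalk x]
      M.presheaf.stalk x ⊗[X.presheaf.stalk x] N.presheaf.stalk x :=
  LinearEquiv.ofLinear (toTensor M N x) (fromTensor M N x)
    (TensorProduct.ext' fun s t => by
      obtain ⟨U, hx, m, n, rfl, rfl⟩ := exists_rep s t
      rw [LinearMap.comp_apply, fromTensor_germ, toTensor_tgerm, LinearMap.id_apply])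
    (hom_ext_tgerm _ _ fun U hx m n => by
      rw [LinearMap.comp_apply, toTensor_tgerm, fromTensor_germ, LinearMap.id_apply])

end Groth.Agent.KFlat.StalkTensor
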