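import Groth.Agent.KFlat.LTensor
import Groth.Agent.KFlat.Single
import Groth.Prelude.Def_DTor2

/-!
# The derived tensor product with a module exists and is computed by K-flat complexes
-/

set_option autoImplicit false

universe u

open CategoryTheory CategoryTheory.Limits AlgebraicGeometry

attribute [local instance] HasDerivedCategory.standard

namespace Groth.Agent.KFlat

section Single

variable {A B E : Type*} [Category A] [Category B] [Category E]
  [Preadditive A] [Preadditive B] [Abelian E] [HasZeroObject B]
  (F : A ⥤ B ⥤ E) [F.Additive] [∀ X, (F.obj X).Additive]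
  [∀ (K : CochainComplex A ℤ) (L : CochainComplex B ℤ),
    HomologicalComplex.HasMapBifunctor K L F (ComplexShape.up ℤ)]
  (X : B) [(F.flip.obj X).Additive]

/-- Tensoring with a module concentrated in degree `0`. -/
noncomputable def totSingleCxIso :
    (F.flip.obj X).mapHomologicalComplex (ComplexShape.up ℤ) ≅
      (tot F).flip.obj ((HomologicalComplex.single B (ComplexShape.up ℤ) 0).obj X) :=
  NatIso.ofComponents
    (fun L => HomologicalComplex.Hom.isoOfComponents (fun p => totSingleIso F L 0 X p p (add_zero p))
      fun i j hij => by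
        obtain rfl : i + 1 = j := hij
        exact totSingleIso_hom_d F L 0 X i i (add_zero i))
    fun {L L'} g => by
      ext p : 1
      simp only [HomologicalComplex.comp_f, HomologicalComplex.Hom.isoOfComponents_hom_f, totSingleIso]
      refine Eq.trans ?_ ((Category.assoc _ _ _).trans (congrArg (_ ≫ ·) (totι_map_left g p 0 p (add_zero p)))).symm
      exact ((F.map (g.f p)).naturality_assoc _ _).symm

end Single

namespace LTensorMod

open Groth.Agent.KFlat.Pull

variable {X : Scheme.{u}} (M : X.Modules)

/-- Termwise tensor product with a module. -/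
noncomputable abbrev tmCx : CochainComplex X.Modules ℤ ⥤ CochainComplex X.Modules ℤ :=
  (DCoh.tensorRightMod M).mapHomologicalComplex (ComplexShape.up ℤ)

/-- The functor on complexes to derive. -/
noncomputable abbrev tmQ : CochainComplex X.Modules ℤ ⥤ DCoh.D X := tmCx M ⋙ DerivedCategory.Q

instance additive_tensorBi_flip_obj : ((DCoh.tensorBi (X := X)).flip.obj M).Additive :=
  inferInstanceAs (DCoh.tensorRightMod M).Additive

/-- Tensoring with a module is tensoring with the complex concentrated in degree `0`. -/
noncomputable def tmQIso :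
    tmQ M ≅ DCoh.tensorCxQ ((HomologicalComplex.single X.Modules (ComplexShape.up ℤ) 0).obj M) :=
  Functor.isoWhiskerRight (totSingleCxIso (DCoh.tensorBi (X := X)) M) DerivedCategory.Q

theorem isIso_tmQ_map {K K' : CochainComplex X.Modules ℤ} (s : K ⟶ K') [QuasiIso s]
    (hK : DCoh.IsKFlat K) (hK' : DCoh.IsKFlat K') : IsIso ((tmQ M).map s) := by
  have := LTensor.isIso_tensorCxQ_map ((HomologicalComplex.single X.Modules (ComplexShape.up ℤ) 0).obj M) s hK hK'
  rw [← NatIso.naturality_2 (tmQIso M) s]
  infer_instance

theorem resolves : Deriv.Resolves (HomologicalComplex.quasiIso X.Modules (ComplexShape.up ℤ))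
    (resY X) (resYπ X) (tmQ M) where
  mem K := (HomologicalComplex.mem_quasiIso_iff _).2 (quasiIso_resYπ K)
  inverted K K' s hs := by
    have : QuasiIso s := (HomologicalComplex.mem_quasiIso_iff _).1 hs
    exact @isIso_tmQ_map _ M _ _ ((resY X).map s) (quasiIso_resY_map s) (isKFlat_resY K) (isKFlat_resY K')
  fix K := @isIso_tmQ_map _ M _ _ ((resYπ X).app ((resY X).obj K)) (quasiIso_resYπ _)
    (isKFlat_resY _) (isKFlat_resY _)

/-- `q ⋙ tensorModKh` in terms of complexes. -/
noncomputable def tmKhIso :
    HomotopyCategory.quotient X.Modules (ComplexShape.up ℤ) ⋙ DCoh.tensorModKh M ≅ tmQ M :=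
  (Functor.associator _ _ _).symm ≪≫
    Functor.isoWhiskerRight ((DCoh.tensorRightMod M).mapHomotopyCategoryFactors (ComplexShape.up ℤ))
      DerivedCategory.Qh ≪≫
    Functor.associator _ _ _ ≪≫ Functor.isoWhiskerLeft _ (DerivedCategory.quotientCompQhIso X.Modules)

/-- The derived tensor product with a module, with the properties that characterise it. -/
theorem exists_LTensorMod : ∃ (LF : DCoh.D X ⥤ DCoh.D X) (α : DerivedCategory.Qh ⋙ LF ⟶ DCoh.tensorModKh M),
    LF.IsRightKanExtension α ∧ ∀ P : CochainComplex X.Modules ℤ, DCoh.IsKFlat P →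
      IsIso (α.app ((HomotopyCategory.quotient X.Modules (ComplexShape.up ℤ)).obj P)) := by
  have := Deriv.isRightKanExtension_derived (L := DerivedCategory.Q) (resolves M)
  obtain ⟨α, hα, happ⟩ := Deriv.exists_factor (L := DerivedCategory.Qh) (F := DCoh.tensorModKh M)
    (HomotopyCategory.quotient X.Modules (ComplexShape.up ℤ)) (HomologicalComplex.homotopyEquivalences _ _)
    (DerivedCategory.quotientCompQhIso X.Modules) (tmKhIso M) (Deriv.counit (L := DerivedCategory.Q) (resolves M))
  refine ⟨_, α, hα, fun P hP => ?_⟩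
  have : IsIso ((tmQ M).map ((resYπ X).app P)) :=
    @isIso_tmQ_map _ M _ _ _ (quasiIso_resYπ P) (isKFlat_resY P) hP
  have := Deriv.isIso_counit_app (L := DerivedCategory.Q) (resolves M) P
  rw [happ P]
  infer_instance

theorem hasLTensorMod : DCoh.HasLTensorMod M := by
  obtain ⟨LF, α, hα, -⟩ := exists_LTensorMod M
  have : LF.IsLeftDerivedFunctor α (HomotopyCategory.quasiIso X.Modules (ComplexShape.up ℤ)) := ⟨hα⟩
  exact Functor.HasLeftDerivedFunctor.mk' LF α

/-- The canonical map from the derived to the termwise tensor product with a module. -/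
noncomputable def toTensorMod [DCoh.HasLTensorMod M] :
    DerivedCategory.Q ⋙ DCoh.LTensorMod M ⟶ tmQ M :=
  Functor.whiskerRight (DerivedCategory.quotientCompQhIso X.Modules).inv (DCoh.LTensorMod M) ≫
    (Functor.associator _ _ _).hom ≫
    Functor.whiskerLeft _ ((DCoh.tensorModKh M).totalLeftDerivedCounit DerivedCategory.Qh
      (HomotopyCategory.quasiIso X.Modules (ComplexShape.up ℤ))) ≫ (tmKhIso M).hom

/-- The derived tensor product of a K-flat complex with a module is the termwise one. -/
theorem isIso_toTensorMod [DCoh.HasLTensorMod M] {P : CochainComplex X.Modules ℤ} (hP : DCoh.IsKFlat P) :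
    IsIso ((toTensorMod M).app P) := by
  obtain ⟨LF, α, hα, happ⟩ := exists_LTensorMod M
  let W := HomotopyCategory.quasiIso X.Modules (ComplexShape.up ℤ)
  have : LF.IsLeftDerivedFunctor α W := ⟨hα⟩
  let c := (DCoh.tensorModKh M).totalLeftDerivedCounit DerivedCategory.Qh W
  let e : DCoh.LTensorMod M ≅ LF := Functor.leftDerivedUnique LF (DCoh.LTensorMod M) c α W
  let q := HomotopyCategory.quotient X.Modules (ComplexShape.up ℤ)
  have hc : c.app (q.obj P) = e.hom.app (DerivedCategory.Qh.obj (q.obj P)) ≫ α.app (q.obj P) := by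
    simp [e, c, W, q]
  have := happ P hP
  have : IsIso (c.app (q.obj P)) := by rw [hc]; infer_instance
  have : (toTensorMod M).app P = (DCoh.LTensorMod M).map ((DerivedCategory.quotientCompQhIso X.Modules).inv.app P) ≫
      c.app (q.obj P) ≫ (tmKhIso M).hom.app P := by
    simp [toTensorMod, c, W, q]
  rw [this]
  infer_instance

/-- `⊗^L` with a module on a K-flat representative. -/
noncomputable def ltensorModIso [DCoh.HasLTensorMod M] {P : CochainComplex X.Modules ℤ} (hP : DCoh.IsKFlat P) :
    (DCoh.LTensorMod M).obj (DerivedCategory.Q.obj P) ≅ DerivedCategory.Q.obj ((tmCx M).obj P) :=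
  @asIso _ _ _ _ ((toTensorMod M).app P) (isIso_toTensorMod M hP)

/-- The homology of `P ⊗^L M` for K-flat `P`. -/
noncomputable def hdIso [DCoh.HasLTensorMod M] {P : CochainComplex X.Modules ℤ} (hP : DCoh.IsKFlat P) (i : ℤ) :
    DCoh.HD ((DCoh.LTensorMod M).obj (DerivedCategory.Q.obj P)) i ≅ ((tmCx M).obj P).homology i :=
  (DerivedCategory.homologyFunctor X.Modules i).mapIso (ltensorModIso M hP) ≪≫
    (DerivedCategory.homologyFunctorFactors X.Modules i).app ((tmCx M).obj P)

end LTensorMod

end Groth.Agent.KFlat
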