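import Groth.Agent.KFlat.Pull
import Groth.Prelude.Def_DCoh2
import Mathlib.AlgebraicGeometry.Morphisms.Flat
import Mathlib.Algebra.Homology.ShortComplex.ExactFunctor

/-!
# Inverse image along a flat morphism is exact; restriction to opens is exact
-/

set_option autoImplicit false

universe u

open CategoryTheory CategoryTheory.Limits AlgebraicGeometry

namespace Groth.Agent.KFlat.FlatPull

theorem extendScalars_map_injective {A B : Type u} [CommRing A] [CommRing B] (φ : A →+* B) (hφ : φ.Flat)
    {M N : ModuleCat.{u} A} (g : M ⟶ N) (hg : Function.Injective g.hom) :
    Function.Injective ((ModuleCat.extendScalars φ).map g).hom := by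
  let := φ.toAlgebra
  have : Module.Flat A B := hφ
  exact Module.Flat.lTensor_preserves_injective_linearMap (M := B) g.hom hg

variable {X Y : Scheme.{u}} (f : X ⟶ Y)

/-- Inverse image along a flat morphism preserves monomorphisms. -/
instance preservesMonomorphisms_pullback [Flat f] : (Scheme.Modules.pullback f).PreservesMonomorphisms where
  preserves {M N} g _ := StalkTensor.mono_of_stalk_injective _ fun x => by
    have hn := (Pull.stalkPullIso f x).hom.naturality g
    have h₁ : Function.Injective
        ((ModuleCat.extendScalars (f.stalkMap x).hom).map ((DerSch.stalkFunctor Y (f.base x)).map g)).hom :=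
      extendScalars_map_injective _ (Flat.stalkMap f x) _ (StalkTensor.stalk_map_injective (f.base x) g)
    intro a b h
    apply ((Pull.stalkPullIso f x).app M).toLinearEquiv.injective
    apply h₁
    exact (LinearMap.congr_fun (congrArg ModuleCat.Hom.hom hn) a).symm.trans
      ((congrArg ((Pull.stalkPullIso f x).hom.app N).hom h).trans
        (LinearMap.congr_fun (congrArg ModuleCat.Hom.hom hn) b))

instance preservesHomology_pullback [Flat f] : (Scheme.Modules.pullback f).PreservesHomology :=
  have : PreservesColimitsOfSize.{0, 0} (Scheme.Modules.pullback f) :=
    (Scheme.Modules.pullbackPushforwardAdjunction f).leftAdjoint_preservesColimits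
  Functor.preservesHomology_of_preservesMonos_and_cokernels _

instance preservesFiniteLimits_pullback [Flat f] : PreservesFiniteLimits (Scheme.Modules.pullback f) :=
  Functor.preservesFiniteLimits_of_preservesHomology _

instance preservesFiniteLimits_restrict [IsOpenImmersion f] : PreservesFiniteLimits (Scheme.Modules.restrictFunctor f) :=
  preservesFiniteLimits_of_natIso (Scheme.Modules.restrictFunctorIsoPullback f).symm

instance preservesHomology_restrict [IsOpenImmersion f] : (Scheme.Modules.restrictFunctor f).PreservesHomology :=
  have : PreservesFiniteColimits (Scheme.Modules.restrictFunctor f) := by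
    have : PreservesColimitsOfSize.{0, 0} (Scheme.Modules.restrictFunctor f) :=
      (Scheme.Modules.restrictAdjunction f).leftAdjoint_preservesColimits
    infer_instance
  Functor.preservesHomologyOfExact _

/-- Termwise restriction is termwise inverse image. -/
noncomputable def restrictCxIso (V : X.Opens) : DCoh.restrictCx V ≅ Pull.pullCx V.ι :=
  NatIso.mapHomologicalComplex (Scheme.Modules.restrictFunctorIsoPullback V.ι) (ComplexShape.up ℤ)

end Groth.Agent.KFlat.FlatPull
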