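import Groth.Agent.KFlat.Closure
import Mathlib.Algebra.Homology.Double
import Mathlib.Algebra.Homology.Refinements
import Mathlib.CategoryTheory.Abelian.CommSq
import Mathlib.Algebra.Homology.CommSq
import Mathlib.CategoryTheory.Abelian.GrothendieckAxioms.Colim
import Mathlib.CategoryTheory.SmallObject.Construction

/-!
# One step of the cellular construction of K-flat resolutions
-/

set_option autoImplicit false

universe u

open CategoryTheory CategoryTheory.Limits Opposite

namespace Groth.Agent.KFlat

variable {C : Type u} [SmallCategory C] {J : GrothendieckTopology C} {O : Sheaf J CommRingCat.{u}}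

open ModSite

variable (O)

/-- The sphere: `freeU O U` in degree `n + 1`. -/
noncomputable abbrev sph (i : C × ℤ) : CochainComplex (Mod O) ℤ :=
  (HomologicalComplex.single (Mod O) (ComplexShape.up ℤ) (i.2 + 1)).obj (freeU O i.1)

/-- The disk: `freeU O U` in degrees `n` and `n + 1`, with the identity as differential. -/
noncomputable abbrev disk (i : C × ℤ) : CochainComplex (Mod O) ℤ :=
  HomologicalComplex.double (𝟙 (freeU O i.1)) (c := ComplexShape.up ℤ)
    (show (ComplexShape.up ℤ).Rel i.2 (i.2 + 1) from rfl)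

/-- The inclusion of the sphere in the disk. -/
noncomputable def cell (i : C × ℤ) : sph O i ⟶ disk O i :=
  HomologicalComplex.mkHomFromSingle (HomologicalComplex.doubleXIso₁ _ _ (by omega)).inv
    (fun j hj => (HomologicalComplex.isZero_double_X _ _ j
      (by simp at hj; omega) (by simp at hj; omega)).eq_of_tgt _ _)

/-- The projection of the disk on its degree `n` part. -/
noncomputable def diskπ (i : C × ℤ) :
    disk O i ⟶ (HomologicalComplex.single (Mod O) (ComplexShape.up ℤ) i.2).obj (freeU O i.1) :=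
  HomologicalComplex.mkHomToSingle (HomologicalComplex.doubleXIso₀ _ _).hom
    (fun j hj => (HomologicalComplex.isZero_double_X _ _ j
      (by simp at hj; omega) (by simp at hj; omega)).eq_of_src _ _)

/-- The degree `n` part of the disk. -/
noncomputable def diskX₀ (U : C) (n : ℤ) : (disk O (U, n)).X n ≅ freeU O U :=
  HomologicalComplex.doubleXIso₀ (𝟙 (freeU O U)) (c := ComplexShape.up ℤ)
    (show (ComplexShape.up ℤ).Rel n (n + 1) from rfl)

/-- The degree `n + 1` part of the disk. -/
noncomputable def diskX₁ (U : C) (n : ℤ) : (disk O (U, n)).X (n + 1) ≅ freeU O U :=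
  HomologicalComplex.doubleXIso₁ (𝟙 (freeU O U)) (c := ComplexShape.up ℤ)
    (show (ComplexShape.up ℤ).Rel n (n + 1) from rfl) (by omega)

theorem disk_d (U : C) (n : ℤ) :
    (disk O (U, n)).d n (n + 1) = (diskX₀ O U n).hom ≫ (diskX₁ O U n).inv := by
  refine (HomologicalComplex.double_d _ _ (show n ≠ n + 1 by omega)).trans ?_
  exact congrArg ((diskX₀ O U n).hom ≫ ·) (Category.id_comp _)

theorem cell_f_self (U : C) (n : ℤ) :
    (cell O (U, n)).f (n + 1) = (HomologicalComplex.singleObjXSelf (ComplexShape.up ℤ) (n + 1) (freeU O U)).hom ≫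
      (diskX₁ O U n).inv := by
  simp [cell, diskX₁, HomologicalComplex.mkHomFromSingle_f]

theorem diskπ_f_self (U : C) (n : ℤ) :
    (diskπ O (U, n)).f n = (diskX₀ O U n).hom ≫
      (HomologicalComplex.singleObjXSelf (ComplexShape.up ℤ) n (freeU O U)).inv := by
  simp [diskπ, diskX₀, HomologicalComplex.mkHomToSingle_f]

theorem cell_diskπ (i : C × ℤ) : cell O i ≫ diskπ O i = 0 :=
  HomologicalComplex.from_single_hom_ext
    ((HomologicalComplex.isZero_single_obj_X (ComplexShape.up ℤ) i.2 _ (i.2 + 1) (by omega)).eq_of_tgt _ _)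

/-- The short complex sphere, disk, sphere. -/
noncomputable abbrev cellSeq (i : C × ℤ) : ShortComplex (CochainComplex (Mod O) ℤ) :=
  ShortComplex.mk (cell O i) (diskπ O i) (cell_diskπ O i)

/-- The splitting of `cellSeq` in degree `n + 1`. -/
noncomputable def cellSeqSplitting₁ (U : C) (n : ℤ) :
    (ShortComplex.mk ((cell O (U, n)).f (n + 1)) ((diskπ O (U, n)).f (n + 1))
      (by rw [← HomologicalComplex.comp_f, cell_diskπ, HomologicalComplex.zero_f])).Splitting where
  r := (diskX₁ O U n).hom ≫
    (HomologicalComplex.singleObjXSelf (ComplexShape.up ℤ) (n + 1) (freeU O U)).inv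
  s := 0
  f_r := by simp [cell_f_self]
  s_g := (HomologicalComplex.isZero_single_obj_X (ComplexShape.up ℤ) n (freeU O U) (n + 1)
    (by omega)).eq_of_src _ _
  id := by simp [cell_f_self]

/-- The splitting of `cellSeq` in degree `n`. -/
noncomputable def cellSeqSplitting₀ (U : C) (n : ℤ) :
    (ShortComplex.mk ((cell O (U, n)).f n) ((diskπ O (U, n)).f n)
      (by rw [← HomologicalComplex.comp_f, cell_diskπ, HomologicalComplex.zero_f])).Splitting where
  r := 0
  s := (HomologicalComplex.singleObjXSelf (ComplexShape.up ℤ) n (freeU O U)).hom ≫ (diskX₀ O U n).inv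
  f_r := (HomologicalComplex.isZero_single_obj_X (ComplexShape.up ℤ) (n + 1) (freeU O U) n
    (by omega)).eq_of_src _ _
  s_g := by simp [diskπ_f_self]
  id := by simp [diskπ_f_self]

noncomputable def cellSeqSplitting (i : C × ℤ) (q : ℤ) :
    ((cellSeq O i).map (HomologicalComplex.eval (Mod O) (ComplexShape.up ℤ) q)).Splitting := by
  by_cases h₁ : q = i.2 + 1
  · subst h₁
    exact cellSeqSplitting₁ O i.1 i.2
  · by_cases h₀ : q = i.2
    · subst h₀
      exact cellSeqSplitting₀ O i.1 i.2
    · have hz := HomologicalComplex.isZero_double_X (𝟙 (freeU O i.1)) (c := ComplexShape.up ℤ)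
        (show (ComplexShape.up ℤ).Rel i.2 (i.2 + 1) from rfl) q h₀ h₁
      exact
        { r := 0
          s := 0
          f_r := (HomologicalComplex.isZero_single_obj_X (ComplexShape.up ℤ) (i.2 + 1) (freeU O i.1) q h₁).eq_of_src _ _
          s_g := (HomologicalComplex.isZero_single_obj_X (ComplexShape.up ℤ) i.2 (freeU O i.1) q h₀).eq_of_src _ _
          id := hz.eq_of_src _ _ }

theorem isKFlat_sph (i : C × ℤ) : ModSite.IsKFlat (sph O i) :=
  isKFlat_single (tensorMono_freeU i.1) _

theorem isKFlat_disk (i : C × ℤ) : ModSite.IsKFlat (disk O i) :=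
  isKFlat_middle (S := cellSeq O i) (fun L _ => shortExact_tens (cellSeqSplitting O i) L)
    (isKFlat_sph O i) (isKFlat_single (tensorMono_freeU i.1) _)

variable {O}

theorem tensorMono_of_retract {F G : Mod O} (s : F ⟶ G) (r : G ⟶ F) (h : s ≫ r = 𝟙 F)
    (hG : TensorMono G) : TensorMono F := by
  refine ⟨fun {M N} φ _ => ?_⟩
  change Mono (((tensorBi O).map φ).app F)
  have h₁ : Mono (((tensorBi O).map φ).app G) := hG.preserves φ
  have h₂ : IsSplitMono (((tensorBi O).obj M).map s) :=
    ⟨⟨{ retraction := ((tensorBi O).obj M).map r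
        id := by rw [← Functor.map_comp, h, CategoryTheory.Functor.map_id] }⟩⟩
  exact mono_of_mono_fac (((tensorBi O).map φ).naturality s).symm

theorem tensorMono_of_isZero {F : Mod O} (h : IsZero F) : TensorMono F := by
  refine ⟨fun {M N} φ _ => ?_⟩
  exact ⟨fun _ _ _ => (Functor.map_isZero ((tensorBi O).obj M) h).eq_of_tgt _ _⟩

theorem tensorMono_of_isColimit {K : Type*} [Category K] {D : K ⥤ Mod O} {c : Cocone D} (hc : IsColimit c)
    [HasColimitsOfShape K (Mod O)] [(colim : (K ⥤ Mod O) ⥤ Mod O).PreservesMonomorphisms]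
    [∀ M : Mod O, PreservesColimitsOfShape K ((tensorBi O).obj M)]
    (h : ∀ j, TensorMono (D.obj j)) : TensorMono c.pt := by
  refine ⟨fun {M N} φ _ => ?_⟩
  change Mono (((tensorBi O).map φ).app c.pt)
  have : ∀ j, Mono ((Functor.whiskerLeft D ((tensorBi O).map φ)).app j) := fun j => (h j).preserves φ
  have := NatTrans.mono_of_mono_app (Functor.whiskerLeft D ((tensorBi O).map φ))
  exact colim.map_mono' (Functor.whiskerLeft D ((tensorBi O).map φ))
    (isColimitOfPreserves ((tensorBi O).obj M) hc) (isColimitOfPreserves ((tensorBi O).obj N) hc) _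
    (fun j => ((tensorBi O).map φ).naturality _)

theorem tensorMono_biprod {F G : Mod O} (hF : TensorMono F) (hG : TensorMono G) : TensorMono (F ⊞ G) := by
  let f : ULift.{u} Bool → Mod O := fun b => if b.down then F else G
  have hf : TensorMono (∐ f) := tensorMono_sigma _ fun ⟨b⟩ => by cases b <;> simpa [f]
  exact tensorMono_of_retract
    (biprod.desc (Sigma.ι f ⟨true⟩) (Sigma.ι f ⟨false⟩))
    (Sigma.desc fun b => match b with
      | ⟨true⟩ => (biprod.inl : F ⟶ F ⊞ G)
      | ⟨false⟩ => (biprod.inr : G ⟶ F ⊞ G))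
    (by
      refine biprod.hom_ext' _ _ ?_ ?_ <;>
        rw [← Category.assoc, Category.comp_id]
      · rw [biprod.inl_desc]
        exact Sigma.ι_desc _ _
      · rw [biprod.inr_desc]
        exact Sigma.ι_desc _ _) hf

theorem tensorMono_disk_X (i : C × ℤ) (q : ℤ) : TensorMono ((disk O i).X q) := by
  by_cases h₀ : q = i.2
  · subst h₀
    exact tensorMono_of_retract (HomologicalComplex.doubleXIso₀ _ _).hom
      (HomologicalComplex.doubleXIso₀ _ _).inv (Iso.hom_inv_id _) (tensorMono_freeU i.1)
  · by_cases h₁ : q = i.2 + 1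
    · subst h₁
      exact tensorMono_of_retract (HomologicalComplex.doubleXIso₁ _ _ (by omega)).hom
        (HomologicalComplex.doubleXIso₁ _ _ (by omega)).inv (Iso.hom_inv_id _) (tensorMono_freeU i.1)
    · exact tensorMono_of_isZero (HomologicalComplex.isZero_double_X _ _ q h₀ h₁)

section Step

variable {X S : CochainComplex (Mod O) ℤ} (π : X ⟶ S)

noncomputable def leftRetraction (q : ℤ) : ((sigmaObj (SmallObject.functorObjTgtFamily (cell O) π))).X q ⟶ ((sigmaObj (SmallObject.functorObjSrcFamily (cell O) π))).X q :=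
  (isColimitOfPreserves (HomologicalComplex.eval (Mod O) (ComplexShape.up ℤ) q)
    (coproductIsCoproduct (SmallObject.functorObjTgtFamily (cell O) π))).desc
    { pt := ((sigmaObj (SmallObject.functorObjSrcFamily (cell O) π))).X q
      ι := Discrete.natTrans fun x => (cellSeqSplitting O x.as.i q).r ≫ (Sigma.ι (SmallObject.functorObjSrcFamily (cell O) π) x.as).f q }

theorem leftRetraction_spec (q : ℤ) :
    (SmallObject.functorObjLeft (cell O) π).f q ≫ leftRetraction π q = 𝟙 _ := by
  refine (isColimitOfPreserves (HomologicalComplex.eval (Mod O) (ComplexShape.up ℤ) q)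
    (coproductIsCoproduct (SmallObject.functorObjSrcFamily (cell O) π))).hom_ext fun ⟨x⟩ => ?_
  change (Sigma.ι (SmallObject.functorObjSrcFamily (cell O) π) x).f q ≫ _ = (Sigma.ι (SmallObject.functorObjSrcFamily (cell O) π) x).f q ≫ 𝟙 _
  rw [← Category.assoc, ← HomologicalComplex.comp_f, Category.comp_id]
  have : Sigma.ι (SmallObject.functorObjSrcFamily (cell O) π) x ≫ SmallObject.functorObjLeft (cell O) π = cell O x.i ≫ Sigma.ι (SmallObject.functorObjTgtFamily (cell O) π) x :=
    Sigma.ι_map (SmallObject.functorObjLeftFamily (cell O) π) x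
  rw [this, HomologicalComplex.comp_f, Category.assoc]
  have h := (isColimitOfPreserves (HomologicalComplex.eval (Mod O) (ComplexShape.up ℤ) q)
    (coproductIsCoproduct (SmallObject.functorObjTgtFamily (cell O) π))).fac
    { pt := ((sigmaObj (SmallObject.functorObjSrcFamily (cell O) π))).X q
      ι := Discrete.natTrans fun x => (cellSeqSplitting O x.as.i q).r ≫ (Sigma.ι (SmallObject.functorObjSrcFamily (cell O) π) x.as).f q } ⟨x⟩
  refine (congrArg ((cell O x.i).f q ≫ ·) h).trans ?_
  exact ((Category.assoc _ _ _).symm.trans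
    (congrArg (· ≫ (Sigma.ι (SmallObject.functorObjSrcFamily (cell O) π) x).f q) (cellSeqSplitting O x.i q).f_r)).trans (Category.id_comp _)

/-- The short complex of one step of the construction. -/
noncomputable abbrev stepSeq : ShortComplex (CochainComplex (Mod O) ℤ) :=
  (SmallObject.functorObj_isPushout (cell O) π).shortComplex

noncomputable def stepSeqSplitting (q : ℤ) :
    ((stepSeq π).map (HomologicalComplex.eval (Mod O) (ComplexShape.up ℤ) q)).Splitting := by
  have hex := (SmallObject.functorObj_isPushout (cell O) π).exact_shortComplex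
  have hepi := (SmallObject.functorObj_isPushout (cell O) π).epi_shortComplex_g
  have h1 : ((stepSeq π).map (HomologicalComplex.eval (Mod O) (ComplexShape.up ℤ) q)).Exact :=
    hex.map _
  have h2 : Epi ((stepSeq π).map (HomologicalComplex.eval (Mod O) (ComplexShape.up ℤ) q)).g :=
    inferInstanceAs (Epi ((HomologicalComplex.eval (Mod O) (ComplexShape.up ℤ) q).map (stepSeq π).g))
  refine ShortComplex.Splitting.ofExactOfRetraction _ h1
    (-((biprod.snd : X ⊞ (sigmaObj (SmallObject.functorObjTgtFamily (cell O) π)) ⟶ (sigmaObj (SmallObject.functorObjTgtFamily (cell O) π))).f q ≫ leftRetraction π q)) ?_ h2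
  change (stepSeq π).f.f q ≫ (-((biprod.snd : X ⊞ (sigmaObj (SmallObject.functorObjTgtFamily (cell O) π)) ⟶ (sigmaObj (SmallObject.functorObjTgtFamily (cell O) π))).f q ≫ leftRetraction π q)) =
    𝟙 (((sigmaObj (SmallObject.functorObjSrcFamily (cell O) π))).X q)
  have : (stepSeq π).f ≫ (biprod.snd : X ⊞ (sigmaObj (SmallObject.functorObjTgtFamily (cell O) π)) ⟶ (sigmaObj (SmallObject.functorObjTgtFamily (cell O) π))) = -SmallObject.functorObjLeft (cell O) π := by
    simp [stepSeq, CommSq.shortComplex]
  have hq := congrArg (fun φ => HomologicalComplex.Hom.f φ q) this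
  exact (Preadditive.comp_neg _ _).trans ((congrArg Neg.neg ((Category.assoc _ _ _).symm.trans
    ((congrArg (· ≫ leftRetraction π q) hq).trans (Preadditive.neg_comp _ _)))).trans
      ((neg_neg _).trans (leftRetraction_spec π q)))

theorem isKFlat_step (hX : ModSite.IsKFlat X) : ModSite.IsKFlat (SmallObject.functorObj (cell O) π) := by
  refine isKFlat_right (S := stepSeq π) (fun L _ => shortExact_tens (stepSeqSplitting π) L)
    (isKFlat_sigma _ fun x => isKFlat_sph O x.i) ?_
  exact isKFlat_middle
    (S := ShortComplex.mk (biprod.inl : X ⟶ X ⊞ (sigmaObj (SmallObject.functorObjTgtFamily (cell O) π))) biprod.snd (by simp))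
    (fun L _ => shortExact_tens (fun q => (ShortComplex.Splitting.map
      { r := biprod.fst
        s := biprod.inr
        id := biprod.total } _)) L) hX (isKFlat_sigma _ fun x => isKFlat_disk O x.i)

theorem tensorMono_step (hX : ∀ q, TensorMono (X.X q)) (q : ℤ) : TensorMono ((SmallObject.functorObj (cell O) π).X q) := by
  refine tensorMono_of_retract (stepSeqSplitting π q).s _ (stepSeqSplitting π q).s_g ?_
  refine tensorMono_of_retract (HomologicalComplex.biprodXIso X ((sigmaObj (SmallObject.functorObjTgtFamily (cell O) π))) q).hom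
    (HomologicalComplex.biprodXIso X ((sigmaObj (SmallObject.functorObjTgtFamily (cell O) π))) q).inv (Iso.hom_inv_id _) ?_
  refine tensorMono_biprod (hX q) ?_
  exact tensorMono_of_isColimit
    (isColimitOfPreserves (HomologicalComplex.eval (Mod O) (ComplexShape.up ℤ) q) (coproductIsCoproduct (SmallObject.functorObjTgtFamily (cell O) π)))
    fun x => tensorMono_disk_X x.as.i q

/-- The extension property of one step, up to refinement. -/
theorem exists_cell_lift (n : ℤ) {A : Mod O} (z : A ⟶ X.X (n + 1)) (hz : z ≫ X.d (n + 1) (n + 2) = 0)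
    (y : A ⟶ S.X n) (hy : y ≫ S.d n (n + 1) = z ≫ π.f (n + 1)) :
    ∃ (A' : Mod O) (e : A' ⟶ A) (_ : Epi e) (w : A' ⟶ (SmallObject.functorObj (cell O) π).X n),
      w ≫ (SmallObject.functorObj (cell O) π).d n (n + 1) = e ≫ z ≫ (SmallObject.ιFunctorObj (cell O) π).f (n + 1) ∧
      w ≫ (SmallObject.πFunctorObj (cell O) π).f n = e ≫ y := by
  have key : ∀ (U : C) (g : freeU O U ⟶ A), ∃ w : freeU O U ⟶ (SmallObject.functorObj (cell O) π).X n,
      w ≫ (SmallObject.functorObj (cell O) π).d n (n + 1) = g ≫ z ≫ (SmallObject.ιFunctorObj (cell O) π).f (n + 1) ∧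
      w ≫ (SmallObject.πFunctorObj (cell O) π).f n = g ≫ y := by
    intro U g
    let t : sph O (U, n) ⟶ X := HomologicalComplex.mkHomFromSingle (g ≫ z) (fun j hj => by
      obtain rfl : j = n + 2 := by simp at hj; omega
      rw [Category.assoc, hz, comp_zero])
    let b : disk O (U, n) ⟶ S := HomologicalComplex.mkHomFromDouble _ (by omega) (g ≫ y)
      (g ≫ z ≫ π.f (n + 1)) (by rw [Category.id_comp, Category.assoc, hy]) (fun j hj => by
        obtain rfl : j = n + 2 := by simp at hj; omega
        rw [Category.assoc, Category.assoc, π.comm, ← Category.assoc z, hz, zero_comp, comp_zero])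
    have sq : CommSq t (cell O (U, n)) π b := ⟨HomologicalComplex.from_single_hom_ext (by
      change t.f (n + 1) ≫ π.f (n + 1) = (cell O (U, n)).f (n + 1) ≫ b.f (n + 1)
      simp [t, b, cell_f_self, diskX₁, HomologicalComplex.mkHomFromSingle_f])⟩
    obtain ⟨l, hl₁, hl₂⟩ := SmallObject.ιFunctorObj_extension (cell O) t b sq
    have e₁ := congrArg (fun φ => HomologicalComplex.Hom.f φ (n + 1)) hl₁
    have e₂ := congrArg (fun φ => HomologicalComplex.Hom.f φ n) hl₂
    simp only [HomologicalComplex.comp_f, t, b, cell_f_self, HomologicalComplex.mkHomFromSingle_f,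
      HomologicalComplex.mkHomFromDouble_f₀, Category.assoc] at e₁ e₂
    rw [cancel_epi] at e₁
    refine ⟨(diskX₀ O U n).inv ≫ l.f n, ?_, ?_⟩
    · rw [Category.assoc, l.comm, disk_d, Category.assoc, Iso.inv_hom_id_assoc]
      exact e₁
    · rw [Category.assoc, e₂]
      exact Iso.inv_hom_id_assoc _ _
  choose w hw₁ hw₂ using key
  refine ⟨freeCover O A, freeCoverπ O A, inferInstance, Sigma.desc fun p => w p.1 p.2, ?_, ?_⟩
  · refine Sigma.hom_ext _ _ fun p => ?_
    rw [Sigma.ι_desc_assoc, hw₁, freeCoverπ, Sigma.ι_desc_assoc]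
  · refine Sigma.hom_ext _ _ fun p => ?_
    rw [Sigma.ι_desc_assoc, hw₂, freeCoverπ, Sigma.ι_desc_assoc]

theorem homologyMap_ι_eq_zero (n : ℤ) {A : Mod O} (γ : A ⟶ X.homology n)
    (hγ : γ ≫ HomologicalComplex.homologyMap π n = 0) :
    γ ≫ HomologicalComplex.homologyMap (SmallObject.ιFunctorObj (cell O) π) n = 0 := by
  obtain ⟨m, rfl⟩ : ∃ m, m + 1 = n := ⟨n - 1, by omega⟩
  obtain ⟨A₁, p₁, hp₁, z, hz, hγz⟩ :=
    X.eq_liftCycles_homologyπ_up_to_refinements γ (m + 2) (by simp; omega)
  have h0 : S.liftCycles (z ≫ π.f (m + 1)) (m + 2) (by simp; omega)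
      (by rw [Category.assoc, π.comm, ← Category.assoc, hz, zero_comp]) ≫ S.homologyπ (m + 1) = 0 := by
    have := congrArg (p₁ ≫ ·) hγ
    simp only [comp_zero, ← Category.assoc, hγz] at this
    simpa using this
  rw [HomologicalComplex.liftCycles_comp_homologyπ_eq_zero_iff_up_to_refinements _ m _ _ (by simp)] at h0
  obtain ⟨A₂, p₂, hp₂, y, hy⟩ := h0
  obtain ⟨A₃, p₃, hp₃, w, hw, -⟩ := exists_cell_lift π m (p₂ ≫ z) (by rw [Category.assoc, hz, comp_zero]) y
    (by rw [← hy, Category.assoc])
  rw [← cancel_epi (p₃ ≫ p₂ ≫ p₁), comp_zero]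
  simp only [Category.assoc]
  rw [reassoc_of% hγz, HomologicalComplex.homologyπ_naturality,
    HomologicalComplex.liftCycles_comp_cyclesMap_assoc, HomologicalComplex.comp_liftCycles_assoc,
    HomologicalComplex.comp_liftCycles_assoc,
    HomologicalComplex.liftCycles_comp_homologyπ_eq_zero_iff_up_to_refinements _ m _ _ (by simp)]
  exact ⟨A₃, 𝟙 _, inferInstance, w, by simp [hw]⟩

theorem epi_homologyMap_step (n : ℤ) :
    Epi (HomologicalComplex.homologyMap (SmallObject.πFunctorObj (cell O) π) n) := by
  rw [HomologicalComplex.epi_homologyMap_iff_up_to_refinements _ (n - 1) n (n + 1) (by simp) (by simp)]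
  intro A y hy
  obtain ⟨A', e, he, w, hw, hwπ⟩ := exists_cell_lift π n (0 : A ⟶ X.X (n + 1)) zero_comp y
    (by rw [hy, zero_comp])
  exact ⟨A', e, he, w, by rw [hw, zero_comp, comp_zero], 0, by rw [hwπ, zero_comp, add_zero]⟩

end Step

end Groth.Agent.KFlat
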