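import Groth.Agent.KFlat.Kflat2
import Groth.Agent.KFlat.Cells
import Groth.Agent.DHA.PCohLimit

/-!
# Bounded above flat resolutions on a scheme
-/

set_option autoImplicit false

universe u

open CategoryTheory CategoryTheory.Limits AlgebraicGeometry Groth.Agent.DHA ZeroObject

namespace Groth.Agent.KFlat.FlatRes

open PCohQis PCohCore PCohLimit StalkTensor

variable (X : Scheme.{u})

/-- Flat modules. -/
def flatP : ObjectProperty X.Modules := fun M => FlatMod.IsFlat M

instance : (flatP X).IsClosedUnderIsomorphisms where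
  of_iso {M N} e h := fun x => by
    have : Module.Flat (X.presheaf.stalk x) (M.presheaf.stalk x) := h x
    exact @Module.Flat.of_linearEquiv _ _ _ _ _ _ _ _ (this)
      ((DerSch.stalkFunctor X x).mapIso e).symm.toLinearEquiv

theorem flatP_of_isZero {M : X.Modules} (h : IsZero M) : flatP X M := fun x => by
  have : Subsingleton (M.presheaf.stalk x) :=
    ModuleCat.subsingleton_of_isZero ((DerSch.stalkFunctor X x).map_isZero h)
  exact Module.Flat.of_free

instance : (flatP X).ContainsZero where
  exists_zero := ⟨_, isZero_zero _, flatP_of_isZero X (isZero_zero _)⟩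

theorem flatP_prod (M N : X.Modules) (hM : flatP X M) (hN : flatP X N) : flatP X (M ⨯ N) := by
  have h : FlatMod.IsFlat (M ⊞ N) := flat_of_tensorMono
    (tensorMono_biprod (O := X.sheaf) (tensorMono_of_flat hM) (tensorMono_of_flat hN))
  exact (flatP X).prop_of_iso (biprod.isoProd M N) h

/-- Every module is a quotient of a flat one. -/
theorem finiteType_flatP (M : X.Modules) : PCoh.IsOfFiniteType (flatP X) M :=
  ⟨freeCover X.sheaf M, freeCoverπ X.sheaf M, flat_of_tensorMono (tensorMono_freeCover X.sheaf M),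
    epi_freeCoverπ X.sheaf M⟩

theorem quasiLiftable_flatP : PCoh.IsQuasiLiftable (flatP X) := fun E _ u hu _ => by
  obtain ⟨F', v, hF, hv⟩ := finiteType_flatP X E
  exact ⟨F', v, hF, epi_comp v u⟩

variable {X}

/-- Bounded above flat resolutions. -/
theorem exists_flatRes (F : CochainComplex X.Modules ℤ) (b : ℤ) (hb : ∀ i, b < i → IsZero (F.homology i)) :
    ∃ (P : CochainComplex X.Modules ℤ) (g : P ⟶ F), (∀ i, FlatMod.IsFlat (P.X i)) ∧
      (∀ i, b < i → IsZero (P.X i)) ∧ QuasiIso g := by
  have h0 : IsQisN (0 : (0 : CochainComplex X.Modules ℤ) ⟶ F) (b + 1 - ((0 : ℕ) : ℤ)) := by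
    simpa using isQisN_zero (n := b + 1) fun i hi => hb i (by omega)
  obtain ⟨G, v, g, -, hG, hg, -, hiso⟩ := exists_all (P := flatP X) (flatP_prod X) (quasiLiftable_flatP X)
    (fun _ _ _ _ _ _ _ => finiteType_flatP X _)
    (⟨0, (0 : (0 : CochainComplex X.Modules ℤ) ⟶ F), isStrictPCAll_zero, h0⟩ : St (flatP X) F (b + 1) 0)
  refine ⟨G, g, hG.2, fun i hi => ?_, hg⟩
  have := hiso i (by omega)
  exact (isZero_zero_X i).of_iso (asIso (v.f i)).symm

end Groth.Agent.KFlat.FlatRes
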