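import Mathlib.CategoryTheory.Functor.Derived.LeftDerived
import Mathlib.CategoryTheory.Localization.Predicate

/-!
# Left derived functors from resolution functors
-/

set_option autoImplicit false

universe v₀ v₁ v₂ v₃ u₀ u₁ u₂ u₃

open CategoryTheory

namespace Groth.Agent.KFlat.Deriv

variable {C : Type u₁} {D : Type u₂} {H : Type u₃} [Category.{v₁} C] [Category.{v₂} D] [Category.{v₃} H]
  (L : C ⥤ D) (W : MorphismProperty C) [L.IsLocalization W] (res : C ⥤ C) (ψ : res ⟶ 𝟭 C) (F : C ⥤ H)

/-- A resolution functor adapted to a functor. -/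
structure Resolves : Prop where
  mem : ∀ X, W (ψ.app X)
  inverted : W.IsInvertedBy (res ⋙ F)
  fix : ∀ X, IsIso (F.map (ψ.app (res.obj X)))

variable {L W res ψ F}

/-- The derived functor attached to a resolution functor. -/
noncomputable def derived (h : Resolves W res ψ F) : D ⥤ H := Localization.lift (res ⋙ F) h.inverted L

/-- Its value at `L.obj X`. -/
noncomputable def derivedIso (h : Resolves W res ψ F) : L ⋙ derived (L := L) h ≅ res ⋙ F :=
  Localization.Lifting.iso L W (res ⋙ F) (Localization.lift (res ⋙ F) h.inverted L)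

/-- The counit. -/
noncomputable def counit (h : Resolves W res ψ F) : L ⋙ derived (L := L) h ⟶ F :=
  (derivedIso h).hom ≫ Functor.whiskerRight ψ F ≫ (Functor.leftUnitor F).hom

theorem counit_app (h : Resolves W res ψ F) (X : C) :
    (counit (L := L) h).app X = (derivedIso (L := L) h).hom.app X ≫ F.map (ψ.app X) := by
  simp [counit]

/-- The counit is an isomorphism where `F` inverts the resolution. -/
theorem isIso_counit_app (h : Resolves W res ψ F) (X : C) [IsIso (F.map (ψ.app X))] :
    IsIso ((counit (L := L) h).app X) := by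
  rw [counit_app]
  infer_instance

theorem exists_lift (h : Resolves W res ψ F) (G : D ⥤ H) (β : L ⋙ G ⟶ F) :
    ∃ γ : G ⟶ derived (L := L) h, Functor.whiskerLeft L γ ≫ counit (L := L) h = β := by
  have hi : ∀ X, IsIso (L.map (ψ.app X)) := fun X => Localization.inverts L W _ (h.mem X)
  let τ : L ⋙ G ⟶ L ⋙ derived (L := L) h :=
    { app := fun X => inv (G.map (L.map (ψ.app X))) ≫ β.app (res.obj X) ≫ (derivedIso (L := L) h).inv.app X
      naturality := fun X Y g => by
        have hn := (derivedIso (L := L) h).inv.naturality g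
        have hβ := β.naturality (res.map g)
        dsimp at hn hβ ⊢
        rw [Category.assoc, Category.assoc, ← hn, ← reassoc_of% hβ, IsIso.eq_inv_comp, ← Functor.map_comp_assoc,
          ← Functor.map_comp, show ψ.app X ≫ g = res.map g ≫ ψ.app Y from (ψ.naturality g).symm,
          Functor.map_comp, Functor.map_comp, Category.assoc, IsIso.hom_inv_id_assoc] }
  let γ : G ⟶ derived (L := L) h :=
    Localization.liftNatTrans L W (L ⋙ G) (L ⋙ derived (L := L) h) G (derived (L := L) h) τ
  have hγ : ∀ X, γ.app (L.obj X) = τ.app X := fun X => by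
    simp [γ]
  refine ⟨γ, NatTrans.ext (funext fun X => ?_)⟩
  have hβ := β.naturality (ψ.app X)
  dsimp at hβ
  rw [NatTrans.comp_app, Functor.whiskerLeft_app, hγ, counit_app]
  simp [τ, ← hβ]

theorem lift_unique (h : Resolves W res ψ F) (G : D ⥤ H) (γ γ' : G ⟶ derived (L := L) h)
    (e : Functor.whiskerLeft L γ ≫ counit (L := L) h = Functor.whiskerLeft L γ' ≫ counit (L := L) h) :
    γ = γ' := by
  refine Localization.natTrans_ext L W fun X => ?_
  have hL : IsIso (L.map (ψ.app X)) := Localization.inverts L W _ (h.mem X)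
  have := h.fix X
  have := isIso_counit_app (L := L) h (res.obj X)
  have h0 : γ.app (L.obj (res.obj X)) = γ'.app (L.obj (res.obj X)) := by
    rw [← cancel_mono ((counit (L := L) h).app (res.obj X))]
    exact congrArg (fun a => NatTrans.app a (res.obj X)) e
  refine (cancel_epi (G.map (L.map (ψ.app X)))).1 ?_
  exact (γ.naturality _).trans ((congrArg (· ≫ _) h0).trans (γ'.naturality _).symm)

instance isRightKanExtension_derived (h : Resolves W res ψ F) :
    (derived (L := L) h).IsRightKanExtension (counit (L := L) h) := by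
  refine ⟨⟨Limits.IsTerminal.ofUniqueHom (fun G => CostructuredArrow.homMk
    (exists_lift h G.left G.hom).choose (exists_lift h G.left G.hom).choose_spec) fun G m => ?_⟩⟩
  refine CostructuredArrow.hom_ext _ _ (lift_unique h _ _ _ ?_)
  exact (CostructuredArrow.w m).trans (exists_lift h G.left G.hom).choose_spec.symm

/-- A functor with a map to `F` which is invertible on resolutions is the derived functor. -/
theorem isRightKanExtension_of_isIso (h : Resolves W res ψ F) {LF : D ⥤ H} (α : L ⋙ LF ⟶ F)
    (hα : ∀ X, IsIso (α.app (res.obj X))) : LF.IsRightKanExtension α := by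
  obtain ⟨γ, hγ⟩ := exists_lift h LF α
  have hγi : ∀ X, IsIso (γ.app (L.obj X)) := fun X => by
    have := h.fix X
    have := isIso_counit_app (L := L) h (res.obj X)
    have := hα X
    have e := congrArg (fun a => NatTrans.app a (res.obj X)) hγ
    simp only [NatTrans.comp_app, Functor.whiskerLeft_app] at e
    have h1 : IsIso (γ.app (L.obj (res.obj X)) ≫ (counit (L := L) h).app (res.obj X)) := by
      rw [e]; infer_instance
    have h2 : IsIso (γ.app (L.obj (res.obj X))) := IsIso.of_isIso_comp_right _ ((counit (L := L) h).app (res.obj X))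
    have : IsIso (L.map (ψ.app X)) := Localization.inverts L W _ (h.mem X)
    exact (NatTrans.isIso_app_iff_of_iso γ (asIso (L.map (ψ.app X)))).1 h2
  have : IsIso γ := by
    have : ∀ d, IsIso (γ.app d) := fun d => by
      have := Localization.essSurj L W
      exact (NatTrans.isIso_app_iff_of_iso γ (L.objObjPreimageIso d)).1 (hγi _)
    exact NatIso.isIso_of_isIso_app γ
  refine Functor.isRightKanExtension_of_iso (asIso γ).symm (counit (L := L) h) α ?_
  rw [← hγ, ← Category.assoc, Iso.symm_hom, asIso_inv, ← Functor.whiskerLeft_comp, IsIso.inv_hom_id]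
  simp

section Factor

variable {C₀ : Type u₀} [Category.{v₀} C₀] (q : C₀ ⥤ C) (W₀ : MorphismProperty C₀) [q.IsLocalization W₀]
  {L₀ : C₀ ⥤ D} (e : q ⋙ L ≅ L₀) {F₀ : C₀ ⥤ H} (eF : q ⋙ F ≅ F₀)
  {LF : D ⥤ H} (α₀ : L₀ ⋙ LF ⟶ F₀)

include W₀ in
/-- A derived functor along a composite gives one along the second functor. -/
theorem exists_factor [LF.IsRightKanExtension α₀] :
    ∃ α : L ⋙ LF ⟶ F, LF.IsRightKanExtension α ∧
      ∀ P, α.app (q.obj P) = LF.map (e.hom.app P) ≫ α₀.app P ≫ eF.inv.app P := by
  let τ : q ⋙ L ⋙ LF ⟶ q ⋙ F :=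
    (Functor.associator _ _ _).inv ≫ Functor.whiskerRight e.hom LF ≫ α₀ ≫ eF.inv
  let α : L ⋙ LF ⟶ F := Localization.liftNatTrans q W₀ (q ⋙ L ⋙ LF) (q ⋙ F) (L ⋙ LF) F τ
  have hα : ∀ P, α.app (q.obj P) = LF.map (e.hom.app P) ≫ α₀.app P ≫ eF.inv.app P := fun P => by
    simp [α, τ]
  refine ⟨α, ?_, hα⟩
  have key : ∀ (G : D ⥤ H) (β : L ⋙ G ⟶ F) (γ : G ⟶ LF),
      Functor.whiskerLeft L γ ≫ α = β ↔ Functor.whiskerLeft L₀ γ ≫ α₀ =
        Functor.whiskerRight e.inv G ≫ (Functor.associator _ _ _).hom ≫ Functor.whiskerLeft q β ≫ eF.hom := by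
    intro G β γ
    constructor
    · intro hγ
      subst hγ
      ext P
      simp [hα, ← Functor.map_comp_assoc]
    · intro hγ
      refine Localization.natTrans_ext q W₀ fun P => ?_
      have := congrArg (fun a => NatTrans.app a P) hγ
      dsimp at this ⊢
      rw [hα, ← γ.naturality_assoc]
      rw [← Category.assoc (γ.app _) (α₀.app P), this]
      simp [← Functor.map_comp_assoc]
  refine ⟨⟨Limits.IsTerminal.ofUniqueHom (fun G => CostructuredArrow.homMk
    (LF.liftOfIsRightKanExtension α₀ G.left
      (Functor.whiskerRight e.inv G.left ≫ (Functor.associator _ _ _).hom ≫ Functor.whiskerLeft q G.hom ≫ eF.hom))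
    ((key G.left G.hom _).2 (LF.liftOfIsRightKanExtension_fac α₀ _ _))) fun G m => ?_⟩⟩
  refine CostructuredArrow.hom_ext _ _ ?_
  refine LF.hom_ext_of_isRightKanExtension α₀ _ _ ?_
  exact ((key G.left G.hom _).1 (CostructuredArrow.w m)).trans
    ((key G.left G.hom _).1 ((key G.left G.hom _).2 (LF.liftOfIsRightKanExtension_fac α₀ _ _))).symm

end Factor

end Groth.Agent.KFlat.Deriv
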