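import Groth.Agent.KFlat.Homological
import Mathlib.Algebra.Homology.ShortComplex.Limits
import Mathlib.Algebra.Homology.ShortComplex.FunctorEquivalence
import Mathlib.CategoryTheory.Limits.FunctorCategory.EpiMono
import Mathlib.Algebra.Homology.ShortComplex.PreservesHomology
import Mathlib.Algebra.Homology.HomologicalComplexLimits
import Mathlib.CategoryTheory.Abelian.GrothendieckAxioms.Colim

/-!
# Homology commutes with exact colimits
-/

set_option autoImplicit false

universe w v u

open CategoryTheory CategoryTheory.Limits

namespace Groth.Agent.KFlat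

variable {V : Type u} [Category.{v} V] [Abelian V] {K : Type w} [Category.{w} K]
  [HasColimitsOfShape K V] [HasExactColimitsOfShape K V]

/-- The coprojection to `colim` at `j`, as a natural transformation. -/
noncomputable def evalToColim (j : K) : (evaluation K V).obj j ⟶ (colim : (K ⥤ V) ⥤ V) where
  app F := colimit.ι F j
  naturality _ _ η := (colimit.ι_map η j).symm

theorem preservesColimit_shortComplex_homology (D : K ⥤ ShortComplex V) :
    PreservesColimit D (ShortComplex.homologyFunctor V) where
  preserves {c} hc := by
    let T : (K ⥤ V) ⥤ V := colim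
    let Φ : ShortComplex (K ⥤ V) := (ShortComplex.functorEquivalence K V).inverse.obj D
    let e : Φ.map T ≅ c.pt := ShortComplex.isoMk
      ((colimit.isColimit _).coconePointUniqueUpToIso (isColimitOfPreserves ShortComplex.π₁ hc))
      ((colimit.isColimit _).coconePointUniqueUpToIso (isColimitOfPreserves ShortComplex.π₂ hc))
      ((colimit.isColimit _).coconePointUniqueUpToIso (isColimitOfPreserves ShortComplex.π₃ hc))
      (colimit.hom_ext fun j => by
        dsimp [Φ, T]
        erw [colimit.comp_coconePointUniqueUpToIso_hom_assoc, colimit.ι_map_assoc,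
          colimit.comp_coconePointUniqueUpToIso_hom]
        exact (c.ι.app j).comm₁₂)
      (colimit.hom_ext fun j => by
        dsimp [Φ, T]
        erw [colimit.comp_coconePointUniqueUpToIso_hom_assoc, colimit.ι_map_assoc,
          colimit.comp_coconePointUniqueUpToIso_hom]
        exact (c.ι.app j).comm₂₃)
    let hj (j : K) : (Φ.map ((evaluation K V).obj j)).homology ≅ Φ.homology.obj j :=
      Φ.mapHomologyIso ((evaluation K V).obj j)
    have hcι (j : K) : (c.ι.app j : Φ.map ((evaluation K V).obj j) ⟶ c.pt) =
        Φ.mapNatTrans (evalToColim j) ≫ e.hom := by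
      refine ShortComplex.hom_ext _ _ ?_ ?_ ?_
      · exact ((colimit.isColimit (D ⋙ ShortComplex.π₁)).comp_coconePointUniqueUpToIso_hom
          (isColimitOfPreserves ShortComplex.π₁ hc) j).symm
      · exact ((colimit.isColimit (D ⋙ ShortComplex.π₂)).comp_coconePointUniqueUpToIso_hom
          (isColimitOfPreserves ShortComplex.π₂ hc) j).symm
      · exact ((colimit.isColimit (D ⋙ ShortComplex.π₃)).comp_coconePointUniqueUpToIso_hom
          (isColimitOfPreserves ShortComplex.π₃ hc) j).symm
    have nat {j k : K} (g : j ⟶ k) :
        ShortComplex.homologyMap (D.map g) ≫ (hj k).hom = (hj j).hom ≫ Φ.homology.map g := by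
      have h₁ : ShortComplex.homologyMap (Φ.mapNatTrans ((evaluation K V).map g)) ≫ (hj k).hom =
          (hj j).hom ≫ Φ.homology.map g := by
        rw [ShortComplex.homologyMap_mapNatTrans]
        simp [hj]
      exact h₁
    let α : D ⋙ ShortComplex.homologyFunctor V ≅ Φ.homology :=
      NatIso.ofComponents hj (fun g => nat g)
    let t : colimit Φ.homology ≅ (ShortComplex.homologyFunctor V).obj c.pt :=
      (Φ.mapHomologyIso T).symm ≪≫ (ShortComplex.homologyFunctor V).mapIso e
    refine ⟨IsColimit.ofIsoColimit ((IsColimit.precomposeHomEquiv α _).symm (colimit.isColimit Φ.homology))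
      (Cocone.ext t fun j => ?_)⟩
    have h₂ : ((hj j).hom ≫ colimit.ι Φ.homology j) ≫ t.hom =
        ShortComplex.homologyMap (Φ.mapNatTrans (evalToColim j) ≫ e.hom) := by
      rw [ShortComplex.homologyMap_comp, ShortComplex.homologyMap_mapNatTrans]
      simp [hj, t, evalToColim, T]
      rfl
    exact h₂.trans (congrArg (fun φ => ShortComplex.homologyMap φ) (hcι j).symm)

instance preservesColimitsOfShape_shortComplex_homology :
    PreservesColimitsOfShape K (ShortComplex.homologyFunctor V) :=
  ⟨fun {D} => preservesColimit_shortComplex_homology D⟩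

instance preservesColimitsOfShape_shortComplexFunctor {ι : Type*} (c : ComplexShape ι) (i : ι) :
    PreservesColimitsOfShape K (HomologicalComplex.shortComplexFunctor V c i) where
  preservesColimit {D} := ⟨fun {s} hs => ⟨ShortComplex.isColimitOfIsColimitπ _
    (isColimitOfPreserves (HomologicalComplex.eval V c (c.prev i)) hs)
    (isColimitOfPreserves (HomologicalComplex.eval V c i) hs)
    (isColimitOfPreserves (HomologicalComplex.eval V c (c.next i)) hs)⟩⟩

instance preservesColimitsOfShape_homologyFunctor {ι : Type*} (c : ComplexShape ι) (i : ι) :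
    PreservesColimitsOfShape K (HomologicalComplex.homologyFunctor V c i) :=
  preservesColimitsOfShape_of_natIso (HomologicalComplex.homologyFunctorIso V c i).symm

/-- A map out of a filtered colimit is a monomorphism if kernels at each stage die further on. -/
theorem mono_of_kernels_eventually_zero [IsConnected K] {F : K ⥤ V} {c : Cocone F} (hc : IsColimit c)
    {Y : V} (g : c.pt ⟶ Y)
    (h : ∀ j, ∃ (k : K) (φ : j ⟶ k), ∀ {A : V} (γ : A ⟶ F.obj j),
      γ ≫ c.ι.app j ≫ g = 0 → γ ≫ F.map φ = 0) : Mono g := by
  let η : F ⟶ (Functor.const K).obj Y :=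
    { app := fun j => c.ι.app j ≫ g
      naturality := fun j k φ => by simp }
  let T : (K ⥤ V) ⥤ V := colim
  have h₀ : T.map (kernel.ι η) = 0 := by
    refine colimit.hom_ext fun j => ?_
    obtain ⟨k, φ, hφ⟩ := h j
    have hk : (kernel η).map φ = 0 := by
      have : Mono ((kernel.ι η).app k) := (NatTrans.mono_iff_mono_app _).1 inferInstance k
      rw [← cancel_mono ((kernel.ι η).app k), zero_comp, (kernel.ι η).naturality]
      refine hφ _ ?_
      change ((kernel.ι η) ≫ η).app j = 0
      rw [kernel.condition]
      rfl
    have : colimit.ι (kernel η) j = 0 := by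
      rw [← colimit.w (kernel η) φ, hk, zero_comp]
    simp [T, this]
  have hex : (ShortComplex.mk (kernel.ι η) η (kernel.condition η)).Exact :=
    ShortComplex.exact_of_f_is_kernel _ (kernelIsKernel η)
  have : Mono (T.map η) := (hex.map T).mono_g h₀
  let u : colimit ((Functor.const K).obj Y) ≅ Y :=
    (colimit.isColimit _).coconePointUniqueUpToIso (isColimitConstCocone K Y)
  have fac : g = (hc.coconePointUniqueUpToIso (colimit.isColimit F)).hom ≫ T.map η ≫ u.hom := by
    refine hc.hom_ext fun j => ?_
    rw [IsColimit.comp_coconePointUniqueUpToIso_hom_assoc]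
    change _ = colimit.ι F j ≫ colim.map η ≫ u.hom
    rw [colimit.ι_map_assoc]
    erw [colimit.comp_coconePointUniqueUpToIso_hom]
    simp [η]
  rw [fac]
  infer_instance

end Groth.Agent.KFlat
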