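import Groth.Agent.KFlat.Cells
import Groth.Agent.KFlat.HomologyColim
import Mathlib.CategoryTheory.Functor.OfSequence
import Mathlib.CategoryTheory.Filtered.Connected

/-!
# Functorial K-flat resolutions
-/

set_option autoImplicit false

universe u

open CategoryTheory CategoryTheory.Limits Opposite ZeroObject

namespace Groth.Agent.KFlat

variable {C : Type u} [SmallCategory C] {J : GrothendieckTopology C} (O : Sheaf J CommRingCat.{u})

open ModSite

/-- A functor over the identity, seen as a functor to arrows. -/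
noncomputable def arrowOf {Φ : CochainComplex (Mod O) ℤ ⥤ CochainComplex (Mod O) ℤ}
    (φ : Φ ⟶ 𝟭 _) : CochainComplex (Mod O) ℤ ⥤ Arrow (CochainComplex (Mod O) ℤ) where
  obj G := Arrow.mk (φ.app G)
  map {G G'} f := Arrow.homMk (Φ.map f) f (φ.naturality f)

/-- A stage of the cellular construction. -/
structure Stage where
  /-- the functor -/
  F : CochainComplex (Mod O) ℤ ⥤ CochainComplex (Mod O) ℤ
  /-- the map to the identity -/
  φ : F ⟶ 𝟭 _

variable {O}

/-- The next stage. -/
noncomputable def Stage.next (s : Stage O) : Stage O where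
  F := arrowOf O s.φ ⋙ SmallObject.functor (cell O) ⋙ Arrow.leftFunc
  φ :=
    { app := fun G => SmallObject.πFunctorObj (cell O) (s.φ.app G)
      naturality := fun G G' f =>
        SmallObject.functorMap_π (cell O) (Arrow.homMk (u := s.F.map f) (v := f) (s.φ.naturality f)) }

/-- The inclusion of a stage in the next one. -/
noncomputable def Stage.ι (s : Stage O) : s.F ⟶ s.next.F where
  app G := SmallObject.ιFunctorObj (cell O) (s.φ.app G)
  naturality G G' f :=
    (SmallObject.ιFunctorObj_naturality (cell O)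
      (Arrow.homMk (u := s.F.map f) (v := f) (s.φ.naturality f))).symm

theorem Stage.ι_φ (s : Stage O) : s.ι ≫ s.next.φ = s.φ :=
  NatTrans.ext (funext fun G => SmallObject.ιFunctorObj_πFunctorObj (cell O) (s.φ.app G))

variable (O)

/-- The stages of the construction, starting from zero. -/
noncomputable def stage : ℕ → Stage O
  | 0 => ⟨(Functor.const _).obj 0, 0⟩
  | n + 1 => (stage n).next

/-- The sequence of stages. -/
noncomputable def stageSeq : AsSmall.{u} ℕ ⥤ (CochainComplex (Mod O) ℤ ⥤ CochainComplex (Mod O) ℤ) :=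
  AsSmall.down ⋙ Functor.ofSequence (X := fun n => (stage O n).F) (fun n => (stage O n).ι)

/-- The maps of the stages to the identity. -/
noncomputable def stageSeqToId : stageSeq O ⟶ (Functor.const _).obj (𝟭 _) :=
  Functor.whiskerLeft AsSmall.down
    (NatTrans.ofSequence (G := (Functor.const ℕ).obj (𝟭 (CochainComplex (Mod O) ℤ)))
      (fun n => (stage O n).φ) (fun n => by
        rw [Functor.ofSequence_map_homOfLE_succ]
        exact ((stage O n).ι_φ).trans (Category.comp_id _).symm))

/-- The K-flat resolution functor. -/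
noncomputable def res : CochainComplex (Mod O) ℤ ⥤ CochainComplex (Mod O) ℤ :=
  (stageSeq O).flip ⋙ colim

/-- The cocone over the stages given by the maps to `G`. -/
noncomputable def resCocone (G : CochainComplex (Mod O) ℤ) : Cocone ((stageSeq O).flip.obj G) where
  pt := G
  ι :=
    { app := fun j => ((stageSeqToId O).app j).app G
      naturality := fun j k f => congrArg (fun α => NatTrans.app α G) ((stageSeqToId O).naturality f) }

/-- The map from the K-flat resolution. -/
noncomputable def resπ : res O ⟶ 𝟭 _ where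
  app G := colimit.desc _ (resCocone O G)
  naturality G G' f := colimit.hom_ext fun j => by
    change colimit.ι _ j ≫ colimMap ((stageSeq O).flip.map f) ≫ colimit.desc _ (resCocone O G') =
      colimit.ι _ j ≫ colimit.desc _ (resCocone O G) ≫ f
    rw [ι_colimMap_assoc, colimit.ι_desc, colimit.ι_desc_assoc]
    exact ((stageSeqToId O).app j).naturality f

variable {O}

theorem ι_resπ (G : CochainComplex (Mod O) ℤ) (n : ℕ) :
    colimit.ι ((stageSeq O).flip.obj G) (AsSmall.up.obj n) ≫ (resπ O).app G = (stage O n).φ.app G :=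
  colimit.ι_desc _ _

theorem isKFlat_stage (G : CochainComplex (Mod O) ℤ) : ∀ n, ModSite.IsKFlat ((stage O n).F.obj G)
  | 0 => (isKFlat_iff _).2 fun L _ =>
      acyclic_of_isZero (Functor.map_isZero ((tens O).obj L) (isZero_zero _))
  | n + 1 => isKFlat_step ((stage O n).φ.app G) (isKFlat_stage G n)

theorem tensorMono_stage (G : CochainComplex (Mod O) ℤ) :
    ∀ (n : ℕ) (q : ℤ), TensorMono (((stage O n).F.obj G).X q)
  | 0, q => tensorMono_of_isZero
      (Functor.map_isZero (HomologicalComplex.eval _ _ q) (isZero_zero (CochainComplex (Mod O) ℤ)))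
  | n + 1, q => tensorMono_step ((stage O n).φ.app G) (tensorMono_stage G n) q

theorem isKFlat_res (G : CochainComplex (Mod O) ℤ) : ModSite.IsKFlat ((res O).obj G) :=
  isKFlat_of_isColimit (colimit.isColimit ((stageSeq O).flip.obj G)) fun j => isKFlat_stage G (AsSmall.down.obj j)

theorem tensorMono_res (G : CochainComplex (Mod O) ℤ) (q : ℤ) : TensorMono (((res O).obj G).X q) := by
  have := fun M : Mod O => (inferInstance : PreservesColimitsOfShape (AsSmall.{u} ℕ) ((tensorBi O).obj M))
  exact tensorMono_of_isColimit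
    (isColimitOfPreserves (HomologicalComplex.eval (Mod O) (ComplexShape.up ℤ) q)
      (colimit.isColimit ((stageSeq O).flip.obj G)))
    fun j => tensorMono_stage G (AsSmall.down.obj j) q

theorem mono_homologyMap_resπ (G : CochainComplex (Mod O) ℤ) (n : ℤ) :
    Mono (HomologicalComplex.homologyMap ((resπ O).app G) n) := by
  have : CategoryTheory.IsConnected (AsSmall.{u} ℕ) := IsFiltered.isConnected _
  have : PreservesColimitsOfShape (AsSmall.{u} ℕ)
      (HomologicalComplex.homologyFunctor (Mod O) (ComplexShape.up ℤ) n) :=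
    preservesColimitsOfShape_homologyFunctor _ _
  refine mono_of_kernels_eventually_zero
    (isColimitOfPreserves (HomologicalComplex.homologyFunctor (Mod O) (ComplexShape.up ℤ) n)
      (colimit.isColimit ((stageSeq O).flip.obj G))) _ fun j => ?_
  obtain ⟨m, rfl⟩ : ∃ m, AsSmall.up.obj m = j := ⟨AsSmall.down.obj j, rfl⟩
  refine ⟨AsSmall.up.obj (m + 1), AsSmall.up.map (homOfLE (Nat.le_succ m)), fun {A} γ hγ => ?_⟩
  have h₁ : γ ≫ HomologicalComplex.homologyMap ((stage O m).φ.app G) n = 0 := by
    exact ((congrArg (fun φ => γ ≫ HomologicalComplex.homologyMap φ n) (ι_resπ G m).symm).trans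
      (congrArg (γ ≫ ·) (HomologicalComplex.homologyMap_comp _ _ n))).trans hγ
  have h₂ := homologyMap_ι_eq_zero ((stage O m).φ.app G) n γ h₁
  have h₃ : ((stageSeq O).flip.obj G).map (AsSmall.up.map (homOfLE (Nat.le_succ m))) =
      (stage O m).ι.app G :=
    congrArg (fun α => NatTrans.app α G)
      (Functor.ofSequence_map_homOfLE_succ (X := fun k => (stage O k).F) (fun k => (stage O k).ι) m)
  exact ((congrArg (fun φ => γ ≫ HomologicalComplex.homologyMap φ n) h₃).trans h₂ :)

instance quasiIso_resπ (G : CochainComplex (Mod O) ℤ) : QuasiIso ((resπ O).app G) := by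
  rw [quasiIso_iff]
  intro n
  rw [quasiIsoAt_iff_isIso_homologyMap]
  have := mono_homologyMap_resπ G n
  have h₁ : Epi (HomologicalComplex.homologyMap ((stage O 1).φ.app G) n) :=
    epi_homologyMap_step ((stage O 0).φ.app G) n
  have : Epi (HomologicalComplex.homologyMap ((resπ O).app G) n) :=
    @epi_of_epi_fac _ _ _ _ _ (HomologicalComplex.homologyMap (colimit.ι ((stageSeq O).flip.obj G) (AsSmall.up.obj 1)) n)
      _ _ h₁ ((HomologicalComplex.homologyMap_comp _ _ n).symm.trans
        (congrArg (fun φ => HomologicalComplex.homologyMap φ n) (ι_resπ G 1)))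
  exact isIso_of_mono_of_epi _

theorem epi_resπ_f (G : CochainComplex (Mod O) ℤ) (n : ℤ) : Epi (((resπ O).app G).f n) := by
  have : Epi (((stage O 2).φ.app G).f n) := by
    rw [epi_iff_surjective_up_to_refinements]
    intro A y
    obtain ⟨A₁, e₁, he₁, z, hz, hzπ⟩ := exists_cell_lift ((stage O 0).φ.app G) (n + 1)
      (0 : A ⟶ _) zero_comp (y ≫ G.d n (n + 1)) (by
        rw [Category.assoc]
        erw [G.d_comp_d]
        rw [comp_zero, zero_comp])
    have hz' : z ≫ ((stage O 1).F.obj G).d (n + 1) (n + 2) = 0 := by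
      have : n + 2 = n + 1 + 1 := by omega
      rw [this]
      exact hz.trans ((congrArg (e₁ ≫ ·) zero_comp).trans comp_zero)
    obtain ⟨A₂, e₂, he₂, w, -, hw⟩ := exists_cell_lift ((stage O 1).φ.app G) n z hz' (e₁ ≫ y)
      ((Category.assoc _ _ _).trans hzπ.symm)
    exact ⟨A₂, e₂ ≫ e₁, inferInstance, w, ((Category.assoc _ _ _).trans hw.symm)⟩
  have h := congrArg (fun φ => HomologicalComplex.Hom.f φ n) (ι_resπ (O := O) G 2)
  exact @epi_of_epi_fac _ _ _ _ _ _ _ _ this ((HomologicalComplex.comp_f _ _ n).symm.trans h)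

/-- Tensoring a quasi-isomorphism of K-flat complexes with any complex gives a quasi-isomorphism. -/
theorem quasiIso_tens_map {P Q : CochainComplex (Mod O) ℤ} (α : P ⟶ Q) [QuasiIso α]
    (hP : ModSite.IsKFlat P) (hQ : ModSite.IsKFlat Q) (F : CochainComplex (Mod O) ℤ) :
    QuasiIso (((tens O).obj F).map α) := by
  let ρ : (res O).obj F ⟶ F := (resπ O).app F
  have hρ : QuasiIso ρ := quasiIso_resπ F
  have h₁ : QuasiIso (((tens O).flip.obj P).map ρ) := quasiIso_tens_flip hP ρ
  have h₂ : QuasiIso (((tens O).flip.obj Q).map ρ) := quasiIso_tens_flip hQ ρ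
  have h₃ : QuasiIso (((tens O).obj ((res O).obj F)).map α) := quasiIso_tens_obj (isKFlat_res F) α
  have h₄ : QuasiIso (((tens O).map ρ).app P ≫ ((tens O).obj F).map α) := by
    rw [← ((tens O).map ρ).naturality α]
    exact quasiIso_comp (hφ := h₃) (hφ' := h₂) ..
  exact quasiIso_of_comp_left (((tens O).map ρ).app P) (((tens O).obj F).map α) (hφ := h₁) (hφφ' := h₄)

end Groth.Agent.KFlat
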