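import Groth.Agent.KFlat.PullAcyclic
import Groth.Agent.KFlat.Resolution
import Groth.Agent.KFlat.Deriv
import Groth.Prelude.Def_DDual2
import Mathlib.Algebra.Homology.Localization

/-!
# The derived inverse image exists and is computed by K-flat complexes
-/

set_option autoImplicit false

universe u

open CategoryTheory CategoryTheory.Limits AlgebraicGeometry

attribute [local instance] HasDerivedCategory.standard

namespace Groth.Agent.KFlat.Pull

variable {X Y : Scheme.{u}} (f : X ⟶ Y)

/-- The functor on complexes to derive. -/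
noncomputable abbrev pullQ : CochainComplex Y.Modules ℤ ⥤ DCoh.D X := pullCx f ⋙ DerivedCategory.Q

theorem isIso_pullQ_map {K K' : CochainComplex Y.Modules ℤ} (s : K ⟶ K') [QuasiIso s]
    (hK : DCoh.IsKFlat K) (hK' : DCoh.IsKFlat K') : IsIso ((pullQ f).map s) := by
  have := quasiIso_pullCx f s hK hK'
  exact inferInstanceAs (IsIso (DerivedCategory.Q.map ((pullCx f).map s)))

variable (Y) in
/-- K-flat resolutions on a scheme. -/
noncomputable abbrev resY : CochainComplex Y.Modules ℤ ⥤ CochainComplex Y.Modules ℤ :=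
  Groth.Agent.KFlat.res Y.sheaf

variable (Y) in
/-- The augmentation of K-flat resolutions on a scheme. -/
noncomputable abbrev resYπ : resY Y ⟶ 𝟭 _ := Groth.Agent.KFlat.resπ Y.sheaf

theorem isKFlat_resY (K : CochainComplex Y.Modules ℤ) : DCoh.IsKFlat ((resY Y).obj K) :=
  Groth.Agent.KFlat.isKFlat_res (O := Y.sheaf) K

theorem quasiIso_resYπ (K : CochainComplex Y.Modules ℤ) : QuasiIso ((resYπ Y).app K) :=
  Groth.Agent.KFlat.quasiIso_resπ (O := Y.sheaf) K

theorem quasiIso_resY_map {K K' : CochainComplex Y.Modules ℤ} (s : K ⟶ K') [hs : QuasiIso s] :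
    QuasiIso ((resY Y).map s) := by
  have h₁ : QuasiIso ((resYπ Y).app K) := quasiIso_resYπ K
  have h₂ : QuasiIso ((resYπ Y).app K') := quasiIso_resYπ K'
  have h₃ : QuasiIso ((resY Y).map s ≫ (resYπ Y).app K') := by
    rw [(resYπ Y).naturality s]
    exact quasiIso_comp (hφ := h₁) (hφ' := hs) ..
  exact quasiIso_of_comp_right ((resY Y).map s) ((resYπ Y).app K') (hφ := h₂) (hφφ' := h₃)

theorem resolves : Deriv.Resolves (HomologicalComplex.quasiIso Y.Modules (ComplexShape.up ℤ))
    (resY Y) (resYπ Y) (pullQ f) where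
  mem K := (HomologicalComplex.mem_quasiIso_iff _).2 (quasiIso_resYπ K)
  inverted K K' s hs := by
    have : QuasiIso s := (HomologicalComplex.mem_quasiIso_iff _).1 hs
    exact @isIso_pullQ_map _ _ f _ _ ((resY Y).map s) (quasiIso_resY_map s) (isKFlat_resY K) (isKFlat_resY K')
  fix K := @isIso_pullQ_map _ _ f _ _ ((resYπ Y).app ((resY Y).obj K)) (quasiIso_resYπ _)
    (isKFlat_resY _) (isKFlat_resY _)

/-- `q ⋙ pullKh` in terms of complexes. -/
noncomputable def pullKhIso :
    HomotopyCategory.quotient Y.Modules (ComplexShape.up ℤ) ⋙ DCoh.pullKh f ≅ pullQ f :=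
  (Functor.associator _ _ _).symm ≪≫
    Functor.isoWhiskerRight ((Scheme.Modules.pullback f).mapHomotopyCategoryFactors (ComplexShape.up ℤ))
      DerivedCategory.Qh ≪≫
    Functor.associator _ _ _ ≪≫ Functor.isoWhiskerLeft _ (DerivedCategory.quotientCompQhIso X.Modules)

/-- The derived inverse image with the properties that characterise it. -/
theorem exists_Lpull : ∃ (LF : DCoh.D Y ⥤ DCoh.D X) (α : DerivedCategory.Qh ⋙ LF ⟶ DCoh.pullKh f),
    LF.IsRightKanExtension α ∧ ∀ P : CochainComplex Y.Modules ℤ, DCoh.IsKFlat P →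
      IsIso (α.app ((HomotopyCategory.quotient Y.Modules (ComplexShape.up ℤ)).obj P)) := by
  have := Deriv.isRightKanExtension_derived (L := DerivedCategory.Q) (resolves f)
  obtain ⟨α, hα, happ⟩ := Deriv.exists_factor (L := DerivedCategory.Qh) (F := DCoh.pullKh f)
    (HomotopyCategory.quotient Y.Modules (ComplexShape.up ℤ)) (HomologicalComplex.homotopyEquivalences _ _)
    (DerivedCategory.quotientCompQhIso Y.Modules) (pullKhIso f) (Deriv.counit (L := DerivedCategory.Q) (resolves f))
  refine ⟨_, α, hα, fun P hP => ?_⟩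
  have : IsIso ((pullQ f).map ((resYπ Y).app P)) :=
    @isIso_pullQ_map _ _ f _ _ _ (quasiIso_resYπ P) (isKFlat_resY P) hP
  have := Deriv.isIso_counit_app (L := DerivedCategory.Q) (resolves f) P
  rw [happ P]
  infer_instance

theorem hasLpull : DCoh.HasLpull f := by
  obtain ⟨LF, α, hα, -⟩ := exists_Lpull f
  have : LF.IsLeftDerivedFunctor α (HomotopyCategory.quasiIso Y.Modules (ComplexShape.up ℤ)) := ⟨hα⟩
  exact Functor.HasLeftDerivedFunctor.mk' LF α

/-- The canonical map from the derived to the termwise inverse image. -/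
noncomputable def toPull [DCoh.HasLpull f] :
    DerivedCategory.Q ⋙ DCoh.Lpull f ⟶ pullQ f :=
  Functor.whiskerRight (DerivedCategory.quotientCompQhIso Y.Modules).inv (DCoh.Lpull f) ≫
    (Functor.associator _ _ _).hom ≫
    Functor.whiskerLeft _ ((DCoh.pullKh f).totalLeftDerivedCounit DerivedCategory.Qh
      (HomotopyCategory.quasiIso Y.Modules (ComplexShape.up ℤ))) ≫ (pullKhIso f).hom

/-- The derived inverse image of a K-flat complex is the termwise one. -/
theorem isIso_toPull [DCoh.HasLpull f] {P : CochainComplex Y.Modules ℤ} (hP : DCoh.IsKFlat P) :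
    IsIso ((toPull f).app P) := by
  obtain ⟨LF, α, hα, happ⟩ := exists_Lpull f
  let W := HomotopyCategory.quasiIso Y.Modules (ComplexShape.up ℤ)
  have : LF.IsLeftDerivedFunctor α W := ⟨hα⟩
  let c := (DCoh.pullKh f).totalLeftDerivedCounit DerivedCategory.Qh W
  let e : DCoh.Lpull f ≅ LF := Functor.leftDerivedUnique LF (DCoh.Lpull f) c α W
  let q := HomotopyCategory.quotient Y.Modules (ComplexShape.up ℤ)
  have hc : c.app (q.obj P) = e.hom.app (DerivedCategory.Qh.obj (q.obj P)) ≫ α.app (q.obj P) := by
    simp [e, c, W, q]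
  have := happ P hP
  have : IsIso (c.app (q.obj P)) := by rw [hc]; infer_instance
  have : (toPull f).app P = (DCoh.Lpull f).map ((DerivedCategory.quotientCompQhIso Y.Modules).inv.app P) ≫
      c.app (q.obj P) ≫ (pullKhIso f).hom.app P := by
    simp [toPull, c, W, q]
  rw [this]
  infer_instance

end Groth.Agent.KFlat.Pull
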