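import Groth.Agent.KFlat.Closure
import Mathlib.Algebra.Homology.BifunctorShift
import Mathlib.Algebra.Homology.BifunctorHomotopy
import Mathlib.Algebra.Homology.HomotopyCategory.DegreewiseSplit
import Mathlib.Algebra.Homology.HomotopyCategory.ShiftSequence

/-!
# K-flat complexes, shifts, homotopies and mapping cones
-/

set_option autoImplicit false

universe u

open CategoryTheory CategoryTheory.Limits Opposite

namespace Groth.Agent.KFlat

variable {C : Type u} [SmallCategory C] {J : GrothendieckTopology C} {O : Sheaf J CommRingCat.{u}}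

open ModSite

theorem acyclic_shift {K : CochainComplex (Mod O) ℤ} (h : K.Acyclic) (n : ℤ) :
    HomologicalComplex.Acyclic (K⟦n⟧) := fun i => by
  rw [HomologicalComplex.exactAt_iff_isZero_homology]
  exact IsZero.of_iso ((HomologicalComplex.exactAt_iff_isZero_homology _ _).1 (h (n + i)))
    ((CochainComplex.ShiftSequence.shiftIso (Mod O) n i (n + i) rfl).app K)

/-- The tensor product commutes with shifts in the second variable. -/
noncomputable def tensShiftIso (L K : CochainComplex (Mod O) ℤ) (n : ℤ) :
    ((tens O).obj L).obj (K⟦n⟧) ≅ (((tens O).obj L).obj K)⟦n⟧ :=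
  CochainComplex.mapBifunctorShift₂Iso L K (tensorBi O) n

theorem isKFlat_shift {K : CochainComplex (Mod O) ℤ} (h : ModSite.IsKFlat K) (n : ℤ) :
    ModSite.IsKFlat (K⟦n⟧) :=
  (isKFlat_iff _).2 fun L hL =>
    acyclic_of_iso (tensShiftIso L K n).symm (acyclic_shift ((isKFlat_iff _).1 h L hL) n)

theorem isKFlat_of_shift {K : CochainComplex (Mod O) ℤ} (n : ℤ) (h : ModSite.IsKFlat (K⟦n⟧)) :
    ModSite.IsKFlat K :=
  isKFlat_of_iso ((shiftEquiv (CochainComplex (Mod O) ℤ) n).unitIso.app K).symm (isKFlat_shift h (-n))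

/-- Tensoring preserves homotopies in the second variable. -/
noncomputable def tensHomotopy (L : CochainComplex (Mod O) ℤ) {K K' : CochainComplex (Mod O) ℤ}
    {f g : K ⟶ K'} (h : Homotopy f g) : Homotopy (((tens O).obj L).map f) (((tens O).obj L).map g) :=
  HomologicalComplex.mapBifunctorMapHomotopy₂ (𝟙 L) h (tensorBi O) (ComplexShape.up ℤ)

/-- Tensoring preserves homotopies in the first variable. -/
noncomputable def tensFlipHomotopy (L : CochainComplex (Mod O) ℤ) {K K' : CochainComplex (Mod O) ℤ}
    {f g : K ⟶ K'} (h : Homotopy f g) :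
    Homotopy (((tens O).flip.obj L).map f) (((tens O).flip.obj L).map g) :=
  HomologicalComplex.mapBifunctorMapHomotopy₁ h (𝟙 L) (tensorBi O) (ComplexShape.up ℤ)

theorem isKFlat_of_homotopyEquiv {K K' : CochainComplex (Mod O) ℤ} (e : HomotopyEquiv K K')
    (h : ModSite.IsKFlat K) : ModSite.IsKFlat K' := by
  rw [isKFlat_iff]
  intro L hL
  let e' : HomotopyEquiv (((tens O).obj L).obj K) (((tens O).obj L).obj K') :=
    { hom := ((tens O).obj L).map e.hom
      inv := ((tens O).obj L).map e.inv
      homotopyHomInvId := (Homotopy.ofEq (((tens O).obj L).map_comp e.hom e.inv).symm).trans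
        ((tensHomotopy L e.homotopyHomInvId).trans (Homotopy.ofEq (((tens O).obj L).map_id K)))
      homotopyInvHomId := (Homotopy.ofEq (((tens O).obj L).map_comp e.inv e.hom).symm).trans
        ((tensHomotopy L e.homotopyInvHomId).trans (Homotopy.ofEq (((tens O).obj L).map_id K'))) }
  have : QuasiIso e'.hom := ⟨fun n => e'.quasiIsoAt_hom n⟩
  exact acyclic_of_quasiIso_left e'.hom ((isKFlat_iff _).1 h L hL)

theorem shortExact_tens_mappingCone {K K' : CochainComplex (Mod O) ℤ} (φ : K ⟶ K')
    (L : CochainComplex (Mod O) ℤ) :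
    ((CochainComplex.mappingCone.triangleRotateShortComplex φ).map ((tens O).obj L)).ShortExact :=
  shortExact_tens (CochainComplex.mappingCone.triangleRotateShortComplexSplitting φ) L

/-- Two out of three for mapping cones. -/
theorem isKFlat_mappingCone {K K' : CochainComplex (Mod O) ℤ} (φ : K ⟶ K')
    (h : ModSite.IsKFlat K) (h' : ModSite.IsKFlat K') :
    ModSite.IsKFlat (CochainComplex.mappingCone φ) :=
  isKFlat_middle (S := CochainComplex.mappingCone.triangleRotateShortComplex φ)
    (fun L _ => shortExact_tens_mappingCone φ L) h' (isKFlat_shift h 1)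

theorem isKFlat_target_of_mappingCone {K K' : CochainComplex (Mod O) ℤ} (φ : K ⟶ K')
    (h : ModSite.IsKFlat K) (hc : ModSite.IsKFlat (CochainComplex.mappingCone φ)) :
    ModSite.IsKFlat K' :=
  isKFlat_left (S := CochainComplex.mappingCone.triangleRotateShortComplex φ)
    (fun L _ => shortExact_tens_mappingCone φ L) hc (isKFlat_shift h 1)

theorem isKFlat_source_of_mappingCone {K K' : CochainComplex (Mod O) ℤ} (φ : K ⟶ K')
    (h' : ModSite.IsKFlat K') (hc : ModSite.IsKFlat (CochainComplex.mappingCone φ)) :
    ModSite.IsKFlat K :=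
  isKFlat_of_shift 1 (isKFlat_right (S := CochainComplex.mappingCone.triangleRotateShortComplex φ)
    (fun L _ => shortExact_tens_mappingCone φ L) h' hc)

end Groth.Agent.KFlat
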