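import Groth.Agent.KFlat.LocFree
import Groth.Agent.KFlat.Lpull
import Groth.Agent.KFlat.FlatRes
import Groth.Agent.KFlat.Shift
import Groth.Agent.LFFrame.Basic
import Groth.Agent.DHA.PCohAPI
import Groth.Prelude.Def_DCoh3

/-!
# Perfect and pseudo-coherent objects: local tools and inverse images
-/

set_option autoImplicit false

universe u

open CategoryTheory CategoryTheory.Limits AlgebraicGeometry
open Groth.Agent.KFlat.Pull

attribute [local instance] HasDerivedCategory.standard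

namespace Groth.Agent.KFlat.LocalD

variable {X Y : Scheme.{u}}

theorem flat_of_isFinLocFree {M : X.Modules} (h : FlatMod.IsFinLocFree M) : FlatMod.IsFlat M := fun x => by
  obtain ⟨U, n, e, hx, he⟩ := LFFrame.exists_isFrame_of_isFinLocFree h x
  exact Module.Flat.of_linearEquiv (LinearEquiv.ofBijective _ (he.stalkComb_bijective x hx)).symm

theorem isKFlat_of_isStrictlyPerfect {E : CochainComplex X.Modules ℤ} (h : DCoh.IsStrictlyPerfect E) :
    DCoh.IsKFlat E := by
  obtain ⟨⟨a, b, hv⟩, hE⟩ := h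
  exact isKFlat_of_flat_boundedAbove E b (fun q hq => hv q (Or.inr hq)) fun q => flat_of_isFinLocFree (hE q)

theorem isKFlat_restrict {K : CochainComplex X.Modules ℤ} (h : DCoh.IsKFlat K) (V : X.Opens) :
    DCoh.IsKFlat ((DCoh.restrictCx V).obj K) :=
  Groth.Agent.KFlat.isKFlat_of_iso (O := (V : Scheme.{u}).sheaf) ((FlatPull.restrictCxIso V).app K).symm
    (isKFlat_pullCx V.ι h)

/-- Restriction is well defined on the derived category. -/
noncomputable def restrictQIso (V : X.Opens) {F F' : CochainComplex X.Modules ℤ}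
    (e : DerivedCategory.Q.obj F ≅ DerivedCategory.Q.obj F') :
    DerivedCategory.Q.obj ((DCoh.restrictCx V).obj F) ≅ DerivedCategory.Q.obj ((DCoh.restrictCx V).obj F') :=
  ((Scheme.Modules.restrictFunctor V.ι).mapDerivedCategoryFactors.app F).symm ≪≫
    (DCoh.restrictD V.ι).mapIso e ≪≫ (Scheme.Modules.restrictFunctor V.ι).mapDerivedCategoryFactors.app F'

/-- Restriction of an inverse image, naturally. -/
noncomputable def restrictPullNatIso (f : X ⟶ Y) (U : Y.Opens) (V : X.Opens) (h : V ≤ f ⁻¹ᵁ U) :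
    Scheme.Modules.pullback f ⋙ Scheme.Modules.restrictFunctor V.ι ≅
      Scheme.Modules.restrictFunctor U.ι ⋙ Scheme.Modules.pullback (f.resLE U V h) :=
  Functor.isoWhiskerLeft _ (Scheme.Modules.restrictFunctorIsoPullback V.ι) ≪≫
    Scheme.Modules.pullbackComp V.ι f ≪≫
    Scheme.Modules.pullbackCongr (Scheme.Hom.resLE_comp_ι f h).symm ≪≫
    (Scheme.Modules.pullbackComp (f.resLE U V h) U.ι).symm ≪≫
    Functor.isoWhiskerRight (Scheme.Modules.restrictFunctorIsoPullback U.ι).symm _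

/-- Restriction of an inverse image. -/
noncomputable def restrictPullCxIso (f : X ⟶ Y) (U : Y.Opens) (V : X.Opens) (h : V ≤ f ⁻¹ᵁ U)
    (K : CochainComplex Y.Modules ℤ) :
    (DCoh.restrictCx V).obj ((pullCx f).obj K) ≅ (pullCx (f.resLE U V h)).obj ((DCoh.restrictCx U).obj K) :=
  HomologicalComplex.Hom.isoOfComponents (fun n => (restrictPullNatIso f U V h).app (K.X n))
    fun i j _ => ((restrictPullNatIso f U V h).hom.naturality (K.d i j)).symm

/-- Inverse images of K-flat complexes only depend on the object of the derived category. -/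
noncomputable def pullQIso (f : X ⟶ Y) {A B : CochainComplex Y.Modules ℤ} (hA : DCoh.IsKFlat A)
    (hB : DCoh.IsKFlat B) (e : DerivedCategory.Q.obj A ≅ DerivedCategory.Q.obj B) :
    DerivedCategory.Q.obj ((pullCx f).obj A) ≅ DerivedCategory.Q.obj ((pullCx f).obj B) :=
  have := hasLpull f
  (@asIso _ _ _ _ ((toPull f).app A) (isIso_toPull f hA)).symm ≪≫ (DCoh.Lpull f).mapIso e ≪≫
    @asIso _ _ _ _ ((toPull f).app B) (isIso_toPull f hB)

theorem isPerfect_of_local {K : DCoh.D X} (h : ∀ x : X, ∃ (V : X.Opens) (F : CochainComplex X.Modules ℤ)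
    (E : CochainComplex (V : Scheme.{u}).Modules ℤ), x ∈ V ∧ Nonempty (DCoh.toD X F ≅ K) ∧
      DCoh.IsStrictlyPerfect E ∧
      Nonempty (DerivedCategory.Q.obj ((DCoh.restrictCx V).obj F) ≅ DerivedCategory.Q.obj E)) :
    DCoh.IsPerfect K := fun x => by
  obtain ⟨V, F, E, hx, ⟨e⟩, hE, ⟨e'⟩⟩ := h x
  exact ⟨V, hx, fun F' ⟨eF'⟩ => ⟨E, hE, ⟨restrictQIso V (eF' ≪≫ e.symm) ≪≫ e'⟩⟩⟩

/-- Isomorphism in degrees `> n` and epimorphism in degree `n`. -/
def HQisN {A B : DCoh.D X} (α : A ⟶ B) (n : ℤ) : Prop :=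
  (∀ i : ℤ, n < i → IsIso ((DerivedCategory.homologyFunctor _ i).map α)) ∧
    Epi ((DerivedCategory.homologyFunctor _ n).map α)

theorem HQisN.comp {A B C : DCoh.D X} {α : A ⟶ B} {β : B ⟶ C} {n : ℤ} (h : HQisN α n) (h' : HQisN β n) :
    HQisN (α ≫ β) n := by
  refine ⟨fun i hi => ?_, ?_⟩
  · have := h.1 i hi
    have := h'.1 i hi
    rw [Functor.map_comp]
    infer_instance
  · have := h.2
    have := h'.2
    rw [Functor.map_comp]
    infer_instance

theorem hQisN_of_isIso {A B : DCoh.D X} (α : A ⟶ B) [IsIso α] (n : ℤ) : HQisN α n :=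
  ⟨fun _ _ => inferInstance, inferInstance⟩

theorem hQisN_of_cone {A B : CochainComplex X.Modules ℤ} (ψ : A ⟶ B) (n : ℤ)
    (h : ∀ i, n ≤ i → IsZero ((CochainComplex.mappingCone ψ).homology i)) :
    HQisN (DerivedCategory.Q.map ψ) n := by
  let T := DerivedCategory.Q.mapTriangle.obj (CochainComplex.mappingCone.triangle ψ)
  have hT : T ∈ Pretriangulated.distinguishedTriangles := DerivedCategory.mappingCone_triangle_distinguished ψ
  have hz : ∀ i, n ≤ i → IsZero ((DerivedCategory.homologyFunctor X.Modules i).obj T.obj₃) := fun i hi =>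
    (h i hi).of_iso ((DerivedCategory.homologyFunctorFactors X.Modules i).app _)
  have hepi : ∀ i, n ≤ i → Epi ((DerivedCategory.homologyFunctor X.Modules i).map T.mor₁) := fun i hi =>
    (DerivedCategory.HomologySequence.epi_homologyMap_mor₁_iff T hT i).2 ((hz i hi).eq_of_tgt _ _)
  refine ⟨fun i hi => ?_, hepi n le_rfl⟩
  have := hepi i hi.le
  have : Mono ((DerivedCategory.homologyFunctor X.Modules i).map T.mor₁) :=
    (DerivedCategory.HomologySequence.mono_homologyMap_mor₁_iff T hT (i - 1) i (by omega)).2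
      ((hz (i - 1) (by omega)).eq_of_src _ _)
  exact isIso_of_mono_of_epi ((DerivedCategory.homologyFunctor X.Modules i).map T.mor₁)

theorem isPseudoCoherentD_of_local {K : DCoh.D X} {m : ℤ} (h : ∀ x : X, ∃ (V : X.Opens)
    (F : CochainComplex X.Modules ℤ) (E : CochainComplex (V : Scheme.{u}).Modules ℤ)
    (α : DerivedCategory.Q.obj E ⟶ DerivedCategory.Q.obj ((DCoh.restrictCx V).obj F)),
      x ∈ V ∧ Nonempty (DCoh.toD X F ≅ K) ∧ DCoh.IsStrictlyPerfect E ∧ HQisN α m) :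
    DCoh.IsPseudoCoherentD m K := fun x => by
  obtain ⟨V, F, E, α, hx, ⟨e⟩, hE, hα⟩ := h x
  refine ⟨V, hx, fun F' ⟨eF'⟩ => ?_⟩
  have h' := hα.comp (hQisN_of_isIso (restrictQIso V (e ≪≫ eF'.symm)).hom m)
  exact ⟨E, α ≫ (restrictQIso V (e ≪≫ eF'.symm)).hom, hE, h'.1, h'.2⟩

/-- Inverse images preserve `n`-quasi-isomorphisms of K-flat complexes. -/
theorem hQisN_pull (f : X ⟶ Y) {A B : CochainComplex Y.Modules ℤ} (hA : DCoh.IsKFlat A) (hB : DCoh.IsKFlat B)
    (ψ : A ⟶ B) (n : ℤ) (h : DHA.PCohQis.IsQisN ψ n) : HQisN (DerivedCategory.Q.map ((pullCx f).map ψ)) n := by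
  let C := CochainComplex.mappingCone ψ
  have hC : DCoh.IsKFlat C := Groth.Agent.KFlat.isKFlat_mappingCone (O := Y.sheaf) ψ hA hB
  obtain ⟨G, g, hflat, hz, hg⟩ := FlatRes.exists_flatRes C (n - 1)
    (fun i hi => DHA.PCohQis.isZero_homology_cone h i (by omega))
  have hG : DCoh.IsKFlat G := isKFlat_of_flat_boundedAbove G (n - 1) hz hflat
  have := quasiIso_pullCx f g hG hC
  refine hQisN_of_cone _ n fun i hi => ?_
  have h0 : IsZero (((pullCx f).obj G).homology i) :=
    ShortComplex.isZero_homology_of_isZero_X₂ _ ((Scheme.Modules.pullback f).map_isZero (hz i (by omega)))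
  exact h0.of_iso ((asIso (HomologicalComplex.homologyMap ((pullCx f).map g) i) ≪≫
    (HomologicalComplex.homologyFunctor _ _ i).mapIso
      (CochainComplex.mappingCone.mapHomologicalComplexIso ψ (Scheme.Modules.pullback f))).symm)

theorem isPerfect_Lpull (f : X ⟶ Y) [DCoh.HasLpull f] {E : DCoh.D Y} (hE : DCoh.IsPerfect E) :
    DCoh.IsPerfect ((DCoh.Lpull f).obj E) := by
  let F₀ := DerivedCategory.Q.objPreimage E
  let P := (resY Y).obj F₀
  have hP : DCoh.IsKFlat P := isKFlat_resY F₀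
  have := quasiIso_resYπ F₀
  let eP : DCoh.toD Y P ≅ E :=
    asIso (DerivedCategory.Q.map ((resYπ Y).app F₀)) ≪≫ DerivedCategory.Q.objObjPreimageIso E
  refine isPerfect_of_local fun x => ?_
  obtain ⟨U, hU, hF⟩ := hE (f x)
  obtain ⟨S, hS, ⟨e⟩⟩ := hF P ⟨eP⟩
  exact ⟨f ⁻¹ᵁ U, (pullCx f).obj P, (pullCx (f.resLE U _ le_rfl)).obj S, hU,
    ⟨(@asIso _ _ _ _ ((toPull f).app P) (isIso_toPull f hP)).symm ≪≫ (DCoh.Lpull f).mapIso eP⟩,
    LocFree.isStrictlyPerfect_pullCx _ hS,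
    ⟨DerivedCategory.Q.mapIso (restrictPullCxIso f U _ le_rfl P) ≪≫
      pullQIso _ (isKFlat_restrict hP U) (isKFlat_of_isStrictlyPerfect hS) e⟩⟩

theorem isPseudoCoherentD_Lpull (f : X ⟶ Y) [DCoh.HasLpull f] {E : DCoh.D Y} {m : ℤ}
    (hE : DCoh.IsPseudoCoherentD m E) : DCoh.IsPseudoCoherentD m ((DCoh.Lpull f).obj E) := by
  let F₀ := DerivedCategory.Q.objPreimage E
  let P := (resY Y).obj F₀
  have hP : DCoh.IsKFlat P := isKFlat_resY F₀
  have := quasiIso_resYπ F₀
  let eP : DCoh.toD Y P ≅ E :=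
    asIso (DerivedCategory.Q.map ((resYπ Y).app F₀)) ≪≫ DerivedCategory.Q.objObjPreimageIso E
  refine isPseudoCoherentD_of_local fun x => ?_
  obtain ⟨U, hU, hF⟩ := hE (f x)
  obtain ⟨S, α, hS, hiso, hepi⟩ := hF P ⟨eP⟩
  obtain ⟨Z, s, hs, φ, hφ⟩ := DerivedCategory.right_fac α
  let Q' := (resY (U : Scheme.{u})).obj Z
  let t : Q' ⟶ S := (resYπ (U : Scheme.{u})).app Z ≫ s
  let ψ : Q' ⟶ (DCoh.restrictCx U).obj P := (resYπ (U : Scheme.{u})).app Z ≫ φ
  have hsq : QuasiIso s := (DerivedCategory.isIso_Q_map_iff_quasiIso (C := (U : Scheme.{u}).Modules) s).1 hs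
  have hπ := quasiIso_resYπ Z
  have ht : QuasiIso t := quasiIso_comp (hφ := hπ) (hφ' := hsq) ..
  have hit : IsIso (DerivedCategory.Q.map t) :=
    (DerivedCategory.isIso_Q_map_iff_quasiIso (C := (U : Scheme.{u}).Modules) t).2 ht
  have hQ' : DCoh.IsKFlat Q' := isKFlat_resY Z
  have hψ : DHA.PCohQis.IsQisN ψ m := by
    rw [DHA.PCohAPI.isQisN_iff]
    have e : DerivedCategory.Q.map ψ = DerivedCategory.Q.map t ≫ α := by
      simp [ψ, t, hφ]
    rw [e]
    exact (hQisN_of_isIso (DerivedCategory.Q.map t) m).comp ⟨hiso, hepi⟩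
  let g := f.resLE U (f ⁻¹ᵁ U) le_rfl
  have hgt : IsIso (DerivedCategory.Q.map ((pullCx g).map t)) := by
    have := @quasiIso_pullCx _ _ g _ _ t ht hQ' (isKFlat_of_isStrictlyPerfect hS)
    infer_instance
  let eW := DerivedCategory.Q.mapIso (restrictPullCxIso f U (f ⁻¹ᵁ U) le_rfl P)
  refine ⟨f ⁻¹ᵁ U, (pullCx f).obj P, (pullCx g).obj S,
    inv (DerivedCategory.Q.map ((pullCx g).map t)) ≫ DerivedCategory.Q.map ((pullCx g).map ψ) ≫ eW.inv, hU,
    ⟨(@asIso _ _ _ _ ((toPull f).app P) (isIso_toPull f hP)).symm ≪≫ (DCoh.Lpull f).mapIso eP⟩,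
    LocFree.isStrictlyPerfect_pullCx g hS, ?_⟩
  exact (hQisN_of_isIso _ m).comp ((hQisN_pull g hQ' (isKFlat_restrict hP U) ψ m hψ).comp (hQisN_of_isIso _ m))

end Groth.Agent.KFlat.LocalD
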