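import Groth.Agent.KFlat.PullTensor
import Groth.Agent.KFlat.TensorLocFree
import Groth.Agent.QCohGen.StalkFun
import Groth.Agent.QCoh.Pullback
import Mathlib.CategoryTheory.Adjunction.Mates

/-!
# The projection map `f_* M ⊗ N ⟶ f_* (M ⊗ f^* N)`; it is bijective for closed immersions
-/

set_option autoImplicit false

universe u

open CategoryTheory CategoryTheory.Limits AlgebraicGeometry MonoidalCategory Opposite
open Groth.Agent.KFlat.StalkTensor Groth.Agent.PullStalk.Sky Groth.Agent.PullStalk.Basic
open Groth.Agent.KFlat.PullTensor Groth.Agent.KFlat.StalkCx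

namespace Groth.Agent.KFlat.ProjFormula

variable {X Y : Scheme.{u}} (f : X ⟶ Y)

/-- `N ↦ f_* M ⊗ N`. -/
noncomputable abbrev G₁ (M : X.Modules) : Y.Modules ⥤ Y.Modules :=
  (DCoh.tensorBi (X := Y)).obj ((Scheme.Modules.pushforward f).obj M)

/-- `N ↦ M ⊗ f^* N`. -/
noncomputable abbrev F₂ (M : X.Modules) : Y.Modules ⥤ X.Modules :=
  Scheme.Modules.pullback f ⋙ (DCoh.tensorBi (X := X)).obj M

/-- `N ↦ f_* (M ⊗ f^* N)`. -/
noncomputable abbrev G₂ (M : X.Modules) : Y.Modules ⥤ Y.Modules := F₂ f M ⋙ Scheme.Modules.pushforward f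

local notation "adjM" => Scheme.Modules.pullbackPushforwardAdjunction f

/-- The transpose of the projection map. -/
noncomputable def θt (M : X.Modules) (N : Y.Modules) :
    (Scheme.Modules.pullback f).obj ((G₁ f M).obj N) ⟶ (F₂ f M).obj N :=
  (pullTensorIso f ((Scheme.Modules.pushforward f).obj M) N).hom ≫
    ((DCoh.tensorBi (X := X)).map ((adjM).counit.app M)).app ((Scheme.Modules.pullback f).obj N)

/-- The projection map. -/
noncomputable def θ (M : X.Modules) : G₁ f M ⟶ G₂ f M where
  app N := (adjM).homEquiv _ _ (θt f M N)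
  naturality {N N'} ψ := by
    refine ((adjM).homEquiv_naturality_left _ _).symm.trans (Eq.trans ?_ ((adjM).homEquiv_naturality_right _ _))
    refine congrArg ((adjM).homEquiv _ _) ?_
    unfold θt
    rw [← Category.assoc, pullTensorIso_right, Category.assoc, Category.assoc]
    congr 1
    exact ((DCoh.tensorBi (X := X)).map ((adjM).counit.app M)).naturality _

theorem θ_left {M M' : X.Modules} (φ : M ⟶ M') (N : Y.Modules) :
    ((DCoh.tensorBi (X := Y)).map ((Scheme.Modules.pushforward f).map φ)).app N ≫ (θ f M').app N =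
      (θ f M).app N ≫ (Scheme.Modules.pushforward f).map
        (((DCoh.tensorBi (X := X)).map φ).app ((Scheme.Modules.pullback f).obj N)) := by
  refine ((adjM).homEquiv_naturality_left _ _).symm.trans (Eq.trans ?_ ((adjM).homEquiv_naturality_right _ _))
  refine congrArg ((adjM).homEquiv _ _) ?_
  unfold θt
  rw [← Category.assoc, pullTensorIso_left, Category.assoc, Category.assoc]
  congr 1
  rw [← NatTrans.comp_app, ← NatTrans.comp_app, ← Functor.map_comp, ← Functor.map_comp]
  exact congrArg (fun t => ((DCoh.tensorBi (X := X)).map t).app _) ((adjM).counit.naturality φ)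

variable (Y) in
/-- `A ⊗ O ≅ A`, naturally. -/
noncomputable def unitRight : (DCoh.tensorBi (X := Y)).flip.obj (Coh.structureModule Y) ≅ 𝟭 Y.Modules :=
  (NatIso.ofComponents (F := (DCoh.tensorBi (X := Y)).flip.obj (Coh.structureModule Y))
      (G := ModSite.toPre Y.sheaf ⋙ ModSite.shPre Y.sheaf)
      (fun A => (ModSite.shPre Y.sheaf).mapIso (ρ_ ((ModSite.toPre Y.sheaf).obj A)))
      (fun {A B} a => ((ModSite.shPre Y.sheaf).map_comp _ _).symm.trans
        ((congrArg (ModSite.shPre Y.sheaf).map (rightUnitor_naturality _)).trans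
          ((ModSite.shPre Y.sheaf).map_comp _ _)))) ≪≫
    @asIso _ _ _ _ (preAdj Y.sheaf).counit (Groth.Agent.KFlat.isIso_preAdj_counit Y.sheaf)

/-- `A ⊗ f^* O ≅ A`, naturally. -/
noncomputable def pullUnitRight :
    (DCoh.tensorBi (X := X)).flip.obj ((Scheme.Modules.pullback f).obj (Coh.structureModule Y)) ≅ 𝟭 X.Modules :=
  (DCoh.tensorBi (X := X)).flip.mapIso (Groth.Agent.QCoh.pullbackUnitIso f) ≪≫ unitRight X

/-- The natural automorphism of `f^*` given by compatibility with the tensor product. -/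
noncomputable def σ : Scheme.Modules.pullback f ≅ Scheme.Modules.pullback f :=
  NatIso.ofComponents
    (fun A => (Scheme.Modules.pullback f).mapIso ((unitRight Y).app A).symm ≪≫
      pullTensorIso f A (Coh.structureModule Y) ≪≫ (pullUnitRight f).app _)
    (fun {A B} a => by
      simp only [Iso.trans_hom, Functor.mapIso_hom, Iso.symm_hom, Iso.app_inv, Iso.app_hom, Category.assoc]
      have h₁ := congrArg (Scheme.Modules.pullback f).map ((unitRight Y).inv.naturality a)
      rw [Functor.map_comp, Functor.map_comp] at h₁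
      refine (Category.assoc _ _ _).symm.trans ((congrArg (· ≫ _) h₁).trans ?_)
      refine (Category.assoc _ _ _).trans (congrArg (_ ≫ ·) ?_)
      refine (Category.assoc _ _ _).symm.trans ((congrArg (· ≫ _) (pullTensorIso_left f a _)).trans ?_)
      refine (Category.assoc _ _ _).trans (congrArg (_ ≫ ·) ?_)
      exact (pullUnitRight f).hom.naturality ((Scheme.Modules.pullback f).map a))

theorem θ_unit_eq (M : X.Modules) :
    (unitRight Y).inv.app _ ≫ (θ f M).app (Coh.structureModule Y) ≫
        (Scheme.Modules.pushforward f).map ((pullUnitRight f).hom.app M) =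
      (conjugateEquiv (adjM) (adjM) (σ f).hom).app M := by
  rw [conjugateEquiv_apply_app]
  refine (congrArg (_ ≫ ·) ((adjM).homEquiv_naturality_right _ _).symm).trans ?_
  refine ((adjM).homEquiv_naturality_left _ _).symm.trans ?_
  rw [Adjunction.homEquiv_unit, ← Functor.map_comp]
  refine congrArg (fun t => _ ≫ (Scheme.Modules.pushforward f).map t) ?_
  simp only [σ, θt, NatIso.ofComponents_hom_app, Iso.trans_hom, Functor.mapIso_hom, Iso.symm_hom, Iso.app_inv,
    Iso.app_hom, Category.assoc]
  refine congrArg (_ ≫ ·) (congrArg (_ ≫ ·) ?_)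
  exact (pullUnitRight f).hom.naturality ((adjM).counit.app M)

/-- The projection map is an isomorphism for the structure sheaf. -/
theorem isIso_θ_unit (M : X.Modules) : IsIso ((θ f M).app (Coh.structureModule Y)) := by
  have h : IsIso ((unitRight Y).inv.app _ ≫ (θ f M).app (Coh.structureModule Y) ≫
        (Scheme.Modules.pushforward f).map ((pullUnitRight f).hom.app M)) := by
    rw [θ_unit_eq]
    infer_instance
  have h' := IsIso.of_isIso_comp_left ((unitRight Y).inv.app ((Scheme.Modules.pushforward f).obj M))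
    ((θ f M).app (Coh.structureModule Y) ≫ (Scheme.Modules.pushforward f).map ((pullUnitRight f).hom.app M))
  exact IsIso.of_isIso_comp_right ((θ f M).app (Coh.structureModule Y))
    ((Scheme.Modules.pushforward f).map ((pullUnitRight f).hom.app M))

/-! ### Stalks -/

/-- Bijectivity on the stalk at `y`. -/
abbrev StalkIso {N N' : Y.Modules} (y : Y) (φ : N ⟶ N') : Prop := IsIso ((DerSch.stalkFunctor Y y).map φ)

theorem stalkIso_iff {N N' : Y.Modules} (y : Y) (φ : N ⟶ N') :
    StalkIso y φ ↔ Function.Bijective ((DerSch.stalkFunctor Y y).map φ).hom :=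
  ConcreteCategory.isIso_iff_bijective _

theorem stalkIso_tensor {N N' : Y.Modules} (A : Y.Modules) {y : Y} (φ : N ⟶ N') [StalkIso y φ] :
    StalkIso y (((DCoh.tensorBi (X := Y)).obj A).map φ) := by
  have h := stIso_right y A φ
  rw [← Iso.eq_comp_inv] at h
  have hi : IsIso (((stIso y A N).hom ≫ (DerSch.stalkFunctor Y y).obj A ◁ (DerSch.stalkFunctor Y y).map φ) ≫
      (stIso y A N').inv) := inferInstance
  exact (congrArg (fun t => IsIso t) h.symm).mp hi

theorem stalkIso_pull {N N' : Y.Modules} (x : X) (φ : N ⟶ N') [hφ : StalkIso (f x) φ] :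
    StalkIso x ((Scheme.Modules.pullback f).map φ) := by
  rw [stalkIso_iff]
  let := (f.stalkMap x).hom.toAlgebra
  let := moduleOver f N x
  let := moduleOver f N' x
  have : IsScalarTower (Y.presheaf.stalk (f x)) (X.presheaf.stalk x)
      (((Scheme.Modules.pullback f).obj N).presheaf.stalk x) :=
    IsScalarTower.of_algebraMap_smul fun _ _ => rfl
  have : IsScalarTower (Y.presheaf.stalk (f x)) (X.presheaf.stalk x)
      (((Scheme.Modules.pullback f).obj N').presheaf.stalk x) :=
    IsScalarTower.of_algebraMap_smul fun _ _ => rfl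
  let e := TensorProduct.AlgebraTensorModule.congr (LinearEquiv.refl (X.presheaf.stalk x) (X.presheaf.stalk x))
    (LinearEquiv.ofBijective ((DerSch.stalkFunctor Y (f x)).map φ).hom ((stalkIso_iff (f x) φ).1 hφ))
  let eN := (isBaseChange_unitStalk f N x).equiv
  let eN' := (isBaseChange_unitStalk f N' x).equiv
  let c : ((Scheme.Modules.pullback f).obj N).presheaf.stalk x →ₗ[X.presheaf.stalk x]
      ((Scheme.Modules.pullback f).obj N').presheaf.stalk x :=
    ((DerSch.stalkFunctor X x).map ((Scheme.Modules.pullback f).map φ)).hom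
  have key : ∀ z, c (eN z) = eN' (e z) := by
    intro z
    induction z using TensorProduct.induction_on with
    | zero => exact (congrArg c (map_zero eN)).trans ((map_zero c).trans ((congrArg eN' (map_zero e)).trans (map_zero eN')).symm)
    | tmul a s =>
      obtain ⟨U, hx, m, rfl⟩ := exists_germM_eq N (f x) s
      change c (a • unitStalkHom f N x (germM N U (f x) hx m)) =
        a • unitStalkHom f N' x (((DerSch.stalkFunctor Y (f x)).map φ).hom (germM N U (f x) hx m))
      rw [map_smul]
      congr 1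
      rw [unitStalkHom_germ]
      refine (DerSch.stalkFunctor_map_germ x _ (f ⁻¹ᵁ U) hx _).trans ?_
      refine Eq.trans ?_ (congrArg (unitStalkHom f N' x) (DerSch.stalkFunctor_map_germ (f x) φ U hx m)).symm
      refine Eq.trans ?_ (unitStalkHom_germ f N' x U hx (φ.app U m)).symm
      exact congrArg (germM _ (f ⁻¹ᵁ U) x hx) (ηS_natural f φ U m)
    | add z z' h h' =>
      exact (congrArg c (map_add eN z z')).trans ((map_add c _ _).trans ((congrArg₂ (· + ·) h h').trans
        ((map_add eN' _ _).symm.trans (congrArg eN' (map_add e z z')).symm)))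
  change Function.Bijective c
  rw [show (c : _ → _) = eN' ∘ e ∘ eN.symm from funext fun p => by
    simp only [Function.comp_apply]; rw [← key, eN.apply_symm_apply]]
  exact eN'.bijective.comp (e.bijective.comp eN.symm.bijective)

theorem stalkIso_push [IsClosedImmersion f] {M M' : X.Modules} (x : X) (ψ : M ⟶ M') [hψ : StalkIso x ψ] :
    StalkIso (f x) ((Scheme.Modules.pushforward f).map ψ) := by
  rw [stalkIso_iff]
  let sp := fun (A : X.Modules) => ⇑(TopCat.Presheaf.stalkPushforward AddCommGrpCat.{u} f.base A.presheaf x).hom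
  have hb : ∀ A, Function.Bijective (sp A) := fun A =>
    ClUnit.stalkPushforward_bijective f A f.isClosedEmbedding.isInducing x
  have hc : sp M' ∘ ⇑((DerSch.stalkFunctor Y (f x)).map ((Scheme.Modules.pushforward f).map ψ)).hom =
      ⇑((DerSch.stalkFunctor X x).map ψ).hom ∘ sp M := funext fun t => by
    obtain ⟨U, hx, m, rfl⟩ := exists_germM_eq ((Scheme.Modules.pushforward f).obj M) (f x) t
    refine (congrArg (sp M') (DerSch.stalkFunctor_map_germ (f x) _ U hx m)).trans ?_
    refine (TopCat.Presheaf.stalkPushforward_germ_apply _ _ _ _ _ _ _).trans ?_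
    refine Eq.trans ?_ (congrArg ((DerSch.stalkFunctor X x).map ψ).hom
      (TopCat.Presheaf.stalkPushforward_germ_apply _ _ _ _ _ _ _)).symm
    exact (DerSch.stalkFunctor_map_germ x ψ (f ⁻¹ᵁ U) hx m).symm
  have h2 : Function.Bijective (sp M' ∘ ⇑((DerSch.stalkFunctor Y (f x)).map ((Scheme.Modules.pushforward f).map ψ)).hom) := by
    rw [hc]
    exact ((stalkIso_iff x ψ).1 hψ).comp (hb M)
  exact ((hb M').of_comp_iff' _).1 h2

theorem isZero_stalk_push [IsClosedImmersion f] (M : X.Modules) {y : Y} (hy : y ∉ Set.range f) :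
    IsZero ((DerSch.stalkFunctor Y y).obj ((Scheme.Modules.pushforward f).obj M)) := by
  have h0 := ClUnit.subsingleton_stalk_pushforward f M y
    ⟨(Set.range f)ᶜ, f.isClosedEmbedding.isClosed_range.isOpen_compl⟩ hy
    (le_bot_iff.mp fun z hz => hz ⟨z, rfl⟩)
  exact @ModuleCat.isZero_of_subsingleton _ _ _ h0

theorem subsingleton_stalk_pull (N : Y.Modules) (x : X)
    (h : IsZero ((DerSch.stalkFunctor Y (f x)).obj N)) :
    IsZero ((DerSch.stalkFunctor X x).obj ((Scheme.Modules.pullback f).obj N)) := by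
  let := (f.stalkMap x).hom.toAlgebra
  let := moduleOver f N x
  have : IsScalarTower (Y.presheaf.stalk (f x)) (X.presheaf.stalk x)
      (((Scheme.Modules.pullback f).obj N).presheaf.stalk x) :=
    IsScalarTower.of_algebraMap_smul fun _ _ => rfl
  have : Subsingleton (N.presheaf.stalk (f x)) := ModuleCat.subsingleton_of_isZero h
  exact @ModuleCat.isZero_of_subsingleton _ _ _
    (isBaseChange_unitStalk f N x).equiv.symm.injective.subsingleton

theorem isZero_stalk_tensor {A : Y.Modules} (B : Y.Modules) {y : Y}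
    (h : IsZero ((DerSch.stalkFunctor Y y).obj A) ∨ IsZero ((DerSch.stalkFunctor Y y).obj B)) :
    IsZero ((DerSch.stalkFunctor Y y).obj (((DCoh.tensorBi (X := Y)).obj A).obj B)) := by
  refine IsZero.of_iso ?_ (stIso y A B)
  rcases h with h | h
  · exact (tensorRight ((DerSch.stalkFunctor Y y).obj B)).map_isZero h
  · exact (tensorLeft ((DerSch.stalkFunctor Y y).obj A)).map_isZero h

/-- The free module on `V`. -/
noncomputable def fU (V : Y.Opens) : Y.Modules := Groth.Agent.KFlat.freeU Y.sheaf V

/-- The generator of the free module on `V`. -/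
noncomputable def gen (V : Y.Opens) : Γ(fU V, V) :=
  Groth.Agent.KFlat.freeUEquiv (O := Y.sheaf) V (fU V) (𝟙 _)

theorem app_gen (V : Y.Opens) {N : Y.Modules} (g : (fU V) ⟶ N) :
    g.app V (gen V) = Groth.Agent.KFlat.freeUEquiv (O := Y.sheaf) V N g := by
  have h := Groth.Agent.KFlat.freeUEquiv_comp (O := Y.sheaf) V (𝟙 _) g
  rw [Category.id_comp] at h
  exact h.symm

/-- The map `O_V`-generator `↦ 1`. -/
noncomputable def toUnit (V : Y.Opens) : (fU V) ⟶ Coh.structureModule Y :=
  (Groth.Agent.KFlat.freeUEquiv (O := Y.sheaf) V (Coh.structureModule Y)).symm (1 : Γ(Y, V))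

theorem isZero_stalk_freeU (V : Y.Opens) {y : Y} (hy : y ∉ V) :
    IsZero ((DerSch.stalkFunctor Y y).obj (fU V)) := by
  rw [IsZero.iff_id_eq_zero]
  refine ((stalkSkyAdj y).homEquiv _ _).injective ?_
  refine (Groth.Agent.KFlat.freeUEquiv (O := Y.sheaf) V _).injective ?_
  funext h
  exact absurd h.down hy

theorem stalk_hom_ext_gen {V : Y.Opens} {y : Y} (hy : y ∈ V) {Z : ModuleCat.{u} (Y.presheaf.stalk y)}
    (g g' : (DerSch.stalkFunctor Y y).obj (fU V) ⟶ Z)
    (h : g.hom (germM _ V y hy (gen V)) = g'.hom (germM _ V y hy (gen V))) : g = g' := by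
  refine ((stalkSkyAdj y).homEquiv _ _).injective ?_
  refine (Groth.Agent.KFlat.freeUEquiv (O := Y.sheaf) V _).injective ?_
  refine (app_gen V _).symm.trans (Eq.trans ?_ (app_gen V _))
  funext hh
  rw [stalkSkyAdj, Adjunction.mkOfHomEquiv_homEquiv]
  exact (toSky_app g.hom V (gen V) hh).trans (h.trans (toSky_app g'.hom V (gen V) hh).symm)

theorem stalkIso_toUnit (V : Y.Opens) {y : Y} (hy : y ∈ V) : StalkIso y (toUnit V) := by
  rw [stalkIso_iff]
  let S := Y.presheaf.stalk y
  let s := germM (fU V) V y hy (gen V)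
  let c : (fU V).presheaf.stalk y →ₗ[S]
      (Coh.structureModule Y).presheaf.stalk y := ((DerSch.stalkFunctor Y y).map (toUnit V)).hom
  have hs : c s = germM (Coh.structureModule Y) V y hy (1 : Γ(Y, V)) :=
    (DerSch.stalkFunctor_map_germ y (toUnit V) V hy (gen V)).trans
      (congrArg (germM (Coh.structureModule Y) V y hy)
        ((app_gen V (toUnit V)).trans ((Groth.Agent.KFlat.freeUEquiv (O := Y.sheaf) V _).apply_symm_apply _)))
  have hsmul : ∀ (U : Y.Opens) (hU : y ∈ U) (m : Γ(Y, U)),
      Y.presheaf.germ U y hU m • c s =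
        germM (Coh.structureModule Y) U y hU (show Γ(Coh.structureModule Y, U) from m) := by
    intro U hU m
    let m' : Γ(Y, U ⊓ V) := Y.presheaf.map (homOfLE (inf_le_left : U ⊓ V ≤ U)).op m
    let o' : Γ(Y, U ⊓ V) := Y.presheaf.map (homOfLE (inf_le_right : U ⊓ V ≤ V)).op 1
    have h₁ : Y.presheaf.germ U y hU m = Y.presheaf.germ (U ⊓ V) y ⟨hU, hy⟩ m' :=
      (Y.presheaf.germ_res_apply (homOfLE (inf_le_left : U ⊓ V ≤ U)) y ⟨hU, hy⟩ m).symm
    have h₂ : germM (Coh.structureModule Y) V y hy (1 : Γ(Y, V)) =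
        germM (Coh.structureModule Y) (U ⊓ V) y ⟨hU, hy⟩ (show Γ(Coh.structureModule Y, U ⊓ V) from o') :=
      ((Coh.structureModule Y).presheaf.germ_res_apply (homOfLE (inf_le_right : U ⊓ V ≤ V)) y ⟨hU, hy⟩
        (show Γ(Coh.structureModule Y, V) from (1 : Γ(Y, V)))).symm
    rw [hs, h₁, h₂]
    refine (germM_smul _ _ _ _ _ _).symm.trans ?_
    have ho : o' = 1 := map_one (Y.presheaf.map (homOfLE (inf_le_right : U ⊓ V ≤ V)).op).hom
    refine (congrArg (germM (Coh.structureModule Y) (U ⊓ V) y ⟨hU, hy⟩)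
      (show (m' * o' : Γ(Y, U ⊓ V)) = m' by rw [ho, mul_one])).trans ?_
    exact (Coh.structureModule Y).presheaf.germ_res_apply (homOfLE (inf_le_left : U ⊓ V ≤ U)) y ⟨hU, hy⟩
      (show Γ(Coh.structureModule Y, U) from m)
  have hone : ∀ t : (Coh.structureModule Y).presheaf.stalk y, ∃ r : S, r • c s = t := by
    intro t
    obtain ⟨U, hU, m, rfl⟩ := exists_germM_eq (Coh.structureModule Y) y t
    exact ⟨_, hsmul U hU m⟩
  have hinj : ∀ r : S, r • c s = 0 → r • s = 0 := by
    intro r hr
    obtain ⟨U, hU, m, rfl⟩ := Y.presheaf.exists_germ_eq (x := y) r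
    rw [hsmul U hU m] at hr
    obtain ⟨W, hW, i₁, i₂, e⟩ := (Coh.structureModule Y).presheaf.germ_eq y hU hU
      (show Γ(Coh.structureModule Y, U) from m) 0 (hr.trans (map_zero _).symm)
    have e' : Y.presheaf.map i₁.op m = 0 := e.trans (map_zero _)
    rw [← Y.presheaf.germ_res_apply i₁ y hW m, e', map_zero, zero_smul]
  have hspan : ∀ t, ∃ r : S, r • s = t := by
    intro t
    by_contra hne
    let N := LinearMap.range (LinearMap.toSpanSingleton S _ s)
    have h0 : (ModuleCat.ofHom N.mkQ : (DerSch.stalkFunctor Y y).obj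
        (fU V) ⟶ ModuleCat.of S _) = 0 :=
      stalk_hom_ext_gen hy _ _ ((Submodule.Quotient.mk_eq_zero N).2 ⟨1, one_smul _ _⟩)
    exact hne ((Submodule.Quotient.mk_eq_zero N).1 (congrArg (fun φ => φ.hom t) h0))
  constructor
  · rw [injective_iff_map_eq_zero]
    intro t ht
    obtain ⟨r, rfl⟩ := hspan t
    exact hinj r ((map_smul c r s).symm.trans ht)
  · intro t
    obtain ⟨r, rfl⟩ := hone t
    exact ⟨r • s, map_smul c r s⟩

/-- The projection map of a closed immersion is an isomorphism. -/
theorem isIso_θ_freeU [IsClosedImmersion f] (M : X.Modules) (V : Y.Opens) :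
    IsIso ((θ f M).app (fU V)) := by
  refine PullTensor.isIso_of_stalk_bijective _ fun y => ?_
  rw [← stalkIso_iff]
  have hz : ∀ {A B : Y.Modules} (φ : A ⟶ B), IsZero ((DerSch.stalkFunctor Y y).obj A) →
      IsZero ((DerSch.stalkFunctor Y y).obj B) → StalkIso y φ := fun φ hA hB =>
    ⟨0, hA.eq_of_src _ _, hB.eq_of_src _ _⟩
  by_cases hy : y ∈ Set.range f
  swap
  · exact hz _ (isZero_stalk_tensor _ (Or.inl (isZero_stalk_push f M hy))) (isZero_stalk_push f _ hy)
  obtain ⟨x, rfl⟩ := hy
  by_cases hV : f x ∈ V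
  swap
  · refine hz _ (isZero_stalk_tensor _ (Or.inr (isZero_stalk_freeU V hV))) ?_
    have h0 : IsZero ((DerSch.stalkFunctor X x).obj ((F₂ f M).obj (fU V))) :=
      isZero_stalk_tensor _ (Or.inr (subsingleton_stalk_pull f _ x (isZero_stalk_freeU V hV)))
    have : Subsingleton (((F₂ f M).obj (fU V)).presheaf.stalk x) :=
      ModuleCat.subsingleton_of_isZero h0
    exact @ModuleCat.isZero_of_subsingleton _ _ _
      (ClUnit.stalkPushforward_bijective f _ f.isClosedEmbedding.isInducing x).1.subsingleton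
  have hu := stalkIso_toUnit V hV
  have := stalkIso_tensor ((Scheme.Modules.pushforward f).obj M) (toUnit V) (y := f x)
  have := stalkIso_pull f x (toUnit V)
  have := stalkIso_tensor M ((Scheme.Modules.pullback f).map (toUnit V)) (y := x)
  have h₂ : StalkIso (f x) ((G₂ f M).map (toUnit V)) :=
    stalkIso_push f x (((DCoh.tensorBi (X := X)).obj M).map ((Scheme.Modules.pullback f).map (toUnit V)))
  have := isIso_θ_unit f M
  have e := congrArg (DerSch.stalkFunctor Y (f x)).map ((θ f M).naturality (toUnit V))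
  rw [Functor.map_comp, Functor.map_comp] at e
  have h : IsIso ((DerSch.stalkFunctor Y (f x)).map ((θ f M).app (fU V)) ≫
      (DerSch.stalkFunctor Y (f x)).map ((G₂ f M).map (toUnit V))) := by
    rw [← e]
    infer_instance
  exact IsIso.of_isIso_comp_right _ ((DerSch.stalkFunctor Y (f x)).map ((G₂ f M).map (toUnit V)))

theorem preservesColimits_G₁ (M : X.Modules) : PreservesColimitsOfSize.{u, u} (G₁ f M) :=
  Groth.Agent.KFlat.preservesColimitsOfSize_tensorBi_obj (O := Y.sheaf) _

theorem preservesColimits_F₂ (M : X.Modules) : PreservesColimitsOfSize.{u, u} (F₂ f M) := by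
  have : PreservesColimitsOfSize.{u, u} ((DCoh.tensorBi (X := X)).obj M) :=
    Groth.Agent.KFlat.preservesColimitsOfSize_tensorBi_obj (O := X.sheaf) _
  have : PreservesColimitsOfSize.{u, u} (Scheme.Modules.pullback f) :=
    (Scheme.Modules.pullbackPushforwardAdjunction f).leftAdjoint_preservesColimits
  exact comp_preservesColimits _ _

theorem preservesColimits_G₂ [IsClosedImmersion f] (M : X.Modules) : PreservesColimitsOfSize.{u, u} (G₂ f M) := by
  have := preservesColimits_F₂ f M
  have : PreservesColimitsOfSize.{u, u} (Scheme.Modules.pushforward f) :=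
    Groth.Agent.QCohGen.preservesColimits_pushforward f
  exact comp_preservesColimits _ _

/-- The free cover. -/
noncomputable def cov (N : Y.Modules) : Y.Modules :=
  ∐ fun p : Σ U : Y.Opens, (fU U ⟶ N) => fU p.1

/-- The covering map. -/
noncomputable def covπ (N : Y.Modules) : cov N ⟶ N := Sigma.desc fun p => p.2

theorem epi_covπ (N : Y.Modules) : Epi (covπ N) :=
  Preadditive.epi_of_cancel_zero _ fun φ hφ =>
    Groth.Agent.KFlat.eq_zero_of_freeU_comp (O := Y.sheaf) φ fun U g => by
      have : Sigma.ι (fun p : Σ U : Y.Opens, (fU U ⟶ N) => fU p.1) ⟨U, g⟩ ≫ covπ N = g := Sigma.ι_desc _ _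
      exact (congrArg (· ≫ φ) this).symm.trans ((Category.assoc _ _ _).trans ((congrArg (_ ≫ ·) hφ).trans comp_zero))

theorem isIso_θ_cov [IsClosedImmersion f] (M : X.Modules) (N : Y.Modules) : IsIso ((θ f M).app (cov N)) := by
  have := preservesColimits_G₁ f M
  have := preservesColimits_G₂ f M
  let D := Discrete.functor fun p : Σ U : Y.Opens, (fU U ⟶ N) => fU p.1
  have : ∀ j, IsIso ((θ f M).app (D.obj j)) := fun j => isIso_θ_freeU f M _
  exact Groth.Agent.KFlat.isIso_app_of_isColimit (θ f M) (colimit.isColimit D)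

theorem isIso_app_of_covers {A B : Type*} [Category A] [Category B] [Abelian A] {F G : A ⥤ B} (τ : F ⟶ G)
    [PreservesColimitsOfShape WalkingParallelPair F] [PreservesColimitsOfShape WalkingParallelPair G]
    (c : A → A) (π : ∀ N, c N ⟶ N) (hπ : ∀ N, Epi (π N)) (h : ∀ N, IsIso (τ.app (c N))) (N : A) :
    IsIso (τ.app N) := by
  have := hπ N
  have := hπ (kernel (π N))
  let q := π (kernel (π N)) ≫ kernel.ι (π N)
  have hc₀ : IsColimit (CokernelCofork.ofπ (π N) (kernel.condition (π N))) :=
    Abelian.epiIsCokernelOfKernel (KernelFork.ofι (kernel.ι (π N)) (kernel.condition (π N))) (kernelIsKernel (π N))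
  have hc' : IsColimit (CokernelCofork.ofπ (π N) (show q ≫ π N = 0 by simp [q])) :=
    isCokernelEpiComp hc₀ _ rfl
  have : ∀ j, IsIso (τ.app ((parallelPair q 0).obj j)) := by
    rintro (_ | _)
    · exact h _
    · exact h _
  exact Groth.Agent.KFlat.isIso_app_of_isColimit τ hc'

/-- The projection map of a closed immersion is an isomorphism. -/
theorem isIso_θ [IsClosedImmersion f] (M : X.Modules) : IsIso (θ f M) := by
  have : PreservesColimitsOfSize.{0, 0} (G₁ f M) :=
    have := preservesColimits_G₁ f M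
    preservesColimitsOfSize_shrink.{0, u, 0, u} _
  have : PreservesColimitsOfSize.{0, 0} (G₂ f M) :=
    have := preservesColimits_G₂ f M
    preservesColimitsOfSize_shrink.{0, u, 0, u} _
  have : ∀ N, IsIso ((θ f M).app N) :=
    isIso_app_of_covers (θ f M) cov covπ epi_covπ (isIso_θ_cov f M)
  exact NatIso.isIso_of_isIso_app _

end Groth.Agent.KFlat.ProjFormula
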