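import Mathlib.AlgebraicGeometry.Modules.Sheaf
import Mathlib.AlgebraicGeometry.Restrict

/-!
# Restriction of a direct image
-/

set_option autoImplicit false

universe u

open CategoryTheory CategoryTheory.Limits AlgebraicGeometry

namespace Groth.Agent.KFlat.PushRestrict

variable {X Y : Scheme.{u}} (f : X ⟶ Y) (V : Y.Opens)

set_option backward.isDefEq.respectTransparency.types false in
/-- `(f_* M)|_V = (f|_V)_* (M|_U)`. -/
noncomputable def pushRestrictIso :
    Scheme.Modules.pushforward f ⋙ Scheme.Modules.restrictFunctor V.ι ≅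
      Scheme.Modules.restrictFunctor (f ⁻¹ᵁ V).ι ⋙ Scheme.Modules.pushforward (f ∣_ V) :=
  letI := CategoryTheory.Functor.isContinuous_comp.{u} V.ι.opensFunctor (TopologicalSpace.Opens.map f.base)
    (Opens.grothendieckTopology (V : Scheme.{u})) (Opens.grothendieckTopology Y) (Opens.grothendieckTopology X)
  letI := CategoryTheory.Functor.isContinuous_comp.{u} (TopologicalSpace.Opens.map (f ∣_ V).base) (f ⁻¹ᵁ V).ι.opensFunctor
    (Opens.grothendieckTopology (V : Scheme.{u})) (Opens.grothendieckTopology (f ⁻¹ᵁ V : Scheme.{u}))
    (Opens.grothendieckTopology X)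
  SheafOfModules.pushforwardComp _ _ ≪≫
    SheafOfModules.pushforwardNatIso _
      (NatIso.ofComponents (fun W => eqToIso (image_morphismRestrict_preimage f V W)) fun _ => Subsingleton.elim _ _) ≪≫
    SheafOfModules.pushforwardCongr (by
      ext W x
      have h := congr($(morphismRestrict_app f V W.unop).hom x)
      simp only [Scheme.Opens.ι_appIso, Iso.refl_inv]
      exact h.symm) ≪≫
    (SheafOfModules.pushforwardComp _ _).symm

end Groth.Agent.KFlat.PushRestrict
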