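import Groth.Agent.KFlat.Flat
import Groth.Prelude.Def_DCoh4
import Mathlib.CategoryTheory.Adjunction.AdjointFunctorTheorems
import Mathlib.CategoryTheory.Abelian.Subobject

/-!
# Existence of the internal hom of sheaves of modules
-/

set_option autoImplicit false

universe u

open CategoryTheory CategoryTheory.Limits AlgebraicGeometry

namespace Groth.Agent.KFlat

variable {C : Type u} [SmallCategory C] {J : GrothendieckTopology C} (O : Sheaf J CommRingCat.{u})

theorem isLeftAdjoint_of_preservesColimitsOfSize (F : ModSite.Mod O ⥤ ModSite.Mod O)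
    [PreservesColimitsOfSize.{u, u} F] : F.IsLeftAdjoint := by
  have : WellPowered.{u} (ModSite.Mod O) := IsGrothendieckAbelian.wellPowered (ModSite.Mod O)
  have : WellPowered.{u} (ModSite.Mod O)ᵒᵖ := Abelian.wellPowered_opposite
  exact isLeftAdjoint_of_preservesColimits_of_isSeparating
    (P := ObjectProperty.singleton (separator (ModSite.Mod O))) (isSeparator_separator _) _

theorem hasSheafHom (N : ModSite.Mod O) : ModSite.HasSheafHom N :=
  isLeftAdjoint_of_preservesColimitsOfSize O _

theorem hasSheafHom_scheme {X : Scheme.{u}} (M : X.Modules) : DCoh.HasSheafHom M :=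
  isLeftAdjoint_of_preservesColimitsOfSize X.sheaf ((ModSite.tensorBi X.sheaf).obj M)

end Groth.Agent.KFlat
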