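import Groth.Agent.KFlat.TruncHom

/-!
# Derived limits of truncations under `Ext` vanishing against a separating family
-/

set_option autoImplicit false

universe w v u

open CategoryTheory Limits Pretriangulated DerivedCategory
open Groth.Agent.KFlat.TruncHom

namespace Groth.Agent.KFlat.DerivedLimit

variable {A : Type u} [Category.{v} A] [Abelian A] [HasDerivedCategory.{w} A]

/-- The tower of truncations. -/
noncomputable abbrev tw (E : DerivedCategory A) : ℕ → DerivedCategory A :=
  fun n => ((DerivedCategory.TStructure.t : CategoryTheory.Triangulated.TStructure (DerivedCategory A)).truncGE (-(n : ℤ))).obj E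

/-- The transition maps of the tower of truncations. -/
noncomputable abbrev twt (E : DerivedCategory A) (n : ℕ) : tw E (n + 1) ⟶ tw E n :=
  ((DerivedCategory.TStructure.t : CategoryTheory.Triangulated.TStructure (DerivedCategory A)).natTransTruncGEOfLE
    (-((n + 1 : ℕ) : ℤ)) (-(n : ℤ)) (Int.neg_le_neg (Int.ofNat_le.mpr (Nat.le_succ n)))).app E

/-- The projections to the tower of truncations. -/
noncomputable abbrev twπ (E : DerivedCategory A) (n : ℕ) : E ⟶ tw E n :=
  ((DerivedCategory.TStructure.t : CategoryTheory.Triangulated.TStructure (DerivedCategory A)).truncGEπ (-(n : ℤ))).app E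

theorem twπ_twt (E : DerivedCategory A) (n : ℕ) : twπ E (n + 1) ≫ twt E n = twπ E n :=
  TStructure.t.π_natTransTruncGEOfLE_app _ _ _ _

theorem isIso_H_twπ (E : DerivedCategory A) (n : ℕ) (j : ℤ) (h : -(n : ℤ) ≤ j) :
    IsIso ((homologyFunctor A j).map (twπ E n)) :=
  isIso_H_truncGEπ E _ j h

theorem isIso_H_twt (E : DerivedCategory A) (n : ℕ) (j : ℤ) (h : -(n : ℤ) ≤ j) :
    IsIso ((homologyFunctor A j).map (twt E n)) := by
  have := isIso_H_twπ E n j h
  have := isIso_H_twπ E (n + 1) j (by lia)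
  have e : (homologyFunctor A j).map (twπ E (n + 1)) ≫ (homologyFunctor A j).map (twt E n) =
      (homologyFunctor A j).map (twπ E n) := by
    rw [← Functor.map_comp, twπ_twt]
  exact IsIso.of_isIso_fac_left e

variable {E : DerivedCategory A} {P : A}

theorem Φ_bijective_tw (hP : ∀ j, Acy P ((homologyFunctor A j).obj E)) (n : ℕ) (m : ℤ) :
    Function.Bijective (Φ P m (tw E n)) := by
  refine Φ_bijective_of_isGE P m (-(n : ℤ)) _
    (inferInstanceAs (TStructure.t.IsGE ((TStructure.t.truncGE (-(n : ℤ))).obj E) (-(n : ℤ)))) fun j _ => ?_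
  rcases le_or_gt (-(n : ℤ)) j with h | h
  · exact (hP j).of_iso (@asIso _ _ _ _ _ (isIso_H_twπ E n j h))
  · have : (tw E n).IsGE (-(n : ℤ)) :=
      inferInstanceAs (TStructure.t.IsGE ((TStructure.t.truncGE (-(n : ℤ))).obj E) (-(n : ℤ)))
    exact acy_of_isZero P (isZero_of_isGE (tw E n) _ j h)

theorem comp_twt_bijective (hP : ∀ j, Acy P ((homologyFunctor A j).obj E)) (n : ℕ) (m : ℤ)
    (h : -(n : ℤ) ≤ m) :
    Function.Bijective fun g : (singleFunctor A m).obj P ⟶ tw E (n + 1) => g ≫ twt E n := by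
  have := isIso_H_twt E n m h
  constructor
  · intro a b hab
    refine (Φ_bijective_tw hP (n + 1) m).1 ((cancel_mono ((homologyFunctor A m).map (twt E n))).1 ?_)
    rw [← Φ_comp, ← Φ_comp]
    exact congrArg _ hab
  · intro g
    obtain ⟨f, hf⟩ := (Φ_bijective_tw hP (n + 1) m).2
      (Φ P m _ g ≫ inv ((homologyFunctor A m).map (twt E n)))
    refine ⟨f, (Φ_bijective_tw hP n m).1 ?_⟩
    rw [Φ_comp, hf, Category.assoc, IsIso.inv_hom_id, Category.comp_id]

/-- Solving `y n = x n + y (n + 1) ≫ t n` when the transition maps are eventually surjective. -/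
theorem exists_solution {D : Type*} [Category D] [Preadditive D] {S : D} (K : ℕ → D)
    (t : ∀ n, K (n + 1) ⟶ K n) (N : ℕ)
    (ht : ∀ n, N ≤ n → Function.Surjective fun g : S ⟶ K (n + 1) => g ≫ t n)
    (x : ∀ n, S ⟶ K n) (v : S ⟶ K N) :
    ∃ y : ∀ n, S ⟶ K n, y N = v ∧ ∀ n, y n = x n + y (n + 1) ≫ t n := by
  classical
  let s : ∀ n, N ≤ n → (S ⟶ K n) := fun n h => Nat.leRecOn (C := fun n => {k : ℕ // N ≤ k ∧ k = n} → (S ⟶ K n)) h
    (fun {k} f hk => if hNk : N ≤ k then ((ht k hNk) (f ⟨k, hNk, rfl⟩ - x k)).choose else 0)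
    (fun _ => v) ⟨n, h, rfl⟩
  have hsN : s N le_rfl = v := by
    simp only [s, Nat.leRecOn_self]
  have hs : ∀ n (h : N ≤ n), s n h = x n + s (n + 1) (h.trans (Nat.le_succ n)) ≫ t n := by
    intro n h
    have := ((ht n h) (s n h - x n)).choose_spec
    have e : s (n + 1) (h.trans (Nat.le_succ n)) = ((ht n h) (s n h - x n)).choose := by
      simp only [s, Nat.leRecOn_succ h, dif_pos h]
    rw [e]
    exact (eq_add_of_sub_eq' (by exact this.symm))
  suffices H : ∀ d k, k + d = N → ∃ y : ∀ n, S ⟶ K n, y N = v ∧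
      ∀ n, k ≤ n → y n = x n + y (n + 1) ≫ t n by
    obtain ⟨y, h₁, h₂⟩ := H N 0 (Nat.zero_add N)
    exact ⟨y, h₁, fun n => h₂ n (Nat.zero_le n)⟩
  intro d
  induction d with
  | zero =>
    intro k hk
    refine ⟨fun n => if h : N ≤ n then s n h else 0, by simp [hsN], fun n hn => ?_⟩
    have hn' : N ≤ n := by lia
    simp only [dif_pos hn', dif_pos (hn'.trans (Nat.le_succ n))]
    exact hs n hn'
  | succ d ih =>
    intro k hk
    obtain ⟨y, h₁, h₂⟩ := ih (k + 1) (by lia)
    refine ⟨Function.update y k (x k + y (k + 1) ≫ t k), ?_, fun n hn => ?_⟩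
    · rw [Function.update_of_ne (by lia)]
      exact h₁
    · rw [Function.update_of_ne (show n + 1 ≠ k by lia)]
      rcases eq_or_lt_of_le hn with rfl | hn'
      · rw [Function.update_self]
      · rw [Function.update_of_ne (by lia)]
        exact h₂ n hn'

section Limit

variable [HasProduct (tw E)] {L : DerivedCategory A} {a : L ⟶ ∏ᶜ tw E} {c : ∏ᶜ tw E ⟶ L⟦(1 : ℤ)⟧}

variable (hT : Triangle.mk a (Pi.lift fun n => Pi.π (tw E) n - Pi.π (tw E) (n + 1) ≫ twt E n) c ∈
  distinguishedTriangles)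

include hT

theorem component_eq (n : ℕ) : a ≫ Pi.π (tw E) n = (a ≫ Pi.π (tw E) (n + 1)) ≫ twt E n := by
  have h : (a ≫ Pi.lift fun k => Pi.π (tw E) k - Pi.π (tw E) (k + 1) ≫ twt E k) ≫ Pi.π (tw E) n = 0 :=
    (congrArg (· ≫ Pi.π (tw E) n) (comp_distTriang_mor_zero₁₂ _ hT)).trans zero_comp
  rw [Category.assoc, Pi.lift_π, Preadditive.comp_sub, sub_eq_zero] at h
  rw [h, Category.assoc]

/-- Maps out of `P[-m]` into the derived limit are those into any late stage of the tower. -/
theorem comp_component_bijective (hP : ∀ j, Acy P ((homologyFunctor A j).obj E)) (m : ℤ) (N : ℕ)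
    (hN : -(N : ℤ) ≤ m - 1) :
    Function.Bijective fun g : (singleFunctor A m).obj P ⟶ L => g ≫ a ≫ Pi.π (tw E) N := by
  constructor
  · intro g₁ g₂ hg
    rw [← sub_eq_zero]
    let g := g₁ - g₂
    change g = 0
    have hgN : g ≫ a ≫ Pi.π (tw E) N = 0 := by
      rw [Preadditive.sub_comp]
      exact sub_eq_zero.2 hg
    have hge : ∀ n, N ≤ n → g ≫ a ≫ Pi.π (tw E) n = 0 := by
      intro n hn
      induction n, hn using Nat.le_induction with
      | base => exact hgN
      | succ n hn ih =>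
        refine (comp_twt_bijective hP n m (by lia)).1 ?_
        change (g ≫ a ≫ Pi.π (tw E) (n + 1)) ≫ twt E n = 0 ≫ twt E n
        rw [zero_comp, Category.assoc, ← component_eq hT n]
        exact ih
    have hle : ∀ d n, n + d = N → g ≫ a ≫ Pi.π (tw E) n = 0 := by
      intro d
      induction d with
      | zero => intro n hn; exact hge n (by lia)
      | succ d ih =>
        intro n hn
        rw [component_eq hT n, ← Category.assoc, ih (n + 1) (by lia), zero_comp]
    have hga : g ≫ a = 0 := Pi.hom_ext _ _ fun n => by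
      rw [Category.assoc, zero_comp]
      rcases le_or_gt N n with h | h
      · exact hge n h
      · exact hle (N - n) n (by lia)
    obtain ⟨h, hh⟩ : ∃ h : _ ⟶ ∏ᶜ tw E, g⟦(1 : ℤ)⟧' = h ≫ c :=
      Triangle.coyoneda_exact₁ _ hT (g⟦(1 : ℤ)⟧')
        (((shiftFunctor (DerivedCategory A) (1 : ℤ)).map_comp g a).symm.trans
          ((congrArg _ hga).trans (Functor.map_zero _ _ _)))
    let e : ((singleFunctor A m).obj P)⟦(1 : ℤ)⟧ ≅ (singleFunctor A (m - 1)).obj P :=
      ((DerivedCategory.singleFunctors A).shiftIso 1 (m - 1) m (by lia)).app P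
    obtain ⟨y, -, hy⟩ := exists_solution (tw E) (twt E) N
      (fun n hn => (comp_twt_bijective hP n (m - 1) (by lia)).2)
      (fun n => e.inv ≫ h ≫ Pi.π (tw E) n) 0
    have hd : Pi.lift y ≫ (Pi.lift fun k => Pi.π (tw E) k - Pi.π (tw E) (k + 1) ≫ twt E k) = e.inv ≫ h :=
      Pi.hom_ext _ _ fun n => by
        rw [Category.assoc, Pi.lift_π, Preadditive.comp_sub, Pi.lift_π, Pi.lift_π_assoc, hy n,
          add_sub_cancel_right, Category.assoc]
    apply (shiftFunctor (DerivedCategory A) (1 : ℤ)).map_injective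
    rw [Functor.map_zero, ← cancel_epi e.inv, comp_zero]
    refine (congrArg (e.inv ≫ ·) hh).trans ((Category.assoc _ _ _).symm.trans
      ((congrArg (· ≫ c) hd.symm).trans ((Category.assoc _ _ _).trans ?_)))
    exact (congrArg (Pi.lift y ≫ ·) (comp_distTriang_mor_zero₂₃ _ hT)).trans comp_zero
  · intro v
    obtain ⟨y, hyN, hy⟩ := exists_solution (tw E) (twt E) N
      (fun n hn => (comp_twt_bijective hP n m (by lia)).2) (fun _ => 0) v
    have hd : Pi.lift y ≫ (Pi.lift fun k => Pi.π (tw E) k - Pi.π (tw E) (k + 1) ≫ twt E k) = 0 :=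
      Pi.hom_ext _ _ fun n => by
        rw [Category.assoc, Pi.lift_π, Preadditive.comp_sub, Pi.lift_π, Pi.lift_π_assoc, hy n,
          zero_add, sub_self, zero_comp]
    obtain ⟨g, hg⟩ := Triangle.coyoneda_exact₂ _ hT (Pi.lift y) hd
    refine ⟨g, ?_⟩
    change g ≫ a ≫ Pi.π (tw E) N = v
    rw [← hyN, ← Pi.lift_π y N, ← Category.assoc]
    exact congrArg (· ≫ Pi.π (tw E) N) hg.symm

end Limit

/-- A cover of `H^m K` by an object of cycles whose elements lift to maps out of single objects. -/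
theorem exists_epi_lifts (K : DerivedCategory A) (m : ℤ) :
    ∃ (Z : A) (q : Z ⟶ (homologyFunctor A m).obj K), Epi q ∧
      ∀ (P : A) (u : P ⟶ Z), ∃ G, Φ P m K G = u ≫ q := by
  let C := DerivedCategory.Q.objPreimage K
  let e : DerivedCategory.Q.obj C ≅ K := DerivedCategory.Q.objObjPreimageIso K
  let r : C.homology m ≅ (homologyFunctor A m).obj K :=
    ((homologyFunctorFactors A m).app C).symm ≪≫ (homologyFunctor A m).mapIso e
  refine ⟨C.cycles m, C.homologyπ m ≫ r.hom, inferInstance, fun P u => ?_⟩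
  let φ : (HomologicalComplex.single A (ComplexShape.up ℤ) m).obj P ⟶ C :=
    HomologicalComplex.mkHomFromSingle (u ≫ C.iCycles m) fun j _ => by
      rw [Category.assoc, C.iCycles_d, comp_zero]
  let s := ((SingleFunctors.evaluation _ _ m).mapIso (singleFunctorsPostcompQIso A)).app P
  refine ⟨s.hom ≫ DerivedCategory.Q.map φ ≫ e.hom, ?_⟩
  have hcyc : (HomologicalComplex.singleObjCyclesSelfIso (ComplexShape.up ℤ) m P).inv ≫
      HomologicalComplex.cyclesMap φ m = u := by
    rw [← cancel_mono (C.iCycles m), Category.assoc, HomologicalComplex.cyclesMap_i]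
    simp [φ]
  have hnat := (homologyFunctorFactors A m).inv.naturality φ
  have hι : (ιH P m).hom ≫ (homologyFunctor A m).map s.hom =
      (HomologicalComplex.homologyFunctorSingleIso A (ComplexShape.up ℤ) m).inv.app P ≫
        (homologyFunctorFactors A m).inv.app _ := by
    simp [ιH, singleFunctorCompHomologyFunctorIso, s]
    refine congrArg (_ ≫ ·) ((congrArg (_ ≫ ·) ?_).trans (Category.comp_id _))
    exact (Category.id_comp _).trans ((Functor.map_comp _ _ _).symm.trans
      ((congrArg _ (SingleFunctors.inv_hom_id_hom_app (singleFunctorsPostcompQIso A) m P)).trans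
        (CategoryTheory.Functor.map_id _ _)))
  rw [Φ_apply, Functor.map_comp, Functor.map_comp]
  refine (Category.assoc _ _ _).symm.trans ((congrArg (· ≫ _) hι).trans ?_)
  refine (Category.assoc _ _ _).trans
    ((congrArg (_ ≫ ·) ((Category.assoc _ _ _).symm.trans (congrArg (· ≫ _) hnat.symm))).trans ?_)
  dsimp [r]
  rw [← hcyc]
  have hπ : (HomologicalComplex.singleObjHomologySelfIso (ComplexShape.up ℤ) m P).inv =
      (HomologicalComplex.singleObjCyclesSelfIso (ComplexShape.up ℤ) m P).inv ≫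
        ((HomologicalComplex.single A (ComplexShape.up ℤ) m).obj P).homologyπ m :=
    ((Iso.inv_comp_eq _).2
      (HomologicalComplex.singleObjHomologySelfIso_hom_singleObjHomologySelfIso_inv
        (ComplexShape.up ℤ) m P).symm).symm
  simp
  rw [hπ]
  refine (Category.assoc _ _ _).trans (congrArg (_ ≫ ·) ?_)
  exact HomologicalComplex.homologyπ_naturality_assoc φ m _

variable {ι : Type*} {P₀ : ι → A}

/-- An object whose cohomology has no higher `Ext` from a separating family is the derived limit of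
its truncations. -/
theorem exists_triangle [HasProduct (tw E)]
    (hsep : ∀ {M N : A} (f : M ⟶ N), (∀ i (g : P₀ i ⟶ M), g ≫ f = 0) → f = 0)
    (hP : ∀ i j, Acy (P₀ i) ((homologyFunctor A j).obj E)) :
    ∃ c : (∏ᶜ tw E) ⟶ E⟦(1 : ℤ)⟧, Triangle.mk (Pi.lift (twπ E))
      (Pi.lift fun n => Pi.π (tw E) n - Pi.π (tw E) (n + 1) ≫ twt E n) c ∈ distinguishedTriangles := by
  let d := Pi.lift fun n => Pi.π (tw E) n - Pi.π (tw E) (n + 1) ≫ twt E n
  obtain ⟨L, a, c, hT⟩ := Pretriangulated.distinguished_cocone_triangle₁ d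
  have hd : Pi.lift (twπ E) ≫ d = 0 := Pi.hom_ext _ _ fun n => by
    rw [Category.assoc, Pi.lift_π, Preadditive.comp_sub, Pi.lift_π, Pi.lift_π_assoc, twπ_twt,
      sub_self, zero_comp]
  obtain ⟨e, he⟩ : ∃ e : E ⟶ L, Pi.lift (twπ E) = e ≫ a :=
    Triangle.coyoneda_exact₂ _ hT (Pi.lift (twπ E)) hd
  have he' : ∀ n, e ≫ a ≫ Pi.π (tw E) n = twπ E n := fun n =>
    (Category.assoc _ _ _).symm.trans ((congrArg (· ≫ Pi.π (tw E) n) he.symm).trans (Pi.lift_π _ _))
  have : IsIso e := by
    rw [DerivedCategory.isIso_iff]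
    intro m
    obtain ⟨N, hN⟩ : ∃ N : ℕ, -(N : ℤ) ≤ m - 1 := ⟨(1 - m).toNat, by lia⟩
    let b := (homologyFunctor A m).map (a ≫ Pi.π (tw E) N)
    have hmono : Mono b := Preadditive.mono_of_cancel_zero _ fun {W} f hf => by
      obtain ⟨Z, q, hq, hlift⟩ := exists_epi_lifts L m
      have : Epi (pullback.fst f q) := inferInstance
      rw [← cancel_epi (pullback.fst f q), comp_zero, pullback.condition]
      refine hsep _ fun i g => ?_
      obtain ⟨G, hG⟩ := hlift (P₀ i) (g ≫ pullback.snd f q)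
      have hG0 : G = 0 := (comp_component_bijective hT (hP i) m N hN).1 (by
        refine (Φ_bijective_tw (hP i) N m).1 ?_
        change Φ (P₀ i) m _ (G ≫ a ≫ Pi.π (tw E) N) = Φ (P₀ i) m _ (0 ≫ a ≫ Pi.π (tw E) N)
        rw [Φ_comp, hG, zero_comp, map_zero]
        refine (congrArg (· ≫ b) (Category.assoc g (pullback.snd f q) q)).trans
          ((Category.assoc _ _ _).trans ((congrArg (g ≫ ·) ?_).trans comp_zero))
        refine (congrArg (· ≫ b) pullback.condition.symm).trans ?_
        rw [Category.assoc, hf, comp_zero])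
      rw [← Category.assoc, ← hG, hG0, map_zero]
    have hb : (homologyFunctor A m).map e ≫ b = (homologyFunctor A m).map (twπ E N) :=
      (Functor.map_comp _ _ _).symm.trans (congrArg _ (he' N))
    have := isIso_H_twπ E N m (by lia)
    have : IsIso ((homologyFunctor A m).map e ≫ b) := by rw [hb]; infer_instance
    have : Epi b := epi_of_epi ((homologyFunctor A m).map e) b
    have : IsIso b := isIso_of_mono_of_epi b
    exact @IsIso.of_isIso_comp_right _ _ _ _ _ _ b (by assumption) (by assumption)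
  refine ⟨c ≫ (inv e)⟦(1 : ℤ)⟧', isomorphic_distinguished _ hT _ ?_⟩
  refine Triangle.isoMk _ _ (@asIso _ _ _ _ e ‹IsIso e›) (Iso.refl _) (Iso.refl _) ?_ ?_ ?_
  · exact (Category.comp_id _).trans he
  · exact (Category.comp_id _).trans (Category.id_comp _).symm
  · exact ((Category.assoc _ _ _).trans (congrArg (c ≫ ·) ((Functor.map_comp _ _ _).symm.trans
      ((congrArg _ (IsIso.inv_hom_id e)).trans (CategoryTheory.Functor.map_id _ _))))).trans
      ((Category.comp_id _).trans (Category.id_comp _).symm)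

/-- Maps out of `P[-m]` compute `Hom(P, H^m)`, for unbounded objects. -/
theorem Φ_bijective [HasProduct (tw E)]
    (hsep : ∀ {M N : A} (f : M ⟶ N), (∀ i (g : P₀ i ⟶ M), g ≫ f = 0) → f = 0)
    (hP₀ : ∀ i j, Acy (P₀ i) ((homologyFunctor A j).obj E))
    (hP : ∀ j, Acy P ((homologyFunctor A j).obj E)) (m : ℤ) :
    Function.Bijective (Φ P m E) := by
  obtain ⟨c, hT⟩ := exists_triangle hsep hP₀
  obtain ⟨N, hN⟩ : ∃ N : ℕ, -(N : ℤ) ≤ m - 1 := ⟨(1 - m).toNat, by lia⟩
  have := isIso_H_twπ E N m (by lia)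
  have hb := (Φ_bijective_tw hP N m).comp (comp_component_bijective hT hP m N hN)
  constructor
  · intro g₁ g₂ hg
    refine hb.1 ?_
    change Φ P m _ (g₁ ≫ Pi.lift (twπ E) ≫ Pi.π (tw E) N) = Φ P m _ (g₂ ≫ Pi.lift (twπ E) ≫ Pi.π (tw E) N)
    rw [Pi.lift_π, Φ_comp, Φ_comp, hg]
  · intro v
    obtain ⟨g, hg⟩ := hb.2 (v ≫ (homologyFunctor A m).map (twπ E N))
    refine ⟨g, (cancel_mono ((homologyFunctor A m).map (twπ E N))).1 ?_⟩
    rw [← Φ_comp]
    exact (congrArg (fun k => Φ P m (tw E N) (g ≫ k)) (Pi.lift_π (twπ E) N).symm).trans hg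

end Groth.Agent.KFlat.DerivedLimit
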