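import Groth.Agent.KFlat.Tensor
import Groth.Agent.ModShf.GrothAb
import Mathlib.Algebra.Homology.ShortComplex.ExactFunctor
import Mathlib.CategoryTheory.Abelian.Exact

/-!
# Flat sheaves of modules: the sheafified free modules on representables, coproducts, free covers
-/

set_option autoImplicit false

universe u

open CategoryTheory CategoryTheory.Limits MonoidalCategory Opposite

namespace Groth.Agent.KFlat

variable {C : Type u} [SmallCategory C] {J : GrothendieckTopology C} (O : Sheaf J CommRingCat.{u})

open ModSite

/-- The sheafified free module on a representable. -/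
noncomputable def freeU (U : C) : Mod O :=
  (shPre O).obj ((PresheafOfModules.free _).obj (yoneda.obj U))

variable {O}

/-- Maps out of `freeU O U` are the sections over `U`. -/
noncomputable def freeUEquiv (U : C) (M : Mod O) : (freeU O U ⟶ M) ≃ M.val.obj (op U) :=
  ((preAdj O).homEquiv _ M).trans PresheafOfModules.freeYonedaEquiv

theorem freeUEquiv_comp (U : C) {M N : Mod O} (g : freeU O U ⟶ M) (f : M ⟶ N) :
    freeUEquiv U N (g ≫ f) = f.val.app _ (freeUEquiv U M g) :=
  (congrArg PresheafOfModules.freeYonedaEquiv ((preAdj O).homEquiv_naturality_right g f)).trans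
    (PresheafOfModules.freeYonedaEquiv_comp _ _)

instance additive_tensorBi_flip_obj (F : Mod O) : ((tensorBi O).flip.obj F).Additive where
  map_add {M N f g} := by
    change ((tensorBi O).map (f + g)).app F = ((tensorBi O).map f).app F + ((tensorBi O).map g).app F
    rw [Functor.map_add]
    rfl

/-- Tensoring on the right with the module preserves monomorphisms. -/
def TensorMono (F : Mod O) : Prop := ((tensorBi O).flip.obj F).PreservesMonomorphisms

theorem preservesFiniteLimits_of_tensorMono {F : Mod O} (h : TensorMono F) :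
    PreservesFiniteLimits ((tensorBi O).flip.obj F) := by
  have : ((tensorBi O).flip.obj F).PreservesMonomorphisms := h
  have : ((tensorBi O).flip.obj F).PreservesHomology :=
    Functor.preservesHomology_of_preservesMonos_and_cokernels _
  exact Functor.preservesFiniteLimits_of_preservesHomology _

theorem isFlat_of_tensorMono {F : Mod O} (h : TensorMono F) : ModSite.IsFlat F :=
  ⟨preservesFiniteLimits_of_tensorMono h, inferInstance⟩

theorem tensorMono_of_isFlat {F : Mod O} (h : ModSite.IsFlat F) : TensorMono F := by
  have := h.1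
  exact (inferInstance : ((tensorBi O).flip.obj F).PreservesMonomorphisms)

theorem injective_whiskerRight {A : Type u} [CommRing A] {M N P : ModuleCat.{u} A}
    (hM : Module.Flat A M) (f : N ⟶ P) (hf : Function.Injective f) :
    Function.Injective (f ▷ M) :=
  Module.Flat.rTensor_preserves_injective_linearMap (M := M) f.hom hf

theorem mono_app_sigma {A B : Type*} [Category A] [Category B] {G H : A ⥤ B} (τ : G ⟶ H)
    {ι : Type u} (F : ι → A) [HasCoproduct F] [PreservesColimit (Discrete.functor F) G]
    [PreservesColimit (Discrete.functor F) H] [HasColimitsOfShape (Discrete ι) B]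
    [(colim : (Discrete ι ⥤ B) ⥤ B).PreservesMonomorphisms]
    [∀ i, Mono (τ.app (F i))] : Mono (τ.app (∐ F)) := by
  have sq : Limits.Sigma.map (fun i => τ.app (F i)) ≫ (PreservesCoproduct.iso H F).inv =
      (PreservesCoproduct.iso G F).inv ≫ τ.app (∐ F) :=
    Sigma.hom_ext _ _ fun i => by simp
  have : τ.app (∐ F) = (PreservesCoproduct.iso G F).hom ≫
      Limits.Sigma.map (fun i => τ.app (F i)) ≫ (PreservesCoproduct.iso H F).inv := by
    rw [sq, Iso.hom_inv_id_assoc]
  rw [this]
  have hm : Mono (Limits.Sigma.map (fun i => τ.app (F i))) := by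
    have : ∀ j, Mono ((Discrete.natTrans (fun j => τ.app (F j.as)) :
        Discrete.functor (fun i => G.obj (F i)) ⟶ Discrete.functor (fun i => H.obj (F i))).app j) :=
      fun j => inferInstanceAs (Mono (τ.app (F j.as)))
    have := NatTrans.mono_of_mono_app (Discrete.natTrans (fun j => τ.app (F j.as)) :
      Discrete.functor (fun i => G.obj (F i)) ⟶ Discrete.functor (fun i => H.obj (F i)))
    exact (colim : (Discrete ι ⥤ B) ⥤ B).map_mono _
  exact mono_comp' inferInstance (mono_comp' hm inferInstance)

theorem tensorMono_shPre (Q : preMod O)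
    (hQ : ∀ V : Cᵒᵖ, Module.Flat (O.obj.obj V) (Q.obj V)) : TensorMono ((shPre O).obj Q) := by
  have hpre : ∀ {P P' : preMod O} (f : P ⟶ P') [Mono f], Mono (f ▷ Q) := fun {P P'} f _ =>
    PresheafOfModules.mono_of_injective fun V =>
      injective_whiskerRight (A := O.obj.obj V) (M := Q.obj V) (hQ V) (f.app V)
        (PresheafOfModules.injective_of_mono f V)
  let e : toPre O ⋙ tensorRight Q ⋙ shPre O ≅ (tensorBi O).flip.obj ((shPre O).obj Q) :=
    NatIso.ofComponents
      (fun M => (asIso ((shPre O).map ((toPre O).obj M ◁ (preAdj O).unit.app Q)) :))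
      (fun {M N} g => by
        dsimp [tensorBi_flip_obj_eq]
        rw [← Functor.map_comp, ← Functor.map_comp, whisker_exchange])
  have hsh : PreservesFiniteLimits (shPre O) :=
    inferInstanceAs (PreservesFiniteLimits (PresheafOfModules.sheafification (𝟙 (ringSh O).obj)))
  have : (toPre O ⋙ tensorRight Q ⋙ shPre O).PreservesMonomorphisms := ⟨fun {M N} f _ => by
    have := hpre ((toPre O).map f)
    exact (shPre O).map_mono ((toPre O).map f ▷ Q)⟩
  exact Functor.PreservesMonomorphisms.of_iso e

theorem tensorMono_freeU (U : C) : TensorMono (freeU O U) :=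
  tensorMono_shPre _ fun V =>
    inferInstanceAs (Module.Flat (O.obj.obj V) ((yoneda.obj U).obj V →₀ O.obj.obj V))

theorem tensorMono_sigma {ι : Type u} (F : ι → Mod O) (h : ∀ i, TensorMono (F i)) :
    TensorMono (∐ F) := by
  refine ⟨fun {M N} f _ => ?_⟩
  have hm : ∀ i, Mono (((tensorBi O).map f).app (F i)) := fun i =>
    (h i).preserves f
  change Mono (((tensorBi O).map f).app (∐ F))
  have : HasExactColimitsOfShape (Discrete ι) (Mod O) := inferInstance
  have : (colim : (Discrete ι ⥤ Mod O) ⥤ Mod O).PreservesMonomorphisms := inferInstance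
  exact mono_app_sigma ((tensorBi O).map f) F

variable (O)

/-- The canonical free module covering a module. -/
noncomputable abbrev freeCover (M : Mod O) : Mod O :=
  ∐ fun p : Σ U : C, (freeU O U ⟶ M) => freeU O p.1

noncomputable def freeCoverπ (M : Mod O) : freeCover O M ⟶ M :=
  Sigma.desc fun p => p.2

theorem tensorMono_freeCover (M : Mod O) : TensorMono (freeCover O M) :=
  tensorMono_sigma _ fun _ => tensorMono_freeU _

theorem eq_zero_of_freeU_comp {M N : Mod O} (f : M ⟶ N)
    (h : ∀ (U : C) (g : freeU O U ⟶ M), g ≫ f = 0) : f = 0 := by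
  refine SheafOfModules.hom_ext ?_
  refine PresheafOfModules.hom_ext fun V => ?_
  ext m
  obtain ⟨g, rfl⟩ := (freeUEquiv V.unop M).surjective m
  refine (freeUEquiv_comp V.unop g f).symm.trans ((congrArg _ (h _ g)).trans ?_)
  have := freeUEquiv_comp V.unop g (0 : M ⟶ N)
  rw [comp_zero] at this
  exact this.trans rfl

instance epi_freeCoverπ (M : Mod O) : Epi (freeCoverπ O M) :=
  Preadditive.epi_of_cancel_zero _ fun f hf => eq_zero_of_freeU_comp O f fun U g => by
    have : g = Sigma.ι (fun p : Σ U : C, (freeU O U ⟶ M) => freeU O p.1) ⟨U, g⟩ ≫ freeCoverπ O M :=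
      (Sigma.ι_desc (f := fun p : Σ U : C, (freeU O U ⟶ M) => freeU O p.1)
        (fun p => p.2) ⟨U, g⟩).symm
    rw [this, Category.assoc, hf, comp_zero]

end Groth.Agent.KFlat
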