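import Groth.Agent.KFlat.RPush

/-!
# Derived global sections on weakly K-injective complexes
-/

set_option autoImplicit false

universe u

open CategoryTheory CategoryTheory.Limits AlgebraicGeometry
open Groth.Agent.DTrunc Groth.Agent.KFlat.WeakKInj Groth.Agent.KFlat.RPush

attribute [local instance] HasDerivedCategory.standard

namespace Groth.Agent.KFlat.RGamma

variable (X : Scheme.{u})

/-- Termwise global sections. -/
noncomputable abbrev gammaCx : CochainComplex X.Modules ℤ ⥤ CochainComplex AddCommGrpCat.{u} ℤ :=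
  (DCoh.gammaAb X).mapHomologicalComplex (ComplexShape.up ℤ)

/-- The functor on complexes to derive. -/
noncomputable abbrev gammaQ : CochainComplex X.Modules ℤ ⥤ DerivedCategory AddCommGrpCat.{u} :=
  gammaCx X ⋙ DerivedCategory.Q

/-- The free module on `⊤`. -/
noncomputable def freeTop : X.Modules := Groth.Agent.KFlat.freeU X.sheaf (⊤ : X.Opens)

variable {X}

/-- Maps out of the free module on `⊤` are the global sections. -/
noncomputable def topEquiv (M : X.Modules) :
    (freeTop X ⟶ M) ≃ (DCoh.gammaAb X).obj M :=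
  Groth.Agent.KFlat.freeUEquiv (O := X.sheaf) (⊤ : X.Opens) M

theorem topEquiv_comp {M N : X.Modules} (g : Groth.Agent.KFlat.freeU X.sheaf (⊤ : X.Opens) ⟶ M) (φ : M ⟶ N) :
    topEquiv N (g ≫ φ) = (DCoh.gammaAb X).map φ (topEquiv M g) :=
  Groth.Agent.KFlat.freeUEquiv_comp (O := X.sheaf) (⊤ : X.Opens) g φ

theorem topEquiv_zero (N : X.Modules) : topEquiv N 0 = 0 := by
  have h := topEquiv_comp (0 : Groth.Agent.KFlat.freeU X.sheaf (⊤ : X.Opens) ⟶ N) (0 : N ⟶ N)
  exact ((congrArg (topEquiv N) comp_zero).symm.trans h).trans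
    (by rw [Functor.map_zero]; rfl)

theorem isKFlat_single_freeTop (n : ℤ) :
    DCoh.IsKFlat ((HomologicalComplex.single X.Modules (ComplexShape.up ℤ) n).obj
      (freeTop X)) :=
  Groth.Agent.KFlat.isKFlat_single (O := X.sheaf) (Groth.Agent.KFlat.tensorMono_freeU _) n

/-- Global sections of an acyclic weakly K-injective complex form an acyclic complex. -/
theorem acyclic_gamma {C : CochainComplex X.Modules ℤ} (h : IsWeaklyKInjective C) (hC : C.Acyclic) :
    HomologicalComplex.Acyclic ((gammaCx X).obj C) := by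
  intro i
  rw [HomologicalComplex.exactAt_iff' _ (i - 1) i (i + 1) (by simp) (by simp), ShortComplex.ab_exact_iff]
  intro z hz
  let g := (topEquiv (C.X i)).symm z
  have hg : g ≫ C.d i (i + 1) = 0 := by
    apply (topEquiv (C.X (i + 1))).injective
    rw [topEquiv_comp, Equiv.apply_symm_apply]
    exact (hz : (DCoh.gammaAb X).map (C.d i (i + 1)) z = 0).trans (topEquiv_zero _).symm
  let φ : (HomologicalComplex.single X.Modules (ComplexShape.up ℤ) i).obj
      (freeTop X) ⟶ C :=
    HomologicalComplex.mkHomFromSingle g (fun k hk => by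
      obtain rfl : i + 1 = k := hk
      exact hg)
  obtain ⟨k⟩ := null_of_acyclic h hC (isKFlat_single_freeTop i) φ
  have hk := k.comm i
  have h0 : φ.f i = k.hom i (i - 1) ≫ C.d (i - 1) i := by
    rw [hk, HomologicalComplex.zero_f, add_zero, dNext_eq _ (show (ComplexShape.up ℤ).Rel i (i + 1) from rfl),
      prevD_eq _ (show (ComplexShape.up ℤ).Rel (i - 1) i from sub_add_cancel i 1),
      HomologicalComplex.single_obj_d, zero_comp, zero_add]
  refine ⟨topEquiv _ ((HomologicalComplex.singleObjXSelf (ComplexShape.up ℤ) i _).inv ≫ k.hom i (i - 1)), ?_⟩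
  refine (topEquiv_comp _ _).symm.trans ?_
  refine (congrArg (topEquiv (C.X i))
    ((Category.assoc _ _ _).trans (congrArg (_ ≫ ·) h0.symm))).trans ?_
  refine (congrArg (topEquiv (C.X i)) ((congrArg (_ ≫ ·) (HomologicalComplex.mkHomFromSingle_f _ _)).trans
    (Iso.inv_hom_id_assoc _ _))).trans ?_
  exact (topEquiv (C.X i)).apply_symm_apply z

/-- Global sections preserve quasi-isomorphisms between weakly K-injective complexes. -/
theorem quasiIso_gamma {A B : CochainComplex X.Modules ℤ} (s : A ⟶ B) [QuasiIso s]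
    (hA : IsWeaklyKInjective A) (hB : IsWeaklyKInjective B) : QuasiIso ((gammaCx X).map s) :=
  quasiIso_of_acyclic_mappingCone _ (@Groth.Agent.KFlat.acyclic_of_quasiIso_left _ _ _ _ _
    (CochainComplex.mappingCone.mapHomologicalComplexIso s (DCoh.gammaAb X)).hom inferInstance
    (acyclic_gamma (cone s hA hB) (acyclic_mappingCone_of_quasiIso s)))

variable (X)

/-- `q ⋙ gammaKh` in terms of complexes. -/
noncomputable def gammaKhIso :
    HomotopyCategory.quotient X.Modules (ComplexShape.up ℤ) ⋙ DCoh.gammaKh X ≅ gammaQ X :=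
  (Functor.associator _ _ _).symm ≪≫
    Functor.isoWhiskerRight ((DCoh.gammaAb X).mapHomotopyCategoryFactors (ComplexShape.up ℤ))
      DerivedCategory.Qh ≪≫
    Functor.associator _ _ _ ≪≫ Functor.isoWhiskerLeft _ (DerivedCategory.quotientCompQhIso AddCommGrpCat.{u})

theorem hasRΓ : DCoh.HasRΓ X :=
  (RightDerived.hasEnough (DCoh.gammaKh X)).hasRightDerivedFunctor
    (HomotopyCategory.quasiIso X.Modules (ComplexShape.up ℤ))

variable [DCoh.HasRΓ X]

/-- The canonical map from the termwise to the derived global sections. -/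
noncomputable def toRΓ : gammaQ X ⟶ DerivedCategory.Q ⋙ DCoh.RΓ X :=
  (gammaKhIso X).inv ≫
    Functor.whiskerLeft _ ((DCoh.gammaKh X).totalRightDerivedUnit DerivedCategory.Qh
      (HomotopyCategory.quasiIso X.Modules (ComplexShape.up ℤ))) ≫
    (Functor.associator _ _ _).inv ≫
    Functor.whiskerRight (DerivedCategory.quotientCompQhIso X.Modules).hom (DCoh.RΓ X)

/-- Derived global sections of a K-injective complex are the termwise ones. -/
theorem isIso_toRΓ (I : CochainComplex X.Modules ℤ) [I.IsKInjective] : IsIso ((toRΓ X).app I) := by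
  let W := HomotopyCategory.quasiIso X.Modules (ComplexShape.up ℤ)
  let u := (DCoh.gammaKh X).totalRightDerivedUnit DerivedCategory.Qh W
  let q := HomotopyCategory.quotient X.Modules (ComplexShape.up ℤ)
  have : IsIso (u.app (q.obj I)) :=
    RightDerived.HasEnough.isIso_app (W := W) (DCoh.RΓ X) u (RightDerived.hasEnough (DCoh.gammaKh X))
      (RightDerived.isGood_quotient (DCoh.gammaKh X) I)
  have e : (toRΓ X).app I = (gammaKhIso X).inv.app I ≫ u.app (q.obj I) ≫
      (DCoh.RΓ X).map ((DerivedCategory.quotientCompQhIso X.Modules).hom.app I) := by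
    simp [toRΓ, u, W, q]
  rw [e]
  infer_instance

/-- Derived global sections of a weakly K-injective complex are the termwise ones. -/
theorem isIso_toRΓ_of_weak {A : CochainComplex X.Modules ℤ} (hA : IsWeaklyKInjective A) :
    IsIso ((toRΓ X).app A) := by
  let s := (injι X).app A
  have h₁ : IsIso ((toRΓ X).app ((injRes X).obj A)) := isIso_toRΓ X _
  have hq : QuasiIso ((gammaCx X).map s) := quasiIso_gamma s hA (WeakKInj.of_isKInjective _)
  have h₂ : IsIso ((gammaQ X).map s) := inferInstanceAs (IsIso (DerivedCategory.Q.map ((gammaCx X).map s)))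
  have h₃ : IsIso ((DerivedCategory.Q ⋙ DCoh.RΓ X).map s) :=
    inferInstanceAs (IsIso ((DCoh.RΓ X).map (DerivedCategory.Q.map s)))
  have : IsIso ((toRΓ X).app A ≫ (DerivedCategory.Q ⋙ DCoh.RΓ X).map s) := by
    refine (congrArg (fun φ => IsIso φ) ((toRΓ X).naturality s)).mp ?_
    exact IsIso.comp_isIso' h₂ h₁
  exact IsIso.of_isIso_comp_right ((toRΓ X).app A) ((DerivedCategory.Q ⋙ DCoh.RΓ X).map s)

variable {X} in
/-- A functor to complexes with weakly K-injective values composed with derived global sections. -/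
noncomputable def gammaIso {C : Type*} [Category C] (G : C ⥤ CochainComplex X.Modules ℤ)
    (hG : ∀ c, IsWeaklyKInjective (G.obj c)) : G ⋙ gammaQ X ≅ G ⋙ DerivedCategory.Q ⋙ DCoh.RΓ X :=
  have : IsIso (Functor.whiskerLeft G (toRΓ X)) :=
    have : ∀ c, IsIso ((Functor.whiskerLeft G (toRΓ X)).app c) := fun c => isIso_toRΓ_of_weak X (hG c)
    NatIso.isIso_of_isIso_app _
  asIso (Functor.whiskerLeft G (toRΓ X))

/-- Derived global sections are computed by resolutions. -/
noncomputable def rΓIso : DerivedCategory.Q ⋙ DCoh.RΓ X ≅ injRes X ⋙ gammaQ X :=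
  Functor.isoWhiskerRight (injQIso (X := X)).symm _ ≪≫ Functor.associator _ _ _ ≪≫
    (gammaIso (injRes X) fun _ => WeakKInj.of_isKInjective _).symm

end Groth.Agent.KFlat.RGamma
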