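import Groth.Agent.KFlat.TruncHom
import Groth.Agent.KFlat.Flat
import Groth.Agent.KFlat.RGamma
import Groth.Agent.CohAff.AffineCech
import Groth.Agent.CohTop.CechBasic
import Groth.Agent.ModShf.Flasque
import Groth.Agent.ModShf.ToSheaf
import Mathlib.Algebra.Homology.DerivedCategory.ShortExact
import Mathlib.Algebra.Homology.HomotopyCategory.KInjective
import Mathlib.Algebra.Homology.DerivedCategory.KInjective

/-!
# Higher `Ext`s from free modules on affine opens to quasi-coherent modules vanish
-/

set_option autoImplicit false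

universe u

open CategoryTheory Limits Pretriangulated AlgebraicGeometry DerivedCategory TopologicalSpace
open Opposite (op)
open Groth.Agent.KFlat.TruncHom Groth.Agent.CohAff

attribute [local instance] HasDerivedCategory.standard

namespace Groth.Agent.KFlat.QCohAcy

section Abstract

variable {A : Type*} [Category A] [Abelian A] [HasDerivedCategory A]

/-- A single object of the cochain complexes in the derived category. -/
noncomputable def singleQIso (b : ℤ) (Y : A) :
    (singleFunctor A b).obj Y ≅ Q.obj ((HomologicalComplex.single A (ComplexShape.up ℤ) b).obj Y) :=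
  ((SingleFunctors.evaluation _ _ b).mapIso (singleFunctorsPostcompQIso A)).app Y

/-- Maps to a single injective object in another degree vanish. -/
theorem eq_zero_of_injective {P I : A} [Injective I] {a b : ℤ} (hab : a ≠ b)
    (f : (singleFunctor A a).obj P ⟶ (singleFunctor A b).obj I) : f = 0 := by
  let L : CochainComplex A ℤ := (HomologicalComplex.single A (ComplexShape.up ℤ) b).obj I
  have : ∀ n, Injective (L.X n) := fun n => by
    by_cases hn : n = b
    · subst hn
      exact Injective.of_iso (HomologicalComplex.singleObjXSelf (ComplexShape.up ℤ) n I).symm inferInstance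
    · exact (HomologicalComplex.isZero_single_obj_X (ComplexShape.up ℤ) b I n hn).injective
  have : L.IsKInjective := CochainComplex.isKInjective_of_injective L b
  let f' : Qh.obj ((HomotopyCategory.quotient A _).obj ((HomologicalComplex.single A (ComplexShape.up ℤ) a).obj P)) ⟶
      Qh.obj ((HomotopyCategory.quotient A _).obj L) :=
    (quotientCompQhIso A).hom.app _ ≫ (singleQIso a P).inv ≫ f ≫ (singleQIso b I).hom ≫
      (quotientCompQhIso A).inv.app _
  obtain ⟨g, hg⟩ := (CochainComplex.IsKInjective.Qh_map_bijective _ L).2 f'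
  obtain ⟨g', rfl⟩ := (HomotopyCategory.quotient A (ComplexShape.up ℤ)).map_surjective g
  have hg' : g' = 0 := by
    refine HomologicalComplex.from_single_hom_ext ?_
    exact (HomologicalComplex.isZero_single_obj_X (ComplexShape.up ℤ) b I a hab).eq_of_tgt _ _
  have h0 : f' = 0 := by
    rw [← hg, hg', Functor.map_zero, Functor.map_zero]
  have h1 := zero_of_epi_comp ((quotientCompQhIso A).hom.app _) h0
  have h2 := zero_of_epi_comp ((singleQIso a P).inv) h1
  have h3 := zero_of_comp_mono ((quotientCompQhIso A).inv.app _) ((Category.assoc _ _ _).trans h2)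
  exact zero_of_comp_mono ((singleQIso b I).hom) h3

/-- Dimension shifting: a class of objects embedding into injectives with cokernels in the class,
whose extensions lift maps from `P`, has no higher `Ext` from `P`. -/
theorem acy_of_class (P : A) (C : A → Prop)
    (hC : ∀ M, C M → ∃ S : ShortComplex A, S.ShortExact ∧ Injective S.X₂ ∧ S.X₁ = M ∧ C S.X₃ ∧
      ∀ γ : P ⟶ S.X₃, ∃ γ', γ' ≫ S.g = γ)
    {M : A} (hM : C M) : Acy P M := by
  suffices H : ∀ (d : ℕ) (M : A), C M → ∀ (b : ℤ) (f : (singleFunctor A (b + (d + 1 : ℕ))).obj P ⟶ (singleFunctor A b).obj M), f = 0 by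
    intro a b hab f
    obtain ⟨d, rfl⟩ : ∃ d : ℕ, a = b + (d + 1 : ℕ) := ⟨(a - b - 1).toNat, by lia⟩
    exact H d M hM b f
  intro d
  induction d with
  | zero =>
    intro M hM b f
    obtain ⟨S, hS, hI, rfl, -, hlift⟩ := hC M hM
    let T := triangleOfSES (hS.map_of_exact (HomologicalComplex.single A (ComplexShape.up ℤ) b))
    have hT : T ∈ distinguishedTriangles := triangleOfSES_distinguished _
    let a : ℤ := b + (0 + 1 : ℕ)
    let f₀ : (singleFunctor A a).obj P ⟶ T.obj₁ := f ≫ (singleQIso b S.X₁).hom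
    have h1 : f₀ ≫ T.mor₁ = 0 := by
      have := eq_zero_of_injective (I := S.X₂) (a := a) (b := b) (by simp [a])
        ((f₀ ≫ T.mor₁) ≫ (singleQIso b S.X₂).inv)
      exact (cancel_mono (singleQIso b S.X₂).inv).1 (this.trans zero_comp.symm)
    obtain ⟨g, hg⟩ := Triangle.coyoneda_exact₁ T hT (f₀⟦(1 : ℤ)⟧')
      (((shiftFunctor (DerivedCategory A) (1 : ℤ)).map_comp f₀ T.mor₁).symm.trans
        ((congrArg _ h1).trans (Functor.map_zero _ _ _)))
    let e : ((singleFunctor A a).obj P)⟦(1 : ℤ)⟧ ≅ (singleFunctor A b).obj P :=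
      ((DerivedCategory.singleFunctors A).shiftIso 1 b a (by simp [a]; lia)).app P
    obtain ⟨γ, hγ⟩ := (singleFunctor A b).map_surjective (e.inv ≫ g ≫ (singleQIso b S.X₃).inv)
    obtain ⟨γ', rfl⟩ := hlift γ
    have hnat : (singleFunctor A b).map S.g ≫ (singleQIso b S.X₃).hom =
        (singleQIso b S.X₂).hom ≫ T.mor₂ :=
      ((SingleFunctors.evaluation _ _ b).mapIso (singleFunctorsPostcompQIso A)).hom.naturality S.g
    have hg0 : e.inv ≫ g ≫ T.mor₃ = 0 := by
      have he : e.inv ≫ g = ((singleFunctor A b).map γ' ≫ (singleQIso b S.X₂).hom) ≫ T.mor₂ := by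
        refine Eq.trans ?_ (Category.assoc _ _ _).symm
        refine Eq.trans ?_ (congrArg ((singleFunctor A b).map γ' ≫ ·) hnat)
        refine Eq.trans ?_ (Category.assoc _ _ _)
        refine Eq.trans ?_ (congrArg (· ≫ (singleQIso b S.X₃).hom) (hγ.symm.trans (Functor.map_comp _ _ _)))
        simp only [Category.assoc]
        exact (congrArg (e.inv ≫ ·) ((congrArg (g ≫ ·) (singleQIso b S.X₃).inv_hom_id).trans (Category.comp_id g))).symm
      refine (Category.assoc _ _ _).symm.trans ((congrArg (· ≫ T.mor₃) he).trans ?_)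
      refine (Category.assoc _ _ _).trans ?_
      exact (congrArg (_ ≫ ·) (comp_distTriang_mor_zero₂₃ T hT)).trans comp_zero
    have hf₀ : f₀ = 0 := by
      apply (shiftFunctor (DerivedCategory A) (1 : ℤ)).map_injective
      rw [Functor.map_zero, ← cancel_epi e.inv, comp_zero]
      exact (congrArg (e.inv ≫ ·) hg).trans hg0
    exact (cancel_mono (singleQIso b S.X₁).hom).1 (hf₀.trans zero_comp.symm)
  | succ d ih =>
    intro M hM b f
    obtain ⟨S, hS, hI, rfl, hQ, -⟩ := hC M hM
    let T := triangleOfSES (hS.map_of_exact (HomologicalComplex.single A (ComplexShape.up ℤ) b))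
    have hT : T ∈ distinguishedTriangles := triangleOfSES_distinguished _
    let a : ℤ := b + (d + 1 + 1 : ℕ)
    let f₀ : (singleFunctor A a).obj P ⟶ T.obj₁ := f ≫ (singleQIso b S.X₁).hom
    have h1 : f₀ ≫ T.mor₁ = 0 := by
      have := eq_zero_of_injective (I := S.X₂) (a := a) (b := b) (by simp [a]; lia)
        ((f₀ ≫ T.mor₁) ≫ (singleQIso b S.X₂).inv)
      exact (cancel_mono (singleQIso b S.X₂).inv).1 (this.trans zero_comp.symm)
    obtain ⟨g, hg⟩ := Triangle.coyoneda_exact₁ T hT (f₀⟦(1 : ℤ)⟧')
      (((shiftFunctor (DerivedCategory A) (1 : ℤ)).map_comp f₀ T.mor₁).symm.trans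
        ((congrArg _ h1).trans (Functor.map_zero _ _ _)))
    let e : ((singleFunctor A a).obj P)⟦(1 : ℤ)⟧ ≅ (singleFunctor A (b + (d + 1 : ℕ))).obj P :=
      ((DerivedCategory.singleFunctors A).shiftIso 1 (b + (d + 1 : ℕ)) a (by simp [a]; lia)).app P
    have hg0 : g = 0 := by
      have := ih S.X₃ hQ b (e.inv ≫ g ≫ (singleQIso b S.X₃).inv)
      simpa [Preadditive.IsIso.comp_left_eq_zero, Preadditive.IsIso.comp_right_eq_zero] using this
    have hf₀ : f₀ = 0 := by
      apply (shiftFunctor (DerivedCategory A) (1 : ℤ)).map_injective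
      rw [Functor.map_zero]
      exact hg.trans ((congrArg (· ≫ T.mor₃) hg0).trans zero_comp)
    exact (cancel_mono (singleQIso b S.X₁).hom).1 (hf₀.trans zero_comp.symm)

end Abstract

variable {X : Scheme.{u}}

/-- Čech acyclicity is closed under extensions. -/
theorem good_ext {Y : TopCat.{u}} {C : CovSys Y} {S : ShortComplex (AbSh Y)} (hS : S.ShortExact)
    (h₁ : C.Good S.X₁) (h₃ : C.Good S.X₃) : C.Good S.X₂ := by
  intro U ι V hV n s hs
  obtain ⟨q, hq⟩ := h₃ U ι V hV n (cmap S.g.hom V (n + 1) s) (by rw [cd_cmap, hs, map_zero])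
  choose t ht using fun x => h₁.sec_surjective hS (C.inter_mem hV x) (q x)
  have ht' : cmap S.g.hom V n t = q := funext ht
  obtain ⟨c, hc⟩ := exists_cmap_f hS (s := s - cd S.X₂.obj V n t)
    (show cmap S.g.hom V (n + 1) _ = 0 by rw [map_sub, ← cd_cmap, ht', hq, sub_self])
  obtain ⟨b, hb⟩ := h₁ U ι V hV n c (cmap_f_injective hS V (n + 2)
    (by rw [← cd_cmap, hc, map_sub, hs, cd_cd, sub_self, map_zero]))
  exact ⟨t + cmap S.f.hom V n b, by rw [map_add, cd_cmap, hb, hc, add_sub_cancel]⟩

/-- Čech acyclicity on affine opens of a module. -/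
def Good (M : X.Modules) : Prop := (affCov X).Good (Coh.toAb M)

theorem good_of_qcoh (M : X.Modules) (h : M.IsQuasicoherent) : Good M :=
  @Groth.Agent.CohAff.good_affCov X M h

theorem good_of_injective (M : X.Modules) (h : Injective M) : Good M := fun _ _ι V _ n =>
  @Groth.Agent.CohTop.CechBasic.flasque_cechExact _ _ n (Coh.toAb M)
    (Groth.Agent.ModShf.isFlasque_toAb_of_injective M h) V

theorem shortExact_toAb {S : ShortComplex X.Modules} (hS : S.ShortExact) :
    (S.map (Groth.Agent.ModShf.toAbFunctor X)).ShortExact :=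
  hS.map_of_exact _

/-- Sections over an affine open are right exact when the kernel is acyclic. -/
theorem app_surjective_of_good {S : ShortComplex X.Modules} (hS : S.ShortExact) (h₁ : Good S.X₁)
    {U : X.Opens} (hU : IsAffineOpen U) : Function.Surjective (S.g.app U) :=
  CovSys.Good.sec_surjective (C := affCov X) (shortExact_toAb hS) h₁ hU

theorem good_quot {S : ShortComplex X.Modules} (hS : S.ShortExact) (h₁ : Good S.X₁) (h₂ : Good S.X₂) :
    Good S.X₃ :=
  CovSys.Good.quot (C := affCov X) (shortExact_toAb hS) h₁ h₂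

theorem exists_embedding (M : X.Modules) (hM : Good M) : ∃ S : ShortComplex X.Modules,
    S.ShortExact ∧ Injective S.X₂ ∧ S.X₁ = M ∧ Good S.X₃ := by
  let S := ShortComplex.mk (Injective.ι M) (cokernel.π (Injective.ι M)) (cokernel.condition _)
  have hS : S.ShortExact :=
    { exact := ShortComplex.exact_of_g_is_cokernel _ (cokernelIsCokernel _)
      mono_f := inferInstanceAs (Mono (Injective.ι M))
      epi_g := inferInstanceAs (Epi (cokernel.π _)) }
  exact ⟨S, hS, inferInstanceAs (Injective (Injective.under M)), rfl,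
    good_quot hS hM (good_of_injective _ inferInstance)⟩

/-- The free module on an open, in `X.Modules`. -/
noncomputable def free (U : X.Opens) : X.Modules := Groth.Agent.KFlat.freeU X.sheaf U

theorem acy_free {U : X.Opens} (hU : IsAffineOpen U) {M : X.Modules} (hM : Good M) : Acy (free U) M := by
  refine acy_of_class (free U) Good (fun M hM => ?_) hM
  obtain ⟨S, hS, hI, h₁, h₃⟩ := exists_embedding M hM
  refine ⟨S, hS, hI, h₁, h₃, fun γ => ?_⟩
  obtain ⟨s, hs⟩ := app_surjective_of_good hS (h₁ ▸ hM) hU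
    (Groth.Agent.KFlat.freeUEquiv (O := X.sheaf) U S.X₃ γ)
  refine ⟨(Groth.Agent.KFlat.freeUEquiv (O := X.sheaf) U S.X₂).symm s,
    (Groth.Agent.KFlat.freeUEquiv (O := X.sheaf) U S.X₃).injective ?_⟩
  refine (Groth.Agent.KFlat.freeUEquiv_comp (O := X.sheaf) U _ S.g).trans ?_
  rw [Equiv.apply_symm_apply]
  exact hs

theorem freeEquiv_zero (U : X.Opens) (N : X.Modules) :
    Groth.Agent.KFlat.freeUEquiv (O := X.sheaf) U N (0 : free U ⟶ N) = 0 := by
  have h := Groth.Agent.KFlat.freeUEquiv_comp (O := X.sheaf) U (0 : free U ⟶ N) (0 : N ⟶ N)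
  exact ((congrArg _ comp_zero).symm.trans h).trans rfl

/-- The free modules on affine opens separate maps. -/
theorem eq_zero_of_free_comp {M N : X.Modules} (f : M ⟶ N)
    (h : ∀ (U : X.affineOpens) (g : free U.1 ⟶ M), g ≫ f = 0) : f = 0 := by
  refine Groth.Agent.KFlat.eq_zero_of_freeU_comp X.sheaf f fun U g => ?_
  apply (Groth.Agent.KFlat.freeUEquiv (O := X.sheaf) U N).injective
  rw [Groth.Agent.KFlat.freeUEquiv_comp]
  let s := Groth.Agent.KFlat.freeUEquiv (O := X.sheaf) U M g
  have key : f.app U s = 0 := by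
    refine TopCat.Sheaf.eq_of_locally_eq' (Coh.toAb N) (fun V : {V : X.affineOpens // V.1 ≤ U} => V.1.1) U
      (fun V => homOfLE V.2) (fun x hx => ?_) _ _ (fun V => ?_)
    · obtain ⟨V, hV, hxV, hVU⟩ := Opens.isBasis_iff_nbhd.1 X.isBasis_affineOpens hx
      exact Opens.mem_iSup.2 ⟨⟨⟨V, hV⟩, hVU⟩, hxV⟩
    · refine (NatTrans.naturality_apply f.mapPresheaf (homOfLE V.2).op s).symm.trans ?_
      refine Eq.trans ?_ (map_zero _).symm
      let t := M.presheaf.map (homOfLE V.2).op s
      have h0 := h V.1 ((Groth.Agent.KFlat.freeUEquiv (O := X.sheaf) V.1.1 M).symm t)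
      have h1 := Groth.Agent.KFlat.freeUEquiv_comp (O := X.sheaf) V.1.1
        ((Groth.Agent.KFlat.freeUEquiv (O := X.sheaf) V.1.1 M).symm t) f
      rw [Equiv.apply_symm_apply] at h1
      exact h1.symm.trans ((congrArg _ h0).trans (freeEquiv_zero V.1.1 N))
  exact key.trans (freeEquiv_zero U N).symm

end Groth.Agent.KFlat.QCohAcy
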