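import Mathlib.Algebra.Homology.DerivedCategory.ExactFunctor
import Mathlib.Algebra.Homology.DerivedCategory.FullyFaithful
import Mathlib.Algebra.Homology.ShortComplex.PreservesHomology

/-!
# The cohomology of the derived functor of an exact functor
-/

set_option autoImplicit false

open CategoryTheory Limits DerivedCategory

namespace Groth.Agent.KFlat.MapHomology

variable {A B : Type*} [Category A] [Category B] [Abelian A] [Abelian B]
  (F : A ⥤ B) [F.Additive] [PreservesFiniteLimits F] [PreservesFiniteColimits F]

/-- Cohomology of complexes commutes with an exact functor. -/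
noncomputable def cxIso (m : ℤ) :
    F.mapHomologicalComplex (ComplexShape.up ℤ) ⋙ HomologicalComplex.homologyFunctor B (ComplexShape.up ℤ) m ≅
      HomologicalComplex.homologyFunctor A (ComplexShape.up ℤ) m ⋙ F :=
  NatIso.ofComponents (fun K => (K.sc m).mapHomologyIso F) fun {K L} φ =>
    ShortComplex.mapHomologyIso_hom_naturality
      ((HomologicalComplex.shortComplexFunctor A (ComplexShape.up ℤ) m).map φ) F

variable [HasDerivedCategory A] [HasDerivedCategory B]

/-- Cohomology commutes with the derived functor of an exact functor. -/
noncomputable def iso (m : ℤ) :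
    F.mapDerivedCategory ⋙ DerivedCategory.homologyFunctor B m ≅
      DerivedCategory.homologyFunctor A m ⋙ F :=
  Localization.liftNatIso DerivedCategory.Q (HomologicalComplex.quasiIso A (ComplexShape.up ℤ))
    (DerivedCategory.Q ⋙ F.mapDerivedCategory ⋙ DerivedCategory.homologyFunctor B m)
    (DerivedCategory.Q ⋙ DerivedCategory.homologyFunctor A m ⋙ F) _ _
    ((Functor.associator _ _ _).symm ≪≫ Functor.isoWhiskerRight F.mapDerivedCategoryFactors _ ≪≫
      Functor.associator _ _ _ ≪≫ Functor.isoWhiskerLeft _ (homologyFunctorFactors B m) ≪≫ cxIso F m ≪≫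
      Functor.isoWhiskerRight (homologyFunctorFactors A m).symm F ≪≫ Functor.associator _ _ _)

end Groth.Agent.KFlat.MapHomology
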