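import Groth.Agent.KFlat.Shift
import Mathlib.CategoryTheory.Functor.OfSequence
import Mathlib.Algebra.Homology.Embedding.CochainComplex

/-!
# Brutal truncations, and bounded above complexes of flat modules are K-flat
-/

set_option autoImplicit false

universe v u

open CategoryTheory CategoryTheory.Limits Opposite ZeroObject

namespace Groth.Agent.KFlat

section Abelian

variable {A : Type u} [Category.{v} A] [Abelian A] (K : CochainComplex A ℤ)

/-- The terms of the brutal truncation. -/
noncomputable def geX (m q : ℤ) : A := if m ≤ q then K.X q else 0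

/-- The inclusion of a term of the brutal truncation. -/
noncomputable def geι (m q : ℤ) : geX K m q ⟶ K.X q :=
  if h : m ≤ q then eqToHom (if_pos h) else 0

/-- The projection on a term of the brutal truncation. -/
noncomputable def geπ (m q : ℤ) : K.X q ⟶ geX K m q :=
  if h : m ≤ q then eqToHom (if_pos h).symm else 0

theorem isZero_geX {m q : ℤ} (h : q < m) : IsZero (geX K m q) := by
  rw [geX, if_neg (by omega)]
  exact isZero_zero A

theorem geπ_ι {m q : ℤ} (h : m ≤ q) : geπ K m q ≫ geι K m q = 𝟙 _ := by
  simp [geπ, geι, dif_pos h]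

@[simp]
theorem geι_π (m q : ℤ) : geι K m q ≫ geπ K m q = 𝟙 _ := by
  by_cases h : m ≤ q
  · simp [geπ, geι, dif_pos h]
  · exact (isZero_geX K (by omega)).eq_of_src _ _

theorem geι_eq_zero {m q : ℤ} (h : q < m) : geι K m q = 0 := (isZero_geX K h).eq_of_src _ _

theorem geι_d_π_ι (m i j : ℤ) :
    geι K m i ≫ K.d i j ≫ geπ K m j ≫ geι K m j = geι K m i ≫ K.d i j := by
  by_cases hij : i + 1 = j
  · by_cases h : m ≤ j
    · rw [geπ_ι K h, Category.comp_id]
    · rw [geι_eq_zero K (show i < m by omega), zero_comp, zero_comp]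
  · rw [K.shape i j hij, zero_comp, comp_zero]

/-- The brutal truncation in degrees `≥ m`. -/
noncomputable def ge (m : ℤ) : CochainComplex A ℤ where
  X := geX K m
  d i j := geι K m i ≫ K.d i j ≫ geπ K m j
  shape i j h := by rw [K.shape i j h, zero_comp, comp_zero]
  d_comp_d' i j k _ _ := by
    calc (geι K m i ≫ K.d i j ≫ geπ K m j) ≫ geι K m j ≫ K.d j k ≫ geπ K m k
        = (geι K m i ≫ K.d i j ≫ geπ K m j ≫ geι K m j) ≫ K.d j k ≫ geπ K m k := by simp
      _ = (geι K m i ≫ K.d i j) ≫ K.d j k ≫ geπ K m k := by rw [geι_d_π_ι]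
      _ = 0 := by simp

theorem isZero_ge_X {m q : ℤ} (h : q < m) : IsZero ((ge K m).X q) := isZero_geX K h

/-- The inclusion of the brutal truncation. -/
noncomputable def geToSelf (m : ℤ) : ge K m ⟶ K where
  f := geι K m
  comm' i j _ := by
    change geι K m i ≫ K.d i j = (geι K m i ≫ K.d i j ≫ geπ K m j) ≫ geι K m j
    rw [Category.assoc, Category.assoc, geι_d_π_ι]

/-- The maps between brutal truncations. -/
noncomputable def geMap (m m' : ℤ) (h : m' ≤ m) : ge K m ⟶ ge K m' where
  f q := geι K m q ≫ geπ K m' q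
  comm' i j hij := by
    change (geι K m i ≫ geπ K m' i) ≫ geι K m' i ≫ K.d i j ≫ geπ K m' j =
      (geι K m i ≫ K.d i j ≫ geπ K m j) ≫ geι K m j ≫ geπ K m' j
    have h₁ : (geι K m i ≫ K.d i j ≫ geπ K m j) ≫ geι K m j ≫ geπ K m' j =
        geι K m i ≫ K.d i j ≫ geπ K m' j := by
      have := congrArg (· ≫ geπ K m' j) (geι_d_π_ι K m i j)
      simpa using this
    rw [h₁]
    by_cases hi : m ≤ i
    · simp only [Category.assoc]
      rw [← Category.assoc (geπ K m' i), geπ_ι K (h.trans hi), Category.id_comp]
    · rw [geι_eq_zero K (show i < m by omega), zero_comp, zero_comp, zero_comp]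

theorem geMap_toSelf (m m' : ℤ) (h : m' ≤ m) : geMap K m m' h ≫ geToSelf K m' = geToSelf K m := by
  ext q
  change (geι K m q ≫ geπ K m' q) ≫ geι K m' q = geι K m q
  by_cases hq : m ≤ q
  · rw [Category.assoc, geπ_ι K (h.trans hq), Category.comp_id]
  · rw [geι_eq_zero K (show q < m by omega), zero_comp, zero_comp]

/-- The projection of a brutal truncation on its bottom term. -/
noncomputable def geBottom (m : ℤ) :
    ge K m ⟶ (HomologicalComplex.single A (ComplexShape.up ℤ) m).obj (K.X m) :=
  HomologicalComplex.mkHomToSingle (geι K m m) (fun i hi => (isZero_ge_X K (by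
    simp only [ComplexShape.up_Rel] at hi
    omega)).eq_of_src _ _)

theorem geMap_bottom (m : ℤ) : geMap K (m + 1) m (by omega) ≫ geBottom K m = 0 :=
  HomologicalComplex.to_single_hom_ext ((isZero_ge_X K (show m < m + 1 by omega)).eq_of_src _ _)

theorem geBottom_f (m : ℤ) : (geBottom K m).f m =
    geι K m m ≫ (HomologicalComplex.singleObjXSelf (ComplexShape.up ℤ) m (K.X m)).inv := by
  simp [geBottom, HomologicalComplex.mkHomToSingle_f]; rfl

/-- Consecutive brutal truncations and the bottom term. -/
noncomputable abbrev geSeq (m : ℤ) : ShortComplex (CochainComplex A ℤ) :=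
  ShortComplex.mk (geMap K (m + 1) m (by omega)) (geBottom K m) (geMap_bottom K m)

/-- `geSeq` is degreewise split. -/
noncomputable def geSplitting (m q : ℤ) :
    ((geSeq K m).map (HomologicalComplex.eval A (ComplexShape.up ℤ) q)).Splitting := by
  by_cases h : q = m
  · subst h
    exact
      { r := 0
        s := (HomologicalComplex.singleObjXSelf (ComplexShape.up ℤ) q (K.X q)).hom ≫ geπ K q q
        f_r := (isZero_ge_X K (show q < q + 1 by omega)).eq_of_src _ _
        s_g := by
          change (_ ≫ geπ K q q) ≫ (geBottom K q).f q = 𝟙 _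
          rw [geBottom_f, Category.assoc, ← Category.assoc (geπ K q q), geπ_ι K le_rfl, Category.id_comp,
            Iso.hom_inv_id]
        id := by
          refine (congrArg (· + _) zero_comp).trans ((zero_add _).trans ?_)
          change (geBottom K q).f q ≫ _ ≫ geπ K q q = 𝟙 (geX K q q)
          rw [geBottom_f]
          exact ((Category.assoc _ _ _).trans (congrArg (geι K q q ≫ ·) (Iso.inv_hom_id_assoc _ _))).trans
            (geι_π K q q) }
  · have hz := HomologicalComplex.isZero_single_obj_X (ComplexShape.up ℤ) m (K.X m) q h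
    exact
      { r := geι K m q ≫ geπ K (m + 1) q
        s := 0
        f_r := by
          change (geι K (m + 1) q ≫ geπ K m q) ≫ geι K m q ≫ geπ K (m + 1) q = 𝟙 (geX K (m + 1) q)
          by_cases hq : m + 1 ≤ q
          · rw [Category.assoc, ← Category.assoc (geπ K m q), geπ_ι K (by omega), Category.id_comp, geι_π]
          · exact (isZero_geX K (by omega)).eq_of_src _ _
        s_g := hz.eq_of_src _ _
        id := by
          refine (congrArg (_ + ·) comp_zero).trans ((add_zero _).trans ?_)
          change (geι K m q ≫ geπ K (m + 1) q) ≫ geι K (m + 1) q ≫ geπ K m q = 𝟙 (geX K m q)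
          by_cases hq : m + 1 ≤ q
          · rw [Category.assoc, ← Category.assoc (geπ K (m + 1) q), geπ_ι K hq, Category.id_comp, geι_π]
          · exact (isZero_geX K (by omega)).eq_of_src _ _ }

/-- The increasing sequence of brutal truncations. -/
noncomputable def geSequence (b : ℤ) : ℕ ⥤ CochainComplex A ℤ :=
  Functor.ofSequence (X := fun n => ge K (b - n)) fun n => geMap K (b - n) (b - (n + 1 : ℕ)) (by omega)

/-- The cocone of brutal truncations. -/
noncomputable def geCocone (b : ℤ) : Cocone (geSequence K b) where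
  pt := K
  ι := NatTrans.ofSequence (F := geSequence K b) (fun n => geToSelf K (b - n)) (fun n => by
    dsimp only [geSequence]
    rw [Functor.ofSequence_map_homOfLE_succ]
    exact (geMap_toSelf K _ _ _).trans (Category.comp_id _).symm)

/-- A cocone over a sequence whose coprojections are eventually isomorphisms is colimit. -/
noncomputable def isColimitOfEventuallyIso {F : ℕ ⥤ A} (c : Cocone F) (N : ℕ)
    (h : ∀ n, N ≤ n → IsIso (c.ι.app n)) : IsColimit c :=
  have := h N le_rfl
  { desc := fun s => inv (c.ι.app N) ≫ s.ι.app N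
    fac := fun s j => by
      have hM := h (max j N) (le_max_right _ _)
      have e₁ : inv (c.ι.app N) ≫ s.ι.app N = inv (c.ι.app (max j N)) ≫ s.ι.app (max j N) := by
        rw [IsIso.inv_comp_eq, ← c.w (homOfLE (le_max_right j N)), Category.assoc,
          IsIso.hom_inv_id_assoc, s.w]
      rw [e₁, ← c.w (homOfLE (le_max_left j N)), Category.assoc, IsIso.hom_inv_id_assoc, s.w]
    uniq := fun s m hm => by
      rw [IsIso.eq_inv_comp, hm] }

/-- A complex is the colimit of its brutal truncations. -/
noncomputable def isColimitGeCocone (b : ℤ) : IsColimit (geCocone K b) :=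
  HomologicalComplex.isColimitOfEval _ _ fun q =>
    isColimitOfEventuallyIso _ (b - q).toNat fun n hn => by
      have hq : b - (n : ℤ) ≤ q := by omega
      exact ⟨geπ K (b - n) q, geι_π K _ _, geπ_ι K hq⟩

end Abelian

section Mod

variable {C : Type u} [SmallCategory C] {J : GrothendieckTopology C} {O : Sheaf J CommRingCat.{u}}

open ModSite

theorem isKFlat_of_isZero {K : CochainComplex (Mod O) ℤ} (h : ∀ q, IsZero (K.X q)) : ModSite.IsKFlat K := by
  have hz : IsZero K := by
    rw [IsZero.iff_id_eq_zero]
    exact HomologicalComplex.hom_ext _ _ fun q => (h q).eq_of_src _ _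
  exact (isKFlat_iff _).2 fun L _ => acyclic_of_isZero (Functor.map_isZero ((tens O).obj L) hz)

theorem isKFlat_ge (K : CochainComplex (Mod O) ℤ) (b : ℤ) (hb : ∀ q, b < q → IsZero (K.X q))
    (hF : ∀ q, TensorMono (K.X q)) : ∀ n : ℕ, ModSite.IsKFlat (ge K (b + 1 - n))
  | 0 => isKFlat_of_isZero fun q => by
      change IsZero (if b + 1 - ((0 : ℕ) : ℤ) ≤ q then K.X q else 0)
      split_ifs with h
      · exact hb q (by omega)
      · exact isZero_zero _
  | n + 1 => by
      have e : b + 1 - (n : ℤ) = b + 1 - ((n + 1 : ℕ) : ℤ) + 1 := by omega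
      have h := isKFlat_ge K b hb hF n
      rw [e] at h
      exact isKFlat_middle (S := geSeq K (b + 1 - ((n + 1 : ℕ) : ℤ)))
        (fun L _ => shortExact_tens (geSplitting K _) L) h (isKFlat_single (hF _) _)

/-- A colimit of a sequence of K-flat complexes is K-flat. -/
theorem isKFlat_of_isColimit_nat {D : ℕ ⥤ CochainComplex (Mod O) ℤ} {c : Cocone D} (hc : IsColimit c)
    (h : ∀ n, ModSite.IsKFlat (D.obj n)) : ModSite.IsKFlat c.pt :=
  isKFlat_of_isColimit (D := (AsSmall.down.{0, 0, u} : AsSmall.{u} ℕ ⥤ ℕ) ⋙ D)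
    (c := c.whisker AsSmall.down.{0, 0, u})
    (hc.whiskerEquivalence (AsSmall.equiv.{0, 0, u} (C := ℕ)).symm) fun j => h (AsSmall.down.obj j)

theorem geSequence_obj (K : CochainComplex (Mod O) ℤ) (b : ℤ) (n : ℕ) :
    (geSequence K b).obj n = ge K (b - n) := rfl

theorem geCocone_pt (K : CochainComplex (Mod O) ℤ) (b : ℤ) : (geCocone K b).pt = K := rfl

set_option maxHeartbeats 400000 in
/-- Bounded above complexes with flat terms are K-flat. -/
theorem isKFlat_of_boundedAbove (K : CochainComplex (Mod O) ℤ) (b : ℤ) (hb : ∀ q, b < q → IsZero (K.X q))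
    (hF : ∀ q, TensorMono (K.X q)) : ModSite.IsKFlat K := by
  have h : ∀ n : ℕ, ModSite.IsKFlat ((geSequence K (b + 1)).obj n) := fun n => by
    rw [geSequence_obj]
    exact isKFlat_ge K b hb hF n
  have h₂ : ModSite.IsKFlat (geCocone K (b + 1)).pt :=
    isKFlat_of_isColimit_nat (c := geCocone K (b + 1)) (isColimitGeCocone K (b + 1)) h
  rw [geCocone_pt] at h₂
  exact h₂

end Mod

end Groth.Agent.KFlat
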