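import Groth.Agent.KFlat.TotMap
import Groth.Prelude.Def_KFlatSite
import Mathlib.Algebra.Category.ModuleCat.ChangeOfRings
import Mathlib.Algebra.Category.ModuleCat.Monoidal.Closed
import Mathlib.Algebra.Category.ModuleCat.Monoidal.Adjunction
import Mathlib.Algebra.Category.ModuleCat.Colimits
import Mathlib.Algebra.Homology.Monoidal
import Mathlib.Algebra.Homology.ShortComplex.ExactFunctor

/-!
# Base change preserves K-flat complexes of modules
-/

set_option autoImplicit false

universe u

open CategoryTheory CategoryTheory.Limits MonoidalCategory TensorProduct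

namespace Groth.Agent.KFlat.BaseChange

variable {A B : Type u} [CommRing A] [CommRing B] (φ : A →+* B)

/-- Tensoring over `B` with the base change. -/
noncomputable abbrev bcBi : ModuleCat.{u} B ⥤ ModuleCat.{u} A ⥤ ModuleCat.{u} B :=
  curriedTensor (ModuleCat.{u} B) ⋙
    (Functor.whiskeringLeft (ModuleCat.{u} A) (ModuleCat.{u} B) (ModuleCat.{u} B)).obj (ModuleCat.extendScalars.{u, u, u} φ)

instance : (ModuleCat.extendScalars.{u, u, u} φ).IsLeftAdjoint := (ModuleCat.extendRestrictScalarsAdj.{u, u, u} φ).isLeftAdjoint

instance : (ModuleCat.extendScalars.{u, u, u} φ).Additive := by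
  have := (ModuleCat.extendRestrictScalarsAdj.{u, u, u} φ).left_adjoint_additive
  exact this

instance : (bcBi φ).Additive where
  map_add {M M' f g} := NatTrans.ext (funext fun N =>
    MonoidalPreadditive.add_whiskerRight f g)

instance (M : ModuleCat.{u} B) : ((bcBi φ).obj M).Additive :=
  inferInstanceAs (ModuleCat.extendScalars.{u, u, u} φ ⋙ tensorLeft M).Additive

instance (L : CochainComplex (ModuleCat.{u} B) ℤ) (K : CochainComplex (ModuleCat.{u} A) ℤ) :
    HomologicalComplex.HasMapBifunctor L K (bcBi φ) (ComplexShape.up ℤ) := fun _ => inferInstance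

/-- The projection formula for modules. -/
noncomputable def projIso (M : ModuleCat.{u} B) (N : ModuleCat.{u} A) :
    (ModuleCat.restrictScalars φ).obj (M ⊗ (ModuleCat.extendScalars.{u, u, u} φ).obj N) ≅
      (ModuleCat.restrictScalars φ).obj M ⊗ N :=
  letI := φ.toAlgebra
  letI : Module A M := Module.compHom M φ
  haveI : IsScalarTower A B M := IsScalarTower.of_algebraMap_smul fun _ _ => rfl
  haveI : SMulCommClass A B M := ⟨fun a b m => smul_comm (φ a) b m⟩
  haveI : IsScalarTower A B (M ⊗[B] (B ⊗[A] N)) := inferInstance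
  LinearEquiv.toModuleIso
    ({ toFun := AlgebraTensorModule.cancelBaseChange A B B M N
       invFun := (AlgebraTensorModule.cancelBaseChange A B B M N).symm
       left_inv := (AlgebraTensorModule.cancelBaseChange A B B M N).left_inv
       right_inv := (AlgebraTensorModule.cancelBaseChange A B B M N).right_inv
       map_add' := map_add _
       map_smul' := fun a z => by
         refine (map_smul (AlgebraTensorModule.cancelBaseChange A B B M N) (φ a) _).trans ?_
         exact IsScalarTower.algebraMap_smul B a (AlgebraTensorModule.cancelBaseChange A B B M N z) } :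
      (ModuleCat.restrictScalars φ).obj (M ⊗ (ModuleCat.extendScalars.{u, u, u} φ).obj N) ≃ₗ[A]
        ((ModuleCat.restrictScalars φ).obj M ⊗ N : ModuleCat.{u} A))

theorem projIso_left {M M' : ModuleCat.{u} B} (f : M ⟶ M') (N : ModuleCat.{u} A) :
    (ModuleCat.restrictScalars φ).map (f ▷ (ModuleCat.extendScalars.{u, u, u} φ).obj N) ≫ (projIso φ M' N).hom =
      (projIso φ M N).hom ≫ (ModuleCat.restrictScalars φ).map f ▷ N := by
  let := φ.toAlgebra
  refine ModuleCat.hom_ext (LinearMap.ext fun z => ?_)
  induction z using TensorProduct.induction_on with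
  | zero => exact (map_zero _).trans (map_zero _).symm
  | tmul m y =>
    induction y using TensorProduct.induction_on with
    | zero =>
      exact ((congrArg _ (TensorProduct.tmul_zero (↥((ModuleCat.extendScalars.{u, u, u} φ).obj N)) m)).trans (map_zero _)).trans
        ((congrArg _ (TensorProduct.tmul_zero (↥((ModuleCat.extendScalars.{u, u, u} φ).obj N)) m)).trans (map_zero _)).symm
    | tmul b n =>
      exact congrArg (fun v : M' => (show (ModuleCat.restrictScalars φ).obj M' from v) ⊗ₜ[A] n)
        (map_smul f.hom b m).symm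
    | add a b ha hb =>
      exact ((congrArg _ (TensorProduct.tmul_add (N := ↥((ModuleCat.extendScalars.{u, u, u} φ).obj N)) m a b)).trans (map_add _ _ _)).trans
        ((congrArg₂ (· + ·) ha hb).trans
          ((congrArg _ (TensorProduct.tmul_add (N := ↥((ModuleCat.extendScalars.{u, u, u} φ).obj N)) m a b)).trans (map_add _ _ _)).symm)
  | add a b ha hb => exact (map_add _ a b).trans ((congrArg₂ (· + ·) ha hb).trans (map_add _ a b).symm)

theorem projIso_right (M : ModuleCat.{u} B) {N N' : ModuleCat.{u} A} (g : N ⟶ N') :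
    (ModuleCat.restrictScalars φ).map (M ◁ (ModuleCat.extendScalars.{u, u, u} φ).map g) ≫ (projIso φ M N').hom =
      (projIso φ M N).hom ≫ (ModuleCat.restrictScalars φ).obj M ◁ g := by
  let := φ.toAlgebra
  refine ModuleCat.hom_ext (LinearMap.ext fun z => ?_)
  induction z using TensorProduct.induction_on with
  | zero => exact (map_zero _).trans (map_zero _).symm
  | tmul m y =>
    induction y using TensorProduct.induction_on with
    | zero =>
      exact ((congrArg _ (TensorProduct.tmul_zero (↥((ModuleCat.extendScalars.{u, u, u} φ).obj N)) m)).trans (map_zero _)).trans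
        ((congrArg _ (TensorProduct.tmul_zero (↥((ModuleCat.extendScalars.{u, u, u} φ).obj N)) m)).trans (map_zero _)).symm
    | tmul b n => rfl
    | add a b ha hb =>
      exact ((congrArg _ (TensorProduct.tmul_add (N := ↥((ModuleCat.extendScalars.{u, u, u} φ).obj N)) m a b)).trans (map_add _ _ _)).trans
        ((congrArg₂ (· + ·) ha hb).trans
          ((congrArg _ (TensorProduct.tmul_add (N := ↥((ModuleCat.extendScalars.{u, u, u} φ).obj N)) m a b)).trans (map_add _ _ _)).symm)
  | add a b ha hb => exact (map_add _ a b).trans ((congrArg₂ (· + ·) ha hb).trans (map_add _ a b).symm)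

/-- Termwise base change. -/
noncomputable abbrev extCx : CochainComplex (ModuleCat.{u} A) ℤ ⥤ CochainComplex (ModuleCat.{u} B) ℤ :=
  (ModuleCat.extendScalars.{u, u, u} φ).mapHomologicalComplex (ComplexShape.up ℤ)

/-- Termwise restriction of scalars. -/
noncomputable abbrev resCx : CochainComplex (ModuleCat.{u} B) ℤ ⥤ CochainComplex (ModuleCat.{u} A) ℤ :=
  (ModuleCat.restrictScalars φ).mapHomologicalComplex (ComplexShape.up ℤ)

instance : (𝟭 (ModuleCat.{u} B)).Additive where

/-- The projection formula for complexes. -/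
noncomputable def projCxIso (L : CochainComplex (ModuleCat.{u} B) ℤ) (K : CochainComplex (ModuleCat.{u} A) ℤ) :
    (resCx φ).obj (L ⊗ (extCx φ).obj K) ≅ ((resCx φ).obj L ⊗ K) :=
  have e₁ : (((tot (bcBi φ)).obj L).obj K) ≅ (L ⊗ (extCx φ).obj K) :=
    ((Functor.mapHomologicalComplexIdIso (ModuleCat.{u} B) (ComplexShape.up ℤ)).app _).symm ≪≫
      totMapIso (bcBi φ) (curriedTensor (ModuleCat.{u} B)) (𝟭 _) (ModuleCat.extendScalars.{u, u, u} φ) (𝟭 _)
        (fun _ _ => Iso.refl _) (fun f b => (Category.comp_id _).trans (Category.id_comp _).symm)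
        (fun a _ _ g => (Category.comp_id _).trans (Category.id_comp _).symm) L K ≪≫
      MonoidalCategory.whiskerRightIso
        ((Functor.mapHomologicalComplexIdIso (ModuleCat.{u} B) (ComplexShape.up ℤ)).app L) _
  (resCx φ).mapIso e₁.symm ≪≫
    totMapIso (bcBi φ) (curriedTensor (ModuleCat.{u} A)) (ModuleCat.restrictScalars φ) (𝟭 _)
      (ModuleCat.restrictScalars φ) (projIso φ) (fun f b => projIso_left φ f b)
      (fun a _ _ g => projIso_right φ a g) L K ≪≫
    MonoidalCategory.whiskerLeftIso _
      ((Functor.mapHomologicalComplexIdIso (ModuleCat.{u} A) (ComplexShape.up ℤ)).app K)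

theorem isZero_of_restrictScalars {M : ModuleCat.{u} B} (h : IsZero ((ModuleCat.restrictScalars φ).obj M)) :
    IsZero M := by
  rw [IsZero.iff_id_eq_zero]
  exact (ModuleCat.restrictScalars φ).map_injective (h.eq_of_src _ _)

theorem isKFlat_extCx {K : CochainComplex (ModuleCat.{u} A) ℤ} (h : DRing.IsKFlat A K) :
    DRing.IsKFlat B ((extCx φ).obj K) := by
  intro L hL i
  have : (ModuleCat.restrictScalars.{u} φ).PreservesHomology := Functor.preservesHomologyOfExact _
  refine isZero_of_restrictScalars φ ?_
  refine IsZero.of_iso (h ((resCx φ).obj L) (fun j => ?_) i)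
    ((((L ⊗ (extCx φ).obj K).sc i).mapHomologyIso (ModuleCat.restrictScalars φ)).symm ≪≫
      (HomologicalComplex.homologyFunctor _ _ i).mapIso (projCxIso φ L K))
  exact IsZero.of_iso ((ModuleCat.restrictScalars φ).map_isZero (hL j))
    ((L.sc j).mapHomologyIso (ModuleCat.restrictScalars φ))

end Groth.Agent.KFlat.BaseChange
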