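import Groth.Agent.KFlat.StalkCx
import Groth.Agent.KFlat.BaseChange

/-!
# Pullbacks of K-flat complexes and of flat modules along morphisms of schemes
-/

set_option autoImplicit false

universe u

open CategoryTheory CategoryTheory.Limits MonoidalCategory AlgebraicGeometry Opposite TopologicalSpace
open Groth.Agent.PullStalk.Sky Groth.Agent.KFlat.StalkTensor

namespace Groth.Agent.KFlat.Pull

variable {X Y : Scheme.{u}} (f : X ⟶ Y) (x : X)

/-- The comparison on sections between the pushed skyscraper and the skyscraper of the restriction. -/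
noncomputable def pushSkyHom (N : ModuleCat.{u} (X.presheaf.stalk x)) :
    (Scheme.Modules.pushforward f).obj (sky x N) ⟶
      sky (f.base x) ((ModuleCat.restrictScalars (f.stalkMap x).hom).obj N) :=
  ⟨PresheafOfModules.homMk
    { app := fun U => AddCommGrpCat.ofHom
        (AddMonoidHom.mk' (fun g h => (show PLift (x ∈ f ⁻¹ᵁ U.unop) → N from g) ⟨h.down⟩)
          fun _ _ => rfl)
      naturality := fun {U V} i => by ext g; rfl }
    (fun U r g => funext fun h =>
      congrArg (fun s : X.presheaf.stalk x => s • (show PLift (x ∈ f ⁻¹ᵁ U.unop) → N from g) ⟨h.down⟩)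
        (f.germ_stalkMap_apply U.unop x h.down r).symm)⟩

instance isIso_pushSkyHom (N : ModuleCat.{u} (X.presheaf.stalk x)) : IsIso (pushSkyHom f x N) := by
  rw [Scheme.Modules.Hom.isIso_iff_isIso_app]
  intro U
  rw [ConcreteCategory.isIso_iff_bijective]
  exact ⟨fun a b h => funext fun q => congr_fun h ⟨q.down⟩, fun g => ⟨fun h => g ⟨h.down⟩, rfl⟩⟩

/-- Skyscrapers commute with direct images. -/
noncomputable def pushSkyIso :
    skyF x ⋙ Scheme.Modules.pushforward f ≅
      ModuleCat.restrictScalars (f.stalkMap x).hom ⋙ skyF (f.base x) :=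
  NatIso.ofComponents (fun N => @asIso _ _ _ _ (pushSkyHom f x N) (isIso_pushSkyHom f x N)) fun {N N'} g => by
    ext U s
    funext h
    exact (congr_fun (skyMap_app x g (f ⁻¹ᵁ U) s) ⟨h.down⟩).trans
      (congr_fun (skyMap_app (f.base x) ((ModuleCat.restrictScalars (f.stalkMap x).hom).map g) U
        ((pushSkyHom f x N).app U s)) h).symm

/-- The stalk of the inverse image is the base change of the stalk. -/
noncomputable def stalkPullIso :
    Scheme.Modules.pullback f ⋙ DerSch.stalkFunctor X x ≅
      DerSch.stalkFunctor Y (f.base x) ⋙ ModuleCat.extendScalars (f.stalkMap x).hom :=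
  (((Scheme.Modules.pullbackPushforwardAdjunction f).comp (stalkSkyAdj x)).leftAdjointUniq
    (((stalkSkyAdj (f.base x)).comp (ModuleCat.extendRestrictScalarsAdj (f.stalkMap x).hom)).ofNatIsoRight
      (pushSkyIso f x).symm))

instance : (Scheme.Modules.pullback f).Additive :=
  (Scheme.Modules.pullbackPushforwardAdjunction f).left_adjoint_additive

/-- Termwise inverse image. -/
noncomputable abbrev pullCx : CochainComplex Y.Modules ℤ ⥤ CochainComplex X.Modules ℤ :=
  (Scheme.Modules.pullback f).mapHomologicalComplex (ComplexShape.up ℤ)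

/-- The stalk complex of an inverse image. -/
noncomputable def stPullIso (K : CochainComplex Y.Modules ℤ) :
    (StalkCx.stCx x).obj ((pullCx f).obj K) ≅
      (BaseChange.extCx (f.stalkMap x).hom).obj ((StalkCx.stCx (f.base x)).obj K) :=
  HomologicalComplex.Hom.isoOfComponents (fun n => (stalkPullIso f x).app (K.X n))
    fun i j _ => ((stalkPullIso f x).hom.naturality (K.d i j)).symm

variable {x}

theorem isKFlat_of_iso_ring {R : Type u} [CommRing R] {K K' : DRing.Cx R} (e : K ≅ K')
    (h : DRing.IsKFlat R K) : DRing.IsKFlat R K' := fun M hM i =>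
  IsZero.of_iso (h M hM i)
    ((HomologicalComplex.homologyFunctor _ _ i).mapIso (MonoidalCategory.whiskerLeftIso M e)).symm

theorem isKFlat_pullCx {K : CochainComplex Y.Modules ℤ} (h : DCoh.IsKFlat K) :
    DCoh.IsKFlat ((pullCx f).obj K) :=
  (StalkCx.isKFlat_iff_stalk _).2 fun y => isKFlat_of_iso_ring (stPullIso f y K).symm
    (BaseChange.isKFlat_extCx _ ((StalkCx.isKFlat_iff_stalk K).1 h (f.base y)))

theorem flat_pull {M : Y.Modules} (h : FlatMod.IsFlat M) :
    FlatMod.IsFlat ((Scheme.Modules.pullback f).obj M) := fun y => by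
  let := (f.stalkMap y).hom.toAlgebra
  have : Module.Flat (Y.presheaf.stalk (f.base y)) (M.presheaf.stalk (f.base y)) := h (f.base y)
  have hb : Module.Flat (X.presheaf.stalk y)
      (TensorProduct (Y.presheaf.stalk (f.base y)) (X.presheaf.stalk y) (M.presheaf.stalk (f.base y))) :=
    Module.Flat.baseChange _ _ _
  exact @Module.Flat.of_linearEquiv _ _ _ _ _ _ _ _ hb ((stalkPullIso f y).app M).toLinearEquiv

end Groth.Agent.KFlat.Pull
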