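import Groth.Agent.KFlat.StalkCx
import Groth.Agent.KFlat.Brutal
import Groth.Agent.KFlat.Pull

/-!
# Tensor products of K-flat complexes; bounded above complexes of flat modules
-/

set_option autoImplicit false

universe u

open CategoryTheory CategoryTheory.Limits MonoidalCategory AlgebraicGeometry

namespace Groth.Agent.KFlat

theorem isKFlat_tensor_ring {R : Type u} [CommRing R] {A B : DRing.Cx R}
    (hA : DRing.IsKFlat R A) (hB : DRing.IsKFlat R B) : DRing.IsKFlat R (A ⊗ B) := fun M hM i =>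
  IsZero.of_iso (hB _ (hA M hM) i)
    ((HomologicalComplex.homologyFunctor _ _ i).mapIso (α_ M A B)).symm

theorem isKFlat_tensorCx {X : Scheme.{u}} {K L : CochainComplex X.Modules ℤ} (hK : DCoh.IsKFlat K)
    (hL : DCoh.IsKFlat L) : DCoh.IsKFlat ((DCoh.tensorCx.obj K).obj L) :=
  (StalkCx.isKFlat_iff_stalk _).2 fun y => Pull.isKFlat_of_iso_ring (StalkCx.stTensIso y K L).symm
    (isKFlat_tensor_ring ((StalkCx.isKFlat_iff_stalk K).1 hK y) ((StalkCx.isKFlat_iff_stalk L).1 hL y))

theorem isKFlat_of_flat_boundedAbove {X : Scheme.{u}} (K : CochainComplex X.Modules ℤ) (b : ℤ)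
    (hb : ∀ q, b < q → IsZero (K.X q)) (hF : ∀ q, FlatMod.IsFlat (K.X q)) : DCoh.IsKFlat K :=
  isKFlat_of_boundedAbove (O := X.sheaf) K b hb fun q => StalkTensor.tensorMono_of_flat (hF q)

end Groth.Agent.KFlat
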