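import Groth.Agent.KFlat.Resolution
import Groth.Agent.KFlat.Deriv
import Groth.Agent.KFlat.Pull
import Groth.Agent.KFlat.Lpull
import Groth.Prelude.Def_DCoh4

/-!
# The derived tensor product with a complex exists and is computed by K-flat complexes
-/

set_option autoImplicit false

universe u

open CategoryTheory CategoryTheory.Limits AlgebraicGeometry

attribute [local instance] HasDerivedCategory.standard

namespace Groth.Agent.KFlat.LTensor

open Groth.Agent.KFlat.Pull

variable {X : Scheme.{u}} (E : CochainComplex X.Modules ℤ)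

theorem quasiIso_tensorCx_map_left {K K' : CochainComplex X.Modules ℤ} (s : K ⟶ K') [hs : QuasiIso s]
    (hK : DCoh.IsKFlat K) (hK' : DCoh.IsKFlat K') : QuasiIso ((DCoh.tensorCx.map s).app E) := by
  have h : QuasiIso (((tens X.sheaf).obj E).map s) :=
    @Groth.Agent.KFlat.quasiIso_tens_map _ _ _ X.sheaf K K' s hs hK hK' E
  have h' : QuasiIso (((tens X.sheaf).flip.obj E).map s) := by
    rw [← NatIso.naturality_2 ((tensFlipIso X.sheaf).app E) s]
    infer_instance
  exact h'

theorem quasiIso_tensorCx_map_right {K : CochainComplex X.Modules ℤ} (hK : DCoh.IsKFlat K)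
    {E' : CochainComplex X.Modules ℤ} (s : E ⟶ E') [hs : QuasiIso s] :
    QuasiIso ((DCoh.tensorCx.obj K).map s) :=
  @Groth.Agent.KFlat.quasiIso_tens_obj _ _ _ X.sheaf K hK E E' s hs

theorem isIso_tensorCxQ_map {K K' : CochainComplex X.Modules ℤ} (s : K ⟶ K') [QuasiIso s]
    (hK : DCoh.IsKFlat K) (hK' : DCoh.IsKFlat K') : IsIso ((DCoh.tensorCxQ E).map s) := by
  have := quasiIso_tensorCx_map_left E s hK hK'
  exact inferInstanceAs (IsIso (DerivedCategory.Q.map ((DCoh.tensorCx.map s).app E)))

theorem resolves : Deriv.Resolves (HomologicalComplex.quasiIso X.Modules (ComplexShape.up ℤ))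
    (resY X) (resYπ X) (DCoh.tensorCxQ E) where
  mem K := (HomologicalComplex.mem_quasiIso_iff _).2 (quasiIso_resYπ K)
  inverted K K' s hs := by
    have : QuasiIso s := (HomologicalComplex.mem_quasiIso_iff _).1 hs
    exact @isIso_tensorCxQ_map _ E _ _ ((resY X).map s) (quasiIso_resY_map s) (isKFlat_resY K) (isKFlat_resY K')
  fix K := @isIso_tensorCxQ_map _ E _ _ ((resYπ X).app ((resY X).obj K)) (quasiIso_resYπ _)
    (isKFlat_resY _) (isKFlat_resY _)

theorem isLeftDerived :
    (Deriv.derived (L := DerivedCategory.Q) (resolves E)).IsLeftDerivedFunctor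
      (Deriv.counit (L := DerivedCategory.Q) (resolves E))
      (HomologicalComplex.quasiIso X.Modules (ComplexShape.up ℤ)) :=
  ⟨Deriv.isRightKanExtension_derived (L := DerivedCategory.Q) (resolves E)⟩

theorem hasLTensorCx : DCoh.HasLTensorCx E := by
  have := isLeftDerived E
  exact Functor.HasLeftDerivedFunctor.mk' _ (Deriv.counit (L := DerivedCategory.Q) (resolves E))

/-- The canonical map from the derived to the termwise tensor product. -/
noncomputable abbrev toTensor [DCoh.HasLTensorCx E] :
    DerivedCategory.Q ⋙ DCoh.LTensorCx E ⟶ DCoh.tensorCxQ E :=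
  (DCoh.tensorCxQ E).totalLeftDerivedCounit DerivedCategory.Q
    (HomologicalComplex.quasiIso X.Modules (ComplexShape.up ℤ))

/-- The derived tensor product with a K-flat complex is the tensor product. -/
theorem isIso_toTensor [DCoh.HasLTensorCx E] {P : CochainComplex X.Modules ℤ} (hP : DCoh.IsKFlat P) :
    IsIso ((toTensor E).app P) := by
  have := isLeftDerived E
  let W := HomologicalComplex.quasiIso X.Modules (ComplexShape.up ℤ)
  let α := Deriv.counit (L := DerivedCategory.Q) (resolves E)
  let e : DCoh.LTensorCx E ≅ _ :=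
    Functor.leftDerivedUnique (Deriv.derived (L := DerivedCategory.Q) (resolves E)) (DCoh.LTensorCx E)
      (toTensor E) α W
  have hc : (toTensor E).app P = e.hom.app (DerivedCategory.Q.obj P) ≫ α.app P := by
    simp [e, α, W, toTensor]
  have : IsIso ((DCoh.tensorCxQ E).map ((resYπ X).app P)) :=
    @isIso_tensorCxQ_map _ E _ _ _ (quasiIso_resYπ P) (isKFlat_resY P) hP
  have := Deriv.isIso_counit_app (L := DerivedCategory.Q) (resolves E) P
  rw [hc]
  infer_instance

/-- If the fixed complex is K-flat, no resolution is needed. -/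
theorem isIso_toTensor_of_kflat [DCoh.HasLTensorCx E] (hE : DCoh.IsKFlat E)
    (K : CochainComplex X.Modules ℤ) : IsIso ((toTensor E).app K) := by
  have := quasiIso_resYπ (Y := X) K
  have hq : QuasiIso ((DCoh.tensorCx.map ((resYπ X).app K)).app E) :=
    @Groth.Agent.KFlat.quasiIso_tens_flip _ _ _ X.sheaf E hE _ _ ((resYπ X).app K) (quasiIso_resYπ K)
  have h₁ : IsIso ((DCoh.tensorCxQ E).map ((resYπ X).app K)) :=
    inferInstanceAs (IsIso (DerivedCategory.Q.map ((DCoh.tensorCx.map ((resYπ X).app K)).app E)))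
  have h₂ := isIso_toTensor E (isKFlat_resY K)
  have hn := (toTensor E).naturality ((resYπ X).app K)
  have : IsIso ((DerivedCategory.Q ⋙ DCoh.LTensorCx E).map ((resYπ X).app K)) :=
    inferInstanceAs (IsIso ((DCoh.LTensorCx E).map (DerivedCategory.Q.map ((resYπ X).app K))))
  have : IsIso ((DerivedCategory.Q ⋙ DCoh.LTensorCx E).map ((resYπ X).app K) ≫
      (toTensor E).app K) := by
    refine (congrArg (fun φ => IsIso φ) hn).mpr ?_
    exact IsIso.comp_isIso' h₂ h₁
  exact IsIso.of_isIso_comp_left ((DerivedCategory.Q ⋙ DCoh.LTensorCx E).map ((resYπ X).app K))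
    ((toTensor E).app K)

end Groth.Agent.KFlat.LTensor
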