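import Groth.Agent.KFlat.WeakKInj
import Groth.Agent.DTrunc.RightDerived
import Groth.Agent.DHA.KInjectiveResolution
import Groth.Agent.ModShf.GrothAb
import Groth.Prelude.Def_DCoh2

/-!
# Derived direct images on K-injective resolutions, and their composition
-/

set_option autoImplicit false

universe u

open CategoryTheory CategoryTheory.Limits AlgebraicGeometry
open Groth.Agent.DTrunc Groth.Agent.KFlat.WeakKInj

attribute [local instance] HasDerivedCategory.standard

namespace Groth.Agent.KFlat.RPush

variable {X Y : Scheme.{u}} (f : X ⟶ Y)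

variable (X) in
/-- Functorial K-injective resolutions. -/
noncomputable abbrev injRes : CochainComplex X.Modules ℤ ⥤ CochainComplex X.Modules ℤ :=
  DHA.KInj.resolution X.Modules

variable (X) in
/-- The resolution maps. -/
noncomputable abbrev injι : 𝟭 (CochainComplex X.Modules ℤ) ⟶ injRes X := DHA.KInj.resolutionι X.Modules

/-- The functor on complexes to derive. -/
noncomputable abbrev pushQ : CochainComplex X.Modules ℤ ⥤ DCoh.D Y := pushCx f ⋙ DerivedCategory.Q

/-- `q ⋙ pushKh` in terms of complexes. -/
noncomputable def pushKhIso :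
    HomotopyCategory.quotient X.Modules (ComplexShape.up ℤ) ⋙ DCoh.pushKh f ≅ pushQ f :=
  (Functor.associator _ _ _).symm ≪≫
    Functor.isoWhiskerRight ((Scheme.Modules.pushforward f).mapHomotopyCategoryFactors (ComplexShape.up ℤ))
      DerivedCategory.Qh ≪≫
    Functor.associator _ _ _ ≪≫ Functor.isoWhiskerLeft _ (DerivedCategory.quotientCompQhIso Y.Modules)

theorem hasRpush : DCoh.HasRpush f :=
  (RightDerived.hasEnough (DCoh.pushKh f)).hasRightDerivedFunctor
    (HomotopyCategory.quasiIso X.Modules (ComplexShape.up ℤ))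

/-- The canonical map from the termwise to the derived direct image. -/
noncomputable def toRpush [DCoh.HasRpush f] : pushQ f ⟶ DerivedCategory.Q ⋙ DCoh.Rpush f :=
  (pushKhIso f).inv ≫
    Functor.whiskerLeft _ ((DCoh.pushKh f).totalRightDerivedUnit DerivedCategory.Qh
      (HomotopyCategory.quasiIso X.Modules (ComplexShape.up ℤ))) ≫
    (Functor.associator _ _ _).inv ≫
    Functor.whiskerRight (DerivedCategory.quotientCompQhIso X.Modules).hom (DCoh.Rpush f)

/-- The derived direct image of a K-injective complex is the termwise one. -/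
theorem isIso_toRpush [DCoh.HasRpush f] (I : CochainComplex X.Modules ℤ) [I.IsKInjective] :
    IsIso ((toRpush f).app I) := by
  let W := HomotopyCategory.quasiIso X.Modules (ComplexShape.up ℤ)
  let u := (DCoh.pushKh f).totalRightDerivedUnit DerivedCategory.Qh W
  let q := HomotopyCategory.quotient X.Modules (ComplexShape.up ℤ)
  have : IsIso (u.app (q.obj I)) :=
    RightDerived.HasEnough.isIso_app (W := W) (DCoh.Rpush f) u (RightDerived.hasEnough (DCoh.pushKh f))
      (RightDerived.isGood_quotient (DCoh.pushKh f) I)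
  have e : (toRpush f).app I = (pushKhIso f).inv.app I ≫ u.app (q.obj I) ≫
      (DCoh.Rpush f).map ((DerivedCategory.quotientCompQhIso X.Modules).hom.app I) := by
    simp [toRpush, u, W, q]
  rw [e]
  infer_instance

/-- The derived direct image of a weakly K-injective complex is the termwise one. -/
theorem isIso_toRpush_of_weak [DCoh.HasRpush f] {A : CochainComplex X.Modules ℤ} (hA : IsWeaklyKInjective A) :
    IsIso ((toRpush f).app A) := by
  let s := (injι X).app A
  have h₁ : IsIso ((toRpush f).app ((injRes X).obj A)) := isIso_toRpush f _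
  have hq : QuasiIso ((pushCx f).map s) :=
    WeakKInj.quasiIso_push f s hA (WeakKInj.of_isKInjective _)
  have h₂ : IsIso ((pushQ f).map s) := inferInstanceAs (IsIso (DerivedCategory.Q.map ((pushCx f).map s)))
  have h₃ : IsIso ((DerivedCategory.Q ⋙ DCoh.Rpush f).map s) :=
    inferInstanceAs (IsIso ((DCoh.Rpush f).map (DerivedCategory.Q.map s)))
  have : IsIso ((toRpush f).app A ≫ (DerivedCategory.Q ⋙ DCoh.Rpush f).map s) := by
    refine (congrArg (fun φ => IsIso φ) ((toRpush f).naturality s)).mp ?_
    exact IsIso.comp_isIso' h₂ h₁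
  exact IsIso.of_isIso_comp_right ((toRpush f).app A) ((DerivedCategory.Q ⋙ DCoh.Rpush f).map s)

instance isIso_whiskerRight_injι_Q :
    IsIso (Functor.whiskerRight (injι X) (DerivedCategory.Q (C := X.Modules))) := by
  have : ∀ K, IsIso ((Functor.whiskerRight (injι X) (DerivedCategory.Q (C := X.Modules))).app K) := fun K =>
    inferInstanceAs (IsIso (DerivedCategory.Q.map ((injι X).app K)))
  exact NatIso.isIso_of_isIso_app _

/-- Localisation does not see the resolution. -/
noncomputable def injQIso : injRes X ⋙ DerivedCategory.Q ≅ DerivedCategory.Q :=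
  (asIso (Functor.whiskerRight (injι X) (DerivedCategory.Q (C := X.Modules)))).symm ≪≫ Functor.leftUnitor _

/-- The derived direct image is computed by resolutions. -/
noncomputable def rpushIso [DCoh.HasRpush f] :
    DerivedCategory.Q ⋙ DCoh.Rpush f ≅ injRes X ⋙ pushQ f :=
  have : IsIso (Functor.whiskerLeft (injRes X) (toRpush f)) :=
    have : ∀ K, IsIso ((Functor.whiskerLeft (injRes X) (toRpush f)).app K) := fun _ => isIso_toRpush f _
    NatIso.isIso_of_isIso_app _
  Functor.isoWhiskerRight (injQIso (X := X)).symm _ ≪≫ Functor.associator _ _ _ ≪≫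
    (asIso (Functor.whiskerLeft (injRes X) (toRpush f))).symm

variable {Z : Scheme.{u}} (g : Y ⟶ Z)

/-- Termwise direct images compose. -/
noncomputable def pushCxComp : pushCx f ⋙ pushCx g ≅ pushCx (f ≫ g) :=
  NatIso.ofComponents
    (fun K => HomologicalComplex.Hom.isoOfComponents (fun n => (Scheme.Modules.pushforwardComp f g).app (K.X n))
      (fun i j _ => ((Scheme.Modules.pushforwardComp f g).hom.naturality (K.d i j)).symm))
    (fun φ => HomologicalComplex.hom_ext _ _ fun n => (Scheme.Modules.pushforwardComp f g).hom.naturality (φ.f n))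

variable [DCoh.HasRpush f] [DCoh.HasRpush g] [DCoh.HasRpush (f ≫ g)]

/-- The derived direct image of a composite, on complexes. -/
noncomputable def rpushCompQIso :
    DerivedCategory.Q ⋙ DCoh.Rpush f ⋙ DCoh.Rpush g ≅ DerivedCategory.Q ⋙ DCoh.Rpush (f ≫ g) :=
  have : IsIso (Functor.whiskerLeft (injRes X ⋙ pushCx f) (toRpush g)) :=
    have : ∀ K, IsIso ((Functor.whiskerLeft (injRes X ⋙ pushCx f) (toRpush g)).app K) := fun K =>
      isIso_toRpush_of_weak g (WeakKInj.push f (WeakKInj.of_isKInjective _))
    NatIso.isIso_of_isIso_app _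
  (Functor.associator _ _ _).symm ≪≫ Functor.isoWhiskerRight (rpushIso f) _ ≪≫
    Functor.associator _ _ _ ≪≫ Functor.isoWhiskerLeft (injRes X) (Functor.associator _ _ _) ≪≫
    (Functor.associator _ _ _).symm ≪≫
    (asIso (Functor.whiskerLeft (injRes X ⋙ pushCx f) (toRpush g))).symm ≪≫
    Functor.associator _ _ _ ≪≫
    Functor.isoWhiskerLeft (injRes X) ((Functor.associator _ _ _).symm ≪≫
      Functor.isoWhiskerRight (pushCxComp f g) DerivedCategory.Q) ≪≫
    (rpushIso (f ≫ g)).symm

/-- Derived direct images compose. -/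
noncomputable def rpushCompIso : DCoh.Rpush f ⋙ DCoh.Rpush g ≅ DCoh.Rpush (f ≫ g) :=
  Localization.liftNatIso DerivedCategory.Q (HomologicalComplex.quasiIso X.Modules (ComplexShape.up ℤ))
    (DerivedCategory.Q ⋙ DCoh.Rpush f ⋙ DCoh.Rpush g) (DerivedCategory.Q ⋙ DCoh.Rpush (f ≫ g))
    (DCoh.Rpush f ⋙ DCoh.Rpush g) (DCoh.Rpush (f ≫ g)) (rpushCompQIso f g)

end Groth.Agent.KFlat.RPush
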