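import Groth.Agent.KFlat.DerivedAdj
import Mathlib.CategoryTheory.Preadditive.AdditiveFunctor

/-!
# `Rf_*` respects products and distinguished triangles
-/

set_option autoImplicit false

universe u

open CategoryTheory CategoryTheory.Limits AlgebraicGeometry CategoryTheory.Pretriangulated
open Groth.Agent.KFlat.RPush Groth.Agent.KFlat.WeakKInj

attribute [local instance] HasDerivedCategory.standard
attribute [local instance] preservesBinaryBiproducts_of_preservesBinaryProducts

namespace Groth.Agent.KFlat.RPushTriangle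

/-- A pair of composable maps isomorphic to the first two maps of a distinguished triangle extends to a
distinguished triangle. -/
theorem exists_distinguished_of_iso {D : Type*} [Category D] [HasZeroObject D] [HasShift D ℤ] [Preadditive D]
    [∀ n : ℤ, (shiftFunctor D n).Additive] [Pretriangulated D] (T : Triangle D) (hT : T ∈ distinguishedTriangles)
    {A₁ A₂ A₃ : D} (u : A₁ ⟶ A₂) (v : A₂ ⟶ A₃) (e₁ : A₁ ≅ T.obj₁) (e₂ : A₂ ≅ T.obj₂) (e₃ : A₃ ≅ T.obj₃)
    (h₁ : u ≫ e₂.hom = e₁.hom ≫ T.mor₁) (h₂ : v ≫ e₃.hom = e₂.hom ≫ T.mor₂) :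
    ∃ δ, Triangle.mk u v δ ∈ distinguishedTriangles := by
  refine ⟨e₃.hom ≫ T.mor₃ ≫ e₁.inv⟦(1 : ℤ)⟧', isomorphic_distinguished _ hT _ ?_⟩
  refine Triangle.isoMk _ _ e₁ e₂ e₃ h₁ h₂ ?_
  change (e₃.hom ≫ T.mor₃ ≫ e₁.inv⟦(1 : ℤ)⟧') ≫ e₁.hom⟦(1 : ℤ)⟧' = e₃.hom ≫ T.mor₃
  simp [← Functor.map_comp]

/-- Turning a naturality square of isomorphisms around. -/
theorem square_inv {D : Type*} [Category D] {A B A' B' : D} {p : A ⟶ B} {q : A' ⟶ B'} (a : A ≅ A')
    (b : B ≅ B') (h : p ≫ b.hom = a.hom ≫ q) : q ≫ b.inv = a.inv ≫ p := by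
  rw [Iso.eq_inv_comp, ← Category.assoc, Iso.comp_inv_eq, h]

variable {X Y : Scheme.{u}} (f : X ⟶ Y) [DCoh.HasRpush f]

theorem isRightAdjoint_Rpush : (DCoh.Rpush f).IsRightAdjoint :=
  have := Pull.hasLpull f
  (DerivedAdj.adj f).isRightAdjoint

instance additive_Rpush : (DCoh.Rpush f).Additive :=
  have := Pull.hasLpull f
  have : PreservesLimitsOfSize.{0, 0} (DCoh.Rpush f) := (DerivedAdj.adj f).rightAdjoint_preservesLimits
  Functor.additive_of_preservesBinaryBiproducts _

theorem preservesProduct {ι : Type*} (K : ι → DCoh.D X) : PreservesLimit (Discrete.functor K) (DCoh.Rpush f) :=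
  have := isRightAdjoint_Rpush f
  inferInstance

/-- The image of the cone triangle of weakly K-injective complexes. -/
theorem distinguished_cone {J₁ J₂ : CochainComplex X.Modules ℤ} (r : J₁ ⟶ J₂)
    (h₁ : IsWeaklyKInjective J₁) (h₂ : IsWeaklyKInjective J₂) :
    ∃ δ, Triangle.mk ((DCoh.Rpush f).map (DerivedCategory.Q.map r))
      ((DCoh.Rpush f).map (DerivedCategory.Q.map (CochainComplex.mappingCone.inr r))) δ ∈ distinguishedTriangles := by
  let C := CochainComplex.mappingCone r
  let a₁ := @asIso _ _ _ _ _ (isIso_toRpush_of_weak f h₁)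
  let a₂ := @asIso _ _ _ _ _ (isIso_toRpush_of_weak f h₂)
  let a₃ := @asIso _ _ _ _ _ (isIso_toRpush_of_weak f (WeakKInj.cone r h₁ h₂))
  let eC := DerivedCategory.Q.mapIso
    (CochainComplex.mappingCone.mapHomologicalComplexIso r (Scheme.Modules.pushforward f))
  let T := DerivedCategory.Q.mapTriangle.obj (CochainComplex.mappingCone.triangle ((pushCx f).map r))
  have hT : T ∈ distinguishedTriangles := DerivedCategory.mappingCone_triangle_distinguished _
  have he : DerivedCategory.Q.map ((pushCx f).map (CochainComplex.mappingCone.inr r)) ≫ eC.hom = T.mor₂ :=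
    (DerivedCategory.Q.map_comp _ _).symm.trans (congrArg DerivedCategory.Q.map
      (CochainComplex.mappingCone.map_inr r (Scheme.Modules.pushforward f)))
  refine exists_distinguished_of_iso T hT _ _ a₁.symm a₂.symm (a₃.symm ≪≫ eC)
    (square_inv a₁ a₂ ((toRpush f).naturality r)) ?_
  refine (Category.assoc _ _ _).symm.trans ?_
  refine (congrArg (· ≫ eC.hom) (square_inv a₂ a₃ ((toRpush f).naturality (CochainComplex.mappingCone.inr r)))).trans ?_
  exact (Category.assoc _ _ _).trans (congrArg (a₂.inv ≫ ·) he)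

/-- `Rf_*` sends distinguished triangles to distinguished triangles, for some connecting map. -/
theorem distinguished_Rpush (T : Triangle (DCoh.D X)) (hT : T ∈ distinguishedTriangles) :
    ∃ δ, Triangle.mk ((DCoh.Rpush f).map T.mor₁) ((DCoh.Rpush f).map T.mor₂) δ ∈ distinguishedTriangles := by
  obtain ⟨K₁, K₂, g, ⟨e₀⟩⟩ := (DerivedCategory.mem_distTriang_iff T).1 hT
  let r := (injRes X).map g
  let j₁ := asIso (DerivedCategory.Q.map ((injι X).app K₁))
  let j₂ := asIso (DerivedCategory.Q.map ((injι X).app K₂))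
  let e : T ≅ DerivedCategory.Q.mapTriangle.obj (CochainComplex.mappingCone.triangle r) :=
    e₀ ≪≫ isoTriangleOfIso₁₂ _ _ (DerivedCategory.mappingCone_triangle_distinguished _)
      (DerivedCategory.mappingCone_triangle_distinguished _) j₁ j₂
      ((DerivedCategory.Q.map_comp _ _).symm.trans
        ((congrArg DerivedCategory.Q.map ((injι X).naturality g)).trans (DerivedCategory.Q.map_comp _ _)))
  obtain ⟨δ, hδ⟩ := distinguished_cone f r (of_isKInjective _) (of_isKInjective _)
  let R := DCoh.Rpush f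
  let e₁ := R.mapIso (Triangle.π₁.mapIso e)
  let e₂ := R.mapIso (Triangle.π₂.mapIso e)
  let e₃ := R.mapIso (Triangle.π₃.mapIso e)
  exact exists_distinguished_of_iso _ hδ _ _ e₁ e₂ e₃
    ((R.map_comp _ _).symm.trans ((congrArg R.map e.hom.comm₁).trans (R.map_comp _ _)))
    ((R.map_comp _ _).symm.trans ((congrArg R.map e.hom.comm₂).trans (R.map_comp _ _)))

end Groth.Agent.KFlat.RPushTriangle
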