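import Groth.Agent.KFlat.ProjFormula
import Groth.Agent.KFlat.RPush
import Groth.Agent.KFlat.LTensor
import Groth.Agent.KFlat.Kflat2
import Groth.Agent.KFlat.RPushTriangle

/-!
# The projection formula for a closed immersion
-/

set_option autoImplicit false

universe u

open CategoryTheory CategoryTheory.Limits AlgebraicGeometry
open Groth.Agent.KFlat.ProjFormula Groth.Agent.KFlat.WeakKInj Groth.Agent.KFlat.RPush Groth.Agent.KFlat.Pull
  Groth.Agent.KFlat.LTensor

attribute [local instance] HasDerivedCategory.standard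

namespace Groth.Agent.KFlat.ProjFormulaClosed

variable {X Y : Scheme.{u}} (f : X ⟶ Y)

/-- `(M, N) ↦ M ⊗ f^* N`. -/
noncomputable abbrev FP : X.Modules ⥤ Y.Modules ⥤ X.Modules :=
  DCoh.tensorBi (X := X) ⋙ (Functor.whiskeringLeft Y.Modules X.Modules X.Modules).obj (Scheme.Modules.pullback f)

instance additive_FP : (FP f).Additive where
  map_add {M M' a b} := by
    refine NatTrans.ext (funext fun N => ?_)
    exact congrArg (fun t => t.app ((Scheme.Modules.pullback f).obj N)) ((DCoh.tensorBi (X := X)).map_add)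

instance additive_FP_obj (M : X.Modules) : ((FP f).obj M).Additive :=
  inferInstanceAs (Scheme.Modules.pullback f ⋙ (DCoh.tensorBi (X := X)).obj M).Additive

variable [IsClosedImmersion f]

instance preservesColimits_push : PreservesColimitsOfSize.{0, 0} (Scheme.Modules.pushforward f) :=
  have := Groth.Agent.QCohGen.preservesColimits_pushforward f
  preservesColimitsOfSize_shrink.{0, u, 0, u} _

instance preservesHomology_push : (Scheme.Modules.pushforward f).PreservesHomology := by
  have : PreservesFiniteColimits (Scheme.Modules.pushforward f) :=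
    PreservesColimitsOfSize.preservesFiniteColimits.{0, 0} _
  have : (Scheme.Modules.pushforward f).IsRightAdjoint :=
    (Scheme.Modules.pullbackPushforwardAdjunction f).isRightAdjoint
  have : PreservesFiniteLimits (Scheme.Modules.pushforward f) := inferInstance
  infer_instance

/-- The projection isomorphism on modules. -/
noncomputable def θIso (M : X.Modules) (N : Y.Modules) :
    (Scheme.Modules.pushforward f).obj (((FP f).obj M).obj N) ≅
      ((DCoh.tensorBi (X := Y)).obj ((Scheme.Modules.pushforward f).obj M)).obj ((𝟭 Y.Modules).obj N) :=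
  have := isIso_θ f M
  (asIso ((θ f M).app N)).symm

theorem θIso_left {M M' : X.Modules} (φ : M ⟶ M') (N : Y.Modules) :
    (Scheme.Modules.pushforward f).map (((FP f).map φ).app N) ≫ (θIso f M' N).hom =
      (θIso f M N).hom ≫ ((DCoh.tensorBi (X := Y)).map ((Scheme.Modules.pushforward f).map φ)).app
        ((𝟭 Y.Modules).obj N) :=
  have := isIso_θ f M
  have := isIso_θ f M'
  RPushTriangle.square_inv (asIso ((θ f M).app N)) (asIso ((θ f M').app N)) (θ_left f φ N)

theorem θIso_right (M : X.Modules) {N N' : Y.Modules} (ψ : N ⟶ N') :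
    (Scheme.Modules.pushforward f).map (((FP f).obj M).map ψ) ≫ (θIso f M N').hom =
      (θIso f M N).hom ≫ ((DCoh.tensorBi (X := Y)).obj ((Scheme.Modules.pushforward f).obj M)).map
        ((𝟭 Y.Modules).map ψ) :=
  have := isIso_θ f M
  RPushTriangle.square_inv (asIso ((θ f M).app N)) (asIso ((θ f M).app N')) ((θ f M).naturality ψ)

/-- The projection formula on complexes. -/
noncomputable def cxIso (E : CochainComplex X.Modules ℤ) (P : CochainComplex Y.Modules ℤ) :
    (DCoh.tensorCx.obj ((pushCx f).obj E)).obj P ≅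
      (pushCx f).obj ((DCoh.tensorCx.obj E).obj ((pullCx f).obj P)) :=
  let e₁ : ((𝟭 X.Modules).mapHomologicalComplex _).obj (((tot (FP f)).obj E).obj P) ≅
      ((tot (DCoh.tensorBi (X := X))).obj (((𝟭 X.Modules).mapHomologicalComplex _).obj E)).obj ((pullCx f).obj P) :=
    totMapIso (FP f) (DCoh.tensorBi (X := X)) (𝟭 X.Modules) (Scheme.Modules.pullback f) (𝟭 X.Modules)
      (fun _ _ => Iso.refl _) (fun _ _ => (Category.comp_id _).trans (Category.id_comp _).symm)
      (fun _ _ _ _ => (Category.comp_id _).trans (Category.id_comp _).symm) E P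
  let e₂ := totMapIso (FP f) (DCoh.tensorBi (X := Y)) (Scheme.Modules.pushforward f) (𝟭 Y.Modules)
    (Scheme.Modules.pushforward f) (θIso f) (fun φ b => θIso_left f φ b) (fun a _ _ ψ => θIso_right f a ψ) E P
  ((DCoh.tensorCx.obj ((pushCx f).obj E)).mapIso
      ((Functor.mapHomologicalComplexIdIso Y.Modules (ComplexShape.up ℤ)).app P).symm) ≪≫ e₂.symm ≪≫
    (pushCx f).mapIso (((Functor.mapHomologicalComplexIdIso X.Modules (ComplexShape.up ℤ)).app _).symm ≪≫ e₁ ≪≫
      (DCoh.tensorCx.mapIso ((Functor.mapHomologicalComplexIdIso X.Modules (ComplexShape.up ℤ)).app E)).app _)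

variable [DCoh.HasRpush f]

/-- The derived direct image of a closed immersion is the termwise one. -/
theorem isIso_toRpush_closed (K : CochainComplex X.Modules ℤ) : IsIso ((toRpush f).app K) := by
  let s := (injι X).app K
  have h₁ : IsIso ((toRpush f).app ((injRes X).obj K)) := isIso_toRpush f _
  have hq : QuasiIso ((pushCx f).map s) := inferInstance
  have h₂ : IsIso ((pushQ f).map s) := inferInstanceAs (IsIso (DerivedCategory.Q.map ((pushCx f).map s)))
  have h₃ : IsIso ((DerivedCategory.Q ⋙ DCoh.Rpush f).map s) :=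
    inferInstanceAs (IsIso ((DCoh.Rpush f).map (DerivedCategory.Q.map s)))
  have : IsIso ((toRpush f).app K ≫ (DerivedCategory.Q ⋙ DCoh.Rpush f).map s) := by
    refine (congrArg (fun φ => IsIso φ) ((toRpush f).naturality s)).mp ?_
    exact IsIso.comp_isIso' h₂ h₁
  exact IsIso.of_isIso_comp_right ((toRpush f).app K) ((DerivedCategory.Q ⋙ DCoh.Rpush f).map s)

/-- `Rf_* Q K = Q f_* K`. -/
noncomputable def rpushClosedIso (K : CochainComplex X.Modules ℤ) :
    DerivedCategory.Q.obj ((pushCx f).obj K) ≅ (DCoh.Rpush f).obj (DerivedCategory.Q.obj K) :=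
  have := isIso_toRpush_closed f K
  asIso ((toRpush f).app K)

theorem nonempty_iso (P : CochainComplex Y.Modules ℤ) (hP : DCoh.IsKFlat P) [DCoh.HasLTensorCx P]
    [DCoh.HasLTensorCx ((pullCx f).obj P)] (E : DCoh.D X) :
    Nonempty ((DCoh.LTensorCx P).obj ((DCoh.Rpush f).obj E) ≅
      (DCoh.Rpush f).obj ((DCoh.LTensorCx ((pullCx f).obj P)).obj E)) := by
  have : DerivedCategory.Q.EssSurj (C := CochainComplex X.Modules ℤ) :=
    Localization.essSurj _ (HomologicalComplex.quasiIso X.Modules (ComplexShape.up ℤ))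
  let K := DerivedCategory.Q.objPreimage E
  let e : DerivedCategory.Q.obj K ≅ E := DerivedCategory.Q.objObjPreimageIso E
  have := isIso_toTensor_of_kflat P hP ((pushCx f).obj K)
  have := isIso_toTensor_of_kflat ((pullCx f).obj P) (isKFlat_pullCx f hP) K
  exact ⟨(DCoh.LTensorCx P).mapIso ((DCoh.Rpush f).mapIso e.symm ≪≫ (rpushClosedIso f K).symm) ≪≫
    asIso ((toTensor P).app ((pushCx f).obj K)) ≪≫ DerivedCategory.Q.mapIso (cxIso f K P) ≪≫
    rpushClosedIso f _ ≪≫
    (DCoh.Rpush f).mapIso ((asIso ((toTensor ((pullCx f).obj P)).app K)).symm ≪≫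
      (DCoh.LTensorCx ((pullCx f).obj P)).mapIso e)⟩

end Groth.Agent.KFlat.ProjFormulaClosed
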