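import Groth.Agent.KFlat.RPush
import Groth.Agent.DHA.KInj.Products

/-!
# Products in the derived category of `O_X`-modules
-/

set_option autoImplicit false

universe u

open CategoryTheory Limits AlgebraicGeometry

attribute [local instance] HasDerivedCategory.standard

namespace Groth.Agent.KFlat.Products

variable {X : Scheme.{u}}

theorem exists_isKInjective_resolution (K : CochainComplex X.Modules ℤ) :
    ∃ (I : CochainComplex X.Modules ℤ) (s : K ⟶ I), I.IsKInjective ∧ QuasiIso s :=
  ⟨(Groth.Agent.KFlat.RPush.injRes X).obj K, (Groth.Agent.KFlat.RPush.injι X).app K, inferInstance, inferInstance⟩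

/-- Countable products exist in the derived category. -/
theorem hasProduct {T : Type} (K : T → DerivedCategory X.Modules) : HasProduct K := by
  have h : ∀ t, ∃ (I : CochainComplex X.Modules ℤ) (_ : I.IsKInjective),
      Nonempty (DerivedCategory.Q.obj I ≅ K t) := fun t => by
    obtain ⟨I, s, hI, hs⟩ := exists_isKInjective_resolution (DerivedCategory.Q.objPreimage (K t))
    exact ⟨I, hI, ⟨(asIso (DerivedCategory.Q.map s)).symm ≪≫ DerivedCategory.Q.objObjPreimageIso (K t)⟩⟩
  choose I hI e using h
  have := Groth.Agent.DHA.KInj.hasProduct_of_isKInjective I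
  exact hasLimit_of_iso (Discrete.natIso fun t => (e t.as).some :
    Discrete.functor (fun t => DerivedCategory.Q.obj (I t)) ≅ Discrete.functor K)

end Groth.Agent.KFlat.Products
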