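import Groth.Agent.KFlat.Pull
import Mathlib.AlgebraicGeometry.Modules.Tilde
import Mathlib.CategoryTheory.Adjunction.Unique

/-!
# Stalks of `~`; `~` of a K-flat complex is K-flat
-/

set_option autoImplicit false

universe u

open CategoryTheory CategoryTheory.Limits MonoidalCategory AlgebraicGeometry
open Groth.Agent.PullStalk.Sky Groth.Agent.KFlat.StalkTensor

namespace Groth.Agent.KFlat.TildeKFlat

variable (R : CommRingCat.{u}) (x : Spec R)

/-- The map to the local ring. -/
noncomputable def toLocal : R →+* (Spec R).presheaf.stalk x :=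
  ((Spec R).presheaf.germ ⊤ x trivial).hom.comp (Scheme.ΓSpecIso R).inv.hom

/-- Global sections of a skyscraper. -/
noncomputable def gammaSkyIso :
    ModuleCat.restrictScalars (toLocal R x) ≅ skyF (X := Spec R) x ⋙ moduleSpecΓFunctor :=
  NatIso.ofComponents (fun N => LinearEquiv.toModuleIso
    ({ toFun := fun (n : N) => show (moduleSpecΓFunctor.obj ((skyF (X := Spec R) x).obj N) : Type u) from
          fun _ : PLift (x ∈ (⊤ : (Spec R).Opens)) => n
       invFun := fun g => (show PLift (x ∈ (⊤ : (Spec R).Opens)) → N from g) ⟨trivial⟩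
       map_add' := fun _ _ => rfl
       map_smul' := fun _ _ => rfl
       left_inv := fun _ => rfl
       right_inv := fun _ => rfl } :
      ↑((ModuleCat.restrictScalars (toLocal R x)).obj N) ≃ₗ[↑R] ↑(moduleSpecΓFunctor.obj ((skyF (X := Spec R) x).obj N))))
      fun {N N'} g => by
    ext n
    exact (skyMap_app (X := Spec R) x g ⊤ _).symm

/-- The stalk of `~` is extension of scalars to the local ring. -/
noncomputable def stalkTildeIso :
    tilde.functor R ⋙ DerSch.stalkFunctor (Spec R) x ≅ ModuleCat.extendScalars (toLocal R x) :=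
  ((tilde.adjunction (R := R)).comp (stalkSkyAdj x)).leftAdjointUniq
    ((ModuleCat.extendRestrictScalarsAdj (toLocal R x)).ofNatIsoRight (gammaSkyIso R x))

/-- The stalk complex of `~`. -/
noncomputable def stTildeIso (K : DRing.Cx R) :
    (StalkCx.stCx x).obj (((tilde.functor R).mapHomologicalComplex (ComplexShape.up ℤ)).obj K) ≅
      (BaseChange.extCx (toLocal R x)).obj K :=
  HomologicalComplex.Hom.isoOfComponents (fun n => (stalkTildeIso R x).app (K.X n))
    fun i j _ => ((stalkTildeIso R x).hom.naturality (K.d i j)).symm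

theorem isKFlat_tilde (K : DRing.Cx R) (hK : DRing.IsKFlat R K) :
    DCoh.IsKFlat (((tilde.functor R).mapHomologicalComplex (ComplexShape.up ℤ)).obj K) :=
  (StalkCx.isKFlat_iff_stalk _).2 fun y =>
    Pull.isKFlat_of_iso_ring (stTildeIso R y K).symm (BaseChange.isKFlat_extCx _ hK)

end Groth.Agent.KFlat.TildeKFlat
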