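import Groth.Agent.KFlat.TildeExact
import Groth.Agent.KFlat.TildeKFlat
import Groth.Agent.KFlat.LocalD
import Groth.Agent.QCoh.Pullback
import Groth.Agent.PerfTri.QCohHom
import Groth.Agent.S6905

/-!
# K-flat quasi-coherent models on affine opens; derived inverse images of `D_QCoh`
-/

set_option autoImplicit false

universe u

open CategoryTheory Limits AlgebraicGeometry TopologicalSpace
open Groth.Agent.KFlat.Pull

attribute [local instance] HasDerivedCategory.standard

namespace Groth.Agent.KFlat.QCohModel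

variable {X : Scheme.{u}}

/-- A complex with quasi-coherent cohomology on `Spec R` has a K-flat quasi-coherent model. -/
theorem exists_model_Spec {R : CommRingCat.{u}} (F : CochainComplex (Spec R).Modules ℤ)
    (hF : DCoh.IsQCohD (DerivedCategory.Q.obj F : DCoh.D (Spec R))) :
    ∃ C : CochainComplex (Spec R).Modules ℤ, DCoh.IsKFlat C ∧ (∀ i, (C.X i).IsQuasicoherent) ∧
      Nonempty (DerivedCategory.Q.obj C ≅ DerivedCategory.Q.obj F) := by
  have := TildeExact.preservesFiniteLimits_tilde R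
  obtain ⟨M, ⟨e⟩⟩ := TildeD.exists_iso_of_isQCohD (R := R) _ hF
  obtain ⟨K, f, hK, -, hf, -⟩ := Groth.Agent.S6905.result R (DerivedCategory.Q.objPreimage M)
  refine ⟨((tilde.functor R).mapHomologicalComplex (ComplexShape.up ℤ)).obj K,
    TildeKFlat.isKFlat_tilde R K hK,
    fun i => TildeD.isQuasicoherent_of_essImage ⟨K.X i, ⟨Iso.refl _⟩⟩, ⟨?_⟩⟩
  exact ((tilde.functor R).mapDerivedCategoryFactors.app K).symm ≪≫
    (DCoh.tildeD R).mapIso (asIso (DerivedCategory.Q.map f) ≪≫ DerivedCategory.Q.objObjPreimageIso M) ≪≫ e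

/-- Restriction along an open immersion, on complexes. -/
noncomputable abbrev restrJ {W : Scheme.{u}} (j : W ⟶ X) [IsOpenImmersion j] :
    CochainComplex X.Modules ℤ ⥤ CochainComplex W.Modules ℤ :=
  (Scheme.Modules.restrictFunctor j).mapHomologicalComplex (ComplexShape.up ℤ)

/-- Restriction along an open immersion is the inverse image. -/
noncomputable def restrJIso {W : Scheme.{u}} (j : W ⟶ X) [IsOpenImmersion j] : restrJ j ≅ pullCx j :=
  NatIso.mapHomologicalComplex (Scheme.Modules.restrictFunctorIsoPullback j) (ComplexShape.up ℤ)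

theorem isQCohD_restrJ {W : Scheme.{u}} (j : W ⟶ X) [IsOpenImmersion j] {F : CochainComplex X.Modules ℤ}
    (hF : DCoh.IsQCohD (DerivedCategory.Q.obj F : DCoh.D X)) :
    DCoh.IsQCohD (DerivedCategory.Q.obj ((restrJ j).obj F) : DCoh.D W) := fun i => by
  have h : (F.homology i).IsQuasicoherent :=
    @Groth.Agent.QCoh.isQuasicoherent_of_iso _ _ _
      ((DerivedCategory.homologyFunctorFactors X.Modules i).app F) (hF i)
  have h' := @Scheme.Modules.isQuasicoherent_restrictFunctor _ _ j _ (F.homology i) h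
  exact @Groth.Agent.QCoh.isQuasicoherent_of_iso _ _ _
    (((MapHomology.cxIso (Scheme.Modules.restrictFunctor j) i).app F).symm ≪≫
      ((DerivedCategory.homologyFunctorFactors W.Modules i).app _).symm) h'

/-- A K-flat model of a complex, restricted to the spectrum of a ring, is a quasi-coherent one. -/
theorem exists_model_restr {R : CommRingCat.{u}} (j : Spec R ⟶ X) [IsOpenImmersion j]
    (P : CochainComplex X.Modules ℤ) (hP : DCoh.IsQCohD (DerivedCategory.Q.obj P : DCoh.D X)) :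
    ∃ C : CochainComplex (Spec R).Modules ℤ, DCoh.IsKFlat C ∧ (∀ i, (C.X i).IsQuasicoherent) ∧
      Nonempty (DerivedCategory.Q.obj C ≅ DerivedCategory.Q.obj ((pullCx j).obj P)) := by
  obtain ⟨C, h₁, h₂, ⟨e⟩⟩ := exists_model_Spec _ (isQCohD_restrJ j hP)
  exact ⟨C, h₁, h₂, ⟨e ≪≫ DerivedCategory.Q.mapIso ((restrJIso j).app P)⟩⟩

theorem isQCohD_of_iso {K K' : DCoh.D X} (e : K ≅ K') (h : DCoh.IsQCohD K) : DCoh.IsQCohD K' := fun i =>
  @Groth.Agent.QCoh.isQuasicoherent_of_iso _ _ _ ((DerivedCategory.homologyFunctor X.Modules i).mapIso e) (h i)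

theorem isQCohD_Q_of_terms (E : CochainComplex X.Modules ℤ) (h : ∀ i, (E.X i).IsQuasicoherent) :
    DCoh.IsQCohD (DerivedCategory.Q.obj E : DCoh.D X) := fun i =>
  @Groth.Agent.QCoh.isQuasicoherent_of_iso _ _ _
    ((DerivedCategory.homologyFunctorFactors X.Modules i).app E).symm
    (@PerfTri.QCohHom.isQuasicoherent_homology X E h i)

/-- Quasi-coherent cohomology can be checked on affine opens, after restriction. -/
theorem isQCohD_of_local (F : CochainComplex X.Modules ℤ)
    (h : ∀ x : X, ∃ (U : X.Opens) (hU : IsAffineOpen U), x ∈ U ∧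
      DCoh.IsQCohD (DerivedCategory.Q.obj ((pullCx hU.fromSpec).obj F) : DCoh.D (Spec Γ(X, U)))) :
    DCoh.IsQCohD (DerivedCategory.Q.obj F : DCoh.D X) := fun i => by
  refine Groth.Agent.QCoh.isQuasicoherent_of_forall_exists _ fun x => ?_
  obtain ⟨U, hU, hxU, hq⟩ := h x
  refine ⟨U, hU, hxU, ?_⟩
  let j := hU.fromSpec
  exact @Groth.Agent.QCoh.isQuasicoherent_of_iso _ _ _
    ((DerivedCategory.homologyFunctor _ i).mapIso (DerivedCategory.Q.mapIso ((restrJIso j).app F).symm) ≪≫
      (DerivedCategory.homologyFunctorFactors _ i).app _ ≪≫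
      (MapHomology.cxIso (Scheme.Modules.restrictFunctor j) i).app F ≪≫
      (Scheme.Modules.restrictFunctor j).mapIso ((DerivedCategory.homologyFunctorFactors X.Modules i).app F).symm)
    (hq i)

/-- Inverse images of K-flat complexes with quasi-coherent cohomology have quasi-coherent cohomology. -/
theorem isQCohD_pullCx {Y : Scheme.{u}} (f : Y ⟶ X) {P : CochainComplex X.Modules ℤ} (hP : DCoh.IsKFlat P)
    (hq : DCoh.IsQCohD (DerivedCategory.Q.obj P : DCoh.D X)) :
    DCoh.IsQCohD (DerivedCategory.Q.obj ((pullCx f).obj P) : DCoh.D Y) := by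
  refine isQCohD_of_local _ fun y => ?_
  obtain ⟨U, hU, hfy, -⟩ := Opens.isBasis_iff_nbhd.1 X.isBasis_affineOpens (Opens.mem_top (f y))
  obtain ⟨V, hV, hyV, hVU⟩ := Opens.isBasis_iff_nbhd.1 Y.isBasis_affineOpens (show y ∈ f ⁻¹ᵁ U from hfy)
  have hU : IsAffineOpen U := hU
  have hV : IsAffineOpen V := hV
  refine ⟨V, hV, hyV, ?_⟩
  have hr : Set.range (hV.fromSpec ≫ f) ⊆ Set.range hU.fromSpec := by
    rintro _ ⟨z, rfl⟩
    rw [hU.range_fromSpec]
    exact hVU (hV.range_fromSpec.le ⟨z, rfl⟩)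
  let t := IsOpenImmersion.lift hU.fromSpec (hV.fromSpec ≫ f) hr
  obtain ⟨C, hC, hCq, ⟨e⟩⟩ := exists_model_restr hU.fromSpec P hq
  let e' := LocalD.pullQIso t hC (isKFlat_pullCx hU.fromSpec hP) e
  let e'' : (pullCx t).obj ((pullCx hU.fromSpec).obj P) ≅ (pullCx hV.fromSpec).obj ((pullCx f).obj P) :=
    (pullCxComp t hU.fromSpec).app P ≪≫
      (NatIso.mapHomologicalComplex (Scheme.Modules.pullbackCongr (IsOpenImmersion.lift_fac _ _ hr))
        (ComplexShape.up ℤ)).app P ≪≫ ((pullCxComp hV.fromSpec f).app P).symm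
  refine isQCohD_of_iso (e' ≪≫ DerivedCategory.Q.mapIso e'') (isQCohD_Q_of_terms _ fun i => ?_)
  exact @Groth.Agent.QCoh.isQuasicoherent_pullback _ _ t (C.X i) (hCq i)

/-- Derived inverse image preserves quasi-coherent cohomology. -/
theorem isQCohD_Lpull {Y : Scheme.{u}} (f : Y ⟶ X) [DCoh.HasLpull f] (K : DCoh.D X) (hK : DCoh.IsQCohD K) :
    DCoh.IsQCohD ((DCoh.Lpull f).obj K) := by
  let P := (resY X).obj (DerivedCategory.Q.objPreimage K)
  let e : DerivedCategory.Q.obj P ≅ K :=
    (resQIso (Y := X)).app _ ≪≫ DerivedCategory.Q.objObjPreimageIso K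
  exact isQCohD_of_iso ((@asIso _ _ _ _ ((toPull f).app P) (isIso_toPull f (isKFlat_resY _))).symm ≪≫
    (DCoh.Lpull f).mapIso e) (isQCohD_pullCx f (isKFlat_resY _) (isQCohD_of_iso e.symm hK))

end Groth.Agent.KFlat.QCohModel
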