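import Mathlib.Algebra.Homology.Additive
import Mathlib.CategoryTheory.Adjunction.Basic

/-!
# Adjoint functors on complexes
-/

set_option autoImplicit false

open CategoryTheory CategoryTheory.Limits

namespace Groth.Agent.KFlat.CxAdj

variable {A B : Type*} [Category A] [Category B] [Preadditive A] [Preadditive B]
  {L : A ⥤ B} {R : B ⥤ A} [L.Additive] [R.Additive] (adj : L ⊣ R) {ι : Type*} (c : ComplexShape ι)

/-- An adjunction applied termwise to complexes. -/
noncomputable def mapCx : L.mapHomologicalComplex c ⊣ R.mapHomologicalComplex c where
  unit :=
    { app := fun K =>
        { f := fun i => adj.unit.app (K.X i)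
          comm' := fun i j _ => (adj.unit.naturality (K.d i j)).symm }
      naturality := fun {K K'} φ => by
        ext i
        exact adj.unit.naturality (φ.f i) }
  counit :=
    { app := fun K =>
        { f := fun i => adj.counit.app (K.X i)
          comm' := fun i j _ => (adj.counit.naturality (K.d i j)).symm }
      naturality := fun {K K'} φ => by
        ext i
        exact adj.counit.naturality (φ.f i) }
  left_triangle_components K := by
    ext i
    exact adj.left_triangle_components (K.X i)
  right_triangle_components K := by
    ext i
    exact adj.right_triangle_components (K.X i)

end Groth.Agent.KFlat.CxAdj
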