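import Groth.Prelude.Def_CxOX
import Groth.Agent.ModExt.Basic
import Groth.Agent.S0481
import Groth.Agent.KFlat.CxAdj
import Mathlib.CategoryTheory.Localization.Adjunction

/-!
# Extension by zero is exact; restriction preserves K-injectives; `j_! ⊣ j^*` on derived categories
-/

set_option autoImplicit false

universe u

open CategoryTheory CategoryTheory.Limits AlgebraicGeometry

attribute [local instance] HasDerivedCategory.standard

namespace Groth.Agent.KFlat.ExtZero

variable {X : Scheme.{u}} (V : X.Opens)

instance preservesFiniteLimits_extZero : PreservesFiniteLimits (CxOX.extZero V.ι) :=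
  have h₁ : PreservesFiniteLimits (Scheme.Modules.overEquiv V).inverse :=
    PreservesLimitsOfSize.preservesFiniteLimits.{u, u} _
  @preservesFiniteLimits_of_natIso _ _ _ _ _ _ (CxOX.extZeroIsoSite V).symm
    (@comp_preservesFiniteLimits _ _ _ _ _ _ _ _ h₁ (ModExt.preservesFiniteLimits_extZero X.sheaf V))

/-- Restriction to an open subscheme preserves K-injective complexes. -/
theorem isKInjective_restrict (I : CochainComplex X.Modules ℤ) [I.IsKInjective] :
    CochainComplex.IsKInjective ((DCoh.restrictCx V).obj I) :=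
  Groth.Agent.S0481.result _ _ (CxOX.extZeroAdj V.ι) I inferInstance

/-- `j_! ⊣ j^*` on derived categories. -/
noncomputable def extZeroDAdj [PreservesFiniteLimits (CxOX.extZero V.ι)] :
    CxOX.extZeroD V.ι ⊣ DCoh.restrictD V.ι :=
  letI : CatCommSq ((CxOX.extZero V.ι).mapHomologicalComplex (ComplexShape.up ℤ)) DerivedCategory.Q
      DerivedCategory.Q (CxOX.extZeroD V.ι) := ⟨(CxOX.extZero V.ι).mapDerivedCategoryFactors.symm⟩
  letI : CatCommSq (DCoh.restrictCx V) DerivedCategory.Q DerivedCategory.Q (DCoh.restrictD V.ι) :=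
    ⟨(Scheme.Modules.restrictFunctor V.ι).mapDerivedCategoryFactors.symm⟩
  (CxAdj.mapCx (CxOX.extZeroAdj V.ι) (ComplexShape.up ℤ)).localization
    DerivedCategory.Q (HomologicalComplex.quasiIso _ (ComplexShape.up ℤ))
    DerivedCategory.Q (HomologicalComplex.quasiIso _ (ComplexShape.up ℤ))
    (CxOX.extZeroD V.ι) (DCoh.restrictD V.ι)

end Groth.Agent.KFlat.ExtZero
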