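import Groth.Agent.KFlat.RGamma
import Groth.Agent.KFlat.ExtZero
import Groth.Agent.KFlat.PushRestrict

/-!
# `Rf_*` commutes with restriction to opens and with derived global sections
-/

set_option autoImplicit false

universe u

open CategoryTheory CategoryTheory.Limits AlgebraicGeometry
open Groth.Agent.KFlat.WeakKInj Groth.Agent.KFlat.RPush Groth.Agent.KFlat.RGamma

attribute [local instance] HasDerivedCategory.standard

namespace Groth.Agent.KFlat.RPushBase

/-- Termwise functors compose. -/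
noncomputable def mapCxComp {A B C : Type*} [Category A] [Category B] [Category C] [Preadditive A] [Preadditive B]
    [Preadditive C] (F : A ⥤ B) (G : B ⥤ C) [F.Additive] [G.Additive] [(F ⋙ G).Additive] {ι : Type*}
    (c : ComplexShape ι) :
    F.mapHomologicalComplex c ⋙ G.mapHomologicalComplex c ≅ (F ⋙ G).mapHomologicalComplex c :=
  NatIso.ofComponents (fun K => HomologicalComplex.Hom.isoOfComponents (fun _ => Iso.refl _)
    (fun _ _ _ => (Category.id_comp _).trans (Category.comp_id _).symm))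
    (fun _ => HomologicalComplex.hom_ext _ _ fun _ => (Category.comp_id _).trans (Category.id_comp _).symm)

variable {X Y : Scheme.{u}} (f : X ⟶ Y) (V : Y.Opens)

/-- Termwise direct image and restriction. -/
noncomputable def pushRestrictCxIso :
    pushCx f ⋙ DCoh.restrictCx V ≅ DCoh.restrictCx (f ⁻¹ᵁ V) ⋙ pushCx (f ∣_ V) :=
  mapCxComp _ _ _ ≪≫ NatIso.mapHomologicalComplex (PushRestrict.pushRestrictIso f V) _ ≪≫ (mapCxComp _ _ _).symm

/-- Localisation and restriction. -/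
noncomputable def restrictDIso [PreservesFiniteLimits (Scheme.Modules.restrictFunctor V.ι)] :
    DerivedCategory.Q ⋙ DCoh.restrictD V.ι ≅ DCoh.restrictCx V ⋙ DerivedCategory.Q :=
  (Scheme.Modules.restrictFunctor V.ι).mapDerivedCategoryFactors

/-- A functor to complexes with weakly K-injective values composed with the derived direct image. -/
noncomputable def pushIso [DCoh.HasRpush f] {C : Type*} [Category C] (G : C ⥤ CochainComplex X.Modules ℤ)
    (hG : ∀ c, IsWeaklyKInjective (G.obj c)) : G ⋙ pushQ f ≅ G ⋙ DerivedCategory.Q ⋙ DCoh.Rpush f :=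
  have : IsIso (Functor.whiskerLeft G (toRpush f)) :=
    have : ∀ c, IsIso ((Functor.whiskerLeft G (toRpush f)).app c) := fun c => isIso_toRpush_of_weak f (hG c)
    NatIso.isIso_of_isIso_app _
  asIso (Functor.whiskerLeft G (toRpush f))

/-- Restricted resolutions still compute. -/
theorem weak_restrict (K : CochainComplex X.Modules ℤ) (U : X.Opens) :
    IsWeaklyKInjective ((injRes X ⋙ DCoh.restrictCx U).obj K) :=
  @WeakKInj.of_isKInjective _ _ (ExtZero.isKInjective_restrict U _)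

variable [DCoh.HasRpush f]
  [PreservesFiniteLimits (Scheme.Modules.restrictFunctor V.ι)]
  [PreservesFiniteLimits (Scheme.Modules.restrictFunctor (f ⁻¹ᵁ V).ι)]

/-- `(Rf_* E)|_V` on complexes. -/
noncomputable def restrictRpushQ :
    DerivedCategory.Q ⋙ DCoh.Rpush f ⋙ DCoh.restrictD V.ι ≅
      (injRes X ⋙ pushCx f) ⋙ DCoh.restrictCx V ⋙ DerivedCategory.Q :=
  (Functor.associator _ _ _).symm ≪≫ Functor.isoWhiskerRight (rpushIso f) _ ≪≫
    Functor.isoWhiskerRight (Functor.associator _ _ _).symm _ ≪≫ Functor.associator _ _ _ ≪≫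
    Functor.isoWhiskerLeft (injRes X ⋙ pushCx f) (restrictDIso V)

/-- `E|_U` through resolutions. -/
noncomputable def restrictQ :
    DerivedCategory.Q ⋙ DCoh.restrictD (f ⁻¹ᵁ V).ι ≅
      (injRes X ⋙ DCoh.restrictCx (f ⁻¹ᵁ V)) ⋙ DerivedCategory.Q :=
  Functor.isoWhiskerRight (injQIso (X := X)).symm _ ≪≫ Functor.associator _ _ _ ≪≫
    Functor.isoWhiskerLeft (injRes X) (restrictDIso (f ⁻¹ᵁ V)) ≪≫ (Functor.associator _ _ _).symm

/-- `(Rf_* E)|_V = Rg_*(E|_U)` on complexes. -/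
noncomputable def restrictRpushQIso [DCoh.HasRpush (f ∣_ V)] :
    DerivedCategory.Q ⋙ DCoh.Rpush f ⋙ DCoh.restrictD V.ι ≅
      DerivedCategory.Q ⋙ DCoh.restrictD (f ⁻¹ᵁ V).ι ⋙ DCoh.Rpush (f ∣_ V) :=
  restrictRpushQ f V ≪≫ Functor.associator _ _ _ ≪≫
    Functor.isoWhiskerLeft (injRes X) ((Functor.associator _ _ _).symm ≪≫
      Functor.isoWhiskerRight (pushRestrictCxIso f V) _ ≪≫ Functor.associator _ _ _) ≪≫
    (Functor.associator _ _ _).symm ≪≫
    pushIso (f ∣_ V) (injRes X ⋙ DCoh.restrictCx (f ⁻¹ᵁ V)) (fun K => weak_restrict K _) ≪≫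
    (Functor.associator _ _ _).symm ≪≫ Functor.isoWhiskerRight (restrictQ f V).symm _ ≪≫ Functor.associator _ _ _

/-- `(Rf_* E)|_V = Rg_*(E|_U)`. -/
noncomputable def restrictRpushIso [DCoh.HasRpush (f ∣_ V)] :
    DCoh.Rpush f ⋙ DCoh.restrictD V.ι ≅ DCoh.restrictD (f ⁻¹ᵁ V).ι ⋙ DCoh.Rpush (f ∣_ V) :=
  Localization.liftNatIso DerivedCategory.Q (HomologicalComplex.quasiIso X.Modules (ComplexShape.up ℤ))
    _ _ _ _ (restrictRpushQIso f V)

omit [PreservesFiniteLimits (Scheme.Modules.restrictFunctor V.ι)]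
  [PreservesFiniteLimits (Scheme.Modules.restrictFunctor (f ⁻¹ᵁ V).ι)] [DCoh.HasRpush f] in
/-- Global sections of a direct image. -/
noncomputable def gammaPushIso : Scheme.Modules.pushforward f ⋙ DCoh.gammaAb Y ≅ DCoh.gammaAb X :=
  NatIso.ofComponents (fun M => Iso.refl _)

omit [PreservesFiniteLimits (Scheme.Modules.restrictFunctor V.ι)]
  [PreservesFiniteLimits (Scheme.Modules.restrictFunctor (f ⁻¹ᵁ V).ι)] in
/-- `RΓ(Y, Rf_* E) = RΓ(X, E)` on complexes. -/
noncomputable def gammaRpushQIso [DCoh.HasRΓ X] [DCoh.HasRΓ Y] :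
    DerivedCategory.Q ⋙ DCoh.Rpush f ⋙ DCoh.RΓ Y ≅ DerivedCategory.Q ⋙ DCoh.RΓ X :=
  (Functor.associator _ _ _).symm ≪≫ Functor.isoWhiskerRight (rpushIso f) _ ≪≫
    Functor.isoWhiskerRight (Functor.associator _ _ _).symm _ ≪≫ Functor.associator _ _ _ ≪≫
    (gammaIso (injRes X ⋙ pushCx f) fun _ => WeakKInj.push f (WeakKInj.of_isKInjective _)).symm ≪≫
    Functor.associator _ _ _ ≪≫
    Functor.isoWhiskerLeft (injRes X) ((Functor.associator _ _ _).symm ≪≫
      Functor.isoWhiskerRight (mapCxComp _ _ _ ≪≫ NatIso.mapHomologicalComplex (gammaPushIso f) _) _) ≪≫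
    (rΓIso X).symm

omit [PreservesFiniteLimits (Scheme.Modules.restrictFunctor V.ι)]
  [PreservesFiniteLimits (Scheme.Modules.restrictFunctor (f ⁻¹ᵁ V).ι)] in
/-- `RΓ(Y, Rf_* E) = RΓ(X, E)`. -/
noncomputable def gammaRpushIso [DCoh.HasRΓ X] [DCoh.HasRΓ Y] :
    DCoh.Rpush f ⋙ DCoh.RΓ Y ≅ DCoh.RΓ X :=
  Localization.liftNatIso DerivedCategory.Q (HomologicalComplex.quasiIso X.Modules (ComplexShape.up ℤ))
    _ _ _ _ (gammaRpushQIso f)

end Groth.Agent.KFlat.RPushBase
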