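import Groth.Agent.KFlat.MVSheaf
import Groth.Agent.KFlat.RPushBase
import Groth.Agent.KFlat.RPushTriangle
import Mathlib.Algebra.Homology.DerivedCategory.ShortExact
import Mathlib.Algebra.Homology.HomologicalComplexBiprod

/-!
# Mayer–Vietoris triangles for two opens
-/

set_option autoImplicit false

universe u

open CategoryTheory CategoryTheory.Limits AlgebraicGeometry CategoryTheory.Pretriangulated
open Groth.Agent.KFlat.MVSheaf Groth.Agent.KFlat.RPushBase Groth.Agent.KFlat.WeakKInj Groth.Agent.KFlat.RPush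
  Groth.Agent.KFlat.RGamma

attribute [local instance] HasDerivedCategory.standard preservesBinaryBiproducts_of_preservesBiproducts

namespace Groth.Agent.KFlat.MVTriangle

variable {X : Scheme.{u}} (U V : X.Opens)

/-- Termwise `j_*(-|_U)`. -/
noncomputable abbrev Rc (U : X.Opens) : CochainComplex X.Modules ℤ ⥤ CochainComplex X.Modules ℤ :=
  DCoh.restrictCx U ⋙ pushCx U.ι

/-- The unit on complexes. -/
noncomputable def ηc (U : X.Opens) (I : CochainComplex X.Modules ℤ) : I ⟶ (Rc U).obj I where
  f n := (η U).app (I.X n)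
  comm' i j _ := ((η U).naturality (I.d i j)).symm

/-- The restriction on complexes. -/
noncomputable def resc {U W : X.Opens} (h : W ≤ U) (I : CochainComplex X.Modules ℤ) :
    (Rc U).obj I ⟶ (Rc W).obj I where
  f n := (MVSheaf.res h).app (I.X n)
  comm' i j _ := ((MVSheaf.res h).naturality (I.d i j)).symm

variable (I : CochainComplex X.Modules ℤ)

theorem ηc_resc {U W : X.Opens} (h : W ≤ U) : ηc U I ≫ resc h I = ηc W I :=
  HomologicalComplex.hom_ext _ _ fun n => η_res h (I.X n)

/-- The short complex of complexes. -/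
noncomputable def scc : ShortComplex (CochainComplex X.Modules ℤ) :=
  ShortComplex.mk (biprod.lift (ηc U I) (ηc V I))
    (biprod.fst ≫ resc (inf_le_left : U ⊓ V ≤ U) I - biprod.snd ≫ resc (inf_le_right : U ⊓ V ≤ V) I)
    (by simp only [Preadditive.comp_sub, biprod.lift_fst_assoc, biprod.lift_snd_assoc, ηc_resc, sub_self])

/-- Its terms. -/
noncomputable def evalIso (n : ℤ) :
    (scc U V I).map (HomologicalComplex.eval X.Modules (ComplexShape.up ℤ) n) ≅ sc U V (I.X n) :=
  ShortComplex.isoMk (Iso.refl _) (HomologicalComplex.biprodXIso ((Rc U).obj I) ((Rc V).obj I) n) (Iso.refl _)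
    (by
      apply biprod.hom_ext
      · simp only [scc, sc, MVSheaf.a, ShortComplex.map_f, Iso.refl_hom, Category.id_comp, Category.assoc]
        rw [biprod.lift_fst]
        erw [HomologicalComplex.biprodXIso_hom_fst, ← HomologicalComplex.comp_f, biprod.lift_fst]
        rfl
      · simp only [scc, sc, MVSheaf.a, ShortComplex.map_f, Iso.refl_hom, Category.id_comp, Category.assoc]
        rw [biprod.lift_snd]
        erw [HomologicalComplex.biprodXIso_hom_snd, ← HomologicalComplex.comp_f, biprod.lift_snd]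
        rfl)
    (by
      simp only [scc, sc, MVSheaf.b, ShortComplex.map_g, Iso.refl_hom, Category.comp_id, Preadditive.comp_sub]
      erw [HomologicalComplex.biprodXIso_hom_fst_assoc, HomologicalComplex.biprodXIso_hom_snd_assoc, Category.comp_id]
      rfl)

variable {U V}

theorem shortExact_scc (hUV : U ⊔ V = ⊤) : (scc U V I).ShortExact :=
  HomologicalComplex.shortExact_of_degreewise_shortExact _ fun n =>
    ShortComplex.shortExact_of_iso (evalIso U V I n).symm (MVSheaf.shortExact (U := U) (V := V) hUV _)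

/-- The split form, for termwise injective complexes. -/
theorem shortExact_scc_gamma (hUV : U ⊔ V = ⊤) (hI : ∀ n, Injective (I.X n)) :
    ((scc U V I).map (gammaCx X)).ShortExact :=
  HomologicalComplex.shortExact_of_degreewise_shortExact _ fun n => by
    have h := ShortComplex.shortExact_of_iso (evalIso U V I n).symm (MVSheaf.shortExact (U := U) (V := V) hUV _)
    have : Injective ((scc U V I).map (HomologicalComplex.eval X.Modules (ComplexShape.up ℤ) n)).X₁ := hI n
    exact (h.splittingOfInjective.map (DCoh.gammaAb X)).shortExact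

theorem exists_triangle_of_shortExact {C : Type*} [Category C] [Abelian C] [HasDerivedCategory C]
    {S : ShortComplex (CochainComplex C ℤ)} (hS : S.ShortExact) {A B B' D : DerivedCategory C}
    {B₁ B₂ : CochainComplex C ℤ} (eB : S.X₂ ≅ B₁ ⊞ B₂)
    (e₁ : DerivedCategory.Q.obj S.X₁ ≅ A) (eU : DerivedCategory.Q.obj B₁ ≅ B) (eV : DerivedCategory.Q.obj B₂ ≅ B')
    (e₃ : DerivedCategory.Q.obj S.X₃ ≅ D) :
    ∃ (a : A ⟶ B ⊞ B') (b : B ⊞ B' ⟶ D) (c : D ⟶ A⟦(1 : ℤ)⟧), Triangle.mk a b c ∈ distinguishedTriangles := by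
  have : DerivedCategory.Q.PreservesZeroMorphisms (C := CochainComplex C ℤ) := inferInstance
  let e₂ : DerivedCategory.Q.obj S.X₂ ≅ B ⊞ B' :=
    DerivedCategory.Q.mapIso eB ≪≫
      DerivedCategory.Q.mapBiprod B₁ B₂ ≪≫ biprod.mapIso eU eV
  obtain ⟨c, hc⟩ := RPushTriangle.exists_distinguished_of_iso _ (DerivedCategory.triangleOfSES_distinguished hS)
    (e₁.inv ≫ DerivedCategory.Q.map S.f ≫ e₂.hom) (e₂.inv ≫ DerivedCategory.Q.map S.g ≫ e₃.hom)
    e₁.symm e₂.symm e₃.symm
    ((Category.assoc _ _ _).trans (congrArg (e₁.inv ≫ ·)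
      ((Category.assoc _ _ _).trans ((congrArg (DerivedCategory.Q.map S.f ≫ ·) e₂.hom_inv_id).trans (Category.comp_id _)))))
    ((Category.assoc _ _ _).trans (congrArg (e₂.inv ≫ ·)
      ((Category.assoc _ _ _).trans ((congrArg (DerivedCategory.Q.map S.g ≫ ·) e₃.hom_inv_id).trans (Category.comp_id _)))))
  exact ⟨_, _, c, hc⟩

variable [DCoh.HasRΓ X]

/-- `Q` of the `j_*`-complex computes `Rj_*` of the restriction. -/
noncomputable def rcIso (W : X.Opens) [DCoh.HasRpush W.ι]
    [PreservesFiniteLimits (Scheme.Modules.restrictFunctor W.ι)] [I.IsKInjective] :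
    DerivedCategory.Q.obj ((Rc W).obj I) ≅
      (DCoh.Rpush W.ι).obj ((DCoh.restrictD W.ι).obj (DerivedCategory.Q.obj I)) :=
  @asIso _ _ _ _ ((toRpush W.ι).app ((DCoh.restrictCx W).obj I))
    (@isIso_toRpush _ _ W.ι _ _ (ExtZero.isKInjective_restrict W I)) ≪≫
    (DCoh.Rpush W.ι).mapIso ((restrictDIso W).symm.app I)

/-- Global sections of the `j_*`-complex compute `RΓ` of the restriction. -/
noncomputable def gammaRcIso (W : X.Opens) [DCoh.HasRΓ (W : Scheme.{u})]
    [PreservesFiniteLimits (Scheme.Modules.restrictFunctor W.ι)] [I.IsKInjective] :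
    DerivedCategory.Q.obj ((gammaCx X).obj ((Rc W).obj I)) ≅
      (DCoh.RΓ (W : Scheme.{u})).obj ((DCoh.restrictD W.ι).obj (DerivedCategory.Q.obj I)) :=
  DerivedCategory.Q.mapIso
    ((mapCxComp _ _ _ ≪≫ NatIso.mapHomologicalComplex (gammaPushIso W.ι) _).app ((DCoh.restrictCx W).obj I)) ≪≫
    @asIso _ _ _ _ ((toRΓ (W : Scheme.{u})).app ((DCoh.restrictCx W).obj I))
      (@isIso_toRΓ _ _ _ (ExtZero.isKInjective_restrict W I)) ≪≫
    (DCoh.RΓ (W : Scheme.{u})).mapIso ((restrictDIso W).symm.app I)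

end Groth.Agent.KFlat.MVTriangle
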