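import Groth.Agent.KFlat.Closure
import Mathlib.Algebra.Homology.BifunctorAssociator

/-!
# The associator of the tensor product of sheaves of modules and of their complexes
-/

set_option autoImplicit false

universe u

open CategoryTheory CategoryTheory.Limits MonoidalCategory Opposite

namespace Groth.Agent.KFlat

variable {C : Type u} [SmallCategory C] {J : GrothendieckTopology C} (O : Sheaf J CommRingCat.{u})

open ModSite

theorem conj_square {A : Type*} [Category A] {x x' y y' z z' w w' : A} {u : y ⟶ x} [IsIso u] {u' : y' ⟶ x'} [IsIso u']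
    {α : y ⟶ z} {α' : y' ⟶ z'} {v : z ⟶ w} {v' : z' ⟶ w'} {l : x ⟶ x'} {m : y ⟶ y'} {n : z ⟶ z'} {r : w ⟶ w'}
    (h₁ : u ≫ l = m ≫ u') (h₂ : m ≫ α' = α ≫ n) (h₃ : n ≫ v' = v ≫ r) :
    l ≫ inv u' ≫ α' ≫ v' = (inv u ≫ α ≫ v) ≫ r := by
  have h₁' : l ≫ inv u' = inv u ≫ m := by
    rw [IsIso.comp_inv_eq, Category.assoc, IsIso.eq_inv_comp, h₁]
  rw [← Category.assoc, h₁']
  simp only [Category.assoc]
  congr 1
  rw [← Category.assoc, h₂, Category.assoc, h₃]

instance isIso_unitRight (A B D : Mod O) :
    IsIso ((shPre O).map ((preAdj O).unit.app ((toPre O).obj A ⊗ (toPre O).obj B) ▷ (toPre O).obj D)) :=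
  isIso_shPre_whiskerRight _ _

instance isIso_unitLeft (A B D : Mod O) :
    IsIso ((shPre O).map ((toPre O).obj A ◁ (preAdj O).unit.app ((toPre O).obj B ⊗ (toPre O).obj D))) :=
  isIso_shPre_whiskerLeft _ _

/-- The associator on one triple. -/
noncomputable def assocApp (A B D : Mod O) :
    ((tensorBi O).obj (((tensorBi O).obj A).obj B)).obj D ≅ ((tensorBi O).obj A).obj (((tensorBi O).obj B).obj D) :=
  (asIso ((shPre O).map ((preAdj O).unit.app ((toPre O).obj A ⊗ (toPre O).obj B) ▷ (toPre O).obj D))).symm ≪≫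
    (shPre O).mapIso (α_ ((toPre O).obj A) ((toPre O).obj B) ((toPre O).obj D)) ≪≫
    @asIso _ _ _ _ ((shPre O).map ((toPre O).obj A ◁ (preAdj O).unit.app ((toPre O).obj B ⊗ (toPre O).obj D)))
      (isIso_unitLeft O A B D)

theorem map_square {P Q R S : preMod O} {f : P ⟶ Q} {g : Q ⟶ S} {h : P ⟶ R} {k : R ⟶ S} (e : f ≫ g = h ≫ k) :
    (shPre O).map f ≫ (shPre O).map g = (shPre O).map h ≫ (shPre O).map k := by
  rw [← Functor.map_comp, e, Functor.map_comp]

/-- The associator of the tensor product of sheaves of modules. -/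
noncomputable def assocBi :
    bifunctorComp₁₂ (tensorBi O) (tensorBi O) ≅ bifunctorComp₂₃ (tensorBi O) (tensorBi O) :=
  NatIso.ofComponents
    (fun A => NatIso.ofComponents
      (fun B => NatIso.ofComponents (fun D => assocApp O A B D)
        (fun {D D'} d =>
          conj_square (u := (shPre O).map ((preAdj O).unit.app ((toPre O).obj A ⊗ (toPre O).obj B) ▷ (toPre O).obj D))
          (u' := (shPre O).map ((preAdj O).unit.app ((toPre O).obj A ⊗ (toPre O).obj B) ▷ (toPre O).obj D'))
          (m := (shPre O).map (((toPre O).obj A ⊗ (toPre O).obj B) ◁ (toPre O).map d))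
          (n := (shPre O).map ((toPre O).obj A ◁ ((toPre O).obj B ◁ (toPre O).map d)))
          (map_square O (whisker_exchange _ _).symm)
          (map_square O (associator_naturality_right _ _ _))
          (map_square O ((MonoidalCategory.whiskerLeft_comp _ _ _).symm.trans
            ((congrArg (_ ◁ ·) ((preAdj O).unit.naturality _)).trans (MonoidalCategory.whiskerLeft_comp _ _ _))))))
      (fun {B B'} b => by
        refine NatTrans.ext (funext fun D => ?_)
        exact conj_square (u := (shPre O).map ((preAdj O).unit.app ((toPre O).obj A ⊗ (toPre O).obj B) ▷ (toPre O).obj D))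
          (u' := (shPre O).map ((preAdj O).unit.app ((toPre O).obj A ⊗ (toPre O).obj B') ▷ (toPre O).obj D))
          (m := (shPre O).map (((toPre O).obj A ◁ (toPre O).map b) ▷ (toPre O).obj D))
          (n := (shPre O).map ((toPre O).obj A ◁ ((toPre O).map b ▷ (toPre O).obj D)))
          (map_square O ((comp_whiskerRight _ _ _).symm.trans
            ((congrArg (· ▷ _) ((preAdj O).unit.naturality _).symm).trans (comp_whiskerRight _ _ _))))
          (map_square O (associator_naturality_middle _ _ _))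
          (map_square O ((MonoidalCategory.whiskerLeft_comp _ _ _).symm.trans
            ((congrArg (_ ◁ ·) ((preAdj O).unit.naturality _)).trans (MonoidalCategory.whiskerLeft_comp _ _ _))))))
    (fun {A A'} a => by
      refine NatTrans.ext (funext fun B => NatTrans.ext (funext fun D => ?_))
      exact conj_square (u := (shPre O).map ((preAdj O).unit.app ((toPre O).obj A ⊗ (toPre O).obj B) ▷ (toPre O).obj D))
        (u' := (shPre O).map ((preAdj O).unit.app ((toPre O).obj A' ⊗ (toPre O).obj B) ▷ (toPre O).obj D))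
        (m := (shPre O).map (((toPre O).map a ▷ (toPre O).obj B) ▷ (toPre O).obj D))
        (n := (shPre O).map ((toPre O).map a ▷ ((toPre O).obj B ⊗ (toPre O).obj D)))
        (map_square O ((comp_whiskerRight _ _ _).symm.trans
          ((congrArg (· ▷ _) ((preAdj O).unit.naturality _).symm).trans (comp_whiskerRight _ _ _))))
        (map_square O (associator_naturality_left _ _ _))
        (map_square O (whisker_exchange _ _).symm))

instance preservesColimit_tensorBi_flip_obj_discrete {I : Type} (G : Mod O) (D : Discrete I ⥤ Mod O) :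
    PreservesColimit D ((tensorBi O).flip.obj G) :=
  have : PreservesColimitsOfSize.{0, 0} ((tensorBi O).flip.obj G) := preservesColimitsOfSize_shrink _
  inferInstance

instance preservesColimit_tensorBi_obj_discrete {I : Type} (F : Mod O) (D : Discrete I ⥤ Mod O) :
    PreservesColimit D ((tensorBi O).obj F) :=
  have : PreservesColimitsOfSize.{0, 0} ((tensorBi O).obj F) := preservesColimitsOfSize_shrink _
  inferInstance

/-- The associator of tensor products of complexes. -/
noncomputable def tensAssocIso (K L M : CochainComplex (Mod O) ℤ) :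
    ((tens O).obj (((tens O).obj K).obj L)).obj M ≅ ((tens O).obj K).obj (((tens O).obj L).obj M) :=
  HomologicalComplex.mapBifunctorAssociator (assocBi O) K L M
    (ComplexShape.up ℤ) (ComplexShape.up ℤ) (ComplexShape.up ℤ)

section Helpers

variable {A B D E : Type*} [Category A] [Category B] [Category D] [Category E]

theorem square₁₂ (G : A ⥤ B ⥤ E) {P Q P' Q' : A} {Z : B} {T T' : E} {a : P ⟶ Q} {g : Q ⟶ Q'} {b : P ⟶ P'}
    {a' : P' ⟶ Q'} {t : (G.obj Q).obj Z ⟶ T} {t' : (G.obj Q').obj Z ⟶ T'} {f : T ⟶ T'}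
    (h₁ : a ≫ g = b ≫ a') (h₂ : t ≫ f = (G.map g).app Z ≫ t') :
    ((G.map a).app Z ≫ t) ≫ f = (G.map b).app Z ≫ (G.map a').app Z ≫ t' := by
  rw [Category.assoc, h₂, ← Category.assoc, ← NatTrans.comp_app, ← Functor.map_comp, h₁, Functor.map_comp,
    NatTrans.comp_app, Category.assoc]

theorem square₂₃ (G : A ⥤ B ⥤ E) {P P' : A} {Y Z : B} {T T' : E} {g : P ⟶ P'} {a : Y ⟶ Z}
    {t : (G.obj P).obj Z ⟶ T} {t' : (G.obj P').obj Z ⟶ T'} {f : T ⟶ T'}
    (h₂ : t ≫ f = (G.map g).app Z ≫ t') :
    ((G.obj P).map a ≫ t) ≫ f = (G.map g).app Y ≫ (G.obj P').map a ≫ t' := by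
  rw [Category.assoc, h₂, ← Category.assoc, ← Category.assoc, NatTrans.naturality]

end Helpers

theorem tensAssocIso_naturality {K K' : CochainComplex (Mod O) ℤ} (φ : K ⟶ K') (L M : CochainComplex (Mod O) ℤ) :
    ((tens O).map (((tens O).map φ).app L)).app M ≫ (tensAssocIso O K' L M).hom =
      (tensAssocIso O K L M).hom ≫ ((tens O).map φ).app (((tens O).obj L).obj M) := by
  refine HomologicalComplex.hom_ext _ _ fun j => ?_
  refine HomologicalComplex.mapBifunctor₁₂.hom_ext fun i₁ i₂ i₃ h => ?_
  have h₁₂ : i₁ + i₂ + i₃ = j := h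
  have h₂₃ : i₁ + (i₂ + i₃) = j := (add_assoc _ _ _).symm.trans h₁₂
  have hL := square₁₂ (tensorBi O) (Z := M.X i₃)
    (a := totι (tensorBi O) K L i₁ i₂ (i₁ + i₂) rfl) (a' := totι (tensorBi O) K' L i₁ i₂ (i₁ + i₂) rfl)
    (totι_map_left φ i₁ i₂ (i₁ + i₂) rfl) (totι_map_left (((tens O).map φ).app L) (i₁ + i₂) i₃ j h₁₂)
  have hR := square₂₃ (tensorBi O) (a := totι (tensorBi O) L M i₂ i₃ (i₂ + i₃) rfl)
    (totι_map_left φ i₁ (i₂ + i₃) j h₂₃)
  have hn := NatTrans.congr_app (NatTrans.congr_app ((assocBi O).hom.naturality (φ.f i₁)) (L.X i₂)) (M.X i₃)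
  have hX := HomologicalComplex.ι_mapBifunctorAssociatorX_hom (assocBi O) K' L M (ComplexShape.up ℤ)
    (ComplexShape.up ℤ) (ComplexShape.up ℤ) i₁ i₂ i₃ j h
  have hX' := HomologicalComplex.ι_mapBifunctorAssociatorX_hom (assocBi O) K L M (ComplexShape.up ℤ)
    (ComplexShape.up ℤ) (ComplexShape.up ℤ) i₁ i₂ i₃ j h
  refine ((Category.assoc _ _ _).symm.trans ((congrArg (· ≫ _) hL).trans
    ((Category.assoc _ _ _).trans (congrArg (_ ≫ ·) hX)))).trans ?_
  refine Eq.trans ?_ ((congrArg (· ≫ _) hX').symm.trans (Category.assoc _ _ _))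
  refine Eq.trans ?_ ((congrArg (_ ≫ ·) hR).symm.trans (Category.assoc _ _ _).symm)
  exact (Category.assoc _ _ _).symm.trans ((congrArg (· ≫ _) hn).trans (Category.assoc _ _ _))

end Groth.Agent.KFlat
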