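import Groth.Agent.KFlat.Factor

/-!
# Short exact sequences with flat quotient remain exact after tensoring
-/

set_option autoImplicit false

universe u

open CategoryTheory CategoryTheory.Limits Opposite

namespace Groth.Agent.KFlat

section Bifunctor

variable {A B E : Type*} [Category A] [Category B] [Category E]
  [Abelian A] [Abelian B] [Abelian E] [HasCoproducts.{0} E]
  [∀ (I : Type), (colim : (Discrete I ⥤ E) ⥤ E).PreservesMonomorphisms]
  (F : A ⥤ B ⥤ E) [F.Additive] [∀ X, (F.obj X).Additive]
  [∀ (K : CochainComplex A ℤ) (L : CochainComplex B ℤ),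
    HomologicalComplex.HasMapBifunctor K L F (ComplexShape.up ℤ)]

theorem mono_tot_map_right_f (L : CochainComplex A ℤ) {K K' : CochainComplex B ℤ} (f : K ⟶ K') (n : ℤ)
    (h : ∀ p q : ℤ, p + q = n → Mono ((F.obj (L.X p)).map (f.f q))) :
    Mono ((((tot F).obj L).map f).f n) := by
  let I := {i : ℤ × ℤ // ComplexShape.π (ComplexShape.up ℤ) (ComplexShape.up ℤ) (ComplexShape.up ℤ) i = n}
  let G : I → E := fun i => (F.obj (L.X i.1.1)).obj (K.X i.1.2)
  let H : I → E := fun i => (F.obj (L.X i.1.1)).obj (K'.X i.1.2)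
  let t : ∀ i : I, G i ⟶ H i := fun i => (F.obj (L.X i.1.1)).map (f.f i.1.2)
  let τ : Discrete.functor G ⟶ Discrete.functor H := Discrete.natTrans fun i => t i.as
  have : ∀ i, Mono (τ.app i) := fun i => h i.as.1.1 i.as.1.2 i.as.2
  have := NatTrans.mono_of_mono_app τ
  have hm : Mono (Limits.Sigma.map t) := (colim : (Discrete I ⥤ E) ⥤ E).map_mono τ
  have heq : (((tot F).obj L).map f).f n = Limits.Sigma.map t :=
    tot_hom_ext fun p q hpq => (totι_map_right f p q n hpq).trans
      (Limits.Sigma.ι_map t ⟨(p, q), hpq⟩).symm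
  exact heq ▸ hm

theorem shortExact_tot_map_right (L : CochainComplex A ℤ) (S : ShortComplex (CochainComplex B ℤ))
    (h : ∀ p q : ℤ, ((S.map (HomologicalComplex.eval B (ComplexShape.up ℤ) q)).map (F.obj (L.X p))).ShortExact) :
    (S.map ((tot F).obj L)).ShortExact := by
  refine HomologicalComplex.shortExact_of_degreewise_shortExact _ fun n => ?_
  have hmono : Mono ((((tot F).obj L).map S.f).f n) :=
    mono_tot_map_right_f F L S.f n fun p q _ => (h p q).mono_f
  let c := fun p q => (h p q).gIsCokernel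
  have hg : IsColimit (CokernelCofork.ofπ ((((tot F).obj L).map S.g).f n)
      (((S.map ((tot F).obj L)).map (HomologicalComplex.eval E (ComplexShape.up ℤ) n)).zero)) :=
    CokernelCofork.IsColimit.ofπ _ _
      (fun {Z} k hk => totDesc (F := F) (L := L) (K := S.X₃) fun p q hpq =>
        (CokernelCofork.IsColimit.desc' (c p q) (totι F L S.X₂ p q n hpq ≫ k) (by
          refine (totι_map_right_assoc S.f p q n hpq k).symm.trans ?_
          exact (congrArg _ hk).trans comp_zero)).1)
      (fun {Z} k hk => tot_hom_ext fun p q hpq => by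
        refine (totι_map_right_assoc S.g p q n hpq _).trans ?_
        rw [totι_desc]
        exact (CokernelCofork.IsColimit.desc' (c p q) _ _).2)
      (fun {Z} k hk m hm => tot_hom_ext fun p q hpq => by
        rw [totι_desc]
        refine Cofork.IsColimit.hom_ext (c p q) ?_
        refine ((totι_map_right_assoc S.g p q n hpq m).symm.trans (congrArg _ hm)).trans ?_
        exact (CokernelCofork.IsColimit.desc' (c p q) _ _).2.symm)
  exact { exact := ShortComplex.exact_of_g_is_cokernel _ hg
          mono_f := hmono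
          epi_g := Cofork.IsColimit.epi hg }

end Bifunctor

variable {C : Type u} [SmallCategory C] {J : GrothendieckTopology C} {O : Sheaf J CommRingCat.{u}}

open ModSite

theorem mono_map_tensorBi_obj_of_tensorMono {P X Y : Mod O} (hP : TensorMono P) (f : X ⟶ Y) [Mono f] :
    Mono (((tensorBi O).obj P).map f) := by
  have h : Mono (((tensorBi O).flip.obj P).map f) := hP.preserves f
  rw [← NatIso.naturality_1 ((tensorBiFlipIso O).app P) f]
  exact mono_comp' inferInstance (mono_comp' h inferInstance)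

theorem mono_tensorBi_map_f_of_flat {S : ShortComplex (Mod O)} (hS : S.ShortExact) (hF : TensorMono S.X₃)
    (M : Mod O) : Mono (((tensorBi O).obj M).map S.f) := by
  let P := freeCover O M
  let π : P ⟶ M := freeCoverπ O M
  let ι : kernel π ⟶ P := kernel.ι π
  have hPf : Mono (((tensorBi O).obj P).map S.f) := by
    have := hS.mono_f
    exact mono_map_tensorBi_obj_of_tensorMono (tensorMono_freeCover O M) S.f
  have hιF : Mono (((tensorBi O).flip.obj S.X₃).map ι) := hF.preserves ι
  have hexR : (S.map ((tensorBi O).obj (kernel π))).Exact := by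
    have := hS.epi_g
    exact hS.exact.map_of_epi_of_preservesCokernel _ hS.epi_g inferInstance
  have hexB : (ShortComplex.mk (((tensorBi O).flip.obj S.X₂).map ι) (((tensorBi O).flip.obj S.X₂).map π)
      (by rw [← Functor.map_comp, kernel.condition, Functor.map_zero])).Exact := by
    have hex : (ShortComplex.mk ι π (kernel.condition π)).Exact :=
      ShortComplex.exact_of_f_is_kernel _ (kernelIsKernel π)
    exact hex.map_of_epi_of_preservesCokernel _ (inferInstanceAs (Epi (freeCoverπ O M))) inferInstance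
  have hπA : Epi (((tensorBi O).map π).app S.X₁) :=
    inferInstanceAs (Epi (((tensorBi O).flip.obj S.X₁).map π))
  rw [Preadditive.mono_iff_cancel_zero]
  intro T γ hγ
  obtain ⟨T₁, e₁, he₁, x, hx⟩ := surjective_up_to_refinements_of_epi (((tensorBi O).map π).app S.X₁) γ
  obtain ⟨T₂, e₂, he₂, r, hr⟩ := hexB.exact_up_to_refinements (x ≫ ((tensorBi O).obj P).map S.f) (by
    change (x ≫ ((tensorBi O).obj P).map S.f) ≫ ((tensorBi O).map π).app S.X₂ = 0
    rw [Category.assoc, ((tensorBi O).map π).naturality S.f, ← Category.assoc, ← hx, Category.assoc, hγ,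
      comp_zero])
  change e₂ ≫ x ≫ ((tensorBi O).obj P).map S.f = r ≫ ((tensorBi O).map ι).app S.X₂ at hr
  have hr0 : r ≫ ((tensorBi O).obj (kernel π)).map S.g = 0 := by
    have : Mono (((tensorBi O).map ι).app S.X₃) := hιF
    rw [← cancel_mono (((tensorBi O).map ι).app S.X₃), zero_comp, Category.assoc,
      ((tensorBi O).map ι).naturality S.g, ← Category.assoc, ← hr, Category.assoc, Category.assoc,
      ← Functor.map_comp, S.zero, Functor.map_zero, comp_zero, comp_zero]
  obtain ⟨T₃, e₃, he₃, a, ha⟩ : ∃ (T₃ : Mod O) (e₃ : T₃ ⟶ T₂) (_ : Epi e₃)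
      (a : T₃ ⟶ ((tensorBi O).obj (kernel π)).obj S.X₁), e₃ ≫ r = a ≫ ((tensorBi O).obj (kernel π)).map S.f :=
    hexR.exact_up_to_refinements r hr0
  have hxa : e₃ ≫ e₂ ≫ x = a ≫ ((tensorBi O).map ι).app S.X₁ := by
    rw [← cancel_mono (((tensorBi O).obj P).map S.f), Category.assoc, Category.assoc, hr,
      Category.assoc]
    exact (Category.assoc _ _ _).symm.trans (((congrArg (· ≫ _) ha).trans (Category.assoc _ _ _)).trans
      (congrArg (a ≫ ·) (((tensorBi O).map ι).naturality S.f)))
  have : (e₃ ≫ e₂ ≫ e₁) ≫ γ = 0 := by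
    have hz : ((tensorBi O).map ι).app S.X₁ ≫ ((tensorBi O).map π).app S.X₁ = 0 := by
      rw [← NatTrans.comp_app, ← Functor.map_comp, kernel.condition, Functor.map_zero]
      rfl
    calc (e₃ ≫ e₂ ≫ e₁) ≫ γ = (e₃ ≫ e₂ ≫ x) ≫ ((tensorBi O).map π).app S.X₁ := by
          rw [Category.assoc, Category.assoc, hx]
          simp only [Category.assoc]
      _ = (a ≫ ((tensorBi O).map ι).app S.X₁) ≫ ((tensorBi O).map π).app S.X₁ := congrArg (· ≫ _) hxa
      _ = 0 := (Category.assoc _ _ _).trans ((congrArg (a ≫ ·) hz).trans comp_zero)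
  exact (cancel_epi (e₃ ≫ e₂ ≫ e₁)).1 (this.trans comp_zero.symm)

/-- A short exact sequence with flat quotient stays short exact after tensoring. -/
theorem shortExact_tensorBi_map {S : ShortComplex (Mod O)} (hS : S.ShortExact) (hF : TensorMono S.X₃)
    (M : Mod O) : (S.map ((tensorBi O).obj M)).ShortExact := by
  have := hS.epi_g
  exact { exact := hS.exact.map_of_epi_of_preservesCokernel _ hS.epi_g inferInstance
          mono_f := mono_tensorBi_map_f_of_flat hS hF M
          epi_g := inferInstanceAs (Epi (((tensorBi O).obj M).map S.g)) }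

theorem shortExact_tens_of_flat {S : ShortComplex (CochainComplex (Mod O) ℤ)} (hS : S.ShortExact)
    (hF : ∀ q, TensorMono (S.X₃.X q)) (L : CochainComplex (Mod O) ℤ) :
    (S.map ((tens O).obj L)).ShortExact :=
  shortExact_tot_map_right (tensorBi O) L S fun p q =>
    shortExact_tensorBi_map (hS.map_of_exact (HomologicalComplex.eval (Mod O) (ComplexShape.up ℤ) q)) (hF q) _

theorem tensorMono_of_splitting {S : ShortComplex (Mod O)} (σ : S.Splitting) (h₁ : TensorMono S.X₁)
    (h₃ : TensorMono S.X₃) : TensorMono S.X₂ :=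
  tensorMono_of_retract σ.isoBinaryBiproduct.hom σ.isoBinaryBiproduct.inv (Iso.hom_inv_id _)
    (tensorMono_biprod h₁ h₃)

theorem tensorMono_biprod_X {K R : CochainComplex (Mod O) ℤ} (n : ℤ) (h₁ : TensorMono (K.X n))
    (h₂ : TensorMono (R.X n)) : TensorMono ((K ⊞ R).X n) :=
  tensorMono_of_retract (HomologicalComplex.biprodXIso K R n).hom (HomologicalComplex.biprodXIso K R n).inv
    (Iso.hom_inv_id _) (tensorMono_biprod h₁ h₂)

theorem isKFlat_biprod {K R : CochainComplex (Mod O) ℤ} (h₁ : ModSite.IsKFlat K) (h₂ : ModSite.IsKFlat R) :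
    ModSite.IsKFlat (K ⊞ R) :=
  isKFlat_middle (S := ShortComplex.mk (biprod.inl : K ⟶ K ⊞ R) biprod.snd (by simp))
    (fun L _ => shortExact_tens (fun q => (ShortComplex.Splitting.map
      { r := biprod.fst
        s := biprod.inr
        id := biprod.total } _)) L) h₁ h₂

/-- Every map out of a K-flat complex factors up to equality through a quasi-isomorphism from a K-flat complex. -/
theorem exists_factor {K L : CochainComplex (Mod O) ℤ} (a : K ⟶ L) (hK : ModSite.IsKFlat K) :
    ∃ (N : CochainComplex (Mod O) ℤ) (b : K ⟶ N) (c : N ⟶ L), ModSite.IsKFlat N ∧ QuasiIso c ∧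
      b ≫ c = a ∧ ((∀ n, TensorMono (K.X n)) → ∀ n, TensorMono (N.X n)) := by
  let π : (res O).obj K ⟶ K := (resπ O).app K
  let ρ : (res O).obj L ⟶ L := (resπ O).app L
  let g : (res O).obj K ⟶ (res O).obj L := -(res O).map a
  have w : π ≫ a + g ≫ ρ = 0 := by
    rw [Preadditive.neg_comp, (resπ O).naturality a]
    exact add_neg_cancel _
  have : QuasiIso π := quasiIso_resπ K
  have : QuasiIso ρ := quasiIso_resπ L
  refine ⟨_, _, factorDesc π g a ρ w,
    isKFlat_mappingCone (biprod.lift π g) (isKFlat_res K) (isKFlat_biprod hK (isKFlat_res L)),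
    quasiIso_factorDesc π g a ρ w, inr_factorDesc π g a ρ w, fun h n => ?_⟩
  exact tensorMono_of_splitting
    (CochainComplex.mappingCone.triangleRotateShortComplexSplitting (biprod.lift π g) n)
    (tensorMono_biprod_X n (h n) (tensorMono_res L n)) (tensorMono_res K (n + 1))

end Groth.Agent.KFlat

namespace Groth.Agent.KFlat

open CategoryTheory CategoryTheory.Limits ModSite

variable {C : Type u} [SmallCategory C] {J : GrothendieckTopology C} {O : Sheaf J CommRingCat.{u}}

theorem tensorMono_middle {S : ShortComplex (Mod O)} (hS : S.ShortExact) (h₁ : TensorMono S.X₁)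
    (h₃ : TensorMono S.X₃) : TensorMono S.X₂ := by
  refine ⟨fun {M N} φ _ => ?_⟩
  change Mono (((tensorBi O).map φ).app S.X₂)
  have hM := shortExact_tensorBi_map hS h₃ M
  have hN := shortExact_tensorBi_map hS h₃ N
  have m₁ : Mono (((tensorBi O).map φ).app S.X₁) := h₁.preserves φ
  have m₃ : Mono (((tensorBi O).map φ).app S.X₃) := h₃.preserves φ
  have mN : Mono (((tensorBi O).obj N).map S.f) := hN.mono_f
  rw [Preadditive.mono_iff_cancel_zero]
  intro T γ hγ
  have hg : γ ≫ ((tensorBi O).obj M).map S.g = 0 := by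
    rw [← cancel_mono (((tensorBi O).map φ).app S.X₃), zero_comp, Category.assoc,
      ((tensorBi O).map φ).naturality S.g, ← Category.assoc, hγ, zero_comp]
  obtain ⟨T₁, e, he, a, ha⟩ : ∃ (T₁ : Mod O) (e : T₁ ⟶ T) (_ : Epi e)
      (a : T₁ ⟶ ((tensorBi O).obj M).obj S.X₁), e ≫ γ = a ≫ ((tensorBi O).obj M).map S.f :=
    hM.exact.exact_up_to_refinements γ hg
  have : a = 0 := by
    rw [← cancel_mono (((tensorBi O).map φ).app S.X₁), ← cancel_mono (((tensorBi O).obj N).map S.f),
      zero_comp, zero_comp, Category.assoc, ← ((tensorBi O).map φ).naturality S.f, ← Category.assoc, ← ha,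
      Category.assoc, hγ, comp_zero]
  rw [this, zero_comp] at ha
  exact (cancel_epi e).1 (ha.trans comp_zero.symm)

theorem tensorMono_left {S : ShortComplex (Mod O)} (hS : S.ShortExact) (h₂ : TensorMono S.X₂)
    (h₃ : TensorMono S.X₃) : TensorMono S.X₁ := by
  refine ⟨fun {M N} φ _ => ?_⟩
  change Mono (((tensorBi O).map φ).app S.X₁)
  have mM : Mono (((tensorBi O).obj M).map S.f) := (shortExact_tensorBi_map hS h₃ M).mono_f
  have m₂ : Mono (((tensorBi O).map φ).app S.X₂) := h₂.preserves φ
  exact mono_of_mono_fac (((tensorBi O).map φ).naturality S.f).symm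

theorem isKFlat_two_of_three {S : ShortComplex (CochainComplex (Mod O) ℤ)} (hS : S.ShortExact)
    (h : ∀ q, TensorMono (S.X₃.X q)) :
    (ModSite.IsKFlat S.X₁ → ModSite.IsKFlat S.X₂ → ModSite.IsKFlat S.X₃) ∧
    (ModSite.IsKFlat S.X₁ → ModSite.IsKFlat S.X₃ → ModSite.IsKFlat S.X₂) ∧
    (ModSite.IsKFlat S.X₂ → ModSite.IsKFlat S.X₃ → ModSite.IsKFlat S.X₁) :=
  ⟨isKFlat_right fun L _ => shortExact_tens_of_flat hS h L,
    isKFlat_middle fun L _ => shortExact_tens_of_flat hS h L,
    isKFlat_left fun L _ => shortExact_tens_of_flat hS h L⟩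

end Groth.Agent.KFlat
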