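import Groth.Agent.KFlat.Lpull
import Mathlib.AlgebraicGeometry.Modules.Sheaf

/-!
# The derived inverse image on resolutions, and its composition
-/

set_option autoImplicit false

universe u

open CategoryTheory CategoryTheory.Limits AlgebraicGeometry

attribute [local instance] HasDerivedCategory.standard

namespace Groth.Agent.KFlat.Pull

variable {X Y : Scheme.{u}}

instance isIso_whiskerRight_resYπ_Q :
    IsIso (Functor.whiskerRight (resYπ Y) (DerivedCategory.Q (C := Y.Modules))) := by
  have : ∀ K, IsIso ((Functor.whiskerRight (resYπ Y) (DerivedCategory.Q (C := Y.Modules))).app K) := fun K => by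
    have := quasiIso_resYπ (Y := Y) K
    exact inferInstanceAs (IsIso (DerivedCategory.Q.map ((resYπ Y).app K)))
  exact NatIso.isIso_of_isIso_app _

/-- Localisation does not see the resolution. -/
noncomputable def resQIso : resY Y ⋙ DerivedCategory.Q ≅ DerivedCategory.Q :=
  asIso (Functor.whiskerRight (resYπ Y) (DerivedCategory.Q (C := Y.Modules))) ≪≫ Functor.leftUnitor _

variable (f : X ⟶ Y) [DCoh.HasLpull f]

instance isIso_toPull_resY : IsIso (Functor.whiskerLeft (resY Y) (toPull f)) := by
  have : ∀ K, IsIso ((Functor.whiskerLeft (resY Y) (toPull f)).app K) := fun K =>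
    isIso_toPull f (isKFlat_resY K)
  exact NatIso.isIso_of_isIso_app _

/-- The derived inverse image is computed by resolutions. -/
noncomputable def lpullIso : DerivedCategory.Q ⋙ DCoh.Lpull f ≅ resY Y ⋙ pullQ f :=
  Functor.isoWhiskerRight (resQIso (Y := Y)).symm _ ≪≫ Functor.associator _ _ _ ≪≫
    asIso (Functor.whiskerLeft (resY Y) (toPull f))

variable {Z : Scheme.{u}} (g : Y ⟶ Z)

/-- Termwise inverse images compose. -/
noncomputable def pullCxComp : pullCx g ⋙ pullCx f ≅ pullCx (f ≫ g) :=
  NatIso.ofComponents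
    (fun K => HomologicalComplex.Hom.isoOfComponents (fun n => (Scheme.Modules.pullbackComp f g).app (K.X n))
      (fun i j _ => ((Scheme.Modules.pullbackComp f g).hom.naturality (K.d i j)).symm))
    (fun φ => HomologicalComplex.hom_ext _ _ fun n => (Scheme.Modules.pullbackComp f g).hom.naturality (φ.f n))

variable [DCoh.HasLpull g] [DCoh.HasLpull (f ≫ g)]

instance isIso_toPull_pullCx : IsIso (Functor.whiskerLeft (resY Z ⋙ pullCx g) (toPull f)) := by
  have : ∀ K, IsIso ((Functor.whiskerLeft (resY Z ⋙ pullCx g) (toPull f)).app K) := fun K =>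
    isIso_toPull f (isKFlat_pullCx g (isKFlat_resY K))
  exact NatIso.isIso_of_isIso_app _

/-- The derived inverse image of a composite, on complexes. -/
noncomputable def lpullCompQIso :
    DerivedCategory.Q ⋙ DCoh.Lpull g ⋙ DCoh.Lpull f ≅ DerivedCategory.Q ⋙ DCoh.Lpull (f ≫ g) :=
  (Functor.associator _ _ _).symm ≪≫ Functor.isoWhiskerRight (lpullIso g) _ ≪≫
    Functor.associator _ _ _ ≪≫ Functor.isoWhiskerLeft (resY Z) (Functor.associator _ _ _) ≪≫
    (Functor.associator _ _ _).symm ≪≫ asIso (Functor.whiskerLeft (resY Z ⋙ pullCx g) (toPull f)) ≪≫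
    Functor.associator _ _ _ ≪≫
    Functor.isoWhiskerLeft (resY Z) ((Functor.associator _ _ _).symm ≪≫
      Functor.isoWhiskerRight (pullCxComp f g) DerivedCategory.Q) ≪≫
    (lpullIso (f ≫ g)).symm

/-- Derived inverse images compose. -/
noncomputable def lpullCompIso : DCoh.Lpull g ⋙ DCoh.Lpull f ≅ DCoh.Lpull (f ≫ g) :=
  Localization.liftNatIso DerivedCategory.Q (HomologicalComplex.quasiIso Z.Modules (ComplexShape.up ℤ))
    (DerivedCategory.Q ⋙ DCoh.Lpull g ⋙ DCoh.Lpull f) (DerivedCategory.Q ⋙ DCoh.Lpull (f ≫ g))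
    (DCoh.Lpull g ⋙ DCoh.Lpull f) (DCoh.Lpull (f ≫ g)) (lpullCompQIso f g)

end Groth.Agent.KFlat.Pull
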