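import Groth.Agent.KFlat.RPush
import Groth.Agent.KFlat.Lpull
import Groth.Agent.DHA.KInj.Products
import Mathlib.CategoryTheory.Functor.Derived.Adjunction

/-!
# `Lf^*` is left adjoint to `Rf_*`
-/

set_option autoImplicit false

universe u

open CategoryTheory CategoryTheory.Limits AlgebraicGeometry
open Groth.Agent.DTrunc Groth.Agent.KFlat.WeakKInj Groth.Agent.KFlat.Pull Groth.Agent.KFlat.RPush

attribute [local instance] HasDerivedCategory.standard

namespace Groth.Agent.KFlat.DerivedAdj

variable {X Y : Scheme.{u}} (f : X ⟶ Y)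

local notation "Wq" A => HomologicalComplex.quasiIso A (ComplexShape.up ℤ)

theorem resolves_comp {H : Type*} [Category H] (G : DCoh.D X ⥤ H) :
    Deriv.Resolves (HomologicalComplex.quasiIso Y.Modules (ComplexShape.up ℤ)) (resY Y) (resYπ Y) (pullQ f ⋙ G) where
  mem := (Pull.resolves f).mem
  inverted K K' s hs :=
    have : IsIso ((pullQ f).map ((resY Y).map s)) := (Pull.resolves f).inverted s hs
    inferInstanceAs (IsIso (G.map ((pullQ f).map ((resY Y).map s))))
  fix K :=
    have := (Pull.resolves f).fix K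
    inferInstanceAs (IsIso (G.map ((pullQ f).map ((resYπ Y).app ((resY Y).obj K)))))

theorem isGood (I : CochainComplex X.Modules ℤ) [I.IsKInjective] :
    RightDerived.IsGood DerivedCategory.Q (pushQ f) I where
  fac K φ := DHA.KInj.Q_map_surjective K I φ
  eq K g g' h := DHA.KInj.Q_map_eq_of_homotopy
    ((Scheme.Modules.pushforward f).mapHomotopy (DHA.KInj.homotopy_of_Q_map_eq h).some)

theorem isLeftDerived [DCoh.HasLpull f] :
    (DCoh.Lpull f).IsLeftDerivedFunctor (toPull f) (HomologicalComplex.quasiIso Y.Modules (ComplexShape.up ℤ)) :=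
  ⟨Deriv.isRightKanExtension_of_isIso (Pull.resolves f) (toPull f) fun K => isIso_toPull f (isKFlat_resY K)⟩

theorem isLeftDerived_comp [DCoh.HasLpull f] [DCoh.HasRpush f] :
    (DCoh.Lpull f ⋙ DCoh.Rpush f).IsLeftDerivedFunctor
      ((Functor.associator _ _ _).inv ≫ Functor.whiskerRight (toPull f) (DCoh.Rpush f))
      (HomologicalComplex.quasiIso Y.Modules (ComplexShape.up ℤ)) :=
  ⟨Deriv.isRightKanExtension_of_isIso (resolves_comp f (DCoh.Rpush f)) _ fun K => by
    have := isIso_toPull f (isKFlat_resY K)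
    change IsIso (𝟙 _ ≫ (DCoh.Rpush f).map ((toPull f).app ((resY Y).obj K)))
    infer_instance⟩

theorem isRightDerived [DCoh.HasRpush f] :
    (DCoh.Rpush f).IsRightDerivedFunctor (toRpush f) (HomologicalComplex.quasiIso X.Modules (ComplexShape.up ℤ)) :=
  RightDerived.isRightDerivedFunctor_of_isIso _ _ _ fun K =>
    ⟨(injRes X).obj K, (injι X).app K, isGood f _, inferInstance, isIso_toRpush f _⟩

theorem isRightDerived_comp [DCoh.HasLpull f] [DCoh.HasRpush f] :
    (DCoh.Rpush f ⋙ DCoh.Lpull f).IsRightDerivedFunctor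
      (Functor.whiskerRight (toRpush f) (DCoh.Lpull f) ≫ (Functor.associator _ _ _).hom)
      (HomologicalComplex.quasiIso X.Modules (ComplexShape.up ℤ)) :=
  RightDerived.isRightDerivedFunctor_of_isIso _ _ _ fun K => by
    refine ⟨(injRes X).obj K, (injι X).app K, (isGood f _).comp (DCoh.Lpull f), inferInstance, ?_⟩
    have := isIso_toRpush f ((injRes X).obj K)
    change IsIso ((DCoh.Lpull f).map ((toRpush f).app ((injRes X).obj K)) ≫ 𝟙 _)
    infer_instance

/-- `Lf^* ⊣ Rf_*`. -/
noncomputable def adj [DCoh.HasLpull f] [DCoh.HasRpush f] : DCoh.Lpull f ⊣ DCoh.Rpush f :=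
  have := isLeftDerived f
  have := isLeftDerived_comp f
  have := isRightDerived f
  have := isRightDerived_comp f
  Adjunction.derived (CxAdj.mapCx (Scheme.Modules.pullbackPushforwardAdjunction f) (ComplexShape.up ℤ))
    (HomologicalComplex.quasiIso Y.Modules (ComplexShape.up ℤ))
    (HomologicalComplex.quasiIso X.Modules (ComplexShape.up ℤ)) (toPull f) (toRpush f)

end Groth.Agent.KFlat.DerivedAdj
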