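import Mathlib.Algebra.Homology.DerivedCategory.FullyFaithful
import Mathlib.Algebra.Homology.DerivedCategory.TStructure
import Mathlib.Algebra.Homology.DerivedCategory.HomologySequence
import Mathlib.Algebra.Homology.DerivedCategory.Ext.Basic
import Mathlib.CategoryTheory.Triangulated.TStructure.TruncLTGE

/-!
# Homology of truncations and maps out of a single object in the derived category

`Φ P m K : Hom(P[-m], K) → Hom(P, H^m K)` is bijective when `K` is bounded below and
`Ext^{>0}(P, H^j K) = 0` for `j < m`.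
-/

set_option autoImplicit false

universe w v u

open CategoryTheory Limits Pretriangulated DerivedCategory

namespace Groth.Agent.KFlat.TruncHom

variable {A : Type u} [Category.{v} A] [Abelian A] [HasDerivedCategory.{w} A]

local notation "τ" => DerivedCategory.TStructure.t

/-- `H^j` of `K ⟶ τ≥n K` is an isomorphism for `n ≤ j`. -/
theorem isIso_H_truncGEπ (K : DerivedCategory A) (n j : ℤ) (h : n ≤ j) :
    IsIso ((homologyFunctor A j).map ((TStructure.t.truncGEπ n).app K)) := by
  let T := (TStructure.t.triangleLTGE n).obj K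
  have hT := TStructure.t.triangleLTGE_distinguished n K
  have h₁ : ∀ i : ℤ, n ≤ i → IsZero ((homologyFunctor A i).obj T.obj₁) := fun i hi => by
    have : T.obj₁.IsLE (n - 1) := inferInstanceAs (TStructure.t.IsLE ((TStructure.t.truncLT n).obj K) (n - 1))
    exact isZero_of_isLE T.obj₁ (n - 1) i (by lia)
  have := (HomologySequence.mono_homologyMap_mor₂_iff T hT j).2 ((h₁ j h).eq_of_src _ _)
  have := (HomologySequence.epi_homologyMap_mor₂_iff T hT j (j + 1) rfl).2 ((h₁ (j + 1) (by lia)).eq_of_tgt _ _)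
  exact isIso_of_mono_of_epi ((homologyFunctor A j).map T.mor₂)

/-- `H^j` of `τ<n K ⟶ K` is an isomorphism for `j < n`. -/
theorem isIso_H_truncLTι (K : DerivedCategory A) (n j : ℤ) (h : j < n) :
    IsIso ((homologyFunctor A j).map ((TStructure.t.truncLTι n).app K)) := by
  let T := (TStructure.t.triangleLTGE n).obj K
  have hT := TStructure.t.triangleLTGE_distinguished n K
  have h₃ : ∀ i : ℤ, i < n → IsZero ((homologyFunctor A i).obj T.obj₃) := fun i hi => by
    have : T.obj₃.IsGE n := inferInstanceAs (TStructure.t.IsGE ((TStructure.t.truncGE n).obj K) n)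
    exact isZero_of_isGE T.obj₃ n i hi
  have := (HomologySequence.epi_homologyMap_mor₁_iff T hT j).2 ((h₃ j h).eq_of_tgt _ _)
  have := (HomologySequence.mono_homologyMap_mor₁_iff T hT (j - 1) j (by lia)).2
    ((h₃ (j - 1) (by lia)).eq_of_src _ _)
  exact isIso_of_mono_of_epi ((homologyFunctor A j).map T.mor₁)

/-- `H^m` of a single object in degree `m`. -/
noncomputable def ιH (P : A) (m : ℤ) : P ≅ (homologyFunctor A m).obj ((singleFunctor A m).obj P) :=
  ((singleFunctorCompHomologyFunctorIso A m).app P).symm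

/-- Taking cohomology of maps out of `P[-m]`. -/
noncomputable def Φ (P : A) (m : ℤ) (K : DerivedCategory A) :
    ((singleFunctor A m).obj P ⟶ K) →+ (P ⟶ (homologyFunctor A m).obj K) :=
  AddMonoidHom.mk' (fun g => (ιH P m).hom ≫ (homologyFunctor A m).map g) fun a b => by
    rw [Functor.map_add, Preadditive.comp_add]

theorem Φ_apply (P : A) (m : ℤ) (K : DerivedCategory A) (g : (singleFunctor A m).obj P ⟶ K) :
    Φ P m K g = (ιH P m).hom ≫ (homologyFunctor A m).map g := rfl

theorem Φ_comp (P : A) (m : ℤ) {K K' : DerivedCategory A} (g : (singleFunctor A m).obj P ⟶ K)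
    (f : K ⟶ K') : Φ P m K' (g ≫ f) = Φ P m K g ≫ (homologyFunctor A m).map f := by
  rw [Φ_apply, Φ_apply, Functor.map_comp, Category.assoc]

/-- Vanishing of the positive `Ext`s from `P` to `M`. -/
def Acy (P M : A) : Prop :=
  ∀ (a b : ℤ), b < a → ∀ f : (singleFunctor A a).obj P ⟶ (singleFunctor A b).obj M, f = 0

theorem Acy.of_iso {P M M' : A} (h : Acy P M) (e : M ≅ M') : Acy P M' := fun a b hab f => by
  have := h a b hab (f ≫ (singleFunctor A b).map e.inv)
  rw [← cancel_mono ((singleFunctor A b).map e.inv), zero_comp]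
  exact this

theorem acy_of_isZero (P : A) {M : A} (h : IsZero M) : Acy P M := fun _ b _ f =>
  (Functor.map_isZero (singleFunctor A b) h).eq_of_tgt f 0

theorem Φ_bijective_single (P Y : A) (m : ℤ) :
    Function.Bijective (Φ P m ((singleFunctor A m).obj Y)) := by
  constructor
  · intro a b hab
    obtain ⟨a', rfl⟩ := (singleFunctor A m).map_surjective a
    obtain ⟨b', rfl⟩ := (singleFunctor A m).map_surjective b
    have key : ∀ c : P ⟶ Y, Φ P m _ ((singleFunctor A m).map c) = c ≫ (ιH Y m).hom := fun c =>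
      ((singleFunctorCompHomologyFunctorIso A m).inv.naturality c).symm
    rw [key, key, cancel_mono] at hab
    rw [hab]
  · intro g
    exact ⟨(singleFunctor A m).map (g ≫ (ιH Y m).inv),
      (((singleFunctorCompHomologyFunctorIso A m).inv.naturality _).symm).trans
        (((Category.assoc _ _ _).trans (congrArg (g ≫ ·) (ιH Y m).inv_hom_id)).trans (Category.comp_id g))⟩

theorem Φ_bijective_of_iso {P : A} {m : ℤ} {K K' : DerivedCategory A} (e : K ≅ K')
    (h : Function.Bijective (Φ P m K)) : Function.Bijective (Φ P m K') := by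
  constructor
  · intro a b hab
    have := h.1 (a₁ := a ≫ e.inv) (a₂ := b ≫ e.inv) (by rw [Φ_comp, Φ_comp, hab])
    exact (cancel_mono e.inv).1 this
  · intro g
    obtain ⟨f, hf⟩ := h.2 (g ≫ (homologyFunctor A m).map e.inv)
    refine ⟨f ≫ e.hom, ?_⟩
    rw [Φ_comp, hf, Category.assoc, ← Functor.map_comp, e.inv_hom_id, CategoryTheory.Functor.map_id,
      Category.comp_id]

/-- The bottom cohomology of a complex bounded below by `n`, as a single object. -/
theorem truncLT_succ_iso_single (K : DerivedCategory A) (n : ℤ) (hK : K.IsGE n) :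
    ∃ Y : A, Nonempty (Y ≅ (homologyFunctor A n).obj K) ∧
      Nonempty ((TStructure.t.truncLT (n + 1)).obj K ≅ (singleFunctor A n).obj Y) := by
  let L := (TStructure.t.truncLT (n + 1)).obj K
  have : L.IsLE n := inferInstanceAs (TStructure.t.IsLE ((TStructure.t.truncLT (n + 1)).obj K) n)
  have : L.IsGE n := (isGE_iff L n).2 fun i hi => by
    have := isIso_H_truncLTι K (n + 1) i (by lia)
    exact (isZero_of_isGE K n i hi).of_iso (asIso ((homologyFunctor A i).map ((TStructure.t.truncLTι (n + 1)).app K)))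
  obtain ⟨Y, ⟨e⟩⟩ := exists_iso_singleFunctor_obj_of_isGE_of_isLE L n
  have := isIso_H_truncLTι K (n + 1) n (by lia)
  exact ⟨Y, ⟨ιH Y n ≪≫ (homologyFunctor A n).mapIso e.symm ≪≫
    asIso ((homologyFunctor A n).map ((TStructure.t.truncLTι (n + 1)).app K))⟩, ⟨e⟩⟩

theorem Φ_bijective_of_isGE_self (P : A) (m : ℤ) (K : DerivedCategory A) (hK : K.IsGE m) :
    Function.Bijective (Φ P m K) := by
  obtain ⟨Y, -, ⟨e⟩⟩ := truncLT_succ_iso_single K m hK
  have hb := Φ_bijective_of_iso e.symm (Φ_bijective_single P Y m)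
  have := isIso_H_truncLTι K (m + 1) m (by lia)
  let ι := (TStructure.t.truncLTι (m + 1)).app K
  constructor
  · rw [injective_iff_map_eq_zero]
    intro g hg
    let g' := TStructure.t.liftTruncLT g m (m + 1) rfl
    have hg' : g' ≫ ι = g := TStructure.t.liftTruncLT_ι g m (m + 1) rfl
    have h0 : Φ P m _ g' ≫ (homologyFunctor A m).map ι = 0 :=
      (Φ_comp P m g' ι).symm.trans ((congrArg (Φ P m K) hg').trans hg)
    have : g' = 0 := hb.1 (by rw [map_zero]; exact zero_of_comp_mono _ h0)
    rw [← hg', this, zero_comp]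
  · intro g
    obtain ⟨f, hf⟩ := hb.2 (g ≫ inv ((homologyFunctor A m).map ι))
    exact ⟨f ≫ ι, by rw [Φ_comp, hf, Category.assoc, IsIso.inv_hom_id, Category.comp_id]⟩

theorem Φ_bijective_of_isGE_nat (P : A) (m : ℤ) :
    ∀ (d : ℕ) (n : ℤ) (K : DerivedCategory A), m ≤ n + d → K.IsGE n →
      (∀ j, j < m → Acy P ((homologyFunctor A j).obj K)) → Function.Bijective (Φ P m K) := by
  intro d
  induction d with
  | zero =>
    intro n K hd hK _
    exact Φ_bijective_of_isGE_self P m K (TStructure.t.isGE_of_ge K m n (by lia))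
  | succ d ih =>
    intro n K hd hK hAcy
    rcases le_or_gt m n with hmn | hmn
    · exact Φ_bijective_of_isGE_self P m K (TStructure.t.isGE_of_ge K m n hmn)
    let T := (TStructure.t.triangleLTGE (n + 1)).obj K
    have hT := TStructure.t.triangleLTGE_distinguished (n + 1) K
    obtain ⟨Y, ⟨eY⟩, ⟨e⟩⟩ := truncLT_succ_iso_single K n hK
    have hY : Acy P Y := (hAcy n hmn).of_iso eY.symm
    have hπ : ∀ j, n + 1 ≤ j → IsIso ((homologyFunctor A j).map T.mor₂) :=
      fun j hj => isIso_H_truncGEπ K (n + 1) j hj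
    have h₃ : T.obj₃.IsGE (n + 1) :=
      inferInstanceAs (TStructure.t.IsGE ((TStructure.t.truncGE (n + 1)).obj K) (n + 1))
    have hb : Function.Bijective (Φ P m T.obj₃) := ih (n + 1) T.obj₃ (by lia) h₃ fun j hj => by
      rcases le_or_gt (n + 1) j with hj' | hj'
      · exact (hAcy j hj).of_iso (@asIso _ _ _ _ ((homologyFunctor A j).map T.mor₂) (hπ j hj'))
      · exact acy_of_isZero P (isZero_of_isGE T.obj₃ (n + 1) j hj')
    have := hπ m (by lia)
    constructor
    · rw [injective_iff_map_eq_zero]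
      intro g hg
      have : g ≫ T.mor₂ = 0 := hb.1 (by rw [Φ_comp, hg, map_zero]; exact zero_comp)
      obtain ⟨g', hg'⟩ := Triangle.coyoneda_exact₂ T hT g this
      have h0 : g' ≫ e.hom = 0 := hY m n hmn _
      exact hg'.trans ((congrArg (· ≫ T.mor₁) ((cancel_mono e.hom).1 (h0.trans zero_comp.symm))).trans zero_comp)
    · intro g
      obtain ⟨f, hf⟩ := hb.2 (g ≫ (homologyFunctor A m).map T.mor₂)
      have hs : f ≫ T.mor₃ = 0 := by
        let e' : T.obj₁⟦(1 : ℤ)⟧ ≅ (singleFunctor A (n - 1)).obj Y :=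
          (shiftFunctor (DerivedCategory A) (1 : ℤ)).mapIso e ≪≫
            ((DerivedCategory.singleFunctors A).shiftIso 1 (n - 1) n (by lia)).app Y
        rw [← cancel_mono e'.hom, zero_comp]
        exact hY m (n - 1) (by lia) _
      obtain ⟨f', hf'⟩ := Triangle.coyoneda_exact₃ T hT f hs
      refine ⟨f', (cancel_mono ((homologyFunctor A m).map T.mor₂)).1 ?_⟩
      exact (Φ_comp P m f' T.mor₂).symm.trans ((congrArg (Φ P m T.obj₃) hf'.symm).trans hf)

/-- For a bounded below object with `Ext^{>0}(P, H^j) = 0` below degree `m`,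
`Hom(P[-m], K) = Hom(P, H^m K)`. -/
theorem Φ_bijective_of_isGE (P : A) (m n : ℤ) (K : DerivedCategory A) (hK : K.IsGE n)
    (h : ∀ j, j < m → Acy P ((homologyFunctor A j).obj K)) : Function.Bijective (Φ P m K) :=
  Φ_bijective_of_isGE_nat P m (m - n).toNat n K (by lia) hK h

end Groth.Agent.KFlat.TruncHom
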