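import Mathlib.Algebra.Homology.DerivedCategory.KProjective

/-!
# Natural isomorphisms checked on K-projective complexes
-/

set_option autoImplicit false

universe w v u

open CategoryTheory Limits DerivedCategory

namespace Groth.Agent.KFlat.NatIsoKProj

variable {A : Type u} [Category.{v} A] [Abelian A] [HasDerivedCategory.{w} A]

/-- Maps out of K-projective complexes lift to chain maps. -/
theorem Q_map_surjective (P L : CochainComplex A ℤ) [P.IsKProjective] (φ : Q.obj P ⟶ Q.obj L) :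
    ∃ f : P ⟶ L, Q.map f = φ := by
  obtain ⟨g, hg⟩ := (CochainComplex.IsKProjective.Qh_map_bijective P _).2
    ((quotientCompQhIso A).hom.app P ≫ φ ≫ (quotientCompQhIso A).inv.app L)
  obtain ⟨f, rfl⟩ := (HomotopyCategory.quotient _ _).map_surjective g
  refine ⟨f, ?_⟩
  rw [← cancel_epi ((quotientCompQhIso A).hom.app P),
    ← cancel_mono ((quotientCompQhIso A).inv.app L), Category.assoc, Category.assoc, ← hg]
  erw [← (quotientCompQhIso A).hom.naturality_assoc f]
  simp

variable {E : Type*} [Category E] {G₁ G₂ : DerivedCategory A ⥤ E} {F : CochainComplex A ℤ ⥤ E}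

/-- Two functors on the derived category which agree, naturally, with one functor on K-projective
complexes are isomorphic. -/
theorem nonempty_natIso (hres : ∀ K : DerivedCategory A, ∃ P : CochainComplex A ℤ, P.IsKProjective ∧ Nonempty (Q.obj P ≅ K))
    (α₁ : Q ⋙ G₁ ⟶ F) (α₂ : Q ⋙ G₂ ⟶ F)
    (h₁ : ∀ P : CochainComplex A ℤ, P.IsKProjective → IsIso (α₁.app P))
    (h₂ : ∀ P : CochainComplex A ℤ, P.IsKProjective → IsIso (α₂.app P)) :
    Nonempty (G₁ ≅ G₂) := by
  choose P hP e using hres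
  refine ⟨NatIso.ofComponents (fun K =>
    G₁.mapIso (e K).some.symm ≪≫ @asIso _ _ _ _ _ (h₁ _ (hP K)) ≪≫ (@asIso _ _ _ _ _ (h₂ _ (hP K))).symm ≪≫
      G₂.mapIso (e K).some) fun {K L} φ => ?_⟩
  have := hP K
  have := h₁ _ (hP K)
  have := h₂ _ (hP K)
  have := h₁ _ (hP L)
  have := h₂ _ (hP L)
  obtain ⟨g, hg⟩ := Q_map_surjective (P K) (P L) ((e K).some.hom ≫ φ ≫ (e L).some.inv)
  have n₁ : G₁.map (Q.map g) ≫ α₁.app (P L) = α₁.app (P K) ≫ F.map g := α₁.naturality g
  have n₂ : G₂.map (Q.map g) ≫ α₂.app (P L) = α₂.app (P K) ≫ F.map g := α₂.naturality g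
  have hφ : φ ≫ (e L).some.inv = (e K).some.inv ≫ Q.map g := by rw [hg]; simp
  have hφ₂ : (e K).some.hom ≫ φ = Q.map g ≫ (e L).some.hom := by rw [hg]; simp
  have n₂' : inv (α₂.app (P K)) ≫ G₂.map (Q.map g) = F.map g ≫ inv (α₂.app (P L)) := by
    rw [IsIso.inv_comp_eq, ← Category.assoc, IsIso.eq_comp_inv]
    exact n₂
  simp only [Iso.trans_hom, Iso.symm_hom, Functor.mapIso_hom, Functor.mapIso_inv, asIso_hom, asIso_inv,
    Category.assoc]
  rw [← G₁.map_comp_assoc, hφ, G₁.map_comp_assoc, reassoc_of% n₁, ← G₂.map_comp, hφ₂, G₂.map_comp,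
    reassoc_of% n₂']

end Groth.Agent.KFlat.NatIsoKProj
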