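import Groth.Agent.KFlat.TildeD
import Groth.Agent.QCoh.Exact
import Mathlib.Algebra.Homology.ShortComplex.ExactFunctor

/-!
# The tilde functor is exact
-/

set_option autoImplicit false

universe u

open CategoryTheory Limits AlgebraicGeometry

namespace Groth.Agent.KFlat.TildeExact

variable (R : CommRingCat.{u})

theorem mono_tilde_map {M N : ModuleCat.{u} R} (f : M ⟶ N) [Mono f] : Mono ((tilde.functor R).map f) := by
  have hk : (kernel ((tilde.functor R).map f)).IsQuasicoherent :=
    @Groth.Agent.QCoh.isQuasicoherent_kernel _ _ _ ((tilde.functor R).map f)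
      (TildeD.isQuasicoherent_of_essImage ⟨M, ⟨Iso.refl _⟩⟩) (TildeD.isQuasicoherent_of_essImage ⟨N, ⟨Iso.refl _⟩⟩)
  obtain ⟨V, ⟨e⟩⟩ := TildeD.essImage_of_isQuasicoherent hk
  obtain ⟨γ, hγ⟩ := (tilde.functor R).map_surjective (e.hom ≫ kernel.ι ((tilde.functor R).map f))
  have : γ = 0 := by
    rw [← cancel_mono f, zero_comp]
    apply (tilde.functor R).map_injective
    rw [Functor.map_comp, hγ, Functor.map_zero, Category.assoc, kernel.condition, comp_zero]
  rw [this, Functor.map_zero] at hγ
  exact Preadditive.mono_of_kernel_zero (zero_of_epi_comp e.hom hγ.symm)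

theorem preservesFiniteLimits_tilde : PreservesFiniteLimits (tilde.functor R) := by
  rw [Functor.preservesFiniteLimits_iff_forall_exact_map_and_mono]
  intro S hS
  have : Mono S.f := hS.mono_f
  have : PreservesFiniteColimits (tilde.functor R) :=
    have := (tilde.adjunction (R := R)).leftAdjoint_preservesColimits.{0, 0}
    inferInstance
  exact ⟨((Functor.preservesFiniteColimits_iff_forall_exact_map_and_epi (tilde.functor R)).1 this S hS).1,
    mono_tilde_map R S.f⟩

end Groth.Agent.KFlat.TildeExact
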