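import Groth.Agent.KFlat.TildePull
import Groth.Agent.KFlat.TildeExact
import Groth.Agent.KFlat.TildeKFlat
import Groth.Agent.KFlat.NatIsoKProj
import Groth.Agent.KFlat.Lpull
import Groth.Agent.KFlat.RPushBase
import Groth.Agent.DRing.LTensor
import Groth.Agent.DRing.KFlatRes
import Groth.Prelude.Def_DDual2

/-!
# Derived base change and derived inverse image
-/

set_option autoImplicit false

universe u

open CategoryTheory Limits AlgebraicGeometry

attribute [local instance] HasDerivedCategory.standard

namespace Groth.Agent.KFlat.TildeBC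

open Groth.Agent.KFlat.Pull

variable {A B : CommRingCat.{u}} (φ : A ⟶ B)
  [PreservesFiniteLimits (tilde.functor A)] [PreservesFiniteLimits (tilde.functor B)]
  [DRing.HasLBaseChange φ.hom] [DCoh.HasLpull (Spec.map φ)]

/-- `~` on complexes. -/
noncomputable abbrev tC (R : CommRingCat.{u}) :
    CochainComplex (ModuleCat.{u} R) ℤ ⥤ CochainComplex (Spec R).Modules ℤ :=
  (tilde.functor R).mapHomologicalComplex (ComplexShape.up ℤ)

instance additive_tilde : (tilde.functor B).Additive :=
  (inferInstance : ∀ R : CommRingCat.{u}, (tilde.functor R).Additive) B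

/-- Termwise inverse image of `~`. -/
noncomputable def cxPullIso :
    (tC A) ⋙ pullCx (Spec.map φ) ≅ Groth.Agent.DRing.LTensor.extCx φ.hom ⋙ (tC B) :=
  RPushBase.mapCxComp _ _ _ ≪≫ NatIso.mapHomologicalComplex (TildePull.pullTildeIso φ) _ ≪≫
    (RPushBase.mapCxComp (ModuleCat.extendScalars.{u, u, u} φ.hom) (tilde.functor B) (ComplexShape.up ℤ)).symm

/-- The comparison through derived base change. -/
noncomputable def αBC : DerivedCategory.Q ⋙ (DRing.LBaseChange φ.hom ⋙ DCoh.tildeD B) ⟶
    Groth.Agent.DRing.LTensor.extCx φ.hom ⋙ (tC B) ⋙ DerivedCategory.Q where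
  app P := (DCoh.tildeD B).map (Groth.Agent.DRing.LTensor.toTerm (ModuleCat.extendScalars φ.hom) P) ≫
    (tilde.functor B).mapDerivedCategoryFactors.hom.app _
  naturality P P' f := by
    have h := congrArg (DCoh.tildeD B).map
      (Groth.Agent.DRing.LTensor.toTerm_natural (ModuleCat.extendScalars φ.hom) f)
    rw [Functor.map_comp, Functor.map_comp] at h
    refine (Category.assoc _ _ _).symm.trans ((congrArg (· ≫ _) h).trans ((Category.assoc _ _ _).trans ?_))
    exact (congrArg (_ ≫ ·) ((tilde.functor B).mapDerivedCategoryFactors.hom.naturality _)).trans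
      (Category.assoc _ _ _).symm

theorem isIso_αBC (P : DRing.Cx A) [P.IsKProjective] : IsIso ((αBC φ).app P) := by
  have := Groth.Agent.DRing.LTensor.isIso_toTerm_of_isKProjective (ModuleCat.extendScalars φ.hom) P
  exact IsIso.comp_isIso' inferInstance inferInstance

/-- The comparison through derived inverse image. -/
noncomputable def αLP : DerivedCategory.Q ⋙ (DCoh.tildeD A ⋙ DCoh.Lpull (Spec.map φ)) ⟶
    Groth.Agent.DRing.LTensor.extCx φ.hom ⋙ (tC B) ⋙ DerivedCategory.Q :=
  (Functor.associator _ _ _).inv ≫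
    Functor.whiskerRight (tilde.functor A).mapDerivedCategoryFactors.hom _ ≫
    (Functor.associator _ _ _).hom ≫ Functor.whiskerLeft (tC A) (toPull (Spec.map φ)) ≫
    (Functor.associator _ _ _).inv ≫ Functor.whiskerRight (cxPullIso φ).hom DerivedCategory.Q ≫
    (Functor.associator _ _ _).hom

theorem isIso_αLP (P : DRing.Cx A) [P.IsKProjective] : IsIso ((αLP φ).app P) := by
  have h := isIso_toPull (Spec.map φ) (TildeKFlat.isKFlat_tilde A P
    (Groth.Agent.DRing.KFlat.isKFlat_of_isKProjective P))
  simp only [αLP, NatTrans.comp_app, Functor.whiskerRight_app, Functor.whiskerLeft_app,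
    Functor.associator_inv_app, Functor.associator_hom_app]
  infer_instance

theorem nonempty_iso :
    Nonempty (DRing.LBaseChange φ.hom ⋙ DCoh.tildeD B ≅ DCoh.tildeD A ⋙ DCoh.Lpull (Spec.map φ)) :=
  NatIsoKProj.nonempty_natIso (fun K => by
      obtain ⟨P, hP, -, e⟩ := Groth.Agent.DRing.DBasic.exists_kproj_iso K
      exact ⟨P, hP, e⟩)
    (αBC φ) (αLP φ) (fun P hP => isIso_αBC φ P) (fun P hP => isIso_αLP φ P)

end Groth.Agent.KFlat.TildeBC
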