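import Groth.Agent.KFlat.DerivedFF
import Groth.Agent.KFlat.QCohAcy
import Groth.Agent.KFlat.Products
import Groth.Agent.QCoh.Basic
import Groth.Prelude.Def_DCoh2
import Mathlib.Algebra.Category.ModuleCat.Projective
import Mathlib.AlgebraicGeometry.Modules.Tilde

/-!
# `D(R) ≌ D_QCoh(Spec R)`
-/

set_option autoImplicit false

universe u

open CategoryTheory Limits AlgebraicGeometry DerivedCategory
open Groth.Agent.KFlat.TruncHom

attribute [local instance] HasDerivedCategory.standard

namespace Groth.Agent.KFlat.TildeD

variable {R : CommRingCat.{u}}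

theorem projective_ring : Projective (ModuleCat.of R R) := by
  exact (IsProjective.iff_projective (R := R) (P := R)).1 inferInstance

theorem separating_ring {M N : ModuleCat.{u} R} (f : M ⟶ N)
    (h : ∀ g : ModuleCat.of R R ⟶ M, g ≫ f = 0) : f = 0 := by
  ext m
  have := congrArg (fun φ => φ.hom (1 : R)) (h (ModuleCat.ofHom (LinearMap.toSpanSingleton R M m)))
  simpa using this

/-- `O_X` as the tilde of the ring. -/
theorem acy_tilde_ring {M : (Spec R).Modules} (hM : QCohAcy.Good M) :
    Acy ((tilde.functor R).obj (ModuleCat.of R R)) M := by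
  refine QCohAcy.acy_of_class _ QCohAcy.Good (fun M hM => ?_) hM
  obtain ⟨S, hS, hI, h₁, h₃⟩ := QCohAcy.exists_embedding M hM
  refine ⟨S, hS, hI, h₁, h₃, fun γ => ?_⟩
  have hsurj := QCohAcy.app_surjective_of_good hS (h₁ ▸ hM) (isAffineOpen_top (Spec R))
  have : Epi ((moduleSpecΓFunctor (R := R)).map S.g) := (ModuleCat.epi_iff_surjective _).2 hsurj
  have := projective_ring (R := R)
  let γ' := Projective.factorThru ((tilde.adjunction (R := R)).homEquiv _ _ γ) ((moduleSpecΓFunctor (R := R)).map S.g)
  refine ⟨((tilde.adjunction (R := R)).homEquiv _ _).symm γ', ?_⟩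
  rw [← Adjunction.homEquiv_naturality_right_symm, Projective.factorThru_comp, Equiv.symm_apply_apply]

theorem isQuasicoherent_of_essImage {M : (Spec R).Modules} (h : (tilde.functor R).essImage M) :
    M.IsQuasicoherent := by
  obtain ⟨V, ⟨e⟩⟩ := h
  have : (tilde.{u} V).IsQuasicoherent := inferInstance
  exact @Groth.Agent.QCoh.isQuasicoherent_of_iso _ _ _ e this

theorem essImage_of_isQuasicoherent {M : (Spec R).Modules} (h : M.IsQuasicoherent) :
    (tilde.functor R).essImage M := by
  have := (isQuasicoherent_iff_isIso_fromTildeΓ M).1 h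
  exact ⟨_, ⟨@asIso _ _ _ _ M.fromTildeΓ this⟩⟩

theorem Φ_bijective_ring (K : DerivedCategory (Spec R).Modules)
    (h : ∀ m, ((homologyFunctor (Spec R).Modules m).obj K).IsQuasicoherent) (m : ℤ) :
    Function.Bijective (Φ ((tilde.functor R).obj (ModuleCat.of R R)) m K) := by
  have : HasProduct (Groth.Agent.KFlat.DerivedLimit.tw K) := Products.hasProduct _
  exact Groth.Agent.KFlat.DerivedLimit.Φ_bijective
    (P₀ := fun U : (Spec R).affineOpens => QCohAcy.free U.1)
    (fun f hf => QCohAcy.eq_zero_of_free_comp f hf)
    (fun U j => QCohAcy.acy_free U.2 (QCohAcy.good_of_qcoh _ (h j)))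
    (fun j => acy_tilde_ring (QCohAcy.good_of_qcoh _ (h j))) m

variable [PreservesFiniteLimits (tilde.functor R)]

theorem full_faithful : (DCoh.tildeD R).Full ∧ (DCoh.tildeD R).Faithful :=
  have := projective_ring (R := R)
  have : (moduleSpecΓFunctor (R := R)).Additive := (tilde.adjunction (R := R)).right_adjoint_additive
  DerivedFF.full_faithful (tilde.functor R) (ModuleCat.of R R)
    (fun K hK => Φ_bijective_ring K fun m => isQuasicoherent_of_essImage (hK m))
    tilde.adjunction (fun f h => separating_ring f h) Products.exists_isKInjective_resolution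

instance : (DCoh.tildeD R).Full := full_faithful.1

instance : (DCoh.tildeD R).Faithful := full_faithful.2

theorem isQCohD_tildeD (M : DerivedCategory (ModuleCat.{u} R)) :
    DCoh.IsQCohD ((DCoh.tildeD R).obj M) := fun i =>
  isQuasicoherent_of_essImage (DerivedFF.essImage_homology (tilde.functor R) M i)

theorem exists_iso_of_isQCohD (K : DCoh.D (Spec (CommRingCat.of R))) (hK : DCoh.IsQCohD K) :
    ∃ M, Nonempty ((DCoh.tildeD R).obj M ≅ K) :=
  have := projective_ring (R := R)
  have : (moduleSpecΓFunctor (R := R)).Additive := (tilde.adjunction (R := R)).right_adjoint_additive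
  DerivedFF.exists_preimage (tilde.functor R) (ModuleCat.of R R)
    (fun K hK => Φ_bijective_ring K fun m => isQuasicoherent_of_essImage (hK m))
    tilde.adjunction (fun f h => separating_ring f h) Products.exists_isKInjective_resolution K
    fun m => essImage_of_isQuasicoherent (hK m)

end Groth.Agent.KFlat.TildeD
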