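import Groth.Agent.KFlat.TildePerfect
import Groth.Agent.DRing.Perfect

/-!
# Pseudo-coherent objects of `D(Spec A)` and of `D(A)`
-/

set_option autoImplicit false

universe w w' v v' u' u'' u

open CategoryTheory Limits AlgebraicGeometry

attribute [local instance] HasDerivedCategory.standard

namespace Groth.Agent.KFlat.TildePC

open TildePerfect

section Abstract

variable {C : Type u'} [Category.{v} C] [Abelian C] [HasDerivedCategory.{w} C]
  {D : Type u''} [Category.{v'} D] [Abelian D] [HasDerivedCategory.{w'} D]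

/-- Isomorphism on `H^i` for `i > m`, epimorphism on `H^m`. -/
def Appr (m : ℤ) {K L : DerivedCategory C} (α : K ⟶ L) : Prop :=
  (∀ i : ℤ, m < i → IsIso ((DerivedCategory.homologyFunctor C i).map α)) ∧
    Epi ((DerivedCategory.homologyFunctor C m).map α)

theorem Appr.comp {m : ℤ} {K L M : DerivedCategory C} {α : K ⟶ L} {β : L ⟶ M} (hα : Appr m α)
    (hβ : Appr m β) : Appr m (α ≫ β) := by
  refine ⟨fun i hi => ?_, ?_⟩
  · have := hα.1 i hi
    have := hβ.1 i hi
    rw [Functor.map_comp]; infer_instance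
  · have := hα.2
    have := hβ.2
    rw [Functor.map_comp]; infer_instance

theorem appr_of_isIso (m : ℤ) {K L : DerivedCategory C} (α : K ⟶ L) [IsIso α] : Appr m α :=
  ⟨fun _ _ => inferInstance, inferInstance⟩

variable (F : C ⥤ D) [F.Additive] [PreservesFiniteLimits F] [PreservesFiniteColimits F]

theorem map_eq (i : ℤ) {K L : DerivedCategory C} (α : K ⟶ L) :
    (DerivedCategory.homologyFunctor D i).map (F.mapDerivedCategory.map α) =
      (MapHomology.iso F i).hom.app K ≫ F.map ((DerivedCategory.homologyFunctor C i).map α) ≫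
        (MapHomology.iso F i).inv.app L :=
  (NatIso.naturality_2 (MapHomology.iso F i) α).symm

theorem Appr.map {m : ℤ} {K L : DerivedCategory C} {α : K ⟶ L} (hα : Appr m α) :
    Appr m (F.mapDerivedCategory.map α) := by
  refine ⟨fun i hi => ?_, ?_⟩
  · have := hα.1 i hi
    rw [map_eq]; infer_instance
  · have := hα.2
    rw [map_eq]; infer_instance

theorem Appr.of_map [F.Full] [F.Faithful] {m : ℤ} {K L : DerivedCategory C} {α : K ⟶ L}
    (hα : Appr m (F.mapDerivedCategory.map α)) : Appr m α := by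
  have e : ∀ i, F.map ((DerivedCategory.homologyFunctor C i).map α) = (MapHomology.iso F i).inv.app K ≫
      (DerivedCategory.homologyFunctor D i).map (F.mapDerivedCategory.map α) ≫
        (MapHomology.iso F i).hom.app L := fun i => by
    rw [map_eq]; simp
  refine ⟨fun i hi => ?_, ?_⟩
  · have := hα.1 i hi
    have : IsIso (F.map ((DerivedCategory.homologyFunctor C i).map α)) := by rw [e]; infer_instance
    exact isIso_of_reflects_iso _ F
  · have := hα.2
    have : Epi (F.map ((DerivedCategory.homologyFunctor C m).map α)) := by rw [e]; infer_instance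
    exact F.epi_of_epi_map this

end Abstract

variable {A : CommRingCat.{u}} [PreservesFiniteLimits (tilde.functor A)]

theorem isPseudoCoherentD_tildeD (M : Dual.D A) (m : ℤ) (h : DRing.IsPseudoCoherent A m M) :
    DCoh.IsPseudoCoherentD m ((DCoh.tildeD A).obj M) := by
  obtain ⟨E, a, b, α, hv, hf, h1, h2⟩ := h
  intro x
  refine ⟨⊤, trivial, fun F ⟨eF⟩ => ?_⟩
  let α₀ := ((tilde.functor A).mapDerivedCategoryFactors.app E).inv ≫ (DCoh.tildeD A).map α ≫ eF.inv
  have h₀ : Appr m α₀ :=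
    (appr_of_isIso m _).comp ((Appr.map (tilde.functor A) (α := α) ⟨h1, h2⟩).comp (appr_of_isIso m _))
  let j := (⊤ : (Spec A).Opens).ι
  have h₁ : Appr m ((PerfTri.Perfect.restrQ j _).inv ≫ (DCoh.restrictD j).map α₀ ≫
      (PerfTri.Perfect.restrQ j _).hom) :=
    (appr_of_isIso m _).comp ((Appr.map (Scheme.Modules.restrictFunctor j) h₀).comp (appr_of_isIso m _))
  refine ⟨(PerfTri.Nullhom.resC j).obj ((tCx A).obj E), _, KFlat.LocFree.isStrictlyPerfect_restrict ?_ ⊤, h₁.1, h₁.2⟩
  exact ⟨⟨a, b, fun i hi => (tilde.functor A).map_isZero (hv i hi)⟩,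
    fun i => (Groth.Agent.S12451.result (E.X i)).2 ⟨(hf i).1, have := (hf i).2; inferInstance⟩⟩

theorem isPseudoCoherent_of_tildeD (M : Dual.D A) (m : ℤ)
    (h : DCoh.IsPseudoCoherentD m ((DCoh.tildeD A).obj M)) : DRing.IsPseudoCoherent A m M := by
  let F := DerivedCategory.Q.objPreimage ((DCoh.tildeD A).obj M)
  let eF : DerivedCategory.Q.obj F ≅ _ := DerivedCategory.Q.objObjPreimageIso ((DCoh.tildeD A).obj M)
  have key : ∀ x : Spec A, ∃ f : A, x ∈ Set.range (jf f) ∧
      ∃ (E : CochainComplex (Spec (Af f)).Modules ℤ)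
        (α : DerivedCategory.Q.obj E ⟶ (DCoh.restrictD (jf f)).obj ((DCoh.tildeD A).obj M)),
        DCoh.IsStrictlyPerfect E ∧ Appr m α := fun x => by
    obtain ⟨V, hxV, hV⟩ := h x
    obtain ⟨E, α, hE, h1, h2⟩ := hV F ⟨eF⟩
    obtain ⟨f, hxf, hf⟩ := exists_basicOpen V.ι (x := x) (by rw [Scheme.Opens.range_ι]; exact hxV)
    let t := IsOpenImmersion.lift V.ι (jf f) hf
    have hfac : t ≫ V.ι = jf f := IsOpenImmersion.lift_fac _ _ hf
    have : IsOpenImmersion t := by
      have : IsOpenImmersion (t ≫ V.ι) := by rw [hfac]; infer_instance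
      exact IsOpenImmersion.of_comp t V.ι
    obtain ⟨E', hE', ⟨e'⟩⟩ := PerfTri.Perfect.isSP_restrict_hom
      (K := DerivedCategory.Q.obj E) ⟨E, hE, ⟨Iso.refl _⟩⟩ t
    let e₂ : (DCoh.restrictD t).obj (DerivedCategory.Q.obj ((DCoh.restrictCx V).obj F)) ≅
        (DCoh.restrictD (jf f)).obj ((DCoh.tildeD A).obj M) :=
      PerfTri.Perfect.restrQ t _ ≪≫
      DerivedCategory.Q.mapIso ((PerfTri.Nullhom.resCompIso t V.ι (jf f) hfac).app F) ≪≫
      (PerfTri.Perfect.restrQ (jf f) F).symm ≪≫ (DCoh.restrictD (jf f)).mapIso eF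
    exact ⟨f, hxf, E', e'.inv ≫ (DCoh.restrictD t).map α ≫ e₂.hom, hE',
      (appr_of_isIso m _).comp ((Appr.map (Scheme.Modules.restrictFunctor t) (α := α) ⟨h1, h2⟩).comp (appr_of_isIso m _))⟩
  choose f hf hE using key
  obtain ⟨r, g, hg⟩ := exists_span f hf
  let K := DerivedCategory.Q.objPreimage M
  let eM : DerivedCategory.Q.obj K ≅ M := DerivedCategory.Q.objObjPreimageIso M
  refine DRing.PC.pc_of_iso eM (DRing.PCDescent.pc_of_detects
    (ψ := fun i => (ψ (f (g i))).hom) (fun i => flat_ψ _) (DRing.PCDescent.detects_away _ hg) K m fun i => ?_)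
  let c := f (g i)
  have := TildeExact.preservesFiniteLimits_tilde (Af c)
  have := (TildeD.full_faithful (R := Af c)).1
  obtain ⟨E, α, hE', hα⟩ := hE (g i)
  obtain ⟨P, a, b, hP, hPp, ⟨eP⟩⟩ := exists_finiteProjective_iso hE'
  let eQ := (DCoh.restrictD (jf c)).mapIso ((DCoh.tildeD A).mapIso eM.symm) ≪≫ restrTildeDIso c K
  let γ := (tilde.functor (Af c)).mapDerivedCategoryFactors.hom.app P ≫ DerivedCategory.Q.map eP.hom ≫ α ≫ eQ.hom
  have hγ : Appr m γ :=
    (appr_of_isIso m _).comp ((appr_of_isIso m _).comp (hα.comp (appr_of_isIso m _)))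
  obtain ⟨β, hβ⟩ := (DCoh.tildeD (Af c)).map_surjective γ
  have : (tilde.functor (Af c)).Full := (tilde.fullyFaithfulFunctor (R := Af c)).full
  have : (tilde.functor (Af c)).Faithful := (tilde.fullyFaithfulFunctor (R := Af c)).faithful
  have hb : Appr m β := Appr.of_map (tilde.functor (Af c)) (show Appr m ((DCoh.tildeD (Af c)).map β) by rw [hβ]; exact hγ)
  obtain ⟨E₁, b₁, α₁, hv₁, hf₁, hα₁⟩ := DRing.PC.exists_approx
    ((DRing.PC.pc'_iff _).1 (DRing.Perfect.pc'_of_finiteProjective (fun i hi => hP i (Or.inr hi)) hPp) m)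
  exact DRing.PC.isPseudoCoherent_of_approx (α₁ ≫ β) hv₁ hf₁ (hα₁.comp ⟨hb.1, hb.2⟩)

end Groth.Agent.KFlat.TildePC
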