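import Groth.Agent.KFlat.MVTriangle
import Groth.Agent.ModShf.GrothAb

/-!
# The Mayer–Vietoris sequence of extensions by zero
-/

set_option autoImplicit false

universe u

open CategoryTheory CategoryTheory.Limits AlgebraicGeometry
open Groth.Agent.KFlat.MVSheaf

attribute [local instance] HasDerivedCategory.standard preservesBinaryBiproducts_of_preservesBiproducts

namespace Groth.Agent.KFlat.MVExtZero

variable {X : Scheme.{u}}

/-- `j_!(-|_U)` as a functor. -/
noncomputable abbrev E (U : X.Opens) : X.Modules ⥤ X.Modules :=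
  Scheme.Modules.restrictFunctor U.ι ⋙ CxOX.extZero U.ι

/-- `j_!(-|_U)` is left adjoint to `j_*(-|_U)`. -/
noncomputable def adjER (U : X.Opens) : E U ⊣ R U :=
  (Scheme.Modules.restrictAdjunction U.ι).comp (CxOX.extZeroAdj U.ι)

/-- The transposition. -/
noncomputable def Φ (U : X.Opens) (F G : X.Modules) : ((E U).obj F ⟶ G) ≃ (F ⟶ (R U).obj G) :=
  (adjER U).homEquiv F G

theorem Φ_comp (U : X.Opens) {F G G' : X.Modules} (x : (E U).obj F ⟶ G) (y : G ⟶ G') :
    Φ U F G' (x ≫ y) = Φ U F G x ≫ (R U).map y := (adjER U).homEquiv_naturality_right x y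

theorem Φ_map_comp (U : X.Opens) {F F' G : X.Modules} (φ : F ⟶ F') (x : (E U).obj F' ⟶ G) :
    Φ U F G ((E U).map φ ≫ x) = φ ≫ Φ U F' G x := (adjER U).homEquiv_naturality_left φ x

/-- `j_{W!}(F|_W) ⟶ j_{U!}(F|_U)` for `W ≤ U`. -/
noncomputable def κ {U W : X.Opens} (h : W ≤ U) (F : X.Modules) : (E W).obj F ⟶ (E U).obj F :=
  (Φ W F _).symm (Φ U F _ (𝟙 _) ≫ (MVSheaf.res h).app _)

theorem Φ_κ_comp {U W : X.Opens} (h : W ≤ U) {F G : X.Modules} (y : (E U).obj F ⟶ G) :
    Φ W F G (κ h F ≫ y) = Φ U F G y ≫ (MVSheaf.res h).app G := by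
  rw [Φ_comp, κ, Equiv.apply_symm_apply, Category.assoc, ← (MVSheaf.res h).naturality y, ← Category.assoc,
    ← Φ_comp, Category.id_comp]

/-- `j_!(F|_U) ⟶ F`. -/
noncomputable def ε (U : X.Opens) (F : X.Modules) : (E U).obj F ⟶ F :=
  (Φ U F F).symm ((η U).app F)

theorem Φ_ε_comp (U : X.Opens) {F G : X.Modules} (y : F ⟶ G) : Φ U F G (ε U F ≫ y) = y ≫ (η U).app G := by
  rw [Φ_comp, ε, Equiv.apply_symm_apply]
  exact ((η U).naturality y).symm

theorem κ_naturality {U W : X.Opens} (h : W ≤ U) {F F' : X.Modules} (φ : F ⟶ F') :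
    (E W).map φ ≫ κ h F' = κ h F ≫ (E U).map φ := by
  apply (Φ W F _).injective
  rw [Φ_κ_comp, Φ_map_comp, κ, Equiv.apply_symm_apply, ← Category.assoc, ← Φ_map_comp, Category.comp_id]

theorem ε_naturality (U : X.Opens) {F F' : X.Modules} (φ : F ⟶ F') :
    (E U).map φ ≫ ε U F' = ε U F ≫ φ := by
  apply (Φ U F _).injective
  rw [Φ_ε_comp, Φ_map_comp, ε, Equiv.apply_symm_apply]

theorem κ_ε {U W : X.Opens} (h : W ≤ U) (F : X.Modules) : κ h F ≫ ε U F = ε W F := by
  apply (Φ W F F).injective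
  rw [Φ_κ_comp, ε, ε, Equiv.apply_symm_apply, Equiv.apply_symm_apply, η_res]

/-- Short exactness detected by maps into injectives. -/
theorem shortExact_of_injective {A : Type*} [Category A] [Abelian A] [EnoughInjectives A] (S : ShortComplex A)
    (hA : ∀ (G : A), Injective G → ∀ x : S.X₁ ⟶ G, ∃ q : S.X₂ ⟶ G, S.f ≫ q = x)
    (hB : ∀ (G : A), Injective G → ∀ q : S.X₂ ⟶ G, S.f ≫ q = 0 → ∃ r : S.X₃ ⟶ G, S.g ≫ r = q)
    (hC : ∀ (G : A) (r : S.X₃ ⟶ G), S.g ≫ r = 0 → r = 0) : S.ShortExact where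
  mono_f := by
    obtain ⟨q, hq⟩ := hA _ (Injective.injective_under S.X₁) (Injective.ι S.X₁)
    exact mono_of_mono_fac hq
  epi_g := Preadditive.epi_of_cancel_zero _ (fun {G} r hr => hC G r hr)
  exact := by
    let q := cokernel.π S.f ≫ Injective.ι (cokernel S.f)
    obtain ⟨r, hr⟩ := hB _ (Injective.injective_under _) q (by simp [q])
    refine S.exact_iff_kernel_ι_comp_cokernel_π_zero.2 ?_
    rw [← cancel_mono (Injective.ι (cokernel S.f)), zero_comp, Category.assoc]
    change kernel.ι S.g ≫ q = 0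
    rw [← hr, kernel.condition_assoc, zero_comp]

variable (U V : X.Opens)

/-- The short complex. -/
noncomputable def sc' (F : X.Modules) : ShortComplex X.Modules :=
  ShortComplex.mk (κ (inf_le_left : U ⊓ V ≤ U) F ≫ biprod.inl - κ (inf_le_right : U ⊓ V ≤ V) F ≫ biprod.inr)
    (biprod.desc (ε U F) (ε V F))
    (by simp only [Preadditive.sub_comp, Category.assoc, biprod.inl_desc, biprod.inr_desc, κ_ε, sub_self])

variable {U V}

theorem shortExact (hUV : U ⊔ V = ⊤) (F : X.Modules) : (sc' U V F).ShortExact := by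
  have : EnoughInjectives X.Modules := IsGrothendieckAbelian.enoughInjectives
  have Φsub : ∀ {W : X.Opens} {G : X.Modules} (x y : (E W).obj F ⟶ G), Φ W F G (x - y) = Φ W F G x - Φ W F G y :=
    fun {W G} x y => by
      simp only [Φ, Adjunction.homEquiv_unit, Functor.map_sub, Preadditive.comp_sub]
  have key : ∀ {G : X.Modules} (q : (sc' U V F).X₂ ⟶ G), Φ (U ⊓ V) F G ((sc' U V F).f ≫ q) =
      biprod.lift (Φ U F G (biprod.inl ≫ q)) (Φ V F G (biprod.inr ≫ q)) ≫ MVSheaf.b U V G := by
    intro G q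
    simp only [sc', MVSheaf.b, Preadditive.sub_comp, Category.assoc, Φsub, Φ_κ_comp, Preadditive.comp_sub,
      biprod.lift_fst_assoc, biprod.lift_snd_assoc]
  have Φzero : ∀ {W : X.Opens} {G : X.Modules}, Φ W F G 0 = 0 := fun {W G} => by
    simp only [Φ, Adjunction.homEquiv_unit, Functor.map_zero, comp_zero]
  have hS := fun G => MVSheaf.shortExact (U := U) (V := V) hUV G
  refine shortExact_of_injective _ ?_ ?_ ?_
  · intro G hG x
    have : Injective (MVSheaf.sc U V G).X₁ := hG
    let z := Φ (U ⊓ V) F G x ≫ (hS G).splittingOfInjective.s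
    refine ⟨biprod.desc ((Φ U F G).symm (z ≫ biprod.fst)) ((Φ V F G).symm (z ≫ biprod.snd)), ?_⟩
    apply (Φ (U ⊓ V) F G).injective
    refine (key _).trans ?_
    rw [biprod.inl_desc, biprod.inr_desc, Equiv.apply_symm_apply, Equiv.apply_symm_apply]
    have hz : biprod.lift (z ≫ biprod.fst) (z ≫ biprod.snd) = z := by
      apply biprod.hom_ext
      · exact biprod.lift_fst _ _
      · exact biprod.lift_snd _ _
    rw [hz]
    exact (Category.assoc _ _ _).trans
      ((congrArg (_ ≫ ·) (hS G).splittingOfInjective.s_g).trans (Category.comp_id _))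
  · intro G _ q hq
    let z := biprod.lift (Φ U F G (biprod.inl ≫ q)) (Φ V F G (biprod.inr ≫ q))
    have hz : z ≫ (MVSheaf.sc U V G).g = 0 := by
      exact (key q).symm.trans ((congrArg (Φ (U ⊓ V) F G) hq).trans Φzero)
    have := (hS G).mono_f
    obtain ⟨r, hr⟩ := (hS G).exact.lift' z hz
    have h₁ := congrArg (· ≫ biprod.fst) hr
    have h₂ := congrArg (· ≫ biprod.snd) hr
    refine ⟨r, biprod.hom_ext' _ _ ?_ ?_⟩
    · apply (Φ U F G).injective
      simp only [sc', biprod.inl_desc_assoc, Φ_ε_comp]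
      simpa [z, MVSheaf.sc, MVSheaf.a] using h₁
    · apply (Φ V F G).injective
      simp only [sc', biprod.inr_desc_assoc, Φ_ε_comp]
      simpa [z, MVSheaf.sc, MVSheaf.a] using h₂
  · show ∀ (G : X.Modules) (r : F ⟶ G), biprod.desc (ε U F) (ε V F) ≫ r = 0 → r = 0
    intro G r hr
    have := (hS G).mono_f
    have hU : r ≫ (η U).app G = 0 := by
      have h := congrArg (biprod.inl ≫ ·) hr
      simp only [biprod.inl_desc_assoc, comp_zero] at h
      rw [← Φ_ε_comp, h, Φzero]
    have hV : r ≫ (η V).app G = 0 := by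
      have h := congrArg (biprod.inr ≫ ·) hr
      simp only [biprod.inr_desc_assoc, comp_zero] at h
      rw [← Φ_ε_comp, h, Φzero]
    refine (cancel_mono (MVSheaf.sc U V G).f).1 ?_
    change r ≫ MVSheaf.a U V G = 0 ≫ MVSheaf.a U V G
    rw [zero_comp]
    apply biprod.hom_ext
    · simp [MVSheaf.a, hU]
    · simp [MVSheaf.a, hV]

section Cx

open WeakKInj RPushBase

/-- Termwise `j_!(-|_U)`. -/
noncomputable abbrev Ec (U : X.Opens) : CochainComplex X.Modules ℤ ⥤ CochainComplex X.Modules ℤ :=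
  DCoh.restrictCx U ⋙ (CxOX.extZero U.ι).mapHomologicalComplex (ComplexShape.up ℤ)

/-- `κ` on complexes. -/
noncomputable def κc {U W : X.Opens} (h : W ≤ U) (K : CochainComplex X.Modules ℤ) : (Ec W).obj K ⟶ (Ec U).obj K where
  f n := κ h (K.X n)
  comm' i j _ := (κ_naturality h (K.d i j)).symm

/-- `ε` on complexes. -/
noncomputable def εc (U : X.Opens) (K : CochainComplex X.Modules ℤ) : (Ec U).obj K ⟶ K where
  f n := ε U (K.X n)
  comm' i j _ := (ε_naturality U (K.d i j)).symm

theorem κc_εc {U W : X.Opens} (h : W ≤ U) (K : CochainComplex X.Modules ℤ) : κc h K ≫ εc U K = εc W K :=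
  HomologicalComplex.hom_ext _ _ fun n => κ_ε h (K.X n)

variable (U V) in
/-- The short complex of complexes. -/
noncomputable def scc' (K : CochainComplex X.Modules ℤ) : ShortComplex (CochainComplex X.Modules ℤ) :=
  ShortComplex.mk (κc (inf_le_left : U ⊓ V ≤ U) K ≫ biprod.inl - κc (inf_le_right : U ⊓ V ≤ V) K ≫ biprod.inr)
    (biprod.desc (εc U K) (εc V K))
    (by simp only [Preadditive.sub_comp, Category.assoc, biprod.inl_desc, biprod.inr_desc, κc_εc, sub_self])

variable (U V) in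
/-- Its terms. -/
noncomputable def evalIso' (K : CochainComplex X.Modules ℤ) (n : ℤ) :
    (scc' U V K).map (HomologicalComplex.eval X.Modules (ComplexShape.up ℤ) n) ≅ sc' U V (K.X n) :=
  ShortComplex.isoMk (Iso.refl _) (HomologicalComplex.biprodXIso ((Ec U).obj K) ((Ec V).obj K) n) (Iso.refl _)
    (by
      refine (Category.id_comp _).trans ?_
      show κ _ (K.X n) ≫ biprod.inl - κ _ (K.X n) ≫ biprod.inr =
        (κc (inf_le_left : U ⊓ V ≤ U) K ≫ biprod.inl - κc (inf_le_right : U ⊓ V ≤ V) K ≫ biprod.inr).f n ≫ _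
      have hl : (biprod.inl : (Ec U).obj K ⟶ _).f n ≫ (HomologicalComplex.biprodXIso ((Ec U).obj K) ((Ec V).obj K) n).hom =
          biprod.inl :=
        (Iso.eq_comp_inv _).1 (HomologicalComplex.inl_biprodXIso_inv ((Ec U).obj K) ((Ec V).obj K) n).symm
      have hr : (biprod.inr : (Ec V).obj K ⟶ _).f n ≫ (HomologicalComplex.biprodXIso ((Ec U).obj K) ((Ec V).obj K) n).hom =
          biprod.inr :=
        (Iso.eq_comp_inv _).1 (HomologicalComplex.inr_biprodXIso_inv ((Ec U).obj K) ((Ec V).obj K) n).symm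
      rw [HomologicalComplex.sub_f_apply, HomologicalComplex.comp_f, HomologicalComplex.comp_f, Preadditive.sub_comp,
        Category.assoc, Category.assoc]
      exact congrArg₂ (fun s t => (κc (inf_le_left : U ⊓ V ≤ U) K).f n ≫ s -
        (κc (inf_le_right : U ⊓ V ≤ V) K).f n ≫ t) hl.symm hr.symm)
    (by
      refine Eq.trans ?_ (Category.comp_id _).symm
      show (HomologicalComplex.biprodXIso ((Ec U).obj K) ((Ec V).obj K) n).hom ≫
        biprod.desc (ε U (K.X n)) (ε V (K.X n)) = (biprod.desc (εc U K) (εc V K)).f n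
      rw [← Iso.eq_inv_comp]
      apply biprod.hom_ext'
      · refine (biprod.inl_desc _ _).trans ?_
        rw [HomologicalComplex.inl_biprodXIso_inv_assoc, ← HomologicalComplex.comp_f, biprod.inl_desc]
        rfl
      · refine (biprod.inr_desc _ _).trans ?_
        rw [HomologicalComplex.inr_biprodXIso_inv_assoc, ← HomologicalComplex.comp_f, biprod.inr_desc]
        rfl)

theorem shortExact_scc' (hUV : U ⊔ V = ⊤) (K : CochainComplex X.Modules ℤ) : (scc' U V K).ShortExact :=
  HomologicalComplex.shortExact_of_degreewise_shortExact _ fun n =>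
    ShortComplex.shortExact_of_iso (evalIso' U V K n).symm (shortExact hUV _)

/-- `j_!(K|_U)` on the derived category. -/
noncomputable def ecIso (W : X.Opens) [PreservesFiniteLimits (CxOX.extZero W.ι)]
    (K : CochainComplex X.Modules ℤ) :
    DerivedCategory.Q.obj ((Ec W).obj K) ≅
      (CxOX.extZeroD W.ι).obj ((DCoh.restrictD W.ι).obj (DerivedCategory.Q.obj K)) :=
  ((CxOX.extZero W.ι).mapDerivedCategoryFactors.app ((DCoh.restrictCx W).obj K)).symm ≪≫
    (CxOX.extZeroD W.ι).mapIso ((restrictDIso W).symm.app K)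

end Cx

end Groth.Agent.KFlat.MVExtZero
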