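import Groth.Agent.KFlat.LTensorCoprod
import Groth.Agent.KFlat.Cells
import Groth.Agent.S0985
import Groth.Agent.DHA.KInj.Small
import Mathlib.Algebra.Homology.DerivedCategory.ShortExact

/-!
# The derived category is generated by the modules `j_! O_W` under triangles and coproducts
-/

set_option autoImplicit false

universe u

open CategoryTheory CategoryTheory.Limits AlgebraicGeometry
open Groth.Agent.KFlat.Pull Groth.Agent.KFlat.LTensorCoprod

attribute [local instance] HasDerivedCategory.standard

namespace Groth.Agent.KFlat.CellGen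

variable {X : Scheme.{u}}

/-- A class of objects closed under isomorphisms, triangles and coproducts. -/
structure Closed (P : DCoh.D X → Prop) : Prop where
  iso : ∀ {A B : DCoh.D X}, (A ≅ B) → P A → P B
  tri₂ : ∀ T ∈ (Pretriangulated.distinguishedTriangles : Set (Pretriangulated.Triangle (DCoh.D X))),
    P T.obj₁ → P T.obj₃ → P T.obj₂
  tri₃ : ∀ T ∈ (Pretriangulated.distinguishedTriangles : Set (Pretriangulated.Triangle (DCoh.D X))),
    P T.obj₁ → P T.obj₂ → P T.obj₃
  sum : ∀ {ι : Type u} (C : ι → DCoh.D X) (c : Cofan C), IsColimit c → (∀ i, P (C i)) → P c.pt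

variable {P : DCoh.D X → Prop} (hP : Closed P)

include hP in
theorem sigma_mem {ι : Type u} (K : ι → CochainComplex X.Modules ℤ)
    (h : ∀ i, P (DerivedCategory.Q.obj (K i))) : P (DerivedCategory.Q.obj (∐ K)) := by
  obtain ⟨hc⟩ := isColimit_Q_of_isColimit K _ (coproductIsCoproduct K)
  exact hP.sum _ _ hc h

include hP in
theorem middle_mem {S : ShortComplex (CochainComplex X.Modules ℤ)} (hS : S.ShortExact)
    (h₁ : P (DerivedCategory.Q.obj S.X₁)) (h₃ : P (DerivedCategory.Q.obj S.X₃)) :
    P (DerivedCategory.Q.obj S.X₂) :=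
  hP.tri₂ _ (DerivedCategory.triangleOfSES_distinguished hS) h₁ h₃

include hP in
theorem right_mem {S : ShortComplex (CochainComplex X.Modules ℤ)} (hS : S.ShortExact)
    (h₁ : P (DerivedCategory.Q.obj S.X₁)) (h₂ : P (DerivedCategory.Q.obj S.X₂)) :
    P (DerivedCategory.Q.obj S.X₃) :=
  hP.tri₃ _ (DerivedCategory.triangleOfSES_distinguished hS) h₁ h₂

/-- Short exactness from degreewise splittings. -/
theorem shortExact_of_splittings {S : ShortComplex (CochainComplex X.Modules ℤ)}
    (s : ∀ q, (S.map (HomologicalComplex.eval X.Modules (ComplexShape.up ℤ) q)).Splitting) : S.ShortExact :=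
  HomologicalComplex.shortExact_of_degreewise_shortExact S fun q => (s q).shortExact

variable (hfree : ∀ (W : X.Opens) (n : ℤ), P (DerivedCategory.Q.obj
  ((HomologicalComplex.single X.Modules (ComplexShape.up ℤ) n).obj (Groth.Agent.KFlat.freeU X.sheaf W))))

include hP hfree in
theorem disk_mem (i : X.Opens × ℤ) :
    P (DerivedCategory.Q.obj (Groth.Agent.KFlat.disk X.sheaf i : CochainComplex X.Modules ℤ)) :=
  middle_mem hP (S := (Groth.Agent.KFlat.cellSeq X.sheaf i : ShortComplex (CochainComplex X.Modules ℤ)))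
    (shortExact_of_splittings fun q => Groth.Agent.KFlat.cellSeqSplitting X.sheaf i q)
    (hfree i.1 (i.2 + 1)) (hfree i.1 i.2)

include hP hfree in
theorem step_mem {A S : CochainComplex X.Modules ℤ} (π : A ⟶ S) (hA : P (DerivedCategory.Q.obj A)) :
    P (DerivedCategory.Q.obj
      (SmallObject.functorObj (Groth.Agent.KFlat.cell X.sheaf) π : CochainComplex X.Modules ℤ)) := by
  refine right_mem hP (S := (Groth.Agent.KFlat.stepSeq (O := X.sheaf) π : ShortComplex (CochainComplex X.Modules ℤ)))
    (shortExact_of_splittings fun q => Groth.Agent.KFlat.stepSeqSplitting (O := X.sheaf) π q) ?_ ?_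
  · exact sigma_mem hP _ fun x => hfree x.i.1 (x.i.2 + 1)
  · let T : CochainComplex X.Modules ℤ :=
      sigmaObj (SmallObject.functorObjTgtFamily (Groth.Agent.KFlat.cell X.sheaf) π)
    exact middle_mem hP (S := ShortComplex.mk (biprod.inl : A ⟶ A ⊞ T) biprod.snd (by simp))
      (shortExact_of_splittings fun q => ShortComplex.Splitting.map
        { r := biprod.fst, s := biprod.inr, id := biprod.total } _) hA
      (sigma_mem hP _ fun x => disk_mem hP hfree x.i)

include hP hfree in
theorem stage_mem (G : CochainComplex X.Modules ℤ) : ∀ n,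
    P (DerivedCategory.Q.obj ((Groth.Agent.KFlat.stage X.sheaf n).F.obj G : CochainComplex X.Modules ℤ))
  | 0 => by
    have h := sigma_mem hP (fun e : PEmpty.{u + 1} => (e.elim : CochainComplex X.Modules ℤ)) fun e => e.elim
    refine hP.iso (DerivedCategory.Q.mapIso (IsZero.iso ?_ (isZero_zero _))) h
    exact (IsZero.iff_id_eq_zero _).2 (Sigma.hom_ext _ _ fun e => e.elim)
  | n + 1 => step_mem hP hfree ((Groth.Agent.KFlat.stage X.sheaf n).φ.app G) (stage_mem G n)

include hP hfree in
theorem mem_resY (G : CochainComplex X.Modules ℤ) : P (DerivedCategory.Q.obj ((resY X).obj G)) := by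
  let L : ℕ ⥤ CochainComplex X.Modules ℤ :=
    (Functor.ofSequence (X := fun n => (Groth.Agent.KFlat.stage X.sheaf n).F)
      (fun n => (Groth.Agent.KFlat.stage X.sheaf n).ι)).flip.obj G
  have hL : ∀ n, P (DerivedCategory.Q.obj (L.obj n)) := stage_mem hP hfree G
  let L' : ULift.{u} ℕ → CochainComplex X.Modules ℤ := fun n => L.obj n.down
  obtain ⟨hc'⟩ := isColimit_Q_of_isColimit L' _ (coproductIsCoproduct L')
  have hc : ∀ (c : Cofan L.obj), IsColimit c →
      IsColimit (Cofan.mk (DerivedCategory.Q.obj c.pt) fun n => DerivedCategory.Q.map (c.inj n)) := fun c hc₀ =>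
    let d : Cofan L' := Cofan.mk c.pt fun n => c.inj n.down
    let hd : IsColimit d := Cofan.IsColimit.mk d (fun s => Cofan.IsColimit.desc hc₀ fun n => s.inj ⟨n⟩)
      (fun s n => Cofan.IsColimit.fac hc₀ _ n.down)
      (fun s m hm => Cofan.IsColimit.hom_ext hc₀ _ _ fun n => (hm ⟨n⟩).trans (Cofan.IsColimit.fac hc₀ (fun n => s.inj ⟨n⟩) n).symm)
    let hq := (isColimit_Q_of_isColimit L' d hd).some
    Cofan.IsColimit.mk _ (fun s => Cofan.IsColimit.desc hq fun n => s.inj n.down)
      (fun s n => Cofan.IsColimit.fac hq _ ⟨n⟩)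
      (fun s m hm => Cofan.IsColimit.hom_ext hq _ _ fun n => (hm n.down).trans (Cofan.IsColimit.fac hq (fun n => s.inj n.down) n).symm)
  have hpres : PreservesColimit (Discrete.functor L.obj) (DerivedCategory.Q (C := X.Modules)) :=
    preservesColimit_of_preserves_colimit_cocone (coproductIsCoproduct L.obj)
      ((isColimitMapCoconeCofanMkEquiv _ _ _).symm (hc _ (coproductIsCoproduct L.obj)))
  have : HasCoproduct fun n => DerivedCategory.Q.obj (L.obj n) :=
    ⟨⟨⟨_, hc _ (coproductIsCoproduct L.obj)⟩⟩⟩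
  have : HasExactColimitsOfShape ℕ X.Modules := DHA.KInj.hasExactColimitsOfShape_nat (A := X.Modules)
  obtain ⟨c, hT⟩ := Groth.Agent.S0985.result L
  have hsum : P (∐ fun n => DerivedCategory.Q.obj (L.obj n)) := by
    let d : Cofan fun n : ULift.{u} ℕ => DerivedCategory.Q.obj (L.obj n.down) :=
      Cofan.mk (∐ fun n => DerivedCategory.Q.obj (L.obj n))
        fun n => Sigma.ι (fun n => DerivedCategory.Q.obj (L.obj n)) n.down
    exact hP.sum _ d (Cofan.IsColimit.mk d (fun s => Sigma.desc fun n => s.inj ⟨n⟩)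
      (fun s n => Sigma.ι_desc _ _) (fun s m hm => Sigma.hom_ext _ _ fun n => (hm ⟨n⟩).trans (Sigma.ι_desc (f := fun n => DerivedCategory.Q.obj (L.obj n)) (fun n => s.inj ⟨n⟩) n).symm))
      fun n => hL n.down
  have : (AsSmall.down : AsSmall.{u} ℕ ⥤ ℕ).IsEquivalence := (AsSmall.equiv (C := ℕ)).isEquivalence_inverse
  refine hP.iso ?_ (hP.tri₃ _ hT hsum hsum)
  exact DerivedCategory.Q.mapIso (Functor.Final.colimitIso AsSmall.down L).symm

include hP hfree in
/-- A class closed under triangles and coproducts containing all `j_! O_W[n]` is everything. -/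
theorem mem (K : DCoh.D X) : P K := by
  have := quasiIso_resYπ (DerivedCategory.Q.objPreimage K)
  exact hP.iso (asIso (DerivedCategory.Q.map ((resYπ X).app (DerivedCategory.Q.objPreimage K))) ≪≫
    DerivedCategory.Q.objObjPreimageIso K) (mem_resY hP hfree _)

end Groth.Agent.KFlat.CellGen
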