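import Groth.Agent.KFlat.Assoc
import Groth.Agent.KFlat.LTensor

/-!
# `(- ⊗ᴸ K) ⊗ᴸ L = - ⊗ᴸ (K ⊗ L)` for `L` K-flat, and the adjoint statement
-/

set_option autoImplicit false

universe u

open CategoryTheory CategoryTheory.Limits AlgebraicGeometry

attribute [local instance] HasDerivedCategory.standard

namespace Groth.Agent.KFlat.LTensorAssoc

open Groth.Agent.KFlat.Pull Groth.Agent.KFlat.LTensor

variable {X : Scheme.{u}}

/-- The associator as an isomorphism of functors in the first variable. -/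
noncomputable def flipAssoc (K L : CochainComplex X.Modules ℤ) :
    DCoh.tensorCx.flip.obj K ⋙ DCoh.tensorCx.flip.obj L ≅
      DCoh.tensorCx.flip.obj ((DCoh.tensorCx.obj K).obj L) :=
  NatIso.ofComponents (fun P => Groth.Agent.KFlat.tensAssocIso X.sheaf P K L)
    (fun {P P'} φ => Groth.Agent.KFlat.tensAssocIso_naturality X.sheaf φ K L)

/-- The derived tensor product through resolutions. -/
noncomputable def ltIso (E : CochainComplex X.Modules ℤ) [DCoh.HasLTensorCx E] :
    DerivedCategory.Q ⋙ DCoh.LTensorCx E ≅ resY X ⋙ DCoh.tensorCxQ E :=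
  have : ∀ K, IsIso ((Functor.whiskerRight (resYπ X) (DerivedCategory.Q (C := X.Modules))).app K) := fun K =>
    have := quasiIso_resYπ (Y := X) K
    inferInstanceAs (IsIso (DerivedCategory.Q.map ((resYπ X).app K)))
  have : IsIso (Functor.whiskerRight (resYπ X) (DerivedCategory.Q (C := X.Modules))) := NatIso.isIso_of_isIso_app _
  have : IsIso (Functor.whiskerLeft (resY X) (toTensor E)) :=
    have : ∀ K, IsIso ((Functor.whiskerLeft (resY X) (toTensor E)).app K) := fun K => isIso_toTensor E (isKFlat_resY K)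
    NatIso.isIso_of_isIso_app _
  Functor.isoWhiskerRight ((Functor.leftUnitor _).symm ≪≫
      (asIso (Functor.whiskerRight (resYπ X) (DerivedCategory.Q (C := X.Modules)))).symm) _ ≪≫
    Functor.associator _ _ _ ≪≫ asIso (Functor.whiskerLeft (resY X) (toTensor E))

variable (K L : CochainComplex X.Modules ℤ) [DCoh.HasLTensorCx K] [DCoh.HasLTensorCx L]
  [DCoh.HasLTensorCx ((DCoh.tensorCx.obj K).obj L)]

/-- Associativity on complexes. -/
noncomputable def compQIso (hL : DCoh.IsKFlat L) :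
    DerivedCategory.Q ⋙ DCoh.LTensorCx K ⋙ DCoh.LTensorCx L ≅
      DerivedCategory.Q ⋙ DCoh.LTensorCx ((DCoh.tensorCx.obj K).obj L) :=
  have : IsIso (toTensor L) :=
    have : ∀ P, IsIso ((toTensor L).app P) := fun P => isIso_toTensor_of_kflat L hL P
    NatIso.isIso_of_isIso_app _
  (Functor.associator _ _ _).symm ≪≫ Functor.isoWhiskerRight (ltIso K) _ ≪≫
    Functor.associator _ _ _ ≪≫
    Functor.isoWhiskerLeft (resY X) (Functor.associator _ _ _ ≪≫
      Functor.isoWhiskerLeft _ (asIso (toTensor L)) ≪≫ (Functor.associator _ _ _).symm ≪≫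
      Functor.isoWhiskerRight (flipAssoc K L) DerivedCategory.Q) ≪≫
    (ltIso _).symm

/-- Associativity of the derived tensor product. -/
noncomputable def compIso (hL : DCoh.IsKFlat L) :
    DCoh.LTensorCx K ⋙ DCoh.LTensorCx L ≅ DCoh.LTensorCx ((DCoh.tensorCx.obj K).obj L) :=
  Localization.liftNatIso DerivedCategory.Q (HomologicalComplex.quasiIso X.Modules (ComplexShape.up ℤ))
    _ _ _ _ (compQIso K L hL)

/-- `RHom(K ⊗ L, -) = RHom(K, RHom(L, -))`. -/
noncomputable def rhomIso [DCoh.HasRSheafHom K] [DCoh.HasRSheafHom L]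
    [DCoh.HasRSheafHom ((DCoh.tensorCx.obj K).obj L)] (hL : DCoh.IsKFlat L) :
    DCoh.RSheafHom ((DCoh.tensorCx.obj K).obj L) ≅ DCoh.RSheafHom L ⋙ DCoh.RSheafHom K :=
  (DCoh.RSheafHomAdj ((DCoh.tensorCx.obj K).obj L)).rightAdjointUniq
    (((DCoh.RSheafHomAdj K).comp (DCoh.RSheafHomAdj L)).ofNatIsoLeft (compIso K L hL))

end Groth.Agent.KFlat.LTensorAssoc
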