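import Groth.Agent.KFlat.TotMap

/-!
# Naturality of the comparison of total complexes
-/

set_option autoImplicit false

open CategoryTheory CategoryTheory.Limits

namespace Groth.Agent.KFlat

variable {A B E A' B' E' : Type*} [Category A] [Category B] [Category E] [Category A'] [Category B']
  [Category E'] [Preadditive A] [Preadditive B] [Preadditive E] [Preadditive A'] [Preadditive B']
  [Preadditive E']
  (F : A ⥤ B ⥤ E) [F.Additive] [∀ X, (F.obj X).Additive]
  [∀ (K : CochainComplex A ℤ) (L : CochainComplex B ℤ),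
    HomologicalComplex.HasMapBifunctor K L F (ComplexShape.up ℤ)]
  (F' : A' ⥤ B' ⥤ E') [F'.Additive] [∀ X, (F'.obj X).Additive]
  [∀ (K : CochainComplex A' ℤ) (L : CochainComplex B' ℤ),
    HomologicalComplex.HasMapBifunctor K L F' (ComplexShape.up ℤ)]
  (GA : A ⥤ A') (GB : B ⥤ B') (G : E ⥤ E') [GA.Additive] [GB.Additive] [G.Additive]
  (e : ∀ a b, G.obj ((F.obj a).obj b) ≅ (F'.obj (GA.obj a)).obj (GB.obj b))
  (el : ∀ {a a' : A} (f : a ⟶ a') (b : B),
    G.map ((F.map f).app b) ≫ (e a' b).hom = (e a b).hom ≫ (F'.map (GA.map f)).app (GB.obj b))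
  (er : ∀ (a : A) {b b' : B} (g : b ⟶ b'),
    G.map ((F.obj a).map g) ≫ (e a b').hom = (e a b).hom ≫ (F'.obj (GA.obj a)).map (GB.map g))
  [∀ I : Type, PreservesColimitsOfShape (Discrete I) G]

theorem totMapIso_naturality_left {L L' : CochainComplex A ℤ} (f : L ⟶ L') (K : CochainComplex B ℤ) :
    (G.mapHomologicalComplex _).map (((tot F).map f).app K) ≫ (totMapIso F F' GA GB G e el er L' K).hom =
      (totMapIso F F' GA GB G e el er L K).hom ≫
        ((tot F').map ((GA.mapHomologicalComplex _).map f)).app ((GB.mapHomologicalComplex _).obj K) := by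
  refine HomologicalComplex.hom_ext _ _ fun n => ?_
  refine Cofan.IsColimit.hom_ext (isColimitMapTotι F G L K n) _ _ fun x => ?_
  obtain ⟨⟨p, q⟩, h⟩ := x
  change G.map (totι F L K p q n h) ≫ G.map ((((tot F).map f).app K).f n) ≫ (totMapX F F' GA GB G e L' K n).hom =
    G.map (totι F L K p q n h) ≫ (totMapX F F' GA GB G e L K n).hom ≫
      (((tot F').map ((GA.mapHomologicalComplex _).map f)).app ((GB.mapHomologicalComplex _).obj K)).f n
  rw [← Category.assoc, ← G.map_comp, totι_map_left, G.map_comp, Category.assoc, totι_totMapX,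
    ← Category.assoc (G.map (totι F L K p q n h)), totι_totMapX, Category.assoc, totι_map_left,
    ← Category.assoc, ← Category.assoc]
  exact congrArg (· ≫ _) (el (f.f p) (K.X q))

end Groth.Agent.KFlat
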