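import Groth.Agent.KFlat.ExtZeroTensor
import Groth.Agent.KFlat.TotMapNat
import Groth.Agent.KFlat.LTensorAssoc
import Groth.Agent.KFlat.LocalD

/-!
# Extension by zero and the derived tensor product; restriction of `RHom`
-/

set_option autoImplicit false

universe u

open CategoryTheory CategoryTheory.Limits AlgebraicGeometry
open Groth.Agent.KFlat.ProjFormula Groth.Agent.KFlat.Pull Groth.Agent.KFlat.LTensor
  Groth.Agent.KFlat.ExtZeroTensor Groth.Agent.KFlat.ProjFormulaClosed

attribute [local instance] HasDerivedCategory.standard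

namespace Groth.Agent.KFlat.ExtZeroTensorCx

variable {X : Scheme.{u}} (U : X.Opens)

/-- Extension by zero of complexes. -/
noncomputable abbrev jSc : CochainComplex (U : Scheme.{u}).Modules ℤ ⥤ CochainComplex X.Modules ℤ :=
  (CxOX.extZero U.ι).mapHomologicalComplex (ComplexShape.up ℤ)

instance preservesColimits_jS : PreservesColimitsOfSize.{0, 0} (CxOX.extZero U.ι) :=
  (CxOX.extZeroAdj U.ι).leftAdjoint_preservesColimits

variable (K : CochainComplex X.Modules ℤ)

/-- Identification of the bifunctor `(A, B) ↦ A ⊗ j^* B`. -/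
noncomputable def fpIso (L : CochainComplex (U : Scheme.{u}).Modules ℤ) :
    ((tot (FP U.ι)).obj L).obj K ≅ (DCoh.tensorCx.obj L).obj ((pullCx U.ι).obj K) :=
  totMapIso (FP U.ι) (DCoh.tensorBi (X := (U : Scheme.{u}))) (𝟭 _) (Scheme.Modules.pullback U.ι) (𝟭 _)
    (fun _ _ => Iso.refl _) (fun _ _ => (Category.comp_id _).trans (Category.id_comp _).symm)
    (fun _ _ _ _ => (Category.comp_id _).trans (Category.id_comp _).symm) L K

/-- The projection formula on complexes, before identification. -/
noncomputable def lamCxIso (L : CochainComplex (U : Scheme.{u}).Modules ℤ) :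
    (jSc U).obj (((tot (FP U.ι)).obj L).obj K) ≅ (DCoh.tensorCx.obj ((jSc U).obj L)).obj K :=
  totMapIso (FP U.ι) (DCoh.tensorBi (X := X)) (CxOX.extZero U.ι) (𝟭 X.Modules) (CxOX.extZero U.ι)
    (fun A B => asIso (lam U A B)) (fun φ B => lam_left U φ B) (fun A _ _ ψ => lam_right U A ψ) L K

theorem fpIso_natural {L L' : CochainComplex (U : Scheme.{u}).Modules ℤ} (f : L ⟶ L') :
    ((tot (FP U.ι)).map f).app K ≫ (fpIso U K L').hom =
      (fpIso U K L).hom ≫ (DCoh.tensorCx.map f).app ((pullCx U.ι).obj K) :=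
  totMapIso_naturality_left (FP U.ι) (DCoh.tensorBi (X := (U : Scheme.{u}))) (𝟭 _)
    (Scheme.Modules.pullback U.ι) (𝟭 _)
    (fun _ _ => Iso.refl _) (fun _ _ => (Category.comp_id _).trans (Category.id_comp _).symm)
    (fun _ _ _ _ => (Category.comp_id _).trans (Category.id_comp _).symm) f K

theorem lamCxIso_natural {L L' : CochainComplex (U : Scheme.{u}).Modules ℤ} (f : L ⟶ L') :
    (jSc U).map (((tot (FP U.ι)).map f).app K) ≫ (lamCxIso U K L').hom =
      (lamCxIso U K L).hom ≫ (DCoh.tensorCx.map ((jSc U).map f)).app K :=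
  totMapIso_naturality_left (FP U.ι) (DCoh.tensorBi (X := X)) (CxOX.extZero U.ι) (𝟭 X.Modules)
    (CxOX.extZero U.ι) (fun A B => asIso (lam U A B)) (fun φ B => lam_left U φ B)
    (fun A _ _ ψ => lam_right U A ψ) f K

/-- Pullback and restriction of a complex. -/
noncomputable def pullRestrictIso : (pullCx U.ι).obj K ≅ (DCoh.restrictCx U).obj K :=
  HomologicalComplex.Hom.isoOfComponents
    (fun n => ((Scheme.Modules.restrictFunctorIsoPullback U.ι).app (K.X n)).symm)
    fun i j _ => ((Scheme.Modules.restrictFunctorIsoPullback U.ι).inv.naturality (K.d i j)).symm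

/-- The projection formula for extension by zero, naturally in the first variable. -/
noncomputable def cxNatIso :
    jSc U ⋙ DCoh.tensorCx.flip.obj K ≅ DCoh.tensorCx.flip.obj ((DCoh.restrictCx U).obj K) ⋙ jSc U :=
  NatIso.ofComponents
    (fun L => (lamCxIso U K L).symm ≪≫
      (jSc U).mapIso (fpIso U K L ≪≫ (DCoh.tensorCx.obj L).mapIso (pullRestrictIso U K)))
    fun {L L'} f => by
      simp only [Functor.comp_map, Functor.flip_obj_map, Iso.trans_hom, Iso.symm_hom, Functor.mapIso_hom]
      rw [← Category.assoc, RPushTriangle.square_inv (lamCxIso U K L) (lamCxIso U K L') (lamCxIso_natural U K f),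
        Category.assoc, Category.assoc, ← Functor.map_comp, ← Functor.map_comp]
      refine congrArg (fun t => (lamCxIso U K L).inv ≫ (jSc U).map t) ?_
      refine (Category.assoc _ _ _).symm.trans ((congrArg (· ≫ _) (fpIso_natural U K f)).trans ?_)
      rw [Category.assoc, Category.assoc]
      exact congrArg ((fpIso U K L).hom ≫ ·) ((DCoh.tensorCx.map f).naturality (pullRestrictIso U K).hom).symm

/-- Extension by zero preserves K-flatness. -/
theorem isKFlat_extZero {P : CochainComplex (U : Scheme.{u}).Modules ℤ} (hP : DCoh.IsKFlat P) :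
    DCoh.IsKFlat ((jSc U).obj P) := by
  intro L hL
  have h1 : ((DCoh.restrictCx U).obj L).Acyclic := fun i => by
    have := Scheme.Modules.restrictFunctor U.ι
    exact ((L.exactAt_iff_isZero_homology i).2 (hL i)).map (Scheme.Modules.restrictFunctor U.ι)
  have h2 : ((DCoh.tensorCx.obj P).obj ((DCoh.restrictCx U).obj L)).Acyclic :=
    Groth.Agent.KFlat.acyclic_of_iso ((((Groth.Agent.KFlat.tensFlipIso (U : Scheme.{u}).sheaf).app P).app _))
      fun i => (HomologicalComplex.exactAt_iff_isZero_homology _ i).2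
        (hP _ (fun j => (HomologicalComplex.exactAt_iff_isZero_homology _ j).1 (h1 j)) i)
  have h3 : ((jSc U).obj ((DCoh.tensorCx.obj P).obj ((DCoh.restrictCx U).obj L))).Acyclic := fun i =>
    (h2 i).map (CxOX.extZero U.ι)
  have h4 : ((DCoh.tensorCx.obj ((jSc U).obj P)).obj L).Acyclic :=
    Groth.Agent.KFlat.acyclic_of_iso ((cxNatIso U L).app P).symm h3
  have h5 := Groth.Agent.KFlat.acyclic_of_iso
    (((Groth.Agent.KFlat.tensFlipIso X.sheaf).app ((jSc U).obj P)).app L).symm h4
  exact fun i => (HomologicalComplex.exactAt_iff_isZero_homology _ i).1 (h5 i)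

variable [DCoh.HasLTensorCx K] [DCoh.HasLTensorCx ((DCoh.restrictCx U).obj K)]

/-- The projection formula before passing to the derived category. -/
noncomputable def projQIso :
    DerivedCategory.Q ⋙ CxOX.extZeroD U.ι ⋙ DCoh.LTensorCx K ≅
      DerivedCategory.Q ⋙ DCoh.LTensorCx ((DCoh.restrictCx U).obj K) ⋙ CxOX.extZeroD U.ι :=
  have : ∀ P, IsIso ((Functor.whiskerLeft (resY (U : Scheme.{u}) ⋙ jSc U) (toTensor K)).app P) := fun P =>
    isIso_toTensor K (isKFlat_extZero U (isKFlat_resY P))
  have : IsIso (Functor.whiskerLeft (resY (U : Scheme.{u}) ⋙ jSc U) (toTensor K)) :=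
    NatIso.isIso_of_isIso_app _
  have : ∀ P, IsIso ((Functor.whiskerRight (resYπ (U : Scheme.{u}))
      (DerivedCategory.Q (C := (U : Scheme.{u}).Modules))).app P) := fun P =>
    have := quasiIso_resYπ (Y := (U : Scheme.{u})) P
    inferInstanceAs (IsIso (DerivedCategory.Q.map ((resYπ (U : Scheme.{u})).app P)))
  have : IsIso (Functor.whiskerRight (resYπ (U : Scheme.{u}))
      (DerivedCategory.Q (C := (U : Scheme.{u}).Modules))) := NatIso.isIso_of_isIso_app _
  let fQ := (CxOX.extZero U.ι).mapDerivedCategoryFactors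
  Functor.isoWhiskerRight ((Functor.leftUnitor _).symm ≪≫
      (asIso (Functor.whiskerRight (resYπ (U : Scheme.{u})) DerivedCategory.Q)).symm) _ ≪≫
    Functor.associator _ _ _ ≪≫
    Functor.isoWhiskerLeft (resY (U : Scheme.{u})) ((Functor.associator _ _ _).symm ≪≫
      Functor.isoWhiskerRight fQ _ ≪≫ Functor.associator _ _ _) ≪≫
    (Functor.associator _ _ _).symm ≪≫
    asIso (Functor.whiskerLeft (resY (U : Scheme.{u}) ⋙ jSc U) (toTensor K)) ≪≫
    Functor.associator _ _ _ ≪≫
    Functor.isoWhiskerLeft (resY (U : Scheme.{u})) ((Functor.associator _ _ _).symm ≪≫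
      Functor.isoWhiskerRight (cxNatIso U K) DerivedCategory.Q ≪≫ Functor.associator _ _ _ ≪≫
      Functor.isoWhiskerLeft _ fQ.symm ≪≫ (Functor.associator _ _ _).symm) ≪≫
    (Functor.associator _ _ _).symm ≪≫
    Functor.isoWhiskerRight (LTensorAssoc.ltIso ((DCoh.restrictCx U).obj K)).symm _ ≪≫
    Functor.associator _ _ _

/-- `j_! M ⊗ᴸ K ≅ j_! (M ⊗ᴸ K|_U)`. -/
noncomputable def projIso :
    CxOX.extZeroD U.ι ⋙ DCoh.LTensorCx K ≅
      DCoh.LTensorCx ((DCoh.restrictCx U).obj K) ⋙ CxOX.extZeroD U.ι :=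
  Localization.liftNatIso DerivedCategory.Q
    (HomologicalComplex.quasiIso (U : Scheme.{u}).Modules (ComplexShape.up ℤ)) _ _ _ _ (projQIso U K)

variable [DCoh.HasRSheafHom K] [DCoh.HasRSheafHom ((DCoh.restrictCx U).obj K)]

/-- Restriction commutes with internal hom. -/
noncomputable def restrictRHomIso :
    DCoh.RSheafHom K ⋙ DCoh.restrictD U.ι ≅
      DCoh.restrictD U.ι ⋙ DCoh.RSheafHom ((DCoh.restrictCx U).obj K) :=
  ((ExtZero.extZeroDAdj U).comp (DCoh.RSheafHomAdj K)).rightAdjointUniq
    (((DCoh.RSheafHomAdj ((DCoh.restrictCx U).obj K)).comp (ExtZero.extZeroDAdj U)).ofNatIsoLeft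
      (projIso U K).symm)

end Groth.Agent.KFlat.ExtZeroTensorCx
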