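import Groth.Agent.KFlat.QCohModel
import Groth.Agent.KFlat.LTensor
import Groth.Agent.KFlat.PullTensor
import Groth.Agent.LimTop.TensorQC
import Groth.Agent.QCoh.Exact

/-!
# Derived tensor products of objects with quasi-coherent cohomology
-/

set_option autoImplicit false

universe u

open CategoryTheory Limits AlgebraicGeometry TopologicalSpace
open Groth.Agent.KFlat.Pull Groth.Agent.KFlat.QCohModel

attribute [local instance] HasDerivedCategory.standard

namespace Groth.Agent.KFlat.QCohTensor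

variable {X : Scheme.{u}}

/-- Tensor products of complexes of quasi-coherent modules have quasi-coherent terms. -/
theorem isQuasicoherent_tensorCx_X (K L : CochainComplex X.Modules ℤ) (hK : ∀ i, (K.X i).IsQuasicoherent)
    (hL : ∀ i, (L.X i).IsQuasicoherent) (n : ℤ) : (((DCoh.tensorCx.obj K).obj L).X n).IsQuasicoherent := by
  let I := {i : ℤ × ℤ //
    ComplexShape.π (ComplexShape.up ℤ) (ComplexShape.up ℤ) (ComplexShape.up ℤ) i = n}
  let F := fun i : I => ((DCoh.tensorBi (X := X)).obj (K.X i.1.1)).obj (L.X i.1.2)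
  have hF : ∀ i : I, (F i).IsQuasicoherent := fun i =>
    @Groth.Agent.LimTop.TensorQC.isQuasicoherent_tensM X (K.X i.1.1) (L.X i.1.2) (hK _) (hL _)
  change (∐ F).IsQuasicoherent
  let e : Discrete (ULift.{u} I) ≌ Discrete I := Discrete.equivalence Equiv.ulift
  have := @Groth.Agent.QCoh.isQuasicoherent_colimit X (Discrete (ULift.{u} I)) _ (e.functor ⋙ Discrete.functor F)
    (fun i => hF i.as.down) _ _ _
  exact @Groth.Agent.QCoh.isQuasicoherent_of_iso X _ _
    (HasColimit.isoOfEquivalence e (Iso.refl (e.functor ⋙ Discrete.functor F))) this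

/-- Tensoring a K-flat complex is well defined on the derived category. -/
theorem exists_tensor_iso {A : CochainComplex X.Modules ℤ} (hA : DCoh.IsKFlat A)
    {B B' : CochainComplex X.Modules ℤ} (e : DerivedCategory.Q.obj B ≅ DerivedCategory.Q.obj B') :
    Nonempty (DerivedCategory.Q.obj ((DCoh.tensorCx.obj A).obj B) ≅
      DerivedCategory.Q.obj ((DCoh.tensorCx.obj A).obj B')) := by
  obtain ⟨W, s, hs, g, hg⟩ := DerivedCategory.right_fac e.hom
  have hs' : QuasiIso s := (DerivedCategory.isIso_Q_map_iff_quasiIso _ _).1 hs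
  have hg' : QuasiIso g := by
    refine (DerivedCategory.isIso_Q_map_iff_quasiIso _ _).1 ?_
    have : DerivedCategory.Q.map g = DerivedCategory.Q.map s ≫ e.hom := by rw [hg]; simp
    rw [this]; infer_instance
  have h₁ : IsIso (DerivedCategory.Q.map ((DCoh.tensorCx.obj A).map s)) :=
    (DerivedCategory.isIso_Q_map_iff_quasiIso _ _).2 (@LTensor.quasiIso_tensorCx_map_right X W A hA B s hs')
  have h₂ : IsIso (DerivedCategory.Q.map ((DCoh.tensorCx.obj A).map g)) :=
    (DerivedCategory.isIso_Q_map_iff_quasiIso _ _).2 (@LTensor.quasiIso_tensorCx_map_right X W A hA B' g hg')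
  exact ⟨(@asIso _ _ _ _ _ h₁).symm ≪≫ @asIso _ _ _ _ _ h₂⟩

/-- Tensor products with a fixed complex do not depend on the K-flat representative. -/
theorem exists_tensor_iso_left {A A' : CochainComplex X.Modules ℤ} (hA : DCoh.IsKFlat A) (hA' : DCoh.IsKFlat A')
    (B : CochainComplex X.Modules ℤ) (e : DerivedCategory.Q.obj A ≅ DerivedCategory.Q.obj A') :
    Nonempty (DerivedCategory.Q.obj ((DCoh.tensorCx.obj A).obj B) ≅
      DerivedCategory.Q.obj ((DCoh.tensorCx.obj A').obj B)) := by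
  have := LTensor.hasLTensorCx B
  exact ⟨(@asIso _ _ _ _ ((LTensor.toTensor B).app A) (LTensor.isIso_toTensor B hA)).symm ≪≫
    (DCoh.LTensorCx B).mapIso e ≪≫ @asIso _ _ _ _ ((LTensor.toTensor B).app A') (LTensor.isIso_toTensor B hA')⟩

theorem isQCohD_LTensorCx (F : CochainComplex X.Modules ℤ) (hF : DCoh.IsQCohD (DCoh.toD X F))
    [DCoh.HasLTensorCx F] (E : DCoh.D X) (hE : DCoh.IsQCohD E) : DCoh.IsQCohD ((DCoh.LTensorCx F).obj E) := by
  let P := (resY X).obj (DerivedCategory.Q.objPreimage E)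
  let e : DerivedCategory.Q.obj P ≅ E :=
    (resQIso (Y := X)).app _ ≪≫ DerivedCategory.Q.objObjPreimageIso E
  have hP : DCoh.IsKFlat P := isKFlat_resY _
  have hPq : DCoh.IsQCohD (DerivedCategory.Q.obj P : DCoh.D X) := isQCohD_of_iso e.symm hE
  refine isQCohD_of_iso ((@asIso _ _ _ _ ((LTensor.toTensor F).app P) (LTensor.isIso_toTensor F hP)).symm ≪≫
    (DCoh.LTensorCx F).mapIso e) ?_
  refine isQCohD_of_local _ fun x => ?_
  obtain ⟨U, hU, hxU, -⟩ := Opens.isBasis_iff_nbhd.1 X.isBasis_affineOpens (Opens.mem_top x)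
  have hU : IsAffineOpen U := hU
  refine ⟨U, hU, hxU, ?_⟩
  let j := hU.fromSpec
  obtain ⟨A, hA, hAq, ⟨eA⟩⟩ := exists_model_restr j P hPq
  obtain ⟨B, hB, hBq, ⟨eB⟩⟩ := exists_model_restr j F hF
  obtain ⟨e₁⟩ := exists_tensor_iso_left hA (isKFlat_pullCx j hP) B eA
  obtain ⟨e₂⟩ := exists_tensor_iso (isKFlat_pullCx j hP) eB
  refine isQCohD_of_iso (e₁ ≪≫ e₂ ≪≫ DerivedCategory.Q.mapIso (PullTensor.pullTensorCxIso j P F).symm)
    (isQCohD_Q_of_terms _ (isQuasicoherent_tensorCx_X A B hAq hBq))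

end Groth.Agent.KFlat.QCohTensor
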