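import Groth.Agent.KFlat.StrictDual
import Groth.Agent.KFlat.ExtZeroTensorCx
import Groth.Agent.KFlat.QCohTensor

/-!
# `RHom` out of a perfect complex, locally
-/

set_option autoImplicit false

universe u

open CategoryTheory CategoryTheory.Limits AlgebraicGeometry
open Groth.Agent.KFlat.DualAdj

attribute [local instance] HasDerivedCategory.standard

namespace Groth.Agent.KFlat.RHomLocal

variable {X : Scheme.{u}} (K : CochainComplex X.Modules ℤ)

/-- Local description of `RHom` out of a perfect complex. -/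
theorem exists_local [DCoh.HasLTensorCx K] [DCoh.HasRSheafHom K] (hK : DCoh.IsPerfect (DCoh.toD X K))
    (x : X) (W : X.Opens) (hW : x ∈ W) :
    ∃ (V : X.Opens) (_ : x ∈ V) (_ : V ≤ W) (E E' : CochainComplex (V : Scheme.{u}).Modules ℤ)
      (_ : StrictPair (Coh.structureModule (V : Scheme.{u})) E E') (_ : DCoh.HasLTensorCx E')
      (_ : IsAffineOpen V) (_ : DerivedCategory.Q.obj ((DCoh.restrictCx V).obj K) ≅ DerivedCategory.Q.obj E),
      Nonempty (DCoh.RSheafHom K ⋙ DCoh.restrictD V.ι ≅ DCoh.restrictD V.ι ⋙ DCoh.LTensorCx E') := by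
  obtain ⟨V, hxV, hVW, E, E', P, hV, ⟨e⟩⟩ := StrictDual.exists_pair hK x W hW K ⟨Iso.refl _⟩
  have := LTensor.hasLTensorCx E
  have := LTensor.hasLTensorCx E'
  have := LTensor.hasLTensorCx ((DCoh.restrictCx V).obj K)
  obtain ⟨c⟩ := StrictDual.nonempty_ltCongr e
  let adj := (StrictDual.adjLT P).ofNatIsoLeft c.symm
  have : DCoh.HasRSheafHom ((DCoh.restrictCx V).obj K) := adj.isLeftAdjoint
  exact ⟨V, hxV, hVW, E, E', P, inferInstance, hV, e, ⟨ExtZeroTensorCx.restrictRHomIso V K ≪≫
    Functor.isoWhiskerLeft _ ((DCoh.RSheafHomAdj _).rightAdjointUniq adj)⟩⟩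

/-- `RHom(perfect, qcoh)` has quasi-coherent cohomology. -/
theorem isQCohD_RSheafHom [DCoh.HasLTensorCx K] [DCoh.HasRSheafHom K]
    (hK : DCoh.IsPerfect (DCoh.toD X K)) (L : DCoh.D X) (hL : DCoh.IsQCohD L) :
    DCoh.IsQCohD ((DCoh.RSheafHom K).obj L) := fun i => by
  choose V hxV _ E E' P hLT hV e hiso using fun x : X => exists_local K hK x ⊤ trivial
  have hres : ∀ x, ((((DerivedCategory.homologyFunctor X.Modules i).obj ((DCoh.RSheafHom K).obj L))).restrict
      (V x).ι).IsQuasicoherent := fun x => by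
    have := hLT x
    obtain ⟨w⟩ := hiso x
    have hE' : DCoh.IsQCohD (DCoh.toD (V x : Scheme.{u}) (E' x)) :=
      QCohModel.isQCohD_Q_of_terms _ fun j => PerfTri.Betti.isQuasicoherent_of_isFinLocFree
        ((StrictDual.isStrictlyPerfect_right (P x)).2 j)
    have hL' : DCoh.IsQCohD ((DCoh.restrictD (V x).ι).obj L) := fun j => by
      have h := @Scheme.Modules.isQuasicoherent_restrictFunctor _ _ (V x).ι _ _ (hL j)
      exact @Groth.Agent.QCoh.isQuasicoherent_of_iso _ _ _
        ((MapHomology.iso (Scheme.Modules.restrictFunctor (V x).ι) j).app L).symm h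
    exact @Groth.Agent.QCoh.isQuasicoherent_of_iso _ _ _
      ((DerivedCategory.homologyFunctor _ i).mapIso (w.app L).symm ≪≫
        (MapHomology.iso (Scheme.Modules.restrictFunctor (V x).ι) i).app ((DCoh.RSheafHom K).obj L))
      (QCohTensor.isQCohD_LTensorCx (E' x) hE' _ hL' i)
  exact Groth.Agent.QCoh.isQuasicoherent_of_isOpenCover _ V
    (TopologicalSpace.IsOpenCover.mk (top_unique fun x _ => TopologicalSpace.Opens.mem_iSup.2 ⟨x, hxV x⟩))

end Groth.Agent.KFlat.RHomLocal
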