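import Groth.Agent.KFlat.RHomExists
import Groth.Agent.KFlat.LocFree
import Groth.Agent.ModShf.GrothAb
import Groth.Agent.KFlat.RHomLocal
import Groth.Agent.KFlat.Shift
import Groth.Agent.KFlat.Cells
import Groth.Agent.SitePull.Stable
import Mathlib.CategoryTheory.Functor.Derived.LeftDerived
import Mathlib.CategoryTheory.Adjunction.Mates
import Mathlib.CategoryTheory.Triangulated.Yoneda

/-!
# `RHom(-, G)` in low degrees only depends on an approximation
-/

set_option autoImplicit false

universe u

open CategoryTheory CategoryTheory.Limits AlgebraicGeometry Opposite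
open CategoryTheory.Pretriangulated
open Groth.Agent.KFlat Groth.Agent.SitePull

attribute [local instance] HasDerivedCategory.standard

namespace Groth.Agent.KFlat.RHomApprox

section Generic

variable {A : Type (u + 1)} [Category.{u} A] [Abelian A]

theorem isLE_of_isZero_homology (K : CochainComplex A ℤ) (b : ℤ) (h : ∀ i, b < i → IsZero (K.homology i)) :
    (DerivedCategory.Q.obj K).IsLE b := by
  rw [DerivedCategory.isLE_iff]
  exact fun i hi => (h i hi).of_iso ((DerivedCategory.homologyFunctorFactors A i).app K)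

/-- Maps into an object in high degrees do not see cokernels in low degrees. -/
theorem bijective_of_shortExact {S : ShortComplex (CochainComplex A ℤ)} (hS : S.ShortExact) (b r : ℤ)
    (hb : ∀ i, b < i → IsZero (S.X₃.homology i)) (G : DerivedCategory A) [G.IsGE r] (hbr : b + 1 < r) :
    Function.Bijective fun z : DerivedCategory.Q.obj S.X₂ ⟶ G => DerivedCategory.Q.map S.f ≫ z := by
  have hT := DerivedCategory.triangleOfSES_distinguished hS
  have : (DerivedCategory.Q.obj S.X₃).IsLE b := isLE_of_isZero_homology _ b hb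
  let t := DerivedCategory.TStructure.t (C := A)
  have h0 : ∀ z : DerivedCategory.Q.obj S.X₃ ⟶ G, z = 0 := fun z =>
    t.zero_of_isLE_of_isGE z b r (by omega) inferInstance inferInstance
  have : t.IsLE ((DerivedCategory.Q.obj S.X₃)⟦(-1 : ℤ)⟧) (b + 1) :=
    t.isLE_shift (DerivedCategory.Q.obj S.X₃) b (-1) (b + 1) (by omega)
  have h1 : ∀ z : (DerivedCategory.Q.obj S.X₃)⟦(-1 : ℤ)⟧ ⟶ G, z = 0 := fun z =>
    t.zero_of_isLE_of_isGE z (b + 1) r (by omega) inferInstance inferInstance
  refine ⟨fun z z' hz => sub_eq_zero.1 ?_, fun z => ?_⟩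
  · obtain ⟨w, hw⟩ := Triangle.yoneda_exact₂ _ hT (z - z') (by
      change DerivedCategory.Q.map S.f ≫ (z - z') = 0
      rw [Preadditive.comp_sub, sub_eq_zero]
      exact hz)
    exact hw.trans ((congrArg _ (h0 w)).trans comp_zero)
  · obtain ⟨w, hw⟩ := Triangle.yoneda_exact₂ _ (inv_rot_of_distTriang _ hT) z (h1 _)
    exact ⟨w, hw.symm⟩

/-- A complex with bounded above cohomology is quasi-isomorphic to a strictly bounded one. -/
theorem exists_truncLE (K : CochainComplex A ℤ) (b : ℤ) (h : ∀ i, b < i → IsZero (K.homology i)) :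
    ∃ (K' : CochainComplex A ℤ) (q : K' ⟶ K), QuasiIso q ∧ ∀ i, b < i → IsZero (K'.X i) := by
  have : K.IsLE b := (CochainComplex.isLE_iff K b).2 fun i hi => by
    rw [HomologicalComplex.exactAt_iff_isZero_homology]; exact h i hi
  exact ⟨K.truncLE b, K.ιTruncLE b, inferInstance, fun i hi => CochainComplex.isZero_of_isStrictlyLE _ b i hi⟩

/-- Every morphism factors through a degreewise split monomorphism up to quasi-isomorphism. -/
theorem exists_splitMono {Z F : CochainComplex A ℤ} (φ : Z ⟶ F) :
    ∃ (F₁ : CochainComplex A ℤ) (i : Z ⟶ F₁) (p : F₁ ⟶ F), QuasiIso p ∧ i ≫ p = φ ∧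
      ∀ n, ∃ r : F₁.X n ⟶ Z.X n, i.f n ≫ r = 𝟙 _ := by
  let M := CochainComplex.mappingCone (𝟙 Z)
  refine ⟨F ⊞ M, biprod.lift φ (CochainComplex.mappingCone.inr (𝟙 Z)), biprod.fst, ?_, biprod.lift_fst _ _, fun n =>
    ⟨(biprod.snd : F ⊞ M ⟶ M).f n ≫ (CochainComplex.mappingCone.snd (𝟙 Z)).v n n (add_zero n), ?_⟩⟩
  · have hs : (ShortComplex.mk (biprod.inr : M ⟶ F ⊞ M) biprod.fst biprod.inr_fst).ShortExact :=
      (({ r := biprod.snd, s := biprod.inl,
           f_r := biprod.inr_snd, s_g := biprod.inl_fst,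
           id := by rw [add_comm]; exact biprod.total } :
          (ShortComplex.mk (biprod.inr : M ⟶ F ⊞ M) biprod.fst biprod.inr_fst).Splitting)).shortExact
    exact quasiIso_g_of_acyclic hs (acyclic_mappingCone_id Z)
  · rw [← Category.assoc, ← HomologicalComplex.comp_f, biprod.lift_snd]
    exact CochainComplex.mappingCone.inr_f_snd_v (𝟙 Z) n

theorem homology_cokernel_isZero {Z F : CochainComplex A ℤ} (i : Z ⟶ F) [Mono i] (n : ℤ)
    (h₁ : ∀ k, n < k → IsIso (HomologicalComplex.homologyMap i k)) (h₂ : Epi (HomologicalComplex.homologyMap i n))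
    (k : ℤ) (hk : n ≤ k) : IsZero ((cokernel i).homology k) := by
  let S := ShortComplex.mk i (cokernel.π i) (cokernel.condition i)
  have hS : S.ShortExact :=
    { exact := ShortComplex.exact_of_g_is_cokernel _ (cokernelIsCokernel i)
      mono_f := inferInstanceAs (Mono i)
      epi_g := inferInstanceAs (Epi (cokernel.π i)) }
  have : Epi (HomologicalComplex.homologyMap i k) := by
    rcases eq_or_lt_of_le hk with rfl | hk'
    · exact h₂
    · have := h₁ k hk'; infer_instance
  have hg : HomologicalComplex.homologyMap S.g k = 0 := by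
    have := (hS.homology_exact₂ k).epi_f_iff |>.1 ‹_›
    exact this
  have hd : Mono (hS.δ k (k + 1) rfl) := (hS.homology_exact₃ k (k + 1) rfl).mono_g hg
  have := h₁ (k + 1) (by omega)
  have hd0 : hS.δ k (k + 1) rfl = 0 := (cancel_mono (HomologicalComplex.homologyMap i (k + 1))).1
    ((hS.δ_comp k (k + 1) rfl).trans zero_comp.symm)
  exact IsZero.of_mono_eq_zero _ hd0

theorem bij_congr {α β : Sort*} {f g : α → β} (h : ∀ x, g x = f x) (hf : Function.Bijective f) :
    Function.Bijective g := (funext h : g = f) ▸ hf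

end Generic

variable {X : Scheme.{u}}

theorem isZero_tot_single (M : X.Modules) (j b : ℤ) (L : CochainComplex X.Modules ℤ)
    (hL : ∀ i, b < i → IsZero (L.X i)) (k : ℤ) (hk : j + b < k) :
    IsZero ((((DCoh.tensorCx (X := X)).obj
      ((HomologicalComplex.single X.Modules (ComplexShape.up ℤ) j).obj M)).obj L).X k) := by
  rw [IsZero.iff_id_eq_zero]
  refine tot_hom_ext fun p q hpq => ?_
  refine IsZero.eq_of_src ?_ _ _
  by_cases hp : p = j
  · exact Functor.map_isZero ((ModSite.tensorBi X.sheaf).obj _) (hL q (by omega))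
  · exact Functor.map_isZero ((ModSite.tensorBi X.sheaf).flip.obj _)
      (HomologicalComplex.isZero_single_obj_X _ _ _ _ hp)

/-- Tensoring with a flat module in one degree preserves approximations. -/
theorem bijective_tensor (M : X.Modules) (hM : TensorMono M) (j n r : ℤ) (hj : j + n < r)
    {Z F : CochainComplex X.Modules ℤ} (φ : Z ⟶ F)
    (h₁ : ∀ k, n < k → IsIso (HomologicalComplex.homologyMap φ k)) (h₂ : Epi (HomologicalComplex.homologyMap φ n))
    (G : DCoh.D X) [G.IsGE r] :
    Function.Bijective fun z : DerivedCategory.Q.obj (((DCoh.tensorCx (X := X)).obj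
        ((HomologicalComplex.single X.Modules (ComplexShape.up ℤ) j).obj M)).obj F) ⟶ G =>
      DerivedCategory.Q.map (((DCoh.tensorCx (X := X)).obj
        ((HomologicalComplex.single X.Modules (ComplexShape.up ℤ) j).obj M)).map φ) ≫ z := by
  let P := (HomologicalComplex.single X.Modules (ComplexShape.up ℤ) j).obj M
  have hP : DCoh.IsKFlat P := isKFlat_single (O := X.sheaf) hM j
  obtain ⟨F₁, i, p, hp, rfl, hr⟩ := exists_splitMono φ
  choose r₀ hr₀ using hr
  have : Mono i := HomologicalComplex.mono_of_mono_f _ fun k => mono_of_mono_fac (hr₀ k)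
  have hz : ∀ k, n ≤ k → IsZero ((cokernel i).homology k) := by
    refine homology_cokernel_isZero i n (fun k hk => ?_) ?_
    · have := h₁ k hk
      rw [HomologicalComplex.homologyMap_comp] at this
      exact IsIso.of_isIso_comp_right _ (HomologicalComplex.homologyMap p k)
    · rw [HomologicalComplex.homologyMap_comp] at h₂
      have e : HomologicalComplex.homologyMap i n = (HomologicalComplex.homologyMap i n ≫
          HomologicalComplex.homologyMap p n) ≫ inv (HomologicalComplex.homologyMap p n) := by simp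
      rw [e]
      exact epi_comp _ _
  let S := ShortComplex.mk i (cokernel.π i) (cokernel.condition i)
  have hS : S.ShortExact :=
    { exact := ShortComplex.exact_of_g_is_cokernel _ (cokernelIsCokernel i)
      mono_f := inferInstanceAs (Mono i)
      epi_g := inferInstanceAs (Epi (cokernel.π i)) }
  let σ : ∀ k, (S.map (HomologicalComplex.eval X.Modules (ComplexShape.up ℤ) k)).Splitting := fun k =>
    ShortComplex.Splitting.ofExactOfRetraction _ (hS.map_of_exact _).exact (r₀ k) (hr₀ k)
      (hS.map_of_exact _).epi_g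
  have hS' : (S.map ((DCoh.tensorCx (X := X)).obj P)).ShortExact := shortExact_tens (O := X.sheaf) σ P
  obtain ⟨C', q, hq, hC'⟩ := exists_truncLE (cokernel i) (n - 1) fun k hk => hz k (by omega)
  have := LTensor.quasiIso_tensorCx_map_right _ hP q
  have hb : ∀ k, j + (n - 1) < k → IsZero (((S.map ((DCoh.tensorCx (X := X)).obj P)).X₃).homology k) := fun k hk =>
    IsZero.of_iso ((HomologicalComplex.exactAt_iff_isZero_homology _ _).1
      (HomologicalComplex.ExactAt.of_isZero (isZero_tot_single M j (n - 1) C' hC' k hk)))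
      (asIso (HomologicalComplex.homologyMap (((DCoh.tensorCx (X := X)).obj P).map q) k)).symm
  have hbij := bijective_of_shortExact hS' (j + (n - 1)) r hb G (by omega)
  have := LTensor.quasiIso_tensorCx_map_right _ hP p
  let pD := DerivedCategory.Q.map (((DCoh.tensorCx (X := X)).obj P).map p)
  have hp' : Function.Bijective fun z : DerivedCategory.Q.obj (((DCoh.tensorCx (X := X)).obj P).obj F) ⟶ G => pD ≫ z :=
    ⟨fun a b hab => (cancel_epi pD).1 hab, fun y => ⟨inv pD ≫ y, by simp⟩⟩
  refine bij_congr (fun z => ?_) (hbij.comp hp')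
  simp only [Function.comp_apply, pD, S, ShortComplex.map_f]
  rw [Functor.map_comp, Functor.map_comp, Category.assoc]
  rfl

section Site

variable {C : Type u} [SmallCategory C] {J : GrothendieckTopology C} {O : Sheaf J CommRingCat.{u}}

/-- A map is an isomorphism on `H^j` if it is bijective on maps from shifted free modules. -/
theorem isIso_H_of_bijective {M M' : DerivedCategory (ModSite.Mod O)} (t : M ⟶ M') (j : ℤ)
    (h : ∀ W : C, Function.Bijective
      fun y : (DerivedCategory.singleFunctor (ModSite.Mod O) j).obj (freeU O W) ⟶ M => y ≫ t) :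
    IsIso ((DerivedCategory.homologyFunctor (ModSite.Mod O) j).map t) := by
  let g := (DerivedCategory.homologyFunctor (ModSite.Mod O) j).map t
  have hm : Mono g := PullFlat.mono_of_appS_injective g fun V x hx => by
    obtain ⟨S, hS, hy⟩ := exists_cover_hom M j x
    refine PullFlat.eq_zero_of_locally _ hS x fun W a ha => ?_
    obtain ⟨y, hy⟩ := hy a ha
    have h0 : TruncHom.Φ (freeU O W) j M' (y ≫ t) = 0 := by
      apply (freeUEquiv W _).injective
      rw [TruncHom.Φ_comp, freeUEquiv_comp_appS, hy, PullFlat.appS_res, hx, map_zero, freeUEquiv_zero]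
    obtain ⟨S', hS', h'⟩ := exists_cover_zero (y ≫ t) h0
    refine PullFlat.eq_zero_of_locally _ hS' _ fun W' b hb => ?_
    have h1 : (DerivedCategory.singleFunctor (ModSite.Mod O) j).map (gmap b) ≫ y = 0 :=
      (h W').1 (((Category.assoc _ _ _).trans (h' b hb)).trans zero_comp.symm)
    have h2 := congrArg (TruncHom.Φ (freeU O W') j M) h1
    rw [Φ_map_comp] at h2
    have h3 := congrArg (freeUEquiv W' _) h2
    rw [gmap_comp, hy] at h3
    rw [h3, TruncHom.Φ_apply, Functor.map_zero, comp_zero, freeUEquiv_zero]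
  have he : Epi g := epi_of_locally_surjective g fun V x => by
    obtain ⟨S, hS, hy⟩ := exists_cover_hom M' j x
    refine ⟨S, hS, fun W a ha => ?_⟩
    obtain ⟨y', hy'⟩ := hy a ha
    obtain ⟨y, rfl⟩ := (h W).2 y'
    refine ⟨freeUEquiv W _ (TruncHom.Φ (freeU O W) j M y), ?_⟩
    rw [← freeUEquiv_comp_appS, ← TruncHom.Φ_comp]
    exact hy'
  exact isIso_of_mono_of_epi g

end Site

theorem isPerfect_toD {Y : Scheme.{u}} {E : CochainComplex Y.Modules ℤ} (h : DCoh.IsStrictlyPerfect E) :
    DCoh.IsPerfect (DCoh.toD Y E) := fun x =>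
  ⟨⊤, trivial, fun F ⟨e⟩ => ⟨(DCoh.restrictCx ⊤).obj E, LocFree.isStrictlyPerfect_restrict h ⊤,
    ⟨((Scheme.Modules.restrictFunctor (⊤ : Y.Opens).ι).mapDerivedCategoryFactors.app F).symm ≪≫
      (DCoh.restrictD (⊤ : Y.Opens).ι).mapIso e ≪≫
      (Scheme.Modules.restrictFunctor (⊤ : Y.Opens).ι).mapDerivedCategoryFactors.app E⟩⟩⟩

variable {Z F : CochainComplex X.Modules ℤ} (φ : Z ⟶ F) [DCoh.HasLTensorCx Z] [DCoh.HasLTensorCx F]
  [DCoh.HasRSheafHom Z] [DCoh.HasRSheafHom F]

/-- Functoriality of the derived tensor product in the fixed complex. -/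
noncomputable def ltMap : DCoh.LTensorCx Z ⟶ DCoh.LTensorCx F :=
  Functor.leftDerivedNatTrans (DCoh.LTensorCx Z) (DCoh.LTensorCx F) (LTensor.toTensor Z) (LTensor.toTensor F)
    (HomologicalComplex.quasiIso X.Modules (ComplexShape.up ℤ))
    (Functor.whiskerRight ((DCoh.tensorCx (X := X)).flip.map φ) DerivedCategory.Q)

/-- Contravariance of `RHom`. -/
noncomputable def rhomMap : DCoh.RSheafHom F ⟶ DCoh.RSheafHom Z :=
  conjugateEquiv (DCoh.RSheafHomAdj F) (DCoh.RSheafHomAdj Z) (ltMap φ)

theorem homEquiv_symm_rhomMap {N G : DCoh.D X} (y : N ⟶ (DCoh.RSheafHom F).obj G) :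
    ((DCoh.RSheafHomAdj Z).homEquiv N G).symm (y ≫ (rhomMap φ).app G) =
      (ltMap φ).app N ≫ ((DCoh.RSheafHomAdj F).homEquiv N G).symm y := by
  rw [Adjunction.homEquiv_counit, Adjunction.homEquiv_counit, Functor.map_comp, Category.assoc]
  refine (congrArg (_ ≫ ·) (conjugateEquiv_counit (DCoh.RSheafHomAdj F) (DCoh.RSheafHomAdj Z) (ltMap φ) G)).trans ?_
  exact (Category.assoc _ _ _).symm.trans ((congrArg (· ≫ _) ((ltMap φ).naturality y)).trans (Category.assoc _ _ _))

/-- `RHom` out of an approximation agrees in low degrees. -/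
theorem isIso_H_rhomMap (j n r : ℤ) (hj : j + n < r)
    (h₁ : ∀ k, n < k → IsIso (HomologicalComplex.homologyMap φ k)) (h₂ : Epi (HomologicalComplex.homologyMap φ n))
    (G : DCoh.D X) [G.IsGE r] :
    IsIso ((DerivedCategory.homologyFunctor X.Modules j).map ((rhomMap φ).app G)) := by
  refine isIso_H_of_bijective _ j fun W => ?_
  let P := (HomologicalComplex.single X.Modules (ComplexShape.up ℤ) j).obj (freeU X.sheaf W)
  have hP : DCoh.IsKFlat P := isKFlat_single (O := X.sheaf) (tensorMono_freeU W) j
  let σ : (DerivedCategory.singleFunctor X.Modules j).obj (freeU X.sheaf W) ≅ DerivedCategory.Q.obj P :=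
    ((SingleFunctors.evaluation _ _ j).mapIso (DerivedCategory.singleFunctorsPostcompQIso X.Modules)).app _
  have := LTensor.isIso_toTensor Z hP
  have := LTensor.isIso_toTensor F hP
  let aZ := (DCoh.LTensorCx Z).mapIso σ ≪≫ asIso ((LTensor.toTensor Z).app P)
  let aF := (DCoh.LTensorCx F).mapIso σ ≪≫ asIso ((LTensor.toTensor F).app P)
  have hsq : (ltMap φ).app _ ≫ aF.hom =
      aZ.hom ≫ DerivedCategory.Q.map (((DCoh.tensorCx (X := X)).obj P).map φ) := by
    change (ltMap φ).app _ ≫ (DCoh.LTensorCx F).map σ.hom ≫ (LTensor.toTensor F).app P =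
      ((DCoh.LTensorCx Z).map σ.hom ≫ (LTensor.toTensor Z).app P) ≫ _
    rw [← Category.assoc, ← (ltMap φ).naturality, Category.assoc, Category.assoc]
    refine congrArg (_ ≫ ·) ?_
    exact Functor.leftDerivedNatTrans_app _ _ _ _ _ _ P
  have hb := bijective_tensor (freeU X.sheaf W) (tensorMono_freeU W) j n r hj φ h₁ h₂ G
  have hτ : Function.Bijective fun z : (DCoh.LTensorCx F).obj
      ((DerivedCategory.singleFunctor X.Modules j).obj (freeU X.sheaf W)) ⟶ G => (ltMap φ).app _ ≫ z := by
    have h3 : Function.Bijective fun z : (DCoh.LTensorCx F).obj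
        ((DerivedCategory.singleFunctor X.Modules j).obj (freeU X.sheaf W)) ⟶ G => aF.inv ≫ z :=
      ⟨fun a b hab => (cancel_epi aF.inv).1 hab, fun y => ⟨aF.hom ≫ y, by simp⟩⟩
    have h4 : Function.Bijective fun z : DerivedCategory.Q.obj (((DCoh.tensorCx (X := X)).obj P).obj Z) ⟶ G => aZ.hom ≫ z :=
      ⟨fun a b hab => (cancel_epi aZ.hom).1 hab, fun y => ⟨aZ.inv ≫ y, by simp⟩⟩
    refine bij_congr (fun z => ?_) (h4.comp (hb.comp h3))
    simp only [Function.comp_apply]
    rw [← Category.assoc, ← hsq, Category.assoc, aF.hom_inv_id_assoc]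
  have hh := (((DCoh.RSheafHomAdj Z).homEquiv _ G).bijective.comp
    (hτ.comp ((DCoh.RSheafHomAdj F).homEquiv _ G).symm.bijective))
  refine bij_congr (fun y => ?_) hh
  simp only [Function.comp_apply]
  rw [← homEquiv_symm_rhomMap, Equiv.apply_symm_apply]
  rfl

/-- Quasi-coherence of `RHom` out of a pseudo-coherent complex in low degrees. -/
theorem isQCoh_HD_RSheafHom (K : CochainComplex X.Modules ℤ) (n : ℤ)
    (hK : DCoh.IsPseudoCoherentD n (DCoh.toD X K)) [DCoh.HasLTensorCx K] [DCoh.HasRSheafHom K]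
    (G : DCoh.D X) (hG : DCoh.IsQCohD G) (r : ℤ) (hGr : ∀ m : ℤ, m < r → IsZero (DCoh.HD G m))
    (j : ℤ) (hj : j < r - n) : Coh.IsQCoh (DCoh.HD ((DCoh.RSheafHom K).obj G) j) := by
  choose V hxV hV using hK
  have hres : ∀ x, ((((DerivedCategory.homologyFunctor X.Modules j).obj ((DCoh.RSheafHom K).obj G))).restrict
      (V x).ι).IsQuasicoherent := fun x => by
    obtain ⟨E, α, hE, h₁, h₂⟩ := hV x K ⟨Iso.refl _⟩
    let K' := (DCoh.restrictCx (V x)).obj K
    obtain ⟨Z, s, hs, g, hg⟩ := DerivedCategory.right_fac α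
    have := hs
    let H := fun k => DerivedCategory.homologyFunctor (V x : Scheme.{u}).Modules k
    have hgs : DerivedCategory.Q.map g = DerivedCategory.Q.map s ≫ α := by rw [hg]; simp
    have hn₁ : ∀ k, n < k → IsIso (HomologicalComplex.homologyMap g k) := fun k hk => by
      have := h₁ k hk
      refine (NatIso.isIso_map_iff (DerivedCategory.homologyFunctorFactors (V x : Scheme.{u}).Modules k) g).1 ?_
      change IsIso ((H k).map (DerivedCategory.Q.map g))
      rw [hgs, Functor.map_comp]
      infer_instance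
    have hn₂ : Epi (HomologicalComplex.homologyMap g n) := by
      have : Epi ((H n).map (DerivedCategory.Q.map g)) := by
        rw [hgs, Functor.map_comp]
        exact epi_comp _ _
      let Φn := DerivedCategory.homologyFunctorFactors (V x : Scheme.{u}).Modules n
      have e2 : HomologicalComplex.homologyMap g n = (Φn.app Z).inv ≫ (H n).map (DerivedCategory.Q.map g) ≫
          (Φn.app K').hom := (NatIso.naturality_1 Φn g).symm
      rw [e2]
      exact epi_comp' inferInstance (epi_comp' this inferInstance)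
    have := LTensor.hasLTensorCx K'
    have := LTensor.hasLTensorCx Z
    have := RHomExists.hasRSheafHom (E := K')
    have := RHomExists.hasRSheafHom (E := Z)
    have hZp : DCoh.IsPerfect (DCoh.toD (V x : Scheme.{u}) Z) :=
      PerfTri.Perfect.isPerfect_of_iso (asIso (DerivedCategory.Q.map s)).symm (isPerfect_toD hE)
    let G' := (DCoh.restrictD (V x).ι).obj G
    have hG' : DCoh.IsQCohD G' := fun i => by
      have h := @Scheme.Modules.isQuasicoherent_restrictFunctor _ _ (V x).ι _ _ (hG i)
      exact @Groth.Agent.QCoh.isQuasicoherent_of_iso _ _ _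
        ((MapHomology.iso (Scheme.Modules.restrictFunctor (V x).ι) i).app G).symm h
    have : G'.IsGE r := (DerivedCategory.isGE_iff _ r).2 fun i hi =>
      IsZero.of_iso ((Scheme.Modules.restrictFunctor (V x).ι).map_isZero (hGr i hi))
        ((MapHomology.iso (Scheme.Modules.restrictFunctor (V x).ι) i).app G)
    have := isIso_H_rhomMap g j n r (by omega) hn₁ hn₂ G'
    have hq : ((DerivedCategory.homologyFunctor _ j).obj ((DCoh.RSheafHom Z).obj G')).IsQuasicoherent :=
      RHomLocal.isQCohD_RSheafHom Z hZp G' hG' j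
    exact @Groth.Agent.QCoh.isQuasicoherent_of_iso _ _ _
      ((asIso ((DerivedCategory.homologyFunctor _ j).map ((rhomMap g).app G'))).symm ≪≫
        (DerivedCategory.homologyFunctor _ j).mapIso ((ExtZeroTensorCx.restrictRHomIso (V x) K).app G).symm ≪≫
        (MapHomology.iso (Scheme.Modules.restrictFunctor (V x).ι) j).app ((DCoh.RSheafHom K).obj G)) hq
  exact Groth.Agent.QCoh.isQuasicoherent_of_isOpenCover _ V
    (TopologicalSpace.IsOpenCover.mk (top_unique fun x _ => TopologicalSpace.Opens.mem_iSup.2 ⟨x, hxV x⟩))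

end Groth.Agent.KFlat.RHomApprox
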