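import Groth.Agent.KFlat.LTensor
import Groth.Agent.KFlat.TensorLocFree
import Groth.Agent.DTrunc.RightDerived
import Groth.Agent.DHA.KInj.Products
import Mathlib.CategoryTheory.Functor.Derived.Adjunction
import Mathlib.CategoryTheory.Adjunction.AdjointFunctorTheorems
import Mathlib.CategoryTheory.Abelian.Subobject
import Mathlib.Algebra.Homology.GrothendieckAbelian

/-!
# `- ⊗ᴸ E` has a right adjoint on a scheme
-/

set_option autoImplicit false

universe u

open CategoryTheory CategoryTheory.Limits AlgebraicGeometry Opposite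
open CochainComplex CochainComplex.HomComplex
open Groth.Agent.KFlat.Pull Groth.Agent.KFlat.LTensor
attribute [local instance] HasDerivedCategory.standard

namespace Groth.Agent.KFlat.RHomExists

open Groth.Agent

variable {X : Scheme.{u}}

/-- Tensoring complexes with a fixed complex. -/
noncomputable abbrev tensE (E : CochainComplex X.Modules ℤ) :
    CochainComplex X.Modules ℤ ⥤ CochainComplex X.Modules ℤ :=
  (DCoh.tensorCx (X := X)).flip.obj E

variable (E : CochainComplex X.Modules ℤ)

theorem isLeftAdjoint_tensE : (tensE E).IsLeftAdjoint := by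
  haveI : ∀ Y, PreservesColimitsOfSize.{u, u} ((DCoh.tensorBi (X := X)).flip.obj Y) := fun Y =>
    preservesColimitsOfSize_tensorBi_flip_obj (O := X.sheaf) Y
  haveI : PreservesColimits (tensE E) :=
    ⟨fun {K} _ => KFlat.preservesColimitsOfShape_mapLeft (DCoh.tensorBi (X := X)) E K⟩
  exact isLeftAdjoint_of_preservesColimits_of_isSeparating
    (isSeparator_separator (CochainComplex X.Modules ℤ)) _

/-- Its right adjoint, the internal Hom complex. -/
noncomputable def homE : CochainComplex X.Modules ℤ ⥤ CochainComplex X.Modules ℤ :=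
  haveI := isLeftAdjoint_tensE E
  (tensE E).rightAdjoint

/-- The adjunction on complexes. -/
noncomputable def homEAdj : tensE E ⊣ homE E :=
  haveI := isLeftAdjoint_tensE E
  Adjunction.ofIsLeftAdjoint _

instance additive_homE : (homE E).Additive := (homEAdj E).right_adjoint_additive

/-- A map is null-homotopic if its transpose is. -/
theorem homotopy_zero_of_transpose {G K : CochainComplex X.Modules ℤ} (v : G ⟶ (homE E).obj K)
    (h : Homotopy (((homEAdj E).homEquiv G K).symm v) 0) : Nonempty (Homotopy v 0) := by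
  let C := mappingCone (𝟙 G)
  let i : G ⟶ C := mappingCone.inr (𝟙 G)
  let T := tensE E
  let ρ : ∀ n, (T.obj C).X n ⟶ (T.obj G).X n := fun n =>
    KFlat.totDesc (F := DCoh.tensorBi (X := X)) (L := C) (K := E) fun p q hpq =>
      ((DCoh.tensorBi (X := X)).map ((mappingCone.snd (𝟙 G)).v p p (add_zero p))).app (E.X q) ≫
        KFlat.totι (DCoh.tensorBi (X := X)) G E p q n hpq
  have hρ : ∀ n, (T.map i).f n ≫ ρ n = 𝟙 _ := fun n => by
    refine KFlat.tot_hom_ext fun p q hpq => ?_
    change KFlat.totι (DCoh.tensorBi (X := X)) G E p q n hpq ≫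
      (((DCoh.tensorCx (X := X)).map i).app E).f n ≫ ρ n = _
    rw [KFlat.totι_map_left_assoc]
    simp only [ρ, KFlat.totι_desc]
    rw [← NatTrans.comp_app_assoc, ← Functor.map_comp, mappingCone.inr_f_snd_v, CategoryTheory.Functor.map_id,
      NatTrans.id_app, Category.id_comp]
    exact (Category.comp_id _).symm
  obtain ⟨α, hα⟩ := Cochain.equivHomotopy _ _ h
  rw [Cochain.ofHom_zero, add_zero] at hα
  let α' := (Cochain.ofHoms ρ).comp α (zero_add (-1))
  let g : T.obj C ⟶ K := Cocycle.homOf (Cocycle.mk (δ (-1) 0 α') 1 (zero_add 1) (δ_δ _ _ _ _))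
  have hg : T.map i ≫ g = ((homEAdj E).homEquiv G K).symm v := by
    refine Cochain.ofHom_injective ?_
    rw [Cochain.ofHom_comp, Cocycle.cochain_ofHom_homOf_eq_coe, hα]
    show (Cochain.ofHom (T.map i)).comp (δ (-1) 0 α') (zero_add 0) = δ (-1) 0 α
    rw [← δ_ofHom_comp, ← Cochain.comp_assoc_of_first_is_zero_cochain]
    congr 1
    have : (Cochain.ofHom (T.map i)).comp (Cochain.ofHoms ρ) (zero_add 0) = Cochain.ofHom (𝟙 _) := by
      ext p
      simp [hρ]
    rw [this, Cochain.id_comp]
  have hv : v = i ≫ (homEAdj E).homEquiv C K g := by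
    rw [← (homEAdj E).homEquiv_naturality_left, hg, Equiv.apply_symm_apply]
  have hi : Homotopy i 0 :=
    ((Homotopy.ofEq (Category.comp_id i).symm).trans
      ((mappingCone.homotopyToZeroOfId G).compLeft i)).trans (Homotopy.ofEq comp_zero)
  exact ⟨(Homotopy.ofEq hv).trans ((hi.compRight _).trans (Homotopy.ofEq zero_comp))⟩

/-- The internal Hom complex respects homotopies. -/
theorem homotopy_homE_map {K K' : CochainComplex X.Modules ℤ} {f f' : K ⟶ K'} (h : Homotopy f f') :
    Nonempty (Homotopy ((homE E).map f) ((homE E).map f')) := by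
  have h' : Homotopy (f - f') 0 := Homotopy.equivSubZero h
  obtain ⟨k⟩ := homotopy_zero_of_transpose E ((homE E).map (f - f'))
    ((Homotopy.ofEq (by
      rw [Adjunction.homEquiv_counit]
      exact (homEAdj E).counit.naturality (f - f'))).trans
      ((h'.compLeft ((homEAdj E).counit.app K)).trans (Homotopy.ofEq comp_zero)))
  exact ⟨Homotopy.equivSubZero.symm ((Homotopy.ofEq (homE E).map_sub.symm).trans k)⟩

theorem isGood_homE (I : CochainComplex X.Modules ℤ) [I.IsKInjective] :
    DTrunc.RightDerived.IsGood DerivedCategory.Q (homE E ⋙ DerivedCategory.Q) I where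
  fac K φ := DHA.KInj.Q_map_surjective K I φ
  eq K g g' h := DHA.KInj.Q_map_eq_of_homotopy
    (homotopy_homE_map E (DHA.KInj.homotopy_of_Q_map_eq h).some).some

theorem hasEnough_homE :
    DTrunc.RightDerived.HasEnough DerivedCategory.Q (homE E ⋙ DerivedCategory.Q) := fun K => by
  obtain ⟨I, s, hI, hs, -, -⟩ := DHA.KInj.exists_resolution X.Modules K
  exact ⟨I, s, isGood_homE E I, inferInstance⟩

theorem resolves_comp {H : Type*} [Category H] (G : DCoh.D X ⥤ H) :
    KFlat.Deriv.Resolves (HomologicalComplex.quasiIso X.Modules (ComplexShape.up ℤ))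
      (resY X) (resYπ X) (DCoh.tensorCxQ E ⋙ G) where
  mem := (LTensor.resolves E).mem
  inverted K K' s hs :=
    have : IsIso ((DCoh.tensorCxQ E).map ((resY X).map s)) := (LTensor.resolves E).inverted s hs
    inferInstanceAs (IsIso (G.map ((DCoh.tensorCxQ E).map ((resY X).map s))))
  fix K :=
    have := (LTensor.resolves E).fix K
    inferInstanceAs (IsIso (G.map ((DCoh.tensorCxQ E).map ((resYπ X).app ((resY X).obj K)))))

/-- The derived tensor product has a right adjoint. -/
theorem hasRSheafHom [DCoh.HasLTensorCx E] : DCoh.HasRSheafHom E := by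
  let W := HomologicalComplex.quasiIso X.Modules (ComplexShape.up ℤ)
  have hE := hasEnough_homE E
  haveI := hE.hasRightDerivedFunctor W
  let F' := (homE E ⋙ DerivedCategory.Q).totalRightDerived DerivedCategory.Q W
  let β : homE E ⋙ DerivedCategory.Q ⟶ DerivedCategory.Q ⋙ F' :=
    (homE E ⋙ DerivedCategory.Q).totalRightDerivedUnit DerivedCategory.Q W
  have : (DCoh.LTensorCx E ⋙ F').IsLeftDerivedFunctor
      ((Functor.associator _ _ _).inv ≫ Functor.whiskerRight (toTensor E) F') W :=
    ⟨KFlat.Deriv.isRightKanExtension_of_isIso (resolves_comp E F') _ fun K => by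
      have := isIso_toTensor E (isKFlat_resY K)
      change IsIso (𝟙 _ ≫ F'.map ((toTensor E).app ((resY X).obj K)))
      infer_instance⟩
  have : (F' ⋙ DCoh.LTensorCx E).IsRightDerivedFunctor
      (Functor.whiskerRight β (DCoh.LTensorCx E) ≫ (Functor.associator _ _ _).hom) W :=
    DTrunc.RightDerived.isRightDerivedFunctor_of_isIso W _ _ fun K => by
      obtain ⟨I, s, hI, hs, -, -⟩ := DHA.KInj.exists_resolution X.Modules K
      refine ⟨I, s, (isGood_homE E I).comp (DCoh.LTensorCx E), inferInstance, ?_⟩
      have := hE.isIso_app (W := W) F' β (isGood_homE E I)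
      change IsIso ((DCoh.LTensorCx E).map (β.app I) ≫ 𝟙 _)
      infer_instance
  have : (DCoh.LTensorCx E).IsLeftDerivedFunctor (toTensor E) W :=
    ⟨KFlat.Deriv.isRightKanExtension_of_isIso (LTensor.resolves E) _ fun K =>
      isIso_toTensor E (isKFlat_resY K)⟩
  exact (Adjunction.derived (homEAdj E) W W (toTensor E) β).isLeftAdjoint

end Groth.Agent.KFlat.RHomExists
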