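import Groth.Agent.KFlat.LTensor
import Groth.Agent.KFlat.Closure
import Groth.Agent.DHA.KInj.Products
import Groth.Agent.DHA.KInjectiveResolution
import Groth.Agent.ModShf.GrothAb

/-!
# The derived tensor product preserves coproducts
-/

set_option autoImplicit false

universe u

open CategoryTheory CategoryTheory.Limits AlgebraicGeometry
open Groth.Agent.KFlat.Pull

attribute [local instance] HasDerivedCategory.standard

namespace Groth.Agent.KFlat.LTensorCoprod

variable {X : Scheme.{u}}

/-- Coproducts of complexes are coproducts in the derived category. -/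
theorem isColimit_Q_of_isColimit {ι : Type u} (K : ι → CochainComplex X.Modules ℤ) (c : Cofan K)
    (hc : IsColimit c) :
    Nonempty (IsColimit (Cofan.mk (DerivedCategory.Q.obj c.pt) (fun i => DerivedCategory.Q.map (c.inj i)))) := by
  obtain ⟨h⟩ := DHA.KInj.nonempty_isColimit_Q (A := X.Modules)
    (fun L => ⟨_, (DHA.KInj.resolutionι X.Modules).app L, inferInstance, inferInstance⟩) K
  refine ⟨IsColimit.ofIsoColimit h (Cofan.ext
    (DerivedCategory.Q.mapIso ((coproductIsCoproduct K).coconePointUniqueUpToIso hc)) fun i => ?_)⟩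
  exact (DerivedCategory.Q.map_comp _ _).symm.trans (congrArg DerivedCategory.Q.map
    (IsColimit.comp_coconePointUniqueUpToIso_hom (coproductIsCoproduct K) hc ⟨i⟩))

theorem preservesColimit_LTensorCx (D : CochainComplex X.Modules ℤ) [DCoh.HasLTensorCx D] {ι : Type u}
    (C : ι → DCoh.D X) : PreservesColimit (Discrete.functor C) (DCoh.LTensorCx D) := by
  let P : ι → CochainComplex X.Modules ℤ := fun i => (resY X).obj (DerivedCategory.Q.objPreimage (C i))
  have hP : ∀ i, DCoh.IsKFlat (P i) := fun i => isKFlat_resY _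
  have he : ∀ i, IsIso (DerivedCategory.Q.map ((resYπ X).app (DerivedCategory.Q.objPreimage (C i)))) := fun i => by
    have := quasiIso_resYπ (DerivedCategory.Q.objPreimage (C i))
    infer_instance
  let e : ∀ i, DerivedCategory.Q.obj (P i) ≅ C i := fun i =>
    @asIso _ _ _ _ _ (he i) ≪≫ DerivedCategory.Q.objObjPreimageIso (C i)
  have hsum : DCoh.IsKFlat (∐ P) := Groth.Agent.KFlat.isKFlat_sigma (O := X.sheaf) P hP
  obtain ⟨h₁⟩ := isColimit_Q_of_isColimit P _ (coproductIsCoproduct P)
  let T := (DCoh.tensorCx (X := X)).flip.obj D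
  have : PreservesColimitsOfShape (Discrete ι) T :=
    Groth.Agent.KFlat.preservesColimitsOfShape_tens_flip_obj (O := X.sheaf) D (Discrete ι)
  have h₂ : IsColimit (Cofan.mk (T.obj (∐ P)) fun i => T.map (Sigma.ι P i)) :=
    (isColimitMapCoconeCofanMkEquiv T P fun i => Sigma.ι P i)
      (isColimitOfPreserves T (coproductIsCoproduct P))
  obtain ⟨h₃⟩ := isColimit_Q_of_isColimit (fun i => T.obj (P i)) _ h₂
  suffices h : PreservesColimit (Discrete.functor fun i => DerivedCategory.Q.obj (P i)) (DCoh.LTensorCx D) from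
    preservesColimit_of_iso_diagram (DCoh.LTensorCx D) (Discrete.natIso fun i => e i.as :
      (Discrete.functor fun i => DerivedCategory.Q.obj (P i)) ≅ Discrete.functor C)
  refine preservesColimit_of_preserves_colimit_cocone h₁ ((isColimitMapCoconeCofanMkEquiv _ _ _).symm ?_)
  let α := fun (K : CochainComplex X.Modules ℤ) (hK : DCoh.IsKFlat K) =>
    @asIso _ _ _ _ ((LTensor.toTensor D).app K) (LTensor.isIso_toTensor D hK)
  refine IsColimit.equivOfNatIsoOfIso (Discrete.natIso fun i => (α (P i.as) (hP i.as)).symm :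
      Discrete.functor (fun i => DerivedCategory.Q.obj (T.obj (P i))) ≅
        Discrete.functor fun i => (DCoh.LTensorCx D).obj (DerivedCategory.Q.obj (P i)))
    (Cofan.mk (DerivedCategory.Q.obj (T.obj (∐ P))) fun i => DerivedCategory.Q.map (T.map (Sigma.ι P i)))
    (Cofan.mk ((DCoh.LTensorCx D).obj (DerivedCategory.Q.obj (∐ P))) fun i =>
      (DCoh.LTensorCx D).map (DerivedCategory.Q.map (Sigma.ι P i)))
    (Cocone.ext (α (∐ P) hsum).symm fun ⟨i⟩ => ?_) h₃
  change ((α (P i) (hP i)).hom ≫ DerivedCategory.Q.map (T.map (Sigma.ι P i))) ≫ (α (∐ P) hsum).inv =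
    (DCoh.LTensorCx D).map (DerivedCategory.Q.map (Sigma.ι P i))
  rw [Iso.comp_inv_eq]
  exact ((LTensor.toTensor D).naturality (Sigma.ι P i)).symm

end Groth.Agent.KFlat.LTensorCoprod
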