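import Mathlib.CategoryTheory.Triangulated.Pretriangulated
import Mathlib.CategoryTheory.Triangulated.TriangleShift
import Mathlib.CategoryTheory.Limits.Preserves.Shapes.Products

/-!
# Objects where a natural transformation of exact functors is an isomorphism
-/

set_option autoImplicit false

open CategoryTheory CategoryTheory.Limits CategoryTheory.Pretriangulated

namespace Groth.Agent.KFlat.NatTransClosed

variable {C : Type*} [Category C] [Preadditive C] [HasZeroObject C] [HasShift C ℤ]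
  [∀ n : ℤ, (shiftFunctor C n).Additive] [Pretriangulated C]
  {C' : Type*} [Category C'] [Preadditive C']

/-- Exactness of `Hom(N, F(-))` at the middle of distinguished triangles. -/
def MidExact (F : C ⥤ C') : Prop :=
  ∀ T ∈ (distinguishedTriangles : Set (Triangle C)), ∀ (N : C') (a : N ⟶ F.obj T.obj₂),
    a ≫ F.map T.mor₂ = 0 → ∃ b : N ⟶ F.obj T.obj₁, b ≫ F.map T.mor₁ = a

variable {F G : C ⥤ C'} [F.Additive] [G.Additive] (η : F ⟶ G)

/-- The five lemma. -/
theorem isIso_app₃ (hF : MidExact F) (hG : MidExact G) (T : Triangle C) (hT : T ∈ distTriang C)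
    [IsIso (η.app T.obj₁)] [IsIso (η.app T.obj₂)] [IsIso (η.app (T.obj₁⟦(1 : ℤ)⟧))]
    [IsIso (η.app (T.obj₂⟦(1 : ℤ)⟧))] : IsIso (η.app T.obj₃) := by
  have h31 : T.mor₃ ≫ T.mor₁⟦(1 : ℤ)⟧' = 0 := comp_distTriang_mor_zero₃₁ _ hT
  have h12 : T.mor₁ ≫ T.mor₂ = 0 := comp_distTriang_mor_zero₁₂ _ hT
  have h23 : T.mor₂ ≫ T.mor₃ = 0 := comp_distTriang_mor_zero₂₃ _ hT
  have hinj : ∀ (N : C') (a : N ⟶ F.obj T.obj₃), a ≫ η.app T.obj₃ = 0 → a = 0 := by
    intro N a ha
    have h1 : a ≫ F.map T.mor₃ = 0 := by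
      rw [← cancel_mono (η.app (T.obj₁⟦(1 : ℤ)⟧)), Category.assoc, η.naturality, ← Category.assoc, ha,
        zero_comp, zero_comp]
    obtain ⟨b, hb⟩ : ∃ b : N ⟶ F.obj T.obj₂, b ≫ F.map T.mor₂ = a := hF _ (rot_of_distTriang _ hT) N a h1
    have h2 : (b ≫ η.app T.obj₂) ≫ G.map T.mor₂ = 0 := by
      rw [Category.assoc, ← η.naturality, ← Category.assoc, hb, ha]
    obtain ⟨c, hc⟩ : ∃ c : N ⟶ G.obj T.obj₁, c ≫ G.map T.mor₁ = b ≫ η.app T.obj₂ := hG _ hT N _ h2
    have h3 : b = (c ≫ inv (η.app T.obj₁)) ≫ F.map T.mor₁ := by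
      rw [← cancel_mono (η.app T.obj₂), ← hc, Category.assoc, Category.assoc, η.naturality,
        IsIso.inv_hom_id_assoc]
    rw [← hb, h3, Category.assoc, ← F.map_comp, h12, Functor.map_zero, comp_zero]
  have hsurj : ∀ (N : C') (y : N ⟶ G.obj T.obj₃), ∃ x, x ≫ η.app T.obj₃ = y := by
    intro N y
    let z := (y ≫ G.map T.mor₃) ≫ inv (η.app (T.obj₁⟦(1 : ℤ)⟧))
    have hz : z ≫ F.map (-(T.mor₁⟦(1 : ℤ)⟧')) = 0 := by
      rw [← cancel_mono (η.app (T.obj₂⟦(1 : ℤ)⟧)), Category.assoc, η.naturality]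
      simp only [z, Category.assoc, IsIso.inv_hom_id_assoc, zero_comp]
      rw [← G.map_comp, Preadditive.comp_neg, h31, neg_zero, Functor.map_zero, comp_zero]
    obtain ⟨a, ha⟩ : ∃ a : N ⟶ F.obj T.obj₃, a ≫ F.map T.mor₃ = z :=
      hF _ (rot_of_distTriang _ (rot_of_distTriang _ hT)) N z hz
    have h1 : (y - a ≫ η.app T.obj₃) ≫ G.map T.mor₃ = 0 := by
      rw [Preadditive.sub_comp, Category.assoc, ← η.naturality, ← Category.assoc, ha, sub_eq_zero]
      simp [z]
    obtain ⟨b, hb⟩ : ∃ b : N ⟶ G.obj T.obj₂, b ≫ G.map T.mor₂ = y - a ≫ η.app T.obj₃ :=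
      hG _ (rot_of_distTriang _ hT) N _ h1
    refine ⟨a + (b ≫ inv (η.app T.obj₂)) ≫ F.map T.mor₂, ?_⟩
    rw [Preadditive.add_comp, Category.assoc, Category.assoc, η.naturality, IsIso.inv_hom_id_assoc, hb]
    abel
  obtain ⟨x, hx⟩ := hsurj _ (𝟙 (G.obj T.obj₃))
  refine ⟨x, ?_, hx⟩
  rw [← sub_eq_zero]
  refine hinj _ _ ?_
  rw [Preadditive.sub_comp, Category.assoc, hx, Category.comp_id, Category.id_comp, sub_self]

/-- The objects at all of whose shifts `η` is invertible. -/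
def AllShifts (M : C) : Prop := ∀ n : ℤ, IsIso (η.app (M⟦n⟧))

omit [HasZeroObject C] [Pretriangulated C] [F.Additive] [G.Additive]
  [∀ n : ℤ, (shiftFunctor C n).Additive] [Preadditive C] [Preadditive C'] in
theorem AllShifts.iso {A B : C} (e : A ≅ B) (h : AllShifts η A) : AllShifts η B := fun n =>
  (NatTrans.isIso_app_iff_of_iso η ((shiftFunctor C n).mapIso e)).1 (h n)

omit [HasZeroObject C] [Pretriangulated C] [F.Additive] [G.Additive]
  [∀ n : ℤ, (shiftFunctor C n).Additive] [Preadditive C] [Preadditive C'] in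
theorem AllShifts.shift {A : C} (h : AllShifts η A) (m : ℤ) : AllShifts η (A⟦m⟧) := fun n =>
  (NatTrans.isIso_app_iff_of_iso η ((shiftFunctorAdd C m n).app A)).1 (h (m + n))

omit [HasZeroObject C] [Pretriangulated C] [F.Additive] [G.Additive]
  [∀ n : ℤ, (shiftFunctor C n).Additive] [Preadditive C] [Preadditive C'] in
theorem AllShifts.app {A : C} (h : AllShifts η A) : IsIso (η.app A) :=
  (NatTrans.isIso_app_iff_of_iso η ((shiftFunctorZero C ℤ).app A)).1 (h 0)

theorem allShifts_obj₃ (hF : MidExact F) (hG : MidExact G) (T : Triangle C) (hT : T ∈ distTriang C)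
    (h₁ : AllShifts η T.obj₁) (h₂ : AllShifts η T.obj₂) : AllShifts η T.obj₃ := fun n => by
  have hT' : (Triangle.shiftFunctor C n).obj T ∈ distTriang C := Triangle.shift_distinguished T hT n
  have := h₁ n
  have := h₂ n
  have : IsIso (η.app ((((Triangle.shiftFunctor C n).obj T).obj₁)⟦(1 : ℤ)⟧)) := (h₁.shift η n) 1
  have : IsIso (η.app ((((Triangle.shiftFunctor C n).obj T).obj₂)⟦(1 : ℤ)⟧)) := (h₂.shift η n) 1
  have : IsIso (η.app ((Triangle.shiftFunctor C n).obj T).obj₁) := h₁ n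
  have : IsIso (η.app ((Triangle.shiftFunctor C n).obj T).obj₂) := h₂ n
  exact isIso_app₃ η hF hG _ hT'

theorem allShifts_obj₂ (hF : MidExact F) (hG : MidExact G) (T : Triangle C) (hT : T ∈ distTriang C)
    (h₁ : AllShifts η T.obj₁) (h₃ : AllShifts η T.obj₃) : AllShifts η T.obj₂ :=
  allShifts_obj₃ η hF hG _ (inv_rot_of_distTriang _ hT) (h₃.shift η (-1)) h₁

omit [HasZeroObject C] [Pretriangulated C] [F.Additive] [G.Additive]
  [∀ n : ℤ, (shiftFunctor C n).Additive] [Preadditive C] [Preadditive C'] in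
/-- Invertibility passes to coproducts which both functors preserve. -/
theorem allShifts_sum {ι : Type*} (M : ι → C) (c : Cofan M) (hc : IsColimit c)
    (hF : ∀ N : ι → C, PreservesColimit (Discrete.functor N) F)
    (hG : ∀ N : ι → C, PreservesColimit (Discrete.functor N) G)
    (h : ∀ i, AllShifts η (M i)) : AllShifts η c.pt := fun n => by
  let d : Cofan fun i => (M i)⟦n⟧ := Cofan.mk (c.pt⟦n⟧) fun i => (c.inj i)⟦n⟧'
  have hd : IsColimit d :=
    (isColimitMapCoconeCofanMkEquiv (shiftFunctor C n) M c.inj)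
      (isColimitOfPreserves (shiftFunctor C n) (hc.ofIsoColimit (Cofan.ext (Iso.refl _) fun i => by simp)))
  have := hF fun i => (M i)⟦n⟧
  have := hG fun i => (M i)⟦n⟧
  let α : (Discrete.functor fun i => (M i)⟦n⟧) ⋙ F ≅ (Discrete.functor fun i => (M i)⟦n⟧) ⋙ G :=
    Discrete.natIso fun i => @asIso _ _ _ _ (η.app ((M i.as)⟦n⟧)) (h i.as n)
  have e : (IsColimit.coconePointsIsoOfNatIso (isColimitOfPreserves F hd) (isColimitOfPreserves G hd) α).hom =
      η.app (c.pt⟦n⟧) := by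
    refine (isColimitOfPreserves F hd).hom_ext fun ⟨i⟩ => ?_
    rw [IsColimit.comp_coconePointsIsoOfNatIso_hom]
    exact (η.naturality (d.inj i)).symm
  rw [← e]
  infer_instance

end Groth.Agent.KFlat.NatTransClosed
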