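import Groth.Agent.KFlat.SchemeTor
import Groth.Agent.KFlat.Shift

/-!
# Tor amplitude in distinguished triangles
-/

set_option autoImplicit false

universe u

open CategoryTheory CategoryTheory.Limits AlgebraicGeometry CategoryTheory.Pretriangulated

attribute [local instance] HasDerivedCategory.standard

namespace Groth.Agent.KFlat.TorTriangle

open Groth.Agent.KFlat.Pull LTensorMod SchemeTor

variable {X : Scheme.{u}}

/-- Every distinguished triangle comes from the cone of a map of K-flat complexes. -/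
theorem exists_kflat_cone (T : Triangle (DCoh.D X)) (hT : T ∈ distinguishedTriangles) :
    ∃ (P P' : {K : CochainComplex X.Modules ℤ // DCoh.IsKFlat K}) (r : P.1 ⟶ P'.1),
      Nonempty (DerivedCategory.Q.mapTriangle.obj (CochainComplex.mappingCone.triangle r) ≅ T) := by
  obtain ⟨K₁, K₂, f, ⟨e⟩⟩ := (DerivedCategory.mem_distTriang_iff T).1 hT
  have := quasiIso_resYπ K₁
  have := quasiIso_resYπ K₂
  have i₁ : IsIso (DerivedCategory.Q.map ((resYπ X).app K₁)) := inferInstance
  have i₂ : IsIso (DerivedCategory.Q.map ((resYπ X).app K₂)) := inferInstance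
  refine ⟨⟨_, isKFlat_resY K₁⟩, ⟨_, isKFlat_resY K₂⟩, (resY X).map f, ⟨?_ ≪≫ e.symm⟩⟩
  refine isoTriangleOfIso₁₂ _ _ (DerivedCategory.mappingCone_triangle_distinguished _)
    (DerivedCategory.mappingCone_triangle_distinguished _)
    (@asIso _ _ _ _ _ i₁) (@asIso _ _ _ _ _ i₂) ?_
  exact (DerivedCategory.Q.map_comp _ _).symm.trans
    ((congrArg DerivedCategory.Q.map ((resYπ X).naturality f)).trans (DerivedCategory.Q.map_comp _ _))

theorem exactAt_tm_shift (F : X.Modules) (P : CochainComplex X.Modules ℤ) (n i j : ℤ) (h : n + i = j) :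
    ((tmCx F).obj (P⟦n⟧)).ExactAt i ↔ ((tmCx F).obj P).ExactAt j := by
  rw [HomologicalComplex.exactAt_iff_isZero_homology, HomologicalComplex.exactAt_iff_isZero_homology]
  exact ((HomologicalComplex.homologyFunctor X.Modules (ComplexShape.up ℤ) i).mapIso
      (((tmCx F).commShiftIso n).app P) ≪≫
    (CochainComplex.ShiftSequence.shiftIso X.Modules n i j h).app ((tmCx F).obj P)).isZero_iff

variable {P P' : {K : CochainComplex X.Modules ℤ // DCoh.IsKFlat K}} (r : P.1 ⟶ P'.1) {T : Triangle (DCoh.D X)}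
  (e : DerivedCategory.Q.mapTriangle.obj (CochainComplex.mappingCone.triangle r) ≅ T)

/-- `P' ⊗ F → cone ⊗ F → P[1] ⊗ F` is short exact. -/
theorem shortExact_tm (F : X.Modules) :
    ((CochainComplex.mappingCone.triangleRotateShortComplex r).map (tmCx F)).ShortExact :=
  HomologicalComplex.shortExact_of_degreewise_shortExact _ fun n =>
    ((CochainComplex.mappingCone.triangleRotateShortComplexSplitting r n).map (DCoh.tensorRightMod F)).shortExact

include e in
theorem torAmp_triangle (a b : ℤ) :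
    (DCoh.HasFlatAmplitudeIn (a + 1) (b + 1) T.obj₁ → DCoh.HasFlatAmplitudeIn a b T.obj₂ →
      DCoh.HasTorAmplitudeIn a b T.obj₃) ∧
    (DCoh.HasFlatAmplitudeIn a b T.obj₁ → DCoh.HasFlatAmplitudeIn a b T.obj₃ → DCoh.HasTorAmplitudeIn a b T.obj₂) ∧
    (DCoh.HasFlatAmplitudeIn (a + 1) (b + 1) T.obj₂ → DCoh.HasFlatAmplitudeIn a b T.obj₃ →
      DCoh.HasTorAmplitudeIn (a + 1) (b + 1) T.obj₁) := by
  let e₁ : DerivedCategory.Q.obj P.1 ≅ T.obj₁ := Triangle.π₁.mapIso e
  let e₂ : DerivedCategory.Q.obj P'.1 ≅ T.obj₂ := Triangle.π₂.mapIso e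
  let e₃ : DerivedCategory.Q.obj (CochainComplex.mappingCone r) ≅ T.obj₃ := Triangle.π₃.mapIso e
  have hC : DCoh.IsKFlat (CochainComplex.mappingCone r) :=
    Groth.Agent.KFlat.isKFlat_mappingCone (O := X.sheaf) r P.2 P'.2
  have v₁ : ∀ a b, DCoh.HasFlatAmplitudeIn a b T.obj₁ → TorVan P.1 a b := fun a b h =>
    (torAmp_iff P.2 e₁ a b).1 (torAmp_of_flatAmp h)
  have v₂ : ∀ a b, DCoh.HasFlatAmplitudeIn a b T.obj₂ → TorVan P'.1 a b := fun a b h =>
    (torAmp_iff P'.2 e₂ a b).1 (torAmp_of_flatAmp h)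
  have v₃ : ∀ a b, DCoh.HasFlatAmplitudeIn a b T.obj₃ → TorVan (CochainComplex.mappingCone r) a b := fun a b h =>
    (torAmp_iff hC e₃ a b).1 (torAmp_of_flatAmp h)
  refine ⟨fun h h' => (torAmp_iff hC e₃ a b).2 fun F i hi => ?_,
    fun h h' => (torAmp_iff P'.2 e₂ a b).2 fun F i hi => ?_,
    fun h h' => (torAmp_iff P.2 e₁ (a + 1) (b + 1)).2 fun F i hi => ?_⟩
  all_goals rw [HomologicalComplex.exactAt_iff_isZero_homology]
  · have hx := v₂ a b h' F i hi
    have hz := v₁ _ _ h F (i + 1) (by omega)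
    rw [← exactAt_tm_shift F P.1 1 i (i + 1) (by omega)] at hz
    rw [HomologicalComplex.exactAt_iff_isZero_homology] at hx hz
    exact ((shortExact_tm r F).homology_exact₂ i).isZero_of_both_zeros (hx.eq_of_src _ _) (hz.eq_of_tgt _ _)
  · have hy := v₃ a b h' F i hi
    have hz := v₁ a b h F i hi
    rw [← exactAt_tm_shift F P.1 1 (i - 1) i (by omega)] at hz
    rw [HomologicalComplex.exactAt_iff_isZero_homology] at hy hz
    exact ((shortExact_tm r F).homology_exact₁ (i - 1) i (by simp)).isZero_of_both_zeros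
      (hz.eq_of_src _ _) (hy.eq_of_tgt _ _)
  · have hy := v₃ a b h' F (i - 1) (by omega)
    have hx := v₂ _ _ h F i hi
    rw [HomologicalComplex.exactAt_iff_isZero_homology] at hx hy
    have := ((shortExact_tm r F).homology_exact₃ (i - 1) i (by simp)).isZero_of_both_zeros
      (hy.eq_of_src _ _) (hx.eq_of_tgt _ _)
    rw [← HomologicalComplex.exactAt_iff_isZero_homology] at this ⊢
    exact (exactAt_tm_shift F P.1 1 (i - 1) i (by omega)).1 this

end Groth.Agent.KFlat.TorTriangle
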