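import Groth.Agent.KFlat.LTensor
import Groth.Agent.KFlat.Shift
import Groth.Agent.KFlat.TorTriangle
import Groth.Agent.KFlat.NatTransClosed
import Groth.Agent.KFlat.LTensorCoprod
import Mathlib.CategoryTheory.Triangulated.Yoneda

/-!
# Exactness of the derived tensor product with a K-flat complex
-/

set_option autoImplicit false

universe u

open CategoryTheory CategoryTheory.Limits AlgebraicGeometry CategoryTheory.Pretriangulated
open Groth.Agent.KFlat.Pull Groth.Agent.KFlat.LTensor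

attribute [local instance] HasDerivedCategory.standard

namespace Groth.Agent.KFlat.LTensorExact

variable {X : Scheme.{u}} (D : CochainComplex X.Modules ℤ) [DCoh.HasLTensorCx D]

attribute [local instance] preservesBinaryBiproducts_of_preservesBinaryCoproducts in
instance additive_LTensorCx : (DCoh.LTensorCx D).Additive :=
  have : PreservesColimitsOfShape (Discrete (ULift.{u} WalkingPair)) (DCoh.LTensorCx D) :=
    ⟨fun {K} =>
      have : PreservesColimit (Discrete.functor (K.obj ∘ Discrete.mk)) (DCoh.LTensorCx D) :=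
        LTensorCoprod.preservesColimit_LTensorCx D _
      preservesColimit_of_iso_diagram _ Discrete.natIsoFunctor.symm⟩
  have : PreservesColimitsOfShape (Discrete WalkingPair) (DCoh.LTensorCx D) :=
    preservesColimitsOfShape_of_equiv (Discrete.equivalence Equiv.ulift) _
  have : PreservesColimitsOfShape (Discrete PEmpty.{1}) (DCoh.LTensorCx D) :=
    have : PreservesColimitsOfShape (Discrete PEmpty.{u + 1}) (DCoh.LTensorCx D) :=
      ⟨fun {K} =>
        have : PreservesColimit (Discrete.functor (K.obj ∘ Discrete.mk)) (DCoh.LTensorCx D) :=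
          LTensorCoprod.preservesColimit_LTensorCx D _
        preservesColimit_of_iso_diagram _ Discrete.natIsoFunctor.symm⟩
    preservesColimitsOfShape_of_equiv (Discrete.equivalence (Equiv.equivPEmpty PEmpty.{u + 1})) _
  Functor.additive_of_preservesBinaryBiproducts _

theorem cancel_aux {C : Type*} [Category C] {A B T U : C} (x : A ⟶ B) (y : B ⟶ T) (c : U ≅ T) :
    (x ≫ y ≫ c.inv) ≫ c.hom = x ≫ y := by simp

/-- Exactness transported along isomorphisms. -/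
theorem exact_of_iso {S : ShortComplex (CochainComplex X.Modules ℤ)} (hS : S.ShortExact)
    {A₁ A₂ A₃ T₁ T₂ T₃ : DCoh.D X} {f : A₁ ⟶ A₂} {g : A₂ ⟶ A₃} {f' : T₁ ⟶ T₂} {g' : T₂ ⟶ T₃}
    (t₁ : (DCoh.LTensorCx D).obj A₁ ⟶ DerivedCategory.Q.obj S.X₁)
    (t₂ : (DCoh.LTensorCx D).obj A₂ ⟶ DerivedCategory.Q.obj S.X₂)
    (t₃ : (DCoh.LTensorCx D).obj A₃ ⟶ DerivedCategory.Q.obj S.X₃) [IsIso t₁] [IsIso t₂]
    (hf : (DCoh.LTensorCx D).map f ≫ t₂ = t₁ ≫ DerivedCategory.Q.map S.f)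
    (hg : (DCoh.LTensorCx D).map g ≫ t₃ = t₂ ≫ DerivedCategory.Q.map S.g)
    (i₁ : A₁ ≅ T₁) (i₂ : A₂ ≅ T₂) (i₃ : A₃ ≅ T₃) (e₁ : f ≫ i₂.hom = i₁.hom ≫ f')
    (e₂ : g ≫ i₃.hom = i₂.hom ≫ g') {N : DCoh.D X} (a : N ⟶ (DCoh.LTensorCx D).obj T₂)
    (ha : a ≫ (DCoh.LTensorCx D).map g' = 0) :
    ∃ b : N ⟶ (DCoh.LTensorCx D).obj T₁, b ≫ (DCoh.LTensorCx D).map f' = a := by
  let F := DCoh.LTensorCx D
  let a'' : N ⟶ DerivedCategory.Q.obj S.X₂ := (a ≫ F.map i₂.inv) ≫ t₂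
  have hg' : i₂.inv ≫ g = g' ≫ i₃.inv := by rw [Iso.inv_comp_eq, ← Category.assoc, Iso.eq_comp_inv, e₂]
  have h2 : a'' ≫ DerivedCategory.Q.map S.g = 0 := by
    simp only [a'', Category.assoc]
    rw [← hg, ← Category.assoc (F.map i₂.inv), ← F.map_comp, hg', F.map_comp, Category.assoc,
      ← Category.assoc a, ha, zero_comp]
  obtain ⟨b, hb⟩ := Triangle.coyoneda_exact₂ _ (DerivedCategory.triangleOfSES_distinguished hS) a'' h2
  obtain ⟨u₁, hu₁, hu₁'⟩ : IsIso t₁ := ‹_›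
  obtain ⟨u₂, hu₂, hu₂'⟩ : IsIso t₂ := ‹_›
  refine ⟨(b ≫ u₁) ≫ F.map i₁.hom, ?_⟩
  have hb' : b ≫ DerivedCategory.Q.map S.f = a'' := hb.symm
  have hn : u₁ ≫ F.map f = DerivedCategory.Q.map S.f ≫ u₂ := by
    calc u₁ ≫ F.map f = u₁ ≫ F.map f ≫ t₂ ≫ u₂ := by rw [hu₂, Category.comp_id]
      _ = u₁ ≫ (t₁ ≫ DerivedCategory.Q.map S.f) ≫ u₂ := by rw [← Category.assoc (F.map f), hf]
      _ = DerivedCategory.Q.map S.f ≫ u₂ := by rw [Category.assoc, ← Category.assoc u₁, hu₁', Category.id_comp]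
  have he : F.map i₁.hom ≫ F.map f' = F.map f ≫ F.map i₂.hom := by
    rw [← F.map_comp, ← e₁, F.map_comp]
  let b₀ : N ⟶ DerivedCategory.Q.obj S.X₁ := b
  change ((b₀ ≫ u₁) ≫ F.map i₁.hom) ≫ F.map f' = a
  have hb₀ : b₀ ≫ DerivedCategory.Q.map S.f = a'' := hb'
  calc ((b₀ ≫ u₁) ≫ F.map i₁.hom) ≫ F.map f' = b₀ ≫ (u₁ ≫ F.map f) ≫ F.map i₂.hom := by
        simp only [Category.assoc, he]
    _ = (a'' ≫ u₂) ≫ F.map i₂.hom := by rw [hn, ← hb₀]; simp only [Category.assoc]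
    _ = a := by
        simp only [a'', Category.assoc]
        rw [← Category.assoc t₂, hu₂, Category.id_comp, ← F.map_comp, Iso.inv_hom_id, F.map_id, Category.comp_id]

set_option maxHeartbeats 800000 in
/-- `- ⊗ᴸ D` is exact in the middle for a K-flat `D`. -/
theorem midExact (hD : DCoh.IsKFlat D) : NatTransClosed.MidExact (DCoh.LTensorCx D) := by
  intro T hT N a ha
  obtain ⟨P, P', r, ⟨w⟩⟩ := TorTriangle.exists_kflat_cone _ (inv_rot_of_distTriang _ hT)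
  let C := CochainComplex.mappingCone r
  let S := (CochainComplex.mappingCone.triangleRotateShortComplex r).map ((DCoh.tensorCx (X := X)).flip.obj D)
  have hS : S.ShortExact := Groth.Agent.KFlat.shortExact_tens_flip (O := X.sheaf)
    (CochainComplex.mappingCone.triangleRotateShortComplexSplitting r) D
  let m₃ : C ⟶ P.1⟦(1 : ℤ)⟧ := (CochainComplex.mappingCone.triangle r).mor₃
  let i₁ : DerivedCategory.Q.obj P.1 ≅ T.obj₃⟦(-1 : ℤ)⟧ := Triangle.π₁.mapIso w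
  let i₂ : DerivedCategory.Q.obj P'.1 ≅ T.obj₁ := Triangle.π₂.mapIso w
  let i₃ : DerivedCategory.Q.obj C ≅ T.obj₂ := Triangle.π₃.mapIso w
  let k : DerivedCategory.Q.obj (P.1⟦(1 : ℤ)⟧) ≅ T.obj₃ :=
    (DerivedCategory.Q.commShiftIso (1 : ℤ)).app P.1 ≪≫ (shiftFunctor (DCoh.D X) (1 : ℤ)).mapIso i₁ ≪≫
      (shiftEquiv (DCoh.D X) (1 : ℤ)).counitIso.app T.obj₃
  have e₂ : DerivedCategory.Q.map (CochainComplex.mappingCone.inr r) ≫ i₃.hom = i₂.hom ≫ T.mor₁ :=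
    w.hom.comm₂
  have e₃ : DerivedCategory.Q.map m₃ ≫ k.hom = i₃.hom ≫ T.mor₂ := by
    have h : (DerivedCategory.Q.map m₃ ≫ ((DerivedCategory.Q.commShiftIso (1 : ℤ)).app P.1).hom) ≫
        i₁.hom⟦(1 : ℤ)⟧' = i₃.hom ≫ T.mor₂ ≫ (shiftEquiv (DCoh.D X) (1 : ℤ)).counitIso.inv.app T.obj₃ :=
      w.hom.comm₃
    simp only [k, Iso.trans_hom, Iso.app_hom]
    refine (Category.assoc _ _ _).symm.trans ((Category.assoc _ _ _).symm.trans ?_)
    exact (congrArg (· ≫ _) h).trans (cancel_aux i₃.hom T.mor₂ ((shiftEquiv (DCoh.D X) (1 : ℤ)).counitIso.app T.obj₃))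
  let t₁ : (DCoh.LTensorCx D).obj (DerivedCategory.Q.obj P'.1) ⟶ DerivedCategory.Q.obj S.X₁ := (toTensor D).app P'.1
  let t₂ : (DCoh.LTensorCx D).obj (DerivedCategory.Q.obj C) ⟶ DerivedCategory.Q.obj S.X₂ := (toTensor D).app C
  let t₃ : (DCoh.LTensorCx D).obj (DerivedCategory.Q.obj (P.1⟦(1 : ℤ)⟧)) ⟶ DerivedCategory.Q.obj S.X₃ :=
    (toTensor D).app (P.1⟦(1 : ℤ)⟧)
  have hf : (DCoh.LTensorCx D).map (DerivedCategory.Q.map (CochainComplex.mappingCone.inr r)) ≫ t₂ =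
      t₁ ≫ DerivedCategory.Q.map S.f := (toTensor D).naturality _
  have hg : (DCoh.LTensorCx D).map (DerivedCategory.Q.map m₃) ≫ t₃ =
      t₂ ≫ DerivedCategory.Q.map S.g := (toTensor D).naturality m₃
  have : IsIso t₁ := isIso_toTensor_of_kflat D hD P'.1
  have : IsIso t₂ := isIso_toTensor_of_kflat D hD C
  exact exact_of_iso (f := DerivedCategory.Q.map (CochainComplex.mappingCone.inr r)) (g := DerivedCategory.Q.map m₃) (f' := T.mor₁) (g' := T.mor₂) D hS t₁ t₂ t₃ hf hg i₂ i₃ k e₂ e₃ a ha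

end Groth.Agent.KFlat.LTensorExact
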