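import Groth.Agent.KFlat.TildePC
import Groth.Agent.KFlat.QCohModel
import Groth.Agent.PCohD.Basic
import Groth.Agent.PCohD.RelQcoh
import Groth.Agent.HTor95.CohModel
import Groth.Agent.S6942

/-!
# Pseudo-coherence on locally Noetherian schemes
-/

set_option autoImplicit false

universe u

open CategoryTheory Limits AlgebraicGeometry TopologicalSpace
open Groth.Agent.KFlat Groth.Agent.KFlat.Pull

attribute [local instance] HasDerivedCategory.standard

noncomputable section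

namespace Groth.Agent.KFlat.PCNoeth

variable {X : Scheme.{u}}

theorem isCoh_HD_tildeD_iff {R : CommRingCat.{u}} [PreservesFiniteLimits (tilde.functor R)]
    (M : Dual.D R) (i : ℤ) :
    Coh.IsCoh (DCoh.HD ((DCoh.tildeD R).obj M) i) ↔ Module.Finite R (Dual.HD R M i) := by
  let e := (MapHomology.iso (tilde.functor R) i).app M
  refine ⟨fun h => (Props.QTilde.isFT_iff
      (M := (DerivedCategory.homologyFunctor (ModuleCat.{u} R) i).obj M)).1 (CohDev.isCoh_of_iso e h).2,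
    fun h => CohDev.isCoh_of_iso e.symm ⟨?_, (Props.QTilde.isFT_iff
      (M := (DerivedCategory.homologyFunctor (ModuleCat.{u} R) i).obj M)).2 h⟩⟩
  exact TildeD.isQuasicoherent_of_essImage ⟨_, ⟨Iso.refl _⟩⟩

theorem isZero_HD_tildeD_iff {R : CommRingCat.{u}} [PreservesFiniteLimits (tilde.functor R)]
    (M : Dual.D R) (i : ℤ) :
    IsZero (DCoh.HD ((DCoh.tildeD R).obj M) i) ↔ Subsingleton (Dual.HD R M i) := by
  let e := (MapHomology.iso (tilde.functor R) i).app M
  refine ⟨fun h => ModuleCat.subsingleton_of_isZero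
      (IsZero.of_full_of_faithful_of_isZero (tilde.functor R) _ (h.of_iso e.symm)),
    fun h => ((tilde.functor R).map_isZero ?_).of_iso e⟩
  have : Subsingleton ((DerivedCategory.homologyFunctor (ModuleCat.{u} R) i).obj M) := h
  exact ModuleCat.isZero_of_subsingleton _

theorem isCoh_restrict {U : Scheme.{u}} (j : U ⟶ X) [IsOpenImmersion j] {M : X.Modules}
    (h : Coh.IsCoh M) : Coh.IsCoh (M.restrict j) :=
  CohDev.isCoh_of_iso ((Scheme.Modules.restrictFunctorIsoPullback j).app _).symm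
    (ZClosLib.CohDescent.isCoh_pullback j _ h)

/-- Cohomology of a restriction. -/
def hdRestrict {U : Scheme.{u}} (j : U ⟶ X) [IsOpenImmersion j] (E : DCoh.D X) (i : ℤ) :
    DCoh.HD ((DCoh.restrictD j).obj E) i ≅ (DCoh.HD E i).restrict j :=
  (MapHomology.iso (Scheme.Modules.restrictFunctor j) i).app E

theorem isQCohD_restrictD {U : Scheme.{u}} (j : U ⟶ X) [IsOpenImmersion j] {E : DCoh.D X}
    (hE : DCoh.IsQCohD E) : DCoh.IsQCohD ((DCoh.restrictD j).obj E) := fun i =>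
  @Groth.Agent.QCoh.isQuasicoherent_of_iso _ _ _ (hdRestrict j E i).symm
    (@Scheme.Modules.isQuasicoherent_restrictFunctor _ _ j _ (DCoh.HD E i) (hE i))

/-- `m`-pseudo-coherence over an affine open of a locally Noetherian scheme. -/
theorem pc_affine_iff [IsLocallyNoetherian X] (E : DCoh.D X) (hE : DCoh.IsQCohD E) (m : ℤ)
    {U : X.Opens} (hU : IsAffineOpen U) :
    DCoh.IsPseudoCoherentD m ((DCoh.restrictD hU.fromSpec).obj E) ↔
      (∀ i : ℤ, m ≤ i → Coh.IsCoh ((DCoh.HD E i).restrict hU.fromSpec)) ∧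
        ∃ b : ℤ, ∀ i : ℤ, b < i → IsZero ((DCoh.HD E i).restrict hU.fromSpec) := by
  have : IsNoetherianRing Γ(X, U) := IsLocallyNoetherian.component_noetherian ⟨U, hU⟩
  have := TildeExact.preservesFiniteLimits_tilde Γ(X, U)
  obtain ⟨M, ⟨e⟩⟩ := TildeD.exists_iso_of_isQCohD (R := Γ(X, U)) _ (isQCohD_restrictD hU.fromSpec hE)
  let eH : ∀ i, DCoh.HD ((DCoh.tildeD Γ(X, U)).obj M) i ≅ (DCoh.HD E i).restrict hU.fromSpec :=
    fun i => (DerivedCategory.homologyFunctor _ i).mapIso e ≪≫ hdRestrict hU.fromSpec E i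
  have h1 : DCoh.IsPseudoCoherentD m ((DCoh.restrictD hU.fromSpec).obj E) ↔
      DRing.IsPseudoCoherent Γ(X, U) m M :=
    (PCohD.pc_iff_of_iso e.symm).trans
      ⟨fun h => TildePC.isPseudoCoherent_of_tildeD (A := Γ(X, U)) M m h,
        fun h => TildePC.isPseudoCoherentD_tildeD (A := Γ(X, U)) M m h⟩
  rw [h1, (Groth.Agent.S6942.result Γ(X, U) m M PUnit).1]
  refine ⟨fun ⟨⟨b, hb⟩, hf⟩ => ⟨fun i hi => CohDev.isCoh_of_iso (eH i)
      ((isCoh_HD_tildeD_iff (R := Γ(X, U)) M i).2 (hf i hi)), b, fun i hi =>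
        ((isZero_HD_tildeD_iff (R := Γ(X, U)) M i).2 (hb i hi)).of_iso (eH i).symm⟩,
    fun ⟨hf, b, hb⟩ => ⟨⟨b, fun i hi => (isZero_HD_tildeD_iff (R := Γ(X, U)) M i).1
      ((hb i hi).of_iso (eH i))⟩, fun i hi => (isCoh_HD_tildeD_iff (R := Γ(X, U)) M i).1
      (CohDev.isCoh_of_iso (eH i).symm (hf i hi))⟩⟩

/-- A complex with cohomology coherent in degrees `≥ m`, bounded above, is `m`-pseudo-coherent. -/
theorem pc_of_isCoh [IsLocallyNoetherian X] (E : DCoh.D X) (hE : DCoh.IsQCohD E) (m b : ℤ)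
    [E.IsLE b] (hc : ∀ i : ℤ, m ≤ i → Coh.IsCoh (DCoh.HD E i)) :
    DCoh.IsPseudoCoherentD m E := by
  refine PCohD.pc_of_local fun x => ?_
  obtain ⟨U, hU, hxU, -⟩ := exists_isAffineOpen_mem_and_subset (x := x) (U := ⊤) trivial
  refine ⟨_, hU.fromSpec, inferInstance, by rw [hU.range_fromSpec]; exact hxU,
    (pc_affine_iff E hE m hU).2 ⟨fun i hi => isCoh_restrict _ (hc i hi),
      b, fun i hi => Functor.map_isZero _ (DerivedCategory.isZero_of_isLE E b i hi)⟩⟩

theorem isPseudoCoherentD_of_isCohD [IsLocallyNoetherian X] (E : DCoh.D X) (hE : DCoh.IsCohD E)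
    (b : ℤ) [E.IsLE b] (m : ℤ) : DCoh.IsPseudoCoherentD m E :=
  pc_of_isCoh E (fun i => (hE i).1) m b fun i _ => hE i

/-- The cohomology of an `m`-pseudo-coherent complex is coherent in degrees `≥ m`. -/
theorem isCoh_of_pc [IsLocallyNoetherian X] (E : DCoh.D X) (hE : DCoh.IsQCohD E) (m : ℤ)
    (h : DCoh.IsPseudoCoherentD m E) (i : ℤ) (hi : m ≤ i) : Coh.IsCoh (DCoh.HD E i) := by
  have hq : (DCoh.HD E i).IsQuasicoherent := hE i
  refine ⟨hE i, @Groth.Agent.QCoh.isFiniteType_of_forall_exists _ _ hq fun x => ?_⟩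
  obtain ⟨U, hU, hxU, -⟩ := exists_isAffineOpen_mem_and_subset (x := x) (U := ⊤) trivial
  have hc := ((pc_affine_iff E hE m hU).1 (PCohD.pc_restrict _ h)).1 i hi
  have := hE i
  have := PerfTri.Bounded.finite_sections_of_restrict (DCoh.HD E i) hU.fromSpec ⊤
    (CohDev.finite_sections hc (isAffineOpen_top _))
  refine ⟨hU.fromSpec ''ᵁ ⊤, (isAffineOpen_top _).image_of_isOpenImmersion _, ?_, this⟩
  rw [Scheme.Hom.image_top_eq_opensRange]
  show x ∈ Set.range hU.fromSpec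
  rwa [hU.range_fromSpec]

theorem exists_isLE_of_pc [IsNoetherian X] (E : DCoh.D X) (hE : DCoh.IsQCohD E) (m : ℤ)
    (h : DCoh.IsPseudoCoherentD m E) : ∃ b : ℤ, E.IsLE b := by
  choose U hU hxU using fun x : X =>
    (exists_isAffineOpen_mem_and_subset (x := x) (U := ⊤) trivial).imp fun _ h => h.imp id And.left
  choose b hb using fun x => ((pc_affine_iff E hE m (hU x)).1 (PCohD.pc_restrict _ h)).2
  obtain ⟨t, ht⟩ := isCompact_univ.elim_finite_subcover (fun x => (U x : Set X))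
    (fun x => (U x).2) fun x _ => Set.mem_iUnion.2 ⟨x, hxU x⟩
  obtain ⟨B, hB⟩ := (t.image b).bddAbove
  refine ⟨B, (DerivedCategory.isLE_iff E B).2 fun i hi => ?_⟩
  refine PCohD.isZero_of_cover (fun x : t => U x.1) (fun y => ?_) _ fun x => ?_
  · obtain ⟨x, hx, hy⟩ := Set.mem_iUnion₂.1 (ht (Set.mem_univ y))
    exact ⟨⟨x, hx⟩, hy⟩
  · have hle : b x.1 ≤ B := hB (Finset.mem_coe.2 (Finset.mem_image_of_mem b x.2))
    refine ((Scheme.Modules.restrictFunctor (hU x.1).isoSpec.hom).map_isZero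
      (hb x.1 i (by omega))).of_iso ?_
    exact ((Scheme.Modules.restrictFunctorComp (hU x.1).isoSpec.hom (hU x.1).fromSpec).symm ≪≫
      Scheme.Modules.restrictFunctorCongr (IsAffineOpen.isoSpec_hom_fromSpec _)).symm.app _

end Groth.Agent.KFlat.PCNoeth
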