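import Groth.Agent.KFlat.LocalD
import Groth.Agent.KFlat.LTensor
import Groth.Agent.KFlat.TensorLocFree

/-!
# Derived tensor products of perfect objects
-/

set_option autoImplicit false

universe u

open CategoryTheory CategoryTheory.Limits AlgebraicGeometry
open Groth.Agent.KFlat.Pull

attribute [local instance] HasDerivedCategory.standard

namespace Groth.Agent.KFlat.PerfectTensor

variable {X : Scheme.{u}}

/-- Restriction in two steps, naturally. -/
noncomputable def restrictResNatIso {U V : X.Opens} (h : V ≤ U) :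
    Scheme.Modules.restrictFunctor V.ι ≅
      Scheme.Modules.restrictFunctor U.ι ⋙ Scheme.Modules.pullback (X.homOfLE h) :=
  Scheme.Modules.restrictFunctorIsoPullback V.ι ≪≫
    Scheme.Modules.pullbackCongr (X.homOfLE_ι h).symm ≪≫
    (Scheme.Modules.pullbackComp (X.homOfLE h) U.ι).symm ≪≫
    Functor.isoWhiskerRight (Scheme.Modules.restrictFunctorIsoPullback U.ι).symm _

/-- Restriction of complexes in two steps. -/
noncomputable def restrictResCxIso {U V : X.Opens} (h : V ≤ U) (K : CochainComplex X.Modules ℤ) :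
    (DCoh.restrictCx V).obj K ≅ (pullCx (X.homOfLE h)).obj ((DCoh.restrictCx U).obj K) :=
  HomologicalComplex.Hom.isoOfComponents (fun n => (restrictResNatIso h).app (K.X n))
    fun i j _ => ((restrictResNatIso h).hom.naturality (K.d i j)).symm

/-- Local strictly perfect models of K-flat complexes pass to smaller opens. -/
theorem model_mono {U V : X.Opens} (h : V ≤ U) {K : CochainComplex X.Modules ℤ} (hK : DCoh.IsKFlat K)
    {S : CochainComplex (U : Scheme.{u}).Modules ℤ} (hS : DCoh.IsStrictlyPerfect S)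
    (e : DerivedCategory.Q.obj ((DCoh.restrictCx U).obj K) ≅ DerivedCategory.Q.obj S) :
    Nonempty (DerivedCategory.Q.obj ((DCoh.restrictCx V).obj K) ≅
      DerivedCategory.Q.obj ((pullCx (X.homOfLE h)).obj S)) :=
  ⟨DerivedCategory.Q.mapIso (restrictResCxIso h K) ≪≫
    LocalD.pullQIso _ (LocalD.isKFlat_restrict hK U) (LocalD.isKFlat_of_isStrictlyPerfect hS) e⟩

/-- Tensor products with a fixed complex only depend on the class of a K-flat complex. -/
noncomputable def tensorQIso {A A' : CochainComplex X.Modules ℤ} (B : CochainComplex X.Modules ℤ)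
    (hA : DCoh.IsKFlat A) (hA' : DCoh.IsKFlat A') (e : DerivedCategory.Q.obj A ≅ DerivedCategory.Q.obj A') :
    DerivedCategory.Q.obj ((DCoh.tensorCx.obj A).obj B) ≅ DerivedCategory.Q.obj ((DCoh.tensorCx.obj A').obj B) :=
  have := LTensor.hasLTensorCx B
  (@asIso _ _ _ _ ((LTensor.toTensor B).app A) (LTensor.isIso_toTensor B hA)).symm ≪≫
    (DCoh.LTensorCx B).mapIso e ≪≫ @asIso _ _ _ _ ((LTensor.toTensor B).app A') (LTensor.isIso_toTensor B hA')

/-- Symmetry of the tensor product of complexes on a scheme. -/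
noncomputable def flipIso (A B : CochainComplex X.Modules ℤ) :
    (DCoh.tensorCx.obj A).obj B ≅ (DCoh.tensorCx.obj B).obj A :=
  @Iso.app _ _ _ _ (((tens X.sheaf).flip).obj B) (((tens X.sheaf)).obj B) ((tensFlipIso X.sheaf).app B) A

/-- The tensor product of K-flat complexes only depends on their classes. -/
noncomputable def tensorQIso₂ {A A' B B' : CochainComplex X.Modules ℤ} (hA : DCoh.IsKFlat A)
    (hA' : DCoh.IsKFlat A') (hB : DCoh.IsKFlat B) (hB' : DCoh.IsKFlat B')
    (e : DerivedCategory.Q.obj A ≅ DerivedCategory.Q.obj A') (e' : DerivedCategory.Q.obj B ≅ DerivedCategory.Q.obj B') :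
    DerivedCategory.Q.obj ((DCoh.tensorCx.obj A).obj B) ≅ DerivedCategory.Q.obj ((DCoh.tensorCx.obj A').obj B') :=
  tensorQIso B hA hA' e ≪≫
    DerivedCategory.Q.mapIso (flipIso A' B) ≪≫
    tensorQIso A' hB hB' e' ≪≫
    DerivedCategory.Q.mapIso (flipIso B' A')

set_option maxHeartbeats 600000 in
theorem isPerfect_LTensor (L : CochainComplex X.Modules ℤ) (hL : DCoh.IsKFlat L)
    (hLp : DCoh.IsPerfect (DerivedCategory.Q.obj L)) [DCoh.HasLTensorCx L] {K : DCoh.D X}
    (hK : DCoh.IsPerfect K) : DCoh.IsPerfect ((DCoh.LTensorCx L).obj K) := by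
  let F₀ := DerivedCategory.Q.objPreimage K
  let P := (resY X).obj F₀
  have hP : DCoh.IsKFlat P := isKFlat_resY F₀
  have := quasiIso_resYπ F₀
  let eP : DCoh.toD X P ≅ K :=
    asIso (DerivedCategory.Q.map ((resYπ X).app F₀)) ≪≫ DerivedCategory.Q.objObjPreimageIso K
  refine LocalD.isPerfect_of_local fun x => ?_
  obtain ⟨U, hU, hF⟩ := hK x
  obtain ⟨S, hS, ⟨e⟩⟩ := hF P ⟨eP⟩
  obtain ⟨U', hU', hF'⟩ := hLp x
  obtain ⟨S', hS', ⟨e'⟩⟩ := hF' L ⟨Iso.refl _⟩
  obtain ⟨a⟩ := model_mono (inf_le_left : U ⊓ U' ≤ U) hP hS e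
  obtain ⟨b⟩ := model_mono (inf_le_right : U ⊓ U' ≤ U') hL hS' e'
  have hT := LocFree.isStrictlyPerfect_pullCx (X.homOfLE (inf_le_left : U ⊓ U' ≤ U)) hS
  have hT' := LocFree.isStrictlyPerfect_pullCx (X.homOfLE (inf_le_right : U ⊓ U' ≤ U')) hS'
  refine ⟨U ⊓ U', (DCoh.tensorCx.obj P).obj L, _, ⟨hU, hU'⟩,
    ⟨(@asIso _ _ _ _ ((LTensor.toTensor L).app P) (LTensor.isIso_toTensor L hP)).symm ≪≫
      (DCoh.LTensorCx L).mapIso eP⟩, TensorLocFree.isStrictlyPerfect_tensorCx hT hT', ⟨?_⟩⟩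
  exact DerivedCategory.Q.mapIso ((FlatPull.restrictCxIso _).app _ ≪≫
      PullTensor.pullTensorCxIso (U ⊓ U').ι P L ≪≫
      (DCoh.tensorCx.mapIso ((FlatPull.restrictCxIso _).app P).symm).app _ ≪≫
      (DCoh.tensorCx.obj _).mapIso ((FlatPull.restrictCxIso _).app L).symm) ≪≫
    tensorQIso₂ (LocalD.isKFlat_restrict hP _) (LocalD.isKFlat_of_isStrictlyPerfect hT)
      (LocalD.isKFlat_restrict hL _) (LocalD.isKFlat_of_isStrictlyPerfect hT') a b

end Groth.Agent.KFlat.PerfectTensor
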