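import Groth.Agent.KFlat.DualAdj
import Groth.Agent.KFlat.LTensorAssoc
import Groth.Agent.KFlat.LocalD
import Groth.Agent.KFlat.ProjFormula
import Groth.Agent.KFlat.TensorLocFree
import Groth.Agent.KFlat.PerfectTensor
import Groth.Agent.KFlat.QCohModel
import Mathlib.CategoryTheory.Localization.Adjunction

/-!
# Strict duals of strictly perfect complexes and the adjunction on derived categories
-/

set_option autoImplicit false
set_option linter.unusedSectionVars false

universe u

open CategoryTheory CategoryTheory.Limits AlgebraicGeometry Opposite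
open TopologicalSpace (Opens)
open Groth.Agent.KFlat.DualCells Groth.Agent.KFlat.DualAdj Groth.Agent.KFlat.Pull Groth.Agent.KFlat.LTensor

attribute [local instance] HasDerivedCategory.standard

namespace Groth.Agent.KFlat.StrictDual

variable {X : Scheme.{u}}

/-- The bases of the standard free module. -/
noncomputable def cellsFree (X : Scheme.{u}) (n : ℕ) :
    Cells (Coh.structureModule X) (FlatMod.freeMod X n) n where
  i a := Sigma.ι (fun _ : Fin n => Coh.structureModule X) a
  p a := Sigma.desc fun b => if b = a then 𝟙 _ else 0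
  ip a b := Sigma.ι_desc _ _
  total := Sigma.hom_ext _ _ fun b => by
    rw [Preadditive.comp_sum, Finset.sum_eq_single b (fun a _ ha => ?_) (fun h => absurd (Finset.mem_univ b) h)]
    · erw [Category.comp_id]
      simp
    · simp [ha.symm]

/-- Transport of bases. -/
noncomputable def cellsOfIso {M N : X.Modules} {n : ℕ} (c : Cells (Coh.structureModule X) M n) (e : M ≅ N) :
    Cells (Coh.structureModule X) N n where
  i a := c.i a ≫ e.hom
  p a := e.inv ≫ c.p a
  ip a b := by rw [Category.assoc, e.hom_inv_id_assoc]; exact c.ip a b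
  total := by
    have h : ∀ a, (e.inv ≫ c.p a) ≫ c.i a ≫ e.hom = e.inv ≫ (c.p a ≫ c.i a) ≫ e.hom := fun a => by
      simp only [Category.assoc]
    rw [Finset.sum_congr rfl fun a _ => h a, ← Preadditive.comp_sum, ← Preadditive.sum_comp, c.total,
      Category.id_comp, Iso.inv_hom_id]

/-- Endomorphisms of the structure sheaf commute. -/
theorem end_comm (f g : Coh.structureModule X ⟶ Coh.structureModule X) : f ≫ g = g ≫ f := by
  ext U s
  have hf : ∀ t : Γ(Coh.structureModule X, U), f.app U t = (show Γ(X, U) from t) •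
      f.app U (show Γ(Coh.structureModule X, U) from (1 : Γ(X, U))) := fun t => by
    rw [← Scheme.Modules.Hom.app_smul]
    exact congrArg (f.app U) (mul_one (show Γ(X, U) from t)).symm
  have hg : ∀ t : Γ(Coh.structureModule X, U), g.app U t = (show Γ(X, U) from t) •
      g.app U (show Γ(Coh.structureModule X, U) from (1 : Γ(X, U))) := fun t => by
    rw [← Scheme.Modules.Hom.app_smul]
    exact congrArg (g.app U) (mul_one (show Γ(X, U) from t)).symm
  change g.app U (f.app U s) = f.app U (g.app U s)
  rw [hg (f.app U s), hf s, hf (g.app U s), hg s]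
  change ((show Γ(X, U) from s) * _) * _ = ((show Γ(X, U) from s) * _) * _
  exact mul_right_comm (show Γ(X, U) from s) _ _

section Exists

variable (E : CochainComplex X.Modules ℤ) (k : ℤ → ℕ)
  (c : ∀ n, Cells (Coh.structureModule X) (E.X n) (k n))

/-- An entry of the dual differential. -/
noncomputable def entry (m m' : ℤ) (j : Fin (k (-m))) (i : Fin (k (-m'))) :
    Coh.structureModule X ⟶ Coh.structureModule X :=
  ((-m').negOnePow : ℤ) • ((c (-m')).i i ≫ E.d (-m') (-m) ≫ (c (-m)).p j)

/-- The dual differential. -/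
noncomputable def dualD (m m' : ℤ) : FlatMod.freeMod X (k (-m)) ⟶ FlatMod.freeMod X (k (-m')) :=
  ∑ j, ∑ i, (cellsFree X _).p j ≫ entry E k c m m' j i ≫ (cellsFree X _).i i

theorem i_dualD_p (m m' : ℤ) (j : Fin (k (-m))) (i : Fin (k (-m'))) :
    (cellsFree X _).i j ≫ dualD E k c m m' ≫ (cellsFree X _).p i = entry E k c m m' j i := by
  simp only [dualD, Preadditive.comp_sum, Preadditive.sum_comp, Category.assoc, (cellsFree X _).ip]
  rw [Finset.sum_eq_single j, Finset.sum_eq_single i]
  · rw [← Category.assoc, (cellsFree X _).ip, if_pos rfl, if_pos rfl, Category.id_comp]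
    exact Category.comp_id _
  · intro b _ hb
    simp [hb]
  · exact fun h => absurd (Finset.mem_univ _) h
  · intro b _ hb
    refine Finset.sum_eq_zero fun a _ => ?_
    rw [← Category.assoc, (cellsFree X _).ip, if_neg (Ne.symm hb), zero_comp]
  · exact fun h => absurd (Finset.mem_univ _) h

theorem dualD_comp (m m' m'' : ℤ) : dualD E k c m m' ≫ dualD E k c m' m'' = 0 := by
  have hs : ∀ j l, ∑ i, entry E k c m m' j i ≫ entry E k c m' m'' i l = 0 := fun j l => by
    have : ∀ i, entry E k c m m' j i ≫ entry E k c m' m'' i l =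
        (((-m').negOnePow : ℤ) * ((-m'').negOnePow : ℤ)) •
          (((c (-m'')).i l ≫ E.d (-m'') (-m')) ≫ (c (-m')).p i ≫ (c (-m')).i i ≫
            E.d (-m') (-m) ≫ (c (-m)).p j) := fun i => by
      rw [entry, entry, Preadditive.zsmul_comp, Preadditive.comp_zsmul, smul_smul, end_comm]
      simp only [Category.assoc]
    have hi : ∑ i, (c (-m')).p i ≫ (c (-m')).i i ≫ E.d (-m') (-m) ≫ (c (-m)).p j =
        E.d (-m') (-m) ≫ (c (-m)).p j := by
      rw [Finset.sum_congr rfl fun i _ => (Category.assoc _ _ _).symm, ← Preadditive.sum_comp,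
        (c (-m')).total, Category.id_comp]
    rw [Finset.sum_congr rfl fun i _ => this i, ← Finset.smul_sum, ← Preadditive.comp_sum, hi,
      Category.assoc, HomologicalComplex.d_comp_d_assoc, zero_comp, comp_zero, smul_zero]
  refine (Category.id_comp _).symm.trans ?_
  rw [← (cellsFree X (k (-m))).total, Preadditive.sum_comp]
  refine Finset.sum_eq_zero fun j _ => ?_
  refine (Category.comp_id _).symm.trans ?_
  rw [← (cellsFree X (k (-m''))).total, Preadditive.comp_sum]
  refine Finset.sum_eq_zero fun l _ => ?_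
  have : (cellsFree X _).i j ≫ (dualD E k c m m' ≫ dualD E k c m' m'') ≫ (cellsFree X _).p l =
      ∑ i, entry E k c m m' j i ≫ entry E k c m' m'' i l := by
    conv_lhs => rw [← Category.comp_id (dualD E k c m m'), ← (cellsFree X (k (-m'))).total]
    simp only [Preadditive.comp_sum, Preadditive.sum_comp, Category.assoc]
    refine Finset.sum_congr rfl fun i _ => ?_
    rw [← i_dualD_p E k c m m' j i, ← i_dualD_p E k c m' m'' i l]
    simp only [Category.assoc]
  have h0 := this.trans (hs j l)
  simp only [Category.assoc] at h0 ⊢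
  rw [reassoc_of% h0, zero_comp, comp_zero]

/-- The dual complex. -/
noncomputable def dualCx : CochainComplex X.Modules ℤ where
  X m := FlatMod.freeMod X (k (-m))
  d m m' := dualD E k c m m'
  shape m m' h := by
    have : E.d (-m') (-m) = 0 := E.shape _ _ (fun h' => h (by simp at h' ⊢; omega))
    simp [dualD, entry, this]
  d_comp_d' m m' m'' _ _ := dualD_comp E k c m m' m''

/-- The strict pair. -/
noncomputable def pair (s : Finset ℤ) (hs : ∀ n, n ∉ s → k n = 0) :
    StrictPair (Coh.structureModule X) E (dualCx E k c) where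
  k := k
  s := s
  hs := hs
  c := c
  c' n m h := (show -m = n by omega) ▸ cellsFree X (k (-m))
  a _ := 1
  ha _ := rfl
  compat n n' m m' h h' _ i j := by
    obtain rfl : n = -m := by omega
    obtain rfl : n' = -m' := by omega
    rw [one_smul, mul_one]
    refine (i_dualD_p E k c m' m j i).trans ?_
    rfl

end Exists

/-- A complex with bases and bounded is strictly perfect. -/
theorem isFinLocFree_of_cells {M : X.Modules} {n : ℕ} (c : Cells (Coh.structureModule X) M n) :
    FlatMod.IsFinLocFree M := fun x => by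
  let e : FlatMod.freeMod X n ≅ M :=
    { hom := Sigma.desc c.i
      inv := ∑ a, c.p a ≫ Sigma.ι (fun _ : Fin n => Coh.structureModule X) a
      hom_inv_id := Sigma.hom_ext _ _ fun b => by
        rw [Sigma.ι_desc_assoc, Preadditive.comp_sum, Finset.sum_eq_single b (fun a _ ha => by
          rw [← Category.assoc, c.ip, if_neg (Ne.symm ha), zero_comp]) (fun h => absurd (Finset.mem_univ b) h),
          ← Category.assoc, c.ip, if_pos rfl, Category.id_comp]
        exact (Category.comp_id _).symm
      inv_hom_id := by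
        simp only [Preadditive.sum_comp, Category.assoc, Sigma.ι_desc]
        exact c.total }
  exact ⟨⊤, n, trivial, ⟨((Scheme.Modules.restrictFunctorIsoPullback (⊤ : X.Opens).ι).app M) ≪≫
    (Scheme.Modules.pullback _).mapIso e.symm ≪≫ LocFree.pullFreeIso _ n⟩⟩

variable {E E' : CochainComplex X.Modules ℤ} (P : StrictPair (Coh.structureModule X) E E')

include P in
theorem isStrictlyPerfect_left : DCoh.IsStrictlyPerfect E := by
  classical
  obtain ⟨a, ha⟩ := P.s.bddBelow
  obtain ⟨b, hb⟩ := P.s.bddAbove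
  refine ⟨⟨a, b, fun i hi => ?_⟩, fun i => isFinLocFree_of_cells (P.c i)⟩
  have hi' : i ∉ P.s := fun h => by
    rcases hi with hi | hi
    · exact absurd (ha h) (by omega)
    · exact absurd (hb h) (by omega)
  have : IsEmpty (Fin (P.k i)) := by rw [P.hs i hi']; infer_instance
  rw [IsZero.iff_id_eq_zero, ← (P.c i).total]
  exact Finset.sum_eq_zero fun j _ => isEmptyElim j

include P in
theorem isStrictlyPerfect_right : DCoh.IsStrictlyPerfect E' := by
  classical
  obtain ⟨a, ha⟩ := P.s.bddBelow
  obtain ⟨b, hb⟩ := P.s.bddAbove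
  refine ⟨⟨-b, -a, fun i hi => ?_⟩, fun i => isFinLocFree_of_cells (P.c' (-i) i (by omega))⟩
  have hi' : -i ∉ P.s := fun h => by
    rcases hi with hi | hi
    · exact absurd (hb h) (by omega)
    · exact absurd (ha h) (by omega)
  have : IsEmpty (Fin (P.k (-i))) := by rw [P.hs _ hi']; infer_instance
  rw [IsZero.iff_id_eq_zero, ← (P.c' (-i) i (by omega)).total]
  exact Finset.sum_eq_zero fun j _ => isEmptyElim j

include P in
theorem isKFlat_left : DCoh.IsKFlat E := LocalD.isKFlat_of_isStrictlyPerfect (isStrictlyPerfect_left P)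

include P in
theorem isKFlat_right : DCoh.IsKFlat E' := LocalD.isKFlat_of_isStrictlyPerfect (isStrictlyPerfect_right P)

instance additive_tensorBi_flip (M : X.Modules) : ((DCoh.tensorBi (X := X)).flip.obj M).Additive where
  map_add {A B f g} := by
    change ((DCoh.tensorBi (X := X)).map (f + g)).app M = _
    rw [Functor.map_add]
    rfl

instance preservesColimits_flip (M : X.Modules) (I : Type) :
    PreservesColimitsOfShape (Discrete I) ((DCoh.tensorBi (X := X)).flip.obj M) :=
  (TensorLocFree.preservesColimits_tensorBi_flip_obj M).preservesColimitsOfShape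

/-- `- ⊗ᴸ E ⊣ - ⊗ᴸ E'`. -/
noncomputable def adjLT [DCoh.HasLTensorCx E] [DCoh.HasLTensorCx E'] :
    DCoh.LTensorCx E ⊣ DCoh.LTensorCx E' :=
  have : ∀ M, IsIso ((toTensor E).app M) := fun M => isIso_toTensor_of_kflat E (isKFlat_left P) M
  have : ∀ M, IsIso ((toTensor E').app M) := fun M => isIso_toTensor_of_kflat E' (isKFlat_right P) M
  have : IsIso (toTensor E) := NatIso.isIso_of_isIso_app _
  have : IsIso (toTensor E') := NatIso.isIso_of_isIso_app _
  letI : CatCommSq ((DCoh.tensorCx (X := X)).flip.obj E) DerivedCategory.Q DerivedCategory.Q (DCoh.LTensorCx E) :=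
    ⟨(asIso (toTensor E)).symm⟩
  letI : CatCommSq ((DCoh.tensorCx (X := X)).flip.obj E') DerivedCategory.Q DerivedCategory.Q
      (DCoh.LTensorCx E') :=
    ⟨(asIso (toTensor E')).symm⟩
  (DualAdj.adj (DCoh.tensorBi (X := X)) (ProjFormula.unitRight X) P).localization
    DerivedCategory.Q (HomologicalComplex.quasiIso _ (ComplexShape.up ℤ))
    DerivedCategory.Q (HomologicalComplex.quasiIso _ (ComplexShape.up ℤ))
    (DCoh.LTensorCx E) (DCoh.LTensorCx E')

/-- Bases exist after shrinking the open. -/
theorem exists_pair {K : DCoh.D X} (hK : DCoh.IsPerfect K) (x : X) (W : X.Opens) (hW : x ∈ W)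
    (F : CochainComplex X.Modules ℤ) (hF : Nonempty (DCoh.toD X F ≅ K)) :
    ∃ (V : X.Opens) (_ : x ∈ V) (_ : V ≤ W) (E E' : CochainComplex (V : Scheme.{u}).Modules ℤ)
      (_ : StrictPair (Coh.structureModule (V : Scheme.{u})) E E'),
      IsAffineOpen V ∧ Nonempty (DerivedCategory.Q.obj ((DCoh.restrictCx V).obj F) ≅ DerivedCategory.Q.obj E) := by
  classical
  obtain ⟨U, hxU, hU⟩ := hK x
  obtain ⟨E₀, hE₀, ⟨e₀⟩⟩ := hU F hF
  obtain ⟨⟨a, b, hv⟩, hfree⟩ := hE₀
  choose W' n hxW' hfr using fun i => hfree i ⟨x, hxU⟩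
  let s := Finset.Icc a b
  obtain ⟨(V : X.Opens), hV, hxV, hVle⟩ := Opens.isBasis_iff_nbhd.1 X.isBasis_affineOpens
    (show x ∈ W ⊓ (U.ι ''ᵁ (s.inf W')) from ⟨hW, ⟨⟨x, hxU⟩, by
      induction s using Finset.induction_on with
      | empty => exact trivial
      | insert i s _ ih => simp only [Finset.inf_insert]; exact ⟨hxW' i, ih⟩, rfl⟩⟩)
  have hVU : V ≤ U := fun y hy => by
    obtain ⟨z, -, rfl⟩ := (hVle hy).2
    exact z.2
  let j : (V : Scheme.{u}) ⟶ (U : Scheme.{u}) := X.homOfLE hVU
  let k : ℤ → ℕ := fun i => if i ∈ s then n i else 0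
  let E := (pullCx j).obj E₀
  have hc : ∀ i, Nonempty (Cells (Coh.structureModule (V : Scheme.{u})) (E.X i) (k i)) := fun i => by
    by_cases hi : i ∈ s
    · simp only [k, if_pos hi]
      have hle : ⊤ ≤ j ⁻¹ᵁ W' i := fun y _ => by
        obtain ⟨z, hz, hzy⟩ := (hVle y.2).2
        have : j y = z := Subtype.ext (by
          have h1 : U.ι (j y) = V.ι y := congrArg (fun f : (V : Scheme.{u}) ⟶ X => f y) (X.homOfLE_ι hVU)
          exact h1.trans hzy.symm)
        change j y ∈ W' i
        rw [this]
        exact Finset.inf_le (f := W') hi hz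
      obtain ⟨e⟩ := hfr i
      let g := j.resLE (W' i) ⊤ hle
      let e' : (Scheme.Modules.restrictFunctor (⊤ : (V : Scheme.{u}).Opens).ι).obj (E.X i) ≅
          FlatMod.freeMod (⊤ : (V : Scheme.{u}).Opens) (n i) :=
        LocFree.restrictPullIso j (W' i) ⊤ hle _ ≪≫ (Scheme.Modules.pullback g).mapIso e ≪≫
          LocFree.pullFreeIso g (n i)
      let t := ((V : Scheme.{u}).topIso).inv
      exact ⟨cellsOfIso (cellsFree _ (n i)) ((LocFree.pullFreeIso t (n i)).symm ≪≫
        (Scheme.Modules.pullback t).mapIso (e'.symm ≪≫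
          (Scheme.Modules.restrictFunctorIsoPullback _).app _) ≪≫
        (Scheme.Modules.pullbackComp t _).app _ ≪≫ (Scheme.Modules.pullbackCongr (by simp [t])).app _ ≪≫
        (Scheme.Modules.pullbackId (V : Scheme.{u})).app _)⟩
    · simp only [k, if_neg hi]
      have hz : IsZero (E.X i) := (Scheme.Modules.pullback j).map_isZero (hv i (by
        simp [s, Finset.mem_Icc] at hi; omega))
      exact ⟨{ i := Fin.elim0, p := Fin.elim0, ip := fun a => a.elim0, total := hz.eq_of_src _ _ }⟩
  let c := fun i => (hc i).some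
  refine ⟨V, hxV, fun y hy => (hVle hy).1, E, dualCx E k c,
    pair E k c s (fun i hi => if_neg hi), hV, ⟨?_⟩⟩
  let r : (DCoh.restrictCx U).obj F ⟶ (DCoh.restrictCx U).obj F := 𝟙 _
  let eR : ∀ (G : CochainComplex X.Modules ℤ),
      (DCoh.restrictCx V).obj G ≅ (pullCx j).obj ((DCoh.restrictCx U).obj G) := fun G =>
    (PerfectTensor.restrictResCxIso hVU G)
  have := hasLpull j
  let sh := (DCoh.restrictCx U).obj F
  exact DerivedCategory.Q.mapIso (eR F) ≪≫
    DerivedCategory.Q.mapIso (((QCohModel.restrJIso j)).app sh).symm ≪≫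
    ((Scheme.Modules.restrictFunctor j).mapDerivedCategoryFactors.app sh).symm ≪≫
    (Scheme.Modules.restrictFunctor j).mapDerivedCategory.mapIso e₀ ≪≫
    (Scheme.Modules.restrictFunctor j).mapDerivedCategoryFactors.app E₀ ≪≫
    DerivedCategory.Q.mapIso ((QCohModel.restrJIso j).app E₀)

/-- Derived tensor products only depend on the class of the complex. -/
theorem nonempty_ltCongr {A B : CochainComplex X.Modules ℤ}
    (e : DerivedCategory.Q.obj A ≅ DerivedCategory.Q.obj B) [DCoh.HasLTensorCx A] [DCoh.HasLTensorCx B] :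
    Nonempty (DCoh.LTensorCx A ≅ DCoh.LTensorCx B) := by
  obtain ⟨T, s, hs, g, hg⟩ := DerivedCategory.right_fac e.hom
  have hg' : IsIso (DerivedCategory.Q.map g) := by
    have : IsIso (inv (DerivedCategory.Q.map s) ≫ DerivedCategory.Q.map g) := hg ▸ inferInstance
    exact IsIso.of_isIso_comp_left (inv (DerivedCategory.Q.map s)) _
  have hqs : QuasiIso s := (DerivedCategory.isIso_Q_map_iff_quasiIso X.Modules s).1 hs
  have hqg : QuasiIso g := (DerivedCategory.isIso_Q_map_iff_quasiIso X.Modules g).1 hg'
  have := LTensor.hasLTensorCx T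
  have step : ∀ {A B : CochainComplex X.Modules ℤ} (f : A ⟶ B) [QuasiIso f] [DCoh.HasLTensorCx A]
      [DCoh.HasLTensorCx B], Nonempty (DCoh.LTensorCx A ≅ DCoh.LTensorCx B) := by
    intro A B f _ _ _
    let τ : resY X ⋙ DCoh.tensorCxQ A ⟶ resY X ⋙ DCoh.tensorCxQ B :=
      Functor.whiskerLeft (resY X) (Functor.whiskerRight (DCoh.tensorCx.flip.map f) DerivedCategory.Q)
    have : ∀ M, IsIso (τ.app M) := fun M =>
      have := quasiIso_tensorCx_map_right (E := A) (isKFlat_resY M) f
      inferInstanceAs (IsIso (DerivedCategory.Q.map ((DCoh.tensorCx.obj ((resY X).obj M)).map f)))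
    have : IsIso τ := NatIso.isIso_of_isIso_app τ
    exact ⟨Localization.liftNatIso DerivedCategory.Q (HomologicalComplex.quasiIso X.Modules (ComplexShape.up ℤ))
      _ _ _ _ (LTensorAssoc.ltIso A ≪≫ asIso τ ≪≫ (LTensorAssoc.ltIso B).symm)⟩
  exact ⟨(step s).some.symm ≪≫ (step g).some⟩

end Groth.Agent.KFlat.StrictDual
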