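import Groth.Agent.KFlat.ProjFormula
import Groth.Agent.KFlat.MapHomology
import Groth.Agent.KFlat.TotMapNat
import Groth.Prelude.Def_DCoh3

/-!
# Stalks of the cohomology of objects of the derived category
-/

set_option autoImplicit false

universe u

open CategoryTheory CategoryTheory.Limits AlgebraicGeometry MonoidalCategory
open Groth.Agent.KFlat.StalkTensor Groth.Agent.KFlat.StalkCx Groth.Agent.KFlat.ProjFormula

attribute [local instance] HasDerivedCategory.standard

namespace Groth.Agent.KFlat.StalkD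

variable {X : Scheme.{u}}

instance preservesFiniteLimits_stalkFunctor (y : X) : PreservesFiniteLimits (DerSch.stalkFunctor X y) :=
  Functor.preservesFiniteLimits_of_preservesHomology _

instance preservesFiniteColimits_stalkFunctor (y : X) : PreservesFiniteColimits (DerSch.stalkFunctor X y) :=
  Functor.preservesFiniteColimits_of_preservesHomology _

/-- Bijectivity on the stalks at `y` of all cohomology sheaves. -/
def HStalkIso (y : X) {A B : DCoh.D X} (α : A ⟶ B) : Prop :=
  ∀ i, StalkIso y ((DerivedCategory.homologyFunctor X.Modules i).map α)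

/-- Vanishing of the stalks at `y` of all cohomology sheaves. -/
def HStalkZero (y : X) (A : DCoh.D X) : Prop :=
  ∀ i, IsZero ((DerSch.stalkFunctor X y).obj ((DerivedCategory.homologyFunctor X.Modules i).obj A))

theorem isIso_of_hStalk {A B : DCoh.D X} (α : A ⟶ B) (h : ∀ y, HStalkIso y α) : IsIso α := by
  rw [DerivedCategory.isIso_iff]
  exact fun i => PullTensor.isIso_of_stalk_bijective _ fun y => (stalkIso_iff y _).1 (h y i)

variable {y : X}

theorem hStalkIso_of_isIso {A B : DCoh.D X} (α : A ⟶ B) [IsIso α] : HStalkIso y α := fun _ => inferInstance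

theorem hStalkIso_of_zero {A B : DCoh.D X} (hA : HStalkZero y A) (hB : HStalkZero y B) (α : A ⟶ B) :
    HStalkIso y α := fun i => (hA i).isIso (hB i) _

theorem HStalkIso.conj {A A' B B' : DCoh.D X} {α : A ⟶ A'} {β : B ⟶ B'} (h : HStalkIso y β)
    {e : A ⟶ B} {e' : A' ⟶ B'} [IsIso e] [IsIso e'] (w : α ≫ e' = e ≫ β) : HStalkIso y α := fun i => by
  let F := DerivedCategory.homologyFunctor X.Modules i ⋙ DerSch.stalkFunctor X y
  have : IsIso (F.map β) := h i
  have hw : F.map α ≫ F.map e' = F.map e ≫ F.map β := by rw [← F.map_comp, w, F.map_comp]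
  have : IsIso (F.map α ≫ F.map e') := by rw [hw]; infer_instance
  exact IsIso.of_isIso_comp_right (F.map α) (F.map e')

/-- The fourth side of a square. -/
theorem HStalkIso.of_square {A A' B B' : DCoh.D X} {α : A ⟶ A'} {β : B ⟶ B'} {θ : A ⟶ B} {θ' : A' ⟶ B'}
    (w : α ≫ θ' = θ ≫ β) (hα : HStalkIso y α) (hθ' : HStalkIso y θ') (hβ : HStalkIso y β) :
    HStalkIso y θ := fun i => by
  let F := DerivedCategory.homologyFunctor X.Modules i ⋙ DerSch.stalkFunctor X y
  have : IsIso (F.map α) := hα i
  have : IsIso (F.map θ') := hθ' i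
  have : IsIso (F.map β) := hβ i
  have hw : F.map α ≫ F.map θ' = F.map θ ≫ F.map β := by rw [← F.map_comp, w, F.map_comp]
  have : IsIso (F.map θ ≫ F.map β) := by rw [← hw]; infer_instance
  exact IsIso.of_isIso_comp_right (F.map θ) (F.map β)

theorem HStalkZero.of_iso {A B : DCoh.D X} (h : HStalkZero y A) (e : B ≅ A) : HStalkZero y B := fun i =>
  (h i).of_iso ((DerivedCategory.homologyFunctor X.Modules i ⋙ DerSch.stalkFunctor X y).mapIso e)

theorem hStalkIso_Q {K L : CochainComplex X.Modules ℤ} (f : K ⟶ L) (h : IsIso ((stCx y).map f)) :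
    HStalkIso y (DerivedCategory.Q.map f) := fun i => by
  let F := DerSch.stalkFunctor X y
  have h1 : IsIso ((stCx y ⋙ HomologicalComplex.homologyFunctor _ _ i).map f) :=
    inferInstanceAs (IsIso ((HomologicalComplex.homologyFunctor _ _ i).map ((stCx y).map f)))
  have h2 := (NatIso.isIso_map_iff (MapHomology.cxIso F i) f).1 h1
  exact (NatIso.isIso_map_iff
    (Functor.isoWhiskerRight (DerivedCategory.homologyFunctorFactors X.Modules i) F) f).2 h2

theorem hStalkZero_Q {K : CochainComplex X.Modules ℤ}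
    (h : ∀ p, IsZero ((DerSch.stalkFunctor X y).obj (K.X p))) : HStalkZero y (DerivedCategory.Q.obj K) :=
  fun i => IsZero.of_iso
    (ShortComplex.isZero_homology_of_isZero_X₂ ((K.sc i).map (DerSch.stalkFunctor X y)) (h i))
    ((DerSch.stalkFunctor X y).mapIso ((DerivedCategory.homologyFunctorFactors X.Modules i).app K) ≪≫
      ((K.sc i).mapHomologyIso (DerSch.stalkFunctor X y)).symm)

theorem isIso_stCx_tens {L L' : CochainComplex X.Modules ℤ} (f : L ⟶ L') (D : CochainComplex X.Modules ℤ)
    [IsIso ((stCx y).map f)] : IsIso ((stCx y).map (((DCoh.tensorCx (X := X)).map f).app D)) := by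
  have h := totMapIso_naturality_left (DCoh.tensorBi (X := X))
    (curriedTensor (ModuleCat.{u} (X.presheaf.stalk y))) (DerSch.stalkFunctor X y) (DerSch.stalkFunctor X y)
    (DerSch.stalkFunctor X y) (stIso y) (fun f b => stIso_left y f b) (fun a _ _ g => stIso_right y a g) f D
  rw [← Iso.eq_comp_inv] at h
  exact (congrArg (fun t => IsIso t) h).mpr inferInstance

theorem isZero_stalk_tens {L : CochainComplex X.Modules ℤ} (D : CochainComplex X.Modules ℤ)
    (h : ∀ p, IsZero ((DerSch.stalkFunctor X y).obj (L.X p))) (n : ℤ) :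
    IsZero ((DerSch.stalkFunctor X y).obj (((DCoh.tensorCx.obj L).obj D).X n)) :=
  (IsZero.iff_id_eq_zero _).2 <|
    Cofan.IsColimit.hom_ext (isColimitMapTotι (DCoh.tensorBi (X := X)) (DerSch.stalkFunctor X y) L D n) _ _
      fun i => (isZero_stalk_tensor _ (Or.inl (h i.1.1))).eq_of_src _ _

theorem isIso_stCx_single {M N : X.Modules} (φ : M ⟶ N) [StalkIso y φ] (n : ℤ) :
    IsIso ((stCx y).map ((HomologicalComplex.single X.Modules (ComplexShape.up ℤ) n).map φ)) :=
  (NatIso.isIso_map_iff (HomologicalComplex.singleMapHomologicalComplex (DerSch.stalkFunctor X y)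
    (ComplexShape.up ℤ) n) φ).2 (inferInstanceAs (IsIso ((HomologicalComplex.single _ _ n).map
      ((DerSch.stalkFunctor X y).map φ))))

theorem isZero_stalk_single {M : X.Modules} (h : IsZero ((DerSch.stalkFunctor X y).obj M)) (n p : ℤ) :
    IsZero ((DerSch.stalkFunctor X y).obj
      (((HomologicalComplex.single X.Modules (ComplexShape.up ℤ) n).obj M).X p)) := by
  by_cases hp : p = n
  · subst hp
    exact h.of_iso ((DerSch.stalkFunctor X y).mapIso (HomologicalComplex.singleObjXSelf _ _ _))
  · exact (DerSch.stalkFunctor X y).map_isZero (HomologicalComplex.isZero_single_obj_X _ _ _ _ hp)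

/-! ### Restriction -/

variable {V : X.Opens} (z : (V : Scheme.{u}))

theorem stalkIso_restrict_iff {M N : X.Modules} (φ : M ⟶ N) :
    StalkIso z ((Scheme.Modules.restrictFunctor V.ι).map φ) ↔ StalkIso (z.1 : X) φ := by
  rw [stalkIso_iff, stalkIso_iff]
  have e := (NatIso.isIso_map_iff (Scheme.Modules.restrictStalkNatIso V.ι z) φ)
  rw [ConcreteCategory.isIso_iff_bijective, ConcreteCategory.isIso_iff_bijective] at e
  exact e

theorem isZero_stalk_restrict_iff (M : X.Modules) :
    IsZero ((DerSch.stalkFunctor (V : Scheme.{u}) z).obj ((Scheme.Modules.restrictFunctor V.ι).obj M)) ↔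
      IsZero ((DerSch.stalkFunctor X (z.1 : X)).obj M) := by
  have e := ((Scheme.Modules.restrictStalkNatIso V.ι z).app M).addCommGroupIsoToAddEquiv.toEquiv.subsingleton_congr
  rw [ModuleCat.isZero_iff_subsingleton, ModuleCat.isZero_iff_subsingleton]
  exact e

theorem hStalkIso_of_restrict {A B : DCoh.D X} (α : A ⟶ B) (h : HStalkIso z ((DCoh.restrictD V.ι).map α)) :
    HStalkIso (z.1 : X) α := fun i =>
  (stalkIso_restrict_iff z _).1 ((NatIso.isIso_map_iff (Functor.isoWhiskerRight
    (MapHomology.iso (Scheme.Modules.restrictFunctor V.ι) i) (DerSch.stalkFunctor (V : Scheme.{u}) z)) α).1 (h i))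

theorem hStalkZero_of_restrict {A : DCoh.D X} (h : HStalkZero z ((DCoh.restrictD V.ι).obj A)) :
    HStalkZero (z.1 : X) A := fun i =>
  (isZero_stalk_restrict_iff z _).1 ((h i).of_iso ((DerSch.stalkFunctor (V : Scheme.{u}) z).mapIso
    ((MapHomology.iso (Scheme.Modules.restrictFunctor V.ι) i).app A).symm))

theorem isIso_restrict_toUnit {W : X.Opens} (hVW : V ≤ W) :
    IsIso ((Scheme.Modules.restrictFunctor V.ι).map (toUnit W)) :=
  PullTensor.isIso_of_stalk_bijective _ fun w => (stalkIso_iff w _).1
    ((stalkIso_restrict_iff w _).2 (stalkIso_toUnit W (hVW w.2)))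

end Groth.Agent.KFlat.StalkD
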