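import Groth.Agent.KFlat.ExtZero
import Groth.Agent.KFlat.ProjFormulaClosed
import Groth.Agent.KFlat.TensorLocFree
import Mathlib.CategoryTheory.Adjunction.Triple

/-!
# The projection formula for extension by zero
-/

set_option autoImplicit false

universe u

open CategoryTheory CategoryTheory.Limits AlgebraicGeometry
open Groth.Agent.KFlat.ProjFormula Groth.Agent.KFlat.PullTensor Groth.Agent.PullStalk.Sky

attribute [local instance] HasDerivedCategory.standard

namespace Groth.Agent.KFlat.ExtZeroTensor

variable {X : Scheme.{u}} (U : X.Opens)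

/-- Extension by zero. -/
noncomputable abbrev jS : (U : Scheme.{u}).Modules ⥤ X.Modules := CxOX.extZero U.ι

/-- Restriction. -/
noncomputable abbrev jP : X.Modules ⥤ (U : Scheme.{u}).Modules := Scheme.Modules.pullback U.ι

/-- `j_! ⊣ j^*`, with `j^*` the inverse image. -/
noncomputable def adjP : jS U ⊣ jP U :=
  (CxOX.extZeroAdj U.ι).ofNatIsoRight (Scheme.Modules.restrictFunctorIsoPullback U.ι)

instance isIso_unit_extZero : IsIso (CxOX.extZeroAdj U.ι).unit :=
  (Adjunction.Triple.isIso_unit_iff_isIso_counit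
    ⟨CxOX.extZeroAdj U.ι, Scheme.Modules.restrictAdjunction U.ι⟩).2 inferInstance

instance isIso_unit_adjP : IsIso (adjP U).unit := by
  rw [NatTrans.isIso_iff_isIso_app]
  intro A
  simp only [adjP, Adjunction.ofNatIsoRight_unit, NatTrans.comp_app, Functor.whiskerLeft_app]
  infer_instance

/-- Off `U` the stalks of `j_!` vanish. -/
theorem isZero_stalk_extZero (A : (U : Scheme.{u}).Modules) {y : X} (hy : y ∉ U) :
    IsZero ((DerSch.stalkFunctor X y).obj ((jS U).obj A)) := by
  let S := sky y (((jS U).obj A).presheaf.stalk y)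
  let g : (jS U).obj A ⟶ S := toSky LinearMap.id
  let h := (CxOX.extZeroAdj U.ι).homEquiv A S g
  have hh : h = 0 := by
    ext W p
    refine funext fun q => absurd q.down ?_
    rintro ⟨⟨z, hz⟩, -, rfl⟩
    exact hy hz
  have hg : g = 0 := by
    apply ((CxOX.extZeroAdj U.ι).homEquiv A S).injective
    refine hh.trans ?_
    simp only [Adjunction.homEquiv_unit, Functor.map_zero, comp_zero]
  refine @ModuleCat.isZero_of_subsingleton _ _ _ (subsingleton_of_forall_eq 0 fun t => ?_)
  obtain ⟨V, hV, m, rfl⟩ := exists_germM_eq _ y t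
  have := toSky_app (x := y) (N := ((jS U).obj A).presheaf.stalk y) LinearMap.id V m ⟨hV⟩
  refine this.symm.trans ?_
  change (show PLift (y ∈ V) → _ from g.app V m) ⟨hV⟩ = _
  rw [hg]
  rfl

/-- A map which is an isomorphism on `U` and whose stalks vanish off `U`. -/
theorem isIso_of_pull {A B : X.Modules} (φ : A ⟶ B) [IsIso ((jP U).map φ)]
    (hA : ∀ y : X, y ∉ U → IsZero ((DerSch.stalkFunctor X y).obj A))
    (hB : ∀ y : X, y ∉ U → IsZero ((DerSch.stalkFunctor X y).obj B)) : IsIso φ := by
  refine isIso_of_stalk_bijective φ fun y => ?_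
  by_cases hy : y ∈ U
  · have hr : IsIso ((Scheme.Modules.restrictFunctor U.ι).map φ) :=
      (NatIso.isIso_map_iff (Scheme.Modules.restrictFunctorIsoPullback U.ι) φ).2 inferInstance
    have hm : IsIso ((Scheme.Modules.restrictFunctor U.ι ⋙ Scheme.Modules.toPresheaf _ ⋙
        TopCat.Presheaf.stalkFunctor Ab.{u} (⟨y, hy⟩ : U)).map φ) := by
      have h1 : IsIso ((Scheme.Modules.toPresheaf _).map ((Scheme.Modules.restrictFunctor U.ι).map φ)) :=
        inferInstance
      simp only [Functor.comp_map]; infer_instance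
    have hm' := (NatIso.isIso_map_iff (Scheme.Modules.restrictStalkNatIso U.ι ⟨y, hy⟩) φ).1 hm
    have hb := (ConcreteCategory.isIso_iff_bijective _).1 hm'
    exact hb
  · have hi : IsIso ((DerSch.stalkFunctor X y).map φ) := (hA y hy).isIso (hB y hy) _
    exact (ConcreteCategory.isIso_iff_bijective _).1 hi

variable (A : (U : Scheme.{u}).Modules) (B : X.Modules)

/-- The transpose of the projection map. -/
noncomputable def lamT :
    ((DCoh.tensorBi (X := (U : Scheme.{u}))).obj A).obj ((jP U).obj B) ⟶
      (jP U).obj (((DCoh.tensorBi (X := X)).obj ((jS U).obj A)).obj B) :=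
  ((DCoh.tensorBi (X := (U : Scheme.{u}))).map ((adjP U).unit.app A)).app ((jP U).obj B) ≫
    (pullTensorIso U.ι ((jS U).obj A) B).inv

instance isIso_lamT : IsIso (lamT U A B) := by
  unfold lamT
  infer_instance

/-- The projection map. -/
noncomputable def lam :
    (jS U).obj (((DCoh.tensorBi (X := (U : Scheme.{u}))).obj A).obj ((jP U).obj B)) ⟶
      ((DCoh.tensorBi (X := X)).obj ((jS U).obj A)).obj B :=
  ((adjP U).homEquiv _ _).symm (lamT U A B)

instance isIso_lam : IsIso (lam U A B) := by
  have h1 : lamT U A B = (adjP U).unit.app _ ≫ (jP U).map (lam U A B) :=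
    (((adjP U).homEquiv _ _).apply_symm_apply (lamT U A B)).symm.trans
      ((adjP U).homEquiv_unit _ _ (lam U A B))
  have : IsIso ((jP U).map (lam U A B)) := by
    have hi : IsIso ((adjP U).unit.app _ ≫ (jP U).map (lam U A B)) := h1 ▸ isIso_lamT U A B
    exact IsIso.of_isIso_comp_left ((adjP U).unit.app _) _
  exact isIso_of_pull U _ (fun y hy => isZero_stalk_extZero U _ hy)
    (fun y hy => isZero_stalk_tensor B (.inl (isZero_stalk_extZero U A hy)))

variable {A B}

theorem lam_left {A' : (U : Scheme.{u}).Modules} (φ : A ⟶ A') (B : X.Modules) :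
    (jS U).map (((DCoh.tensorBi (X := (U : Scheme.{u}))).map φ).app ((jP U).obj B)) ≫ lam U A' B =
      lam U A B ≫ ((DCoh.tensorBi (X := X)).map ((jS U).map φ)).app B := by
  refine ((adjP U).homEquiv_naturality_left_symm _ _).symm.trans
    (Eq.trans ?_ ((adjP U).homEquiv_naturality_right_symm _ _))
  refine congrArg ((adjP U).homEquiv _ _).symm ?_
  unfold lamT
  refine Eq.trans ?_ (Eq.trans (congrArg
      (((DCoh.tensorBi (X := (U : Scheme.{u}))).map ((adjP U).unit.app A)).app ((jP U).obj B) ≫ ·)
      (RPushTriangle.square_inv (pullTensorIso U.ι ((jS U).obj A) B) (pullTensorIso U.ι ((jS U).obj A') B)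
        (pullTensorIso_left U.ι ((jS U).map φ) B)))
    (Category.assoc _ _ _).symm)
  refine (Category.assoc _ _ _).symm.trans (Eq.trans ?_ (Category.assoc _ _ _))
  refine congrArg (· ≫ (pullTensorIso U.ι ((jS U).obj A') B).inv) ?_
  rw [← NatTrans.comp_app, ← NatTrans.comp_app, ← Functor.map_comp, ← Functor.map_comp]
  exact congrArg (fun t => NatTrans.app t ((jP U).obj B)) (congrArg _ ((adjP U).unit.naturality φ))

theorem lam_right (A : (U : Scheme.{u}).Modules) {B' : X.Modules} (ψ : B ⟶ B') :
    (jS U).map (((DCoh.tensorBi (X := (U : Scheme.{u}))).obj A).map ((jP U).map ψ)) ≫ lam U A B' =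
      lam U A B ≫ ((DCoh.tensorBi (X := X)).obj ((jS U).obj A)).map ψ := by
  refine ((adjP U).homEquiv_naturality_left_symm _ _).symm.trans
    (Eq.trans ?_ ((adjP U).homEquiv_naturality_right_symm _ _))
  refine congrArg ((adjP U).homEquiv _ _).symm ?_
  unfold lamT
  refine Eq.trans ?_ (Eq.trans (congrArg
      (((DCoh.tensorBi (X := (U : Scheme.{u}))).map ((adjP U).unit.app A)).app ((jP U).obj B) ≫ ·)
      (RPushTriangle.square_inv (pullTensorIso U.ι ((jS U).obj A) B) (pullTensorIso U.ι ((jS U).obj A) B')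
        (pullTensorIso_right U.ι ((jS U).obj A) ψ)))
    (Category.assoc _ _ _).symm)
  refine (Category.assoc _ _ _).symm.trans (Eq.trans ?_ (Category.assoc _ _ _))
  refine congrArg (· ≫ (pullTensorIso U.ι ((jS U).obj A) B').inv) ?_
  exact ((DCoh.tensorBi (X := (U : Scheme.{u}))).map ((adjP U).unit.app A)).naturality ((jP U).map ψ)

end Groth.Agent.KFlat.ExtZeroTensor
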