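import Groth.Agent.KFlat.TildeExact
import Groth.Agent.KFlat.TildeKFlat
import Groth.Agent.DRing.Descent
import Groth.Prelude.Def_DTor2
import Mathlib.AlgebraicGeometry.AffineScheme

/-!
# Tor amplitude on `Spec R` and over `R`
-/

set_option autoImplicit false

universe u

open CategoryTheory Limits AlgebraicGeometry
open Groth.Agent.DRing Groth.Agent.DRing.DBasic Groth.Agent.DRing.Homology Groth.Agent.DRing.TorAmp
open Groth.Agent.KFlat.TildeKFlat

attribute [local instance] HasDerivedCategory.standard

namespace Groth.Agent.KFlat.TildeAmp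

variable (R : CommRingCat.{u})

theorem flat_toLocal (x : Spec R) : (toLocal R x).Flat := by
  let := ((Spec R).presheaf.germ ⊤ x trivial).hom.toAlgebra
  have := (isAffineOpen_top (Spec R)).isLocalization_stalk ⟨x, trivial⟩
  have : Module.Flat Γ(Spec R, ⊤) ((Spec R).presheaf.stalk x) :=
    IsLocalization.flat _ ((isAffineOpen_top (Spec R)).primeIdealOf ⟨x, trivial⟩).asIdeal.primeCompl
  exact (RingHom.Flat.of_bijective
    ((ConcreteCategory.bijective_of_isIso (Scheme.ΓSpecIso R).inv) : Function.Bijective (Scheme.ΓSpecIso R).inv.hom)).comp this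

/-- A module vanishes if its localizations at all points vanish. -/
theorem subsingleton_of_toLocal (M : ModuleCat.{u} R)
    (h : ∀ x : Spec R, Subsingleton ((ModuleCat.extendScalars (toLocal R x)).obj M)) : Subsingleton M := by
  have h0 : IsZero ((tilde.functor R).obj M) := StalkCx.isZero_of_isZero_stalk fun y => by
    have := h y
    exact (ModuleCat.isZero_of_subsingleton _).of_iso ((stalkTildeIso R y).app M)
  refine ModuleCat.subsingleton_of_isZero ?_
  rw [IsZero.iff_id_eq_zero]
  apply (tilde.functor R).map_injective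
  rw [CategoryTheory.Functor.map_id, Functor.map_zero]
  exact (IsZero.iff_id_eq_zero _).1 h0

/-- Tor amplitude can be checked at the local rings. -/
theorem torAmp_of_stalks (K : DRing.Cx R) (a b : ℤ)
    (hK : ∀ x : Spec R, DRing.HasTorAmplitudeIn ((Spec R).presheaf.stalk x) a b
      (DRing.toD ((LTensor.extCx (toLocal R x)).obj K))) :
    DRing.HasTorAmplitudeIn R a b (DRing.toD K) := by
  obtain ⟨P, π, hPb, hPp, hq⟩ := Trunc.exists_projRes K b fun n hn => by
    rw [HomologicalComplex.exactAt_iff_isZero_homology]
    have : Subsingleton (K.homology n) := subsingleton_of_toLocal R _ fun x => by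
      have := torAmp_boundedHD (hK x) n (Or.inr hn)
      exact ((hIso ((LTensor.extCx (toLocal R x)).obj K) n) ≪≫
        PCDescent.homologyExtIso (toLocal R x) (flat_toLocal R x) K n).toLinearEquiv.symm.toEquiv.subsingleton
    exact ModuleCat.isZero_of_subsingleton _
  rw [hasTorAmp_iff (isKFlat_of_projective hPb hPp) (asIso (DerivedCategory.Q.map π))]
  intro M n hn
  rw [HomologicalComplex.exactAt_iff_isZero_homology]
  have : Subsingleton ((DRing.tensorCx P M).homology n) := subsingleton_of_toLocal R _ fun x => by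
    have := Descent.quasiIso_extCx (toLocal R x) (flat_toLocal R x) π
    refine Descent.exactAt_extTensor (toLocal R x) (flat_toLocal R x) ?_
    refine (hasTorAmp_iff (isKFlat_of_projective (b := b)
      (fun j hj => Perfect.isZero_extCx (toLocal R x) (hPb j hj))
      (fun j => Perfect.projective_extendScalars (toLocal R x) (hPp j)))
      (asIso (DerivedCategory.Q.map ((LTensor.extCx (toLocal R x)).map π))) a b).1 (hK x) _ n hn
  exact ModuleCat.isZero_of_subsingleton _

variable [PreservesFiniteLimits (tilde.functor R)]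

theorem hasFlatAmplitudeIn_tildeD (M : Dual.D R) (a b : ℤ) (h : DRing.HasTorAmplitudeIn R a b M) :
    DCoh.HasFlatAmplitudeIn a b ((DCoh.tildeD R).obj M) := by
  obtain ⟨E, h1, h2, ⟨e⟩⟩ := h
  refine ⟨((tilde.functor R).mapHomologicalComplex (ComplexShape.up ℤ)).obj E,
    fun i hi => (tilde.functor R).map_isZero (h1 i hi), fun i x => ?_,
    ⟨((tilde.functor R).mapDerivedCategoryFactors.app E).symm ≪≫ (DCoh.tildeD R).mapIso e⟩⟩
  have := h2 i
  have h' : Module.Flat ((Spec R).presheaf.stalk x) ((ModuleCat.extendScalars (toLocal R x)).obj (E.X i)) := by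
    let := (toLocal R x).toAlgebra
    exact inferInstanceAs (Module.Flat _ (TensorProduct R ((Spec R).presheaf.stalk x) (E.X i)))
  exact Module.Flat.of_linearEquiv ((stalkTildeIso R x).app (E.X i)).toLinearEquiv

theorem hasTorAmplitudeIn_of_tildeD (M : Dual.D R) (a b : ℤ)
    (h : DCoh.HasFlatAmplitudeIn a b ((DCoh.tildeD R).obj M)) : DRing.HasTorAmplitudeIn R a b M := by
  obtain ⟨E, h1, h2, ⟨e⟩⟩ := h
  let K := DerivedCategory.Q.objPreimage M
  let eM : DerivedCategory.Q.obj K ≅ M := DerivedCategory.Q.objObjPreimageIso M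
  refine torAmp_of_iso eM (torAmp_of_stalks R K a b fun x => ?_)
  let e' : DerivedCategory.Q.obj E ≅
      DerivedCategory.Q.obj (((tilde.functor R).mapHomologicalComplex (ComplexShape.up ℤ)).obj K) :=
    e ≪≫ (DCoh.tildeD R).mapIso eM.symm ≪≫ (tilde.functor R).mapDerivedCategoryFactors.app K
  let S := DerSch.stalkFunctor (Spec R) x
  have : S.PreservesHomology := inferInstanceAs (DerSch.stalkFunctor (Spec R) x).PreservesHomology
  have : PreservesFiniteLimits S := Functor.preservesFiniteLimits_of_preservesHomology S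
  have : PreservesFiniteColimits S := Functor.preservesFiniteColimits_of_preservesHomology S
  exact ⟨(StalkCx.stCx x).obj E, fun i hi => S.map_isZero (h1 i hi), fun i => h2 i x,
    ⟨(S.mapDerivedCategoryFactors.app E).symm ≪≫ S.mapDerivedCategory.mapIso e' ≪≫
      S.mapDerivedCategoryFactors.app _ ≪≫ DerivedCategory.Q.mapIso (stTildeIso R x K)⟩⟩

end Groth.Agent.KFlat.TildeAmp
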