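import Groth.Agent.KFlat.TildePull
import Groth.Agent.KFlat.TildeAmp
import Groth.Agent.KFlat.RPushBase
import Groth.Agent.PerfTri.Perfect
import Groth.Agent.DRing.Descent
import Groth.Agent.PerfTri.Betti
import Groth.Agent.S12451

/-!
# Perfect and pseudo-coherent objects of `D(Spec A)` and of `D(A)`
-/

set_option autoImplicit false

universe u

open CategoryTheory Limits AlgebraicGeometry

attribute [local instance] HasDerivedCategory.standard

namespace Groth.Agent.KFlat.TildePerfect

variable {A : CommRingCat.{u}}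

/-- The localisation at `f`. -/
noncomputable abbrev Af (f : A) : CommRingCat.{u} := CommRingCat.of (Localization.Away f)

/-- The localisation map. -/
noncomputable abbrev ψ (f : A) : A ⟶ Af f := CommRingCat.ofHom (algebraMap A (Localization.Away f))

/-- The basic open as an open immersion. -/
noncomputable abbrev jf (f : A) : Spec (Af f) ⟶ Spec A := Spec.map (ψ f)

theorem range_jf (f : A) : Set.range (jf f) = (PrimeSpectrum.basicOpen f : Set (PrimeSpectrum A)) :=
  PrimeSpectrum.localization_away_comap_range (Localization.Away f) f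

theorem exists_basicOpen {U : Scheme.{u}} (j : U ⟶ Spec A) [IsOpenImmersion j] {x : Spec A}
    (hx : x ∈ Set.range j) : ∃ f : A, x ∈ Set.range (jf f) ∧ Set.range (jf f) ⊆ Set.range j := by
  obtain ⟨_, ⟨_, ⟨f, rfl⟩, rfl⟩, hxf, hf⟩ :=
    PrimeSpectrum.isBasis_basic_opens.exists_subset_of_mem_open hx j.isOpenEmbedding.isOpen_range
  exact ⟨f, (range_jf f).symm ▸ hxf, (range_jf f).symm ▸ hf⟩

/-- `~` of complexes. -/
noncomputable abbrev tCx (A : CommRingCat.{u}) :
    CochainComplex (ModuleCat.{u} A) ℤ ⥤ CochainComplex (Spec A).Modules ℤ :=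
  (tilde.functor A).mapHomologicalComplex (ComplexShape.up ℤ)

instance additive_tilde (f : A) : (tilde.functor (Af f)).Additive :=
  (inferInstance : ∀ R : CommRingCat.{u}, (tilde.functor R).Additive) (Af f)

instance preservesFiniteColimits_tilde (f : A) : PreservesFiniteColimits (tilde.functor (Af f)) :=
  have := (tilde.adjunction (R := Af f)).leftAdjoint_preservesColimits.{0, 0}
  inferInstance

/-- Restriction of `~` to a basic open. -/
noncomputable def restrTildeIso (f : A) :
    tCx A ⋙ PerfTri.Nullhom.resC (jf f) ≅ DRing.LTensor.extCx (ψ f).hom ⋙ tCx (Af f) :=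
  RPushBase.mapCxComp _ _ _ ≪≫
    NatIso.mapHomologicalComplex
      (Functor.isoWhiskerLeft (tilde.functor A) (Scheme.Modules.restrictFunctorIsoPullback (jf f)) ≪≫
        TildePull.pullTildeIso (ψ f)) (ComplexShape.up ℤ) ≪≫
    (RPushBase.mapCxComp _ _ _).symm

theorem flat_ψ (f : A) : (ψ f).hom.Flat := by
  have : Module.Flat A (Localization.Away f) := IsLocalization.flat _ (Submonoid.powers f)
  exact RingHom.flat_algebraMap_iff.2 this

variable [PreservesFiniteLimits (tilde.functor A)]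

/-- `~` commutes with localisation on the derived category. -/
noncomputable def restrTildeDIso (f : A) [PreservesFiniteLimits (tilde.functor (Af f))]
    (K : CochainComplex (ModuleCat.{u} A) ℤ) :
    (DCoh.restrictD (jf f)).obj ((DCoh.tildeD A).obj (DerivedCategory.Q.obj K)) ≅
      (DCoh.tildeD (Af f)).obj (DerivedCategory.Q.obj ((DRing.LTensor.extCx (ψ f).hom).obj K)) :=
  (DCoh.restrictD (jf f)).mapIso ((tilde.functor A).mapDerivedCategoryFactors.app K) ≪≫
    PerfTri.Perfect.restrQ (jf f) _ ≪≫ DerivedCategory.Q.mapIso ((restrTildeIso f).app K) ≪≫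
    ((tilde.functor (Af f)).mapDerivedCategoryFactors.app _).symm

omit [PreservesFiniteLimits (tilde.functor A)] in
/-- A complex of quasi-coherent modules on `Spec A` is `~` of a complex. -/
theorem exists_tilde_iso (E : CochainComplex (Spec A).Modules ℤ) (hE : ∀ i, (E.X i).IsQuasicoherent) :
    ∃ P : CochainComplex (ModuleCat.{u} A) ℤ, Nonempty ((tCx A).obj P ≅ E) ∧
      ∀ i, IsZero (E.X i) → IsZero (P.X i) := by
  have : (moduleSpecΓFunctor (R := A)).Additive := (tilde.adjunction (R := A)).right_adjoint_additive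
  refine ⟨((moduleSpecΓFunctor (R := A)).mapHomologicalComplex (ComplexShape.up ℤ)).obj E,
    ⟨HomologicalComplex.Hom.isoOfComponents
      (fun i => @asIso _ _ _ _ (E.X i).fromTildeΓ ((isQuasicoherent_iff_isIso_fromTildeΓ _).1 (hE i)))
      fun i j _ => (Scheme.Modules.fromTildeΓNatTrans.naturality (E.d i j)).symm⟩,
    fun i hi => (moduleSpecΓFunctor (R := A)).map_isZero hi⟩

omit [PreservesFiniteLimits (tilde.functor A)] in
/-- A strictly perfect complex on `Spec A` is `~` of a bounded complex of finite projectives. -/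
theorem exists_finiteProjective_iso {E : CochainComplex (Spec A).Modules ℤ} (hE : DCoh.IsStrictlyPerfect E) :
    ∃ (P : DRing.Cx A) (a b : ℤ), DRing.VanishesOutside P a b ∧ DRing.TermwiseFiniteProjective P ∧
      Nonempty ((tCx A).obj P ≅ E) := by
  obtain ⟨⟨a, b, hv⟩, hE⟩ := hE
  obtain ⟨P, ⟨e⟩, hz⟩ := exists_tilde_iso E fun i => PerfTri.Betti.isQuasicoherent_of_isFinLocFree (hE i)
  refine ⟨P, a, b, fun i hi => hz i (hv i hi), fun i => ?_, ⟨e⟩⟩
  exact (Groth.Agent.S12451.result (P.X i)).1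
    (KFlat.LocFree.isFinLocFree_of_iso ((HomologicalComplex.eval _ _ i).mapIso e).symm (hE i))

omit [PreservesFiniteLimits (tilde.functor A)] in
/-- Finitely many localisations covering the spectrum. -/
theorem exists_span (f : Spec A → A) (hf : ∀ x, x ∈ Set.range (jf (f x))) :
    ∃ (r : ℕ) (g : Fin r → Spec A), Ideal.span (Set.range (f ∘ g)) = ⊤ := by
  have h : Ideal.span (Set.range f) = ⊤ := by
    rw [← PrimeSpectrum.iSup_basicOpen_eq_top_iff]
    refine eq_top_iff.2 fun x _ => TopologicalSpace.Opens.mem_iSup.2 ⟨x, ?_⟩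
    have := hf x
    rw [range_jf] at this
    exact this
  obtain ⟨s, hs, h1⟩ := Submodule.mem_span_finite_of_mem_span ((Ideal.eq_top_iff_one _).1 h)
  choose g hg using fun y : s => hs y.2
  refine ⟨s.card, fun i => g (s.equivFin.symm i), (Ideal.eq_top_iff_one _).2 (Ideal.span_mono ?_ h1)⟩
  intro y hy
  exact ⟨s.equivFin ⟨y, hy⟩, by simp [hg]⟩

theorem isPerfect_tildeD (M : Dual.D A) (h : DRing.IsPerfect A M) :
    DCoh.IsPerfect ((DCoh.tildeD A).obj M) := by
  obtain ⟨E, a, b, hv, hp, ⟨e⟩⟩ := h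
  refine (PerfTri.Perfect.near_iff _).2 fun x =>
    ⟨Spec A, 𝟙 _, inferInstance, ⟨x, rfl⟩, PerfTri.Perfect.isSP_restrict_hom ?_ (𝟙 _)⟩
  exact ⟨(tCx A).obj E, ⟨⟨a, b, fun i hi => (tilde.functor A).map_isZero (hv i hi)⟩,
      fun i => (Groth.Agent.S12451.result (E.X i)).2 (hp i)⟩,
    ⟨(DCoh.tildeD A).mapIso e.symm ≪≫ (tilde.functor A).mapDerivedCategoryFactors.app E⟩⟩

theorem isPerfect_of_tildeD (M : Dual.D A) (h : DCoh.IsPerfect ((DCoh.tildeD A).obj M)) :
    DRing.IsPerfect A M := by
  have key : ∀ x : Spec A, ∃ f : A, x ∈ Set.range (jf f) ∧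
      PerfTri.Perfect.IsSP ((DCoh.restrictD (jf f)).obj ((DCoh.tildeD A).obj M)) := fun x => by
    obtain ⟨U, j, hj, hx, hsp⟩ := (PerfTri.Perfect.near_iff _).1 h x
    obtain ⟨f, hxf, hf⟩ := exists_basicOpen j hx
    let t := IsOpenImmersion.lift j (jf f) hf
    have hfac : t ≫ j = jf f := IsOpenImmersion.lift_fac _ _ hf
    have : IsOpenImmersion t := by
      have : IsOpenImmersion (t ≫ j) := by rw [hfac]; infer_instance
      exact IsOpenImmersion.of_comp t j
    let F := DerivedCategory.Q.objPreimage ((DCoh.tildeD A).obj M)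
    let eF : DerivedCategory.Q.obj F ≅ _ := DerivedCategory.Q.objObjPreimageIso ((DCoh.tildeD A).obj M)
    refine ⟨f, hxf, PerfTri.Perfect.isSP_of_iso ?_ (PerfTri.Perfect.isSP_restrict_hom hsp t)⟩
    exact (DCoh.restrictD t).mapIso ((DCoh.restrictD j).mapIso eF.symm ≪≫ PerfTri.Perfect.restrQ j F) ≪≫
      PerfTri.Perfect.restrQ t _ ≪≫
      DerivedCategory.Q.mapIso ((PerfTri.Nullhom.resCompIso t j (jf f) hfac).app F) ≪≫
      (PerfTri.Perfect.restrQ (jf f) F).symm ≪≫ (DCoh.restrictD (jf f)).mapIso eF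
  choose f hf hsp using key
  obtain ⟨r, g, hg⟩ := exists_span f hf
  let K := DerivedCategory.Q.objPreimage M
  let eM : DerivedCategory.Q.obj K ≅ M := DerivedCategory.Q.objObjPreimageIso M
  refine DRing.Perfect.perfect_of_iso eM (DRing.Descent.perfect_of_detects
    (ψ := fun i => (ψ (f (g i))).hom) (fun i => flat_ψ _) (DRing.PCDescent.detects_away _ hg) K fun i => ?_)
  let c := f (g i)
  have := TildeExact.preservesFiniteLimits_tilde (Af c)
  obtain ⟨E, hE, ⟨e⟩⟩ := hsp (g i)
  obtain ⟨P, a, b, hP, hPp, ⟨eP⟩⟩ := exists_finiteProjective_iso hE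
  have := (TildeD.full_faithful (R := Af c)).1
  have := (TildeD.full_faithful (R := Af c)).2
  refine ⟨P, a, b, hP, hPp, ⟨(DCoh.tildeD (Af c)).preimageIso ?_⟩⟩
  exact (tilde.functor (Af c)).mapDerivedCategoryFactors.app P ≪≫ DerivedCategory.Q.mapIso eP ≪≫ e.symm ≪≫
    (DCoh.restrictD (jf c)).mapIso ((DCoh.tildeD A).mapIso eM.symm) ≪≫ restrTildeDIso c K

end Groth.Agent.KFlat.TildePerfect
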