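import Groth.Agent.DEq.ProjQCoh
import Groth.Agent.KFlat.RHomLocal
import Groth.Agent.KFlat.RHomExists
import Groth.Agent.KFlat.QCohTensor
import Groth.Agent.KFlat.DerivedAdj
import Groth.Agent.PerfExt.Affine
import Groth.Prelude.Def_DDual2
import Mathlib.CategoryTheory.Adjunction.Restrict

/-!
# Sheafified duality: `RHom(Rf_* L, Q) ≅ Rf_* RHom(L, a Q)`
-/

set_option autoImplicit false

universe u

open CategoryTheory CategoryTheory.Limits AlgebraicGeometry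
open Groth.Agent.KFlat.Pull Groth.Agent.KFlat.LTensor Groth.Agent.KFlat.WeakKInj Groth.Agent.KFlat.RPush

attribute [local instance] HasDerivedCategory.standard

noncomputable section

namespace Groth.Agent.KFlat.SheafDual

variable {X Y : Scheme.{u}}

/-- `- ⊗ᴸ K` on `D_QCoh`. -/
def tensQ (K : CochainComplex X.Modules ℤ) [DCoh.HasLTensorCx K] (hK : DCoh.IsQCohD (DCoh.toD X K)) :
    DCoh.DQCoh X ⥤ DCoh.DQCoh X :=
  ObjectProperty.lift _ (ObjectProperty.ι _ ⋙ DCoh.LTensorCx K) fun M =>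
    QCohTensor.isQCohD_LTensorCx K hK M.obj M.property

/-- `RHom(K, -)` on `D_QCoh`. -/
def homQ (K : CochainComplex X.Modules ℤ) [DCoh.HasLTensorCx K] [DCoh.HasRSheafHom K]
    (hK : DCoh.IsPerfect (DCoh.toD X K)) : DCoh.DQCoh X ⥤ DCoh.DQCoh X :=
  ObjectProperty.lift _ (ObjectProperty.ι _ ⋙ DCoh.RSheafHom K) fun M =>
    RHomLocal.isQCohD_RSheafHom K hK M.obj M.property

/-- `- ⊗ᴸ K ⊣ RHom(K, -)` on `D_QCoh`. -/
def adjQ (K : CochainComplex X.Modules ℤ) [DCoh.HasLTensorCx K] [DCoh.HasRSheafHom K]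
    (hq : DCoh.IsQCohD (DCoh.toD X K)) (hK : DCoh.IsPerfect (DCoh.toD X K)) : tensQ K hq ⊣ homQ K hK :=
  (DCoh.RSheafHomAdj K).restrictFullyFaithful (ObjectProperty.fullyFaithfulι _)
    (ObjectProperty.fullyFaithfulι _) (Iso.refl _) (Iso.refl _)

/-- `Lf^*` on `D_QCoh`. -/
def pullQ (f : X ⟶ Y) [DCoh.HasLpull f] : DCoh.DQCoh Y ⥤ DCoh.DQCoh X :=
  ObjectProperty.lift _ (ObjectProperty.ι _ ⋙ DCoh.Lpull f) fun M =>
    QCohModel.isQCohD_Lpull f M.obj M.property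

/-- `Lf^* ⊣ Rf_*` on `D_QCoh`. -/
def pullAdjQ (f : X ⟶ Y) [DCoh.HasLpull f] [DCoh.HasRpush f] (hf : DCoh.RpushPreservesQCoh f) :
    pullQ f ⊣ DCoh.RpushQ f hf :=
  (DerivedAdj.adj f).restrictFullyFaithful (ObjectProperty.fullyFaithfulι _)
    (ObjectProperty.fullyFaithfulι _) (Iso.refl _) (Iso.refl _)

/-- The projection formula, natural in the factor on the base. -/
theorem nonempty_projIso (f : X ⟶ Y) [QuasiCompact f] [QuasiSeparated f] [DCoh.HasRpush f] [DCoh.HasLpull f]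
    (J : CochainComplex X.Modules ℤ) [J.IsKInjective] (hJ : DCoh.IsQCohD (DerivedCategory.Q.obj J))
    [DCoh.HasLTensorCx (ProjPerfect.fJ f J)] [DCoh.HasLTensorCx J] :
    Nonempty ((DCoh.IsQCohD (X := Y)).ι ⋙ DCoh.LTensorCx (ProjPerfect.fJ f J) ≅
      (DCoh.IsQCohD (X := Y)).ι ⋙ DCoh.Lpull f ⋙ DCoh.LTensorCx J ⋙ DCoh.Rpush f) := by
  have : ∀ M : DCoh.DQCoh Y, IsIso ((ProjPerfect.ν f J).app M.obj) := fun M => by
    let F₀ := DerivedCategory.Q.objPreimage M.obj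
    have := quasiIso_resYπ F₀
    let e : DerivedCategory.Q.obj ((resY Y).obj F₀) ≅ M.obj :=
      asIso (DerivedCategory.Q.map ((resYπ Y).app F₀)) ≪≫ DerivedCategory.Q.objObjPreimageIso _
    exact (NatTrans.isIso_app_iff_of_iso (ProjPerfect.ν f J) e).1
      (DEq.ProjQCoh.isIso_ν f J hJ _ (isKFlat_resY F₀) (QCohModel.isQCohD_of_iso e.symm M.property))
  have h : ∀ M, IsIso ((Functor.whiskerLeft (DCoh.IsQCohD (X := Y)).ι (ProjPerfect.ν f J)).app M) := this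
  have := NatIso.isIso_of_isIso_app (Functor.whiskerLeft (DCoh.IsQCohD (X := Y)).ι (ProjPerfect.ν f J))
  exact ⟨asIso (Functor.whiskerLeft (DCoh.IsQCohD (X := Y)).ι (ProjPerfect.ν f J))⟩

/-- Sheafified duality. -/
theorem exists_duality [CompactSpace X] [QuasiSeparatedSpace X] [CompactSpace Y] [QuasiSeparatedSpace Y]
    (f : X ⟶ Y) [DCoh.HasRpush f] (hf : DCoh.RpushPreservesQCoh f) (a : DCoh.DQCoh Y ⥤ DCoh.DQCoh X)
    (adj : DCoh.RpushQ f hf ⊣ a) (L : CochainComplex X.Modules ℤ) [DCoh.HasLTensorCx L] [DCoh.HasRSheafHom L]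
    (hL : DCoh.IsPerfect (DCoh.toD X L)) (hLY : DCoh.IsPerfect ((DCoh.Rpush f).obj (DCoh.toD X L))) :
    ∃ (K : CochainComplex Y.Modules ℤ) (_ : DCoh.HasLTensorCx K) (_ : DCoh.HasRSheafHom K),
      Nonempty ((DCoh.IsQCohD (X := Y)).ι ⋙ DCoh.RSheafHom K ≅
        a ⋙ (DCoh.IsQCohD (X := X)).ι ⋙ DCoh.RSheafHom L ⋙ DCoh.Rpush f) := by
  have := hasLpull f
  have : QuasiCompact f := AlgebraicGeometry.quasiCompact_of_compactSpace f
  have : QuasiSeparated f := QuasiSeparated.of_quasiSeparatedSpace f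
  let J := (injRes X).obj L
  let eJ : DerivedCategory.Q.obj J ≅ DerivedCategory.Q.obj L := injQIso.app L
  let K := ProjPerfect.fJ f J
  let eK : DerivedCategory.Q.obj K ≅ (DCoh.Rpush f).obj (DCoh.toD X L) :=
    @asIso _ _ _ _ ((toRpush f).app J) (isIso_toRpush f J) ≪≫ (DCoh.Rpush f).mapIso eJ
  have := LTensor.hasLTensorCx K
  have := LTensor.hasLTensorCx J
  have := RHomExists.hasRSheafHom K
  have := RHomExists.hasRSheafHom J
  have hKp : DCoh.IsPerfect (DCoh.toD Y K) := PerfTri.Perfect.isPerfect_of_iso eK.symm hLY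
  have hJp : DCoh.IsPerfect (DCoh.toD X J) := PerfTri.Perfect.isPerfect_of_iso eJ.symm hL
  have hJq : DCoh.IsQCohD (DerivedCategory.Q.obj J) := PerfExt.isQCohD_of_isPerfect hJp
  have hKq : DCoh.IsQCohD (DCoh.toD Y K) := PerfExt.isQCohD_of_isPerfect hKp
  obtain ⟨p⟩ := nonempty_projIso f J hJq
  let e₁ : tensQ K hKq ≅ pullQ f ⋙ tensQ J hJq ⋙ DCoh.RpushQ f hf :=
    ((ObjectProperty.fullyFaithfulι (DCoh.IsQCohD (X := Y))).whiskeringRight _).preimageIso p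
  let e₂ := ((adjQ K hKq hKp).ofNatIsoLeft e₁).rightAdjointUniq
    ((pullAdjQ f hf).comp ((adjQ J hJq hJp).comp adj))
  obtain ⟨c⟩ := StrictDual.nonempty_ltCongr eJ
  let e₃ : DCoh.RSheafHom J ≅ DCoh.RSheafHom L :=
    ((DCoh.RSheafHomAdj J).ofNatIsoLeft c).rightAdjointUniq (DCoh.RSheafHomAdj L)
  exact ⟨K, inferInstance, inferInstance, ⟨Functor.isoWhiskerRight e₂ (DCoh.IsQCohD (X := Y)).ι ≪≫
    Functor.isoWhiskerLeft a (Functor.isoWhiskerLeft (DCoh.IsQCohD (X := X)).ι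
      (Functor.isoWhiskerRight e₃ (DCoh.Rpush f)))⟩⟩

end Groth.Agent.KFlat.SheafDual
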