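import Mathlib.Algebra.Category.ModuleCat.ChangeOfRings
import Mathlib.AlgebraicGeometry.Modules.Tilde
import Mathlib.CategoryTheory.Adjunction.Unique

/-!
# Inverse image of `~` along `Spec B ⟶ Spec A`, naturally
-/

set_option autoImplicit false

universe u

open CategoryTheory CategoryTheory.Limits AlgebraicGeometry

namespace Groth.Agent.KFlat.TildePull

variable {A B : CommRingCat.{u}} (φ : A ⟶ B)

theorem appTop_ΓSpec (a : A) :
    (Spec.map φ).appTop ((Scheme.ΓSpecIso A).inv a) = (Scheme.ΓSpecIso B).inv (φ a) :=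
  (congr($(Scheme.ΓSpecIso_inv_naturality φ) a)).symm

/-- Global sections of a direct image. -/
noncomputable def gammaPushIso :
    Scheme.Modules.pushforward (Spec.map φ) ⋙ moduleSpecΓFunctor (R := A) ≅
      moduleSpecΓFunctor (R := B) ⋙ ModuleCat.restrictScalars φ.hom :=
  NatIso.ofComponents (fun N => LinearEquiv.toModuleIso
    ({ toFun := fun (n : Γ(N, ⊤)) => n
       invFun := fun (n : Γ(N, ⊤)) => n
       map_add' := fun _ _ => rfl
       map_smul' := fun a (n : Γ(N, ⊤)) => by
        exact congrArg (fun r => (((Spec B).presheaf.map (homOfLE (le_top : (⊤ : (Spec B).Opens) ≤ ⊤)).op r) • n : Γ(N, ⊤))) (appTop_ΓSpec φ a)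
       left_inv := fun _ => rfl
       right_inv := fun _ => rfl } :
      ↑((Scheme.Modules.pushforward (Spec.map φ) ⋙ moduleSpecΓFunctor (R := A)).obj N) ≃ₗ[↑A]
        ↑((moduleSpecΓFunctor (R := B) ⋙ ModuleCat.restrictScalars φ.hom).obj N)))
    fun {N N'} g => by
      ext n
      rfl

/-- The inverse image of `~` is `~` of the extension of scalars. -/
noncomputable def pullTildeIso :
    tilde.functor A ⋙ Scheme.Modules.pullback (Spec.map φ) ≅
      ModuleCat.extendScalars φ.hom ⋙ tilde.functor B :=
  ((tilde.adjunction (R := A)).comp (Scheme.Modules.pullbackPushforwardAdjunction (Spec.map φ))).leftAdjointUniq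
    (((ModuleCat.extendRestrictScalarsAdj φ.hom).comp (tilde.adjunction (R := B))).ofNatIsoRight (gammaPushIso φ).symm)

end Groth.Agent.KFlat.TildePull
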