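import Groth.Agent.KFlat.LTensorMod
import Groth.Agent.KFlat.Kflat2
import Groth.Agent.DRing.TorAmp
import Mathlib.Algebra.Homology.Embedding.CochainComplex
import Mathlib.Algebra.Category.ModuleCat.Kernels
import Mathlib.CategoryTheory.Limits.Preserves.Shapes.Kernels

/-!
# Tor amplitude on a scheme, read on K-flat representatives and on stalks
-/

set_option autoImplicit false

universe u

open CategoryTheory CategoryTheory.Limits MonoidalCategory AlgebraicGeometry

attribute [local instance] HasDerivedCategory.standard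

namespace Groth.Agent.KFlat.SchemeTor

open Groth.Agent.KFlat.Pull Groth.Agent.KFlat.StalkTensor LTensorMod

variable {X : Scheme.{u}}

/-- `H^i(P ⊗ F) = 0` outside `[a, b]` for all modules `F`. -/
def TorVan (P : CochainComplex X.Modules ℤ) (a b : ℤ) : Prop :=
  ∀ (F : X.Modules) (i : ℤ), i < a ∨ b < i → ((tmCx F).obj P).ExactAt i

/-- Tor amplitude in terms of a K-flat representative. -/
theorem torAmp_iff {P : CochainComplex X.Modules ℤ} (hP : DCoh.IsKFlat P) {E : DCoh.D X}
    (e : DerivedCategory.Q.obj P ≅ E) (a b : ℤ) : DCoh.HasTorAmplitudeIn a b E ↔ TorVan P a b := by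
  constructor
  · intro h F i hi
    have := hasLTensorMod F
    rw [HomologicalComplex.exactAt_iff_isZero_homology]
    exact (h F i hi).of_iso ((hdIso F hP i).symm ≪≫
      (DerivedCategory.homologyFunctor X.Modules i).mapIso ((DCoh.LTensorMod F).mapIso e))
  · intro h F _ i hi
    have h' := h F i hi
    rw [HomologicalComplex.exactAt_iff_isZero_homology] at h'
    exact h'.of_iso ((DerivedCategory.homologyFunctor X.Modules i).mapIso ((DCoh.LTensorMod F).mapIso e.symm) ≪≫
      hdIso F hP i)

theorem torVan_of_vanishesOutside {P : CochainComplex X.Modules ℤ} {a b : ℤ}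
    (h : DCoh.VanishesOutside P a b) : TorVan P a b := fun F i hi =>
  (((tmCx F).obj P).exactAt_iff i).2
    (ShortComplex.exact_of_isZero_X₂ _ ((DCoh.tensorRightMod F).map_isZero (h i hi)))

/-- A flat representative gives tor amplitude. -/
theorem torAmp_of_flatAmp {E : DCoh.D X} {a b : ℤ} (h : DCoh.HasFlatAmplitudeIn a b E) :
    DCoh.HasTorAmplitudeIn a b E := by
  obtain ⟨P, hv, hf, ⟨e⟩⟩ := h
  exact (torAmp_iff (isKFlat_of_flat_boundedAbove P b (fun q hq => hv q (Or.inr hq)) hf) e a b).2
    (torVan_of_vanishesOutside hv)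

theorem torAmp_of_retract {K L : DCoh.D X} {a b : ℤ} (i : K ⟶ L) (p : L ⟶ K) (h : i ≫ p = 𝟙 K)
    (hL : DCoh.HasTorAmplitudeIn a b L) : DCoh.HasTorAmplitudeIn a b K := by
  intro F _ n hn
  have hz := hL F n hn
  let G := DCoh.LTensorMod F ⋙ DerivedCategory.homologyFunctor X.Modules n
  change IsZero (G.obj K)
  rw [IsZero.iff_id_eq_zero, ← G.map_id, ← h, G.map_comp,
    (show IsZero (G.obj L) from hz).eq_of_tgt (G.map i) 0, zero_comp]

variable (x : X)

/-- The stalk of `P ⊗ F`. -/
noncomputable def stTmIso (F : X.Modules) (P : CochainComplex X.Modules ℤ) :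
    (StalkCx.stCx x).obj ((tmCx F).obj P) ≅
      DRing.tensorCx ((StalkCx.stCx x).obj P) ((DerSch.stalkFunctor X x).obj F) :=
  HomologicalComplex.Hom.isoOfComponents (fun i => StalkCx.stIso x (P.X i) F)
    fun i j _ => (StalkCx.stIso_left x (P.d i j) F).symm

theorem exactAt_stalk {K : CochainComplex X.Modules ℤ} {i : ℤ} (h : K.ExactAt i) :
    ((StalkCx.stCx x).obj K).ExactAt i :=
  ShortComplex.Exact.map h (DerSch.stalkFunctor X x)

theorem exactAt_iff_stalk (K : CochainComplex X.Modules ℤ) (i : ℤ) :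
    K.ExactAt i ↔ ∀ y : X, ((StalkCx.stCx y).obj K).ExactAt i := by
  refine ⟨fun h y => exactAt_stalk y h, fun h => ?_⟩
  rw [HomologicalComplex.exactAt_iff_isZero_homology]
  refine StalkCx.isZero_of_isZero_stalk fun y => ?_
  exact ((((StalkCx.stCx y).obj K).exactAt_iff_isZero_homology i).1 (h y)).of_iso
    ((K.sc i).mapHomologyIso (DerSch.stalkFunctor X y)).symm

/-- Vanishing of `H^i(P ⊗ F)` for all `F` gives it on the stalks. -/
theorem exactAt_stalk_tensor {P : CochainComplex X.Modules ℤ} {i : ℤ}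
    (h : ∀ F : X.Modules, ((tmCx F).obj P).ExactAt i) (N : ModuleCat.{u} (X.presheaf.stalk x)) :
    (DRing.tensorCx ((StalkCx.stCx x).obj P) N).ExactAt i := by
  let c : (DerSch.stalkFunctor X x).obj ((skyF x).obj N) ≅ N := (asIso (stalkSkyAdj x).counit).app N
  exact (exactAt_stalk x (h ((skyF x).obj N))).of_iso (stTmIso x ((skyF x).obj N) P ≪≫
    (NatIso.mapHomologicalComplex ((tensoringRight (ModuleCat.{u} (X.presheaf.stalk x))).mapIso c)
      (ComplexShape.up ℤ)).app ((StalkCx.stCx x).obj P))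

/-- Exactness of `P ⊗ F` for all `F` gives exactness of `P`. -/
theorem exactAt_of_tensor {P : CochainComplex X.Modules ℤ} {i : ℤ}
    (h : ∀ F : X.Modules, ((tmCx F).obj P).ExactAt i) : P.ExactAt i :=
  (exactAt_iff_stalk P i).2 fun y =>
    (Groth.Agent.DRing.TorAmp.exactAt_tensor_self _ i).1 (exactAt_stalk_tensor y h _)

variable {x}

/-- The cokernel of a differential of a flat complex, exact after tensoring, is flat. -/
theorem flat_cokernel {P : CochainComplex X.Modules ℤ} (hP : ∀ i, FlatMod.IsFlat (P.X i)) (a : ℤ)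
    (h : ∀ F : X.Modules, ((tmCx F).obj P).ExactAt (a - 1)) :
    FlatMod.IsFlat (cokernel (P.d (a - 1) a)) := fun y => by
  have hq := Groth.Agent.DRing.TorAmp.flat_coker (P := (StalkCx.stCx y).obj P) (fun i => hP i y) a
    (exactAt_stalk_tensor y h)
  let e := PreservesCokernel.iso (DerSch.stalkFunctor X y) (P.d (a - 1) a) ≪≫
    ModuleCat.cokernelIsoRangeQuotient _
  exact @Module.Flat.of_linearEquiv _ _ _ _ _ _ _ _ hq e.toLinearEquiv

end Groth.Agent.KFlat.SchemeTor
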