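import Groth.Agent.KFlat.PushComplete
import Mathlib.Algebra.Homology.DerivedCategory.ExactFunctor
import Mathlib.CategoryTheory.Functor.Derived.RightDerived

/-!
# Derived completeness and restriction of scalars
-/

set_option autoImplicit false

universe u

open CategoryTheory CategoryTheory.Limits Opposite
open ModSite DerComp Groth.Agent.KFlat

attribute [local instance] HasDerivedCategory.standard

namespace Groth.Agent.KFlat.RestrictComplete

section Exact

variable {A B : Type (u + 1)} [Category.{u} A] [Abelian A] [Category.{u} B] [Abelian B]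
  (F : A ⥤ B) [F.Additive] [PreservesFiniteLimits F] [PreservesFiniteColimits F]

/-- The comparison for an exact functor on the homotopy category. -/
noncomputable def factorsh :
    F.mapHomotopyCategory (ComplexShape.up ℤ) ⋙ DerivedCategory.Qh ≅ DerivedCategory.Qh ⋙ F.mapDerivedCategory :=
  F.mapDerivedCategoryFactorsh.symm

theorem hasRightDerived : (F.mapHomotopyCategory (ComplexShape.up ℤ) ⋙ DerivedCategory.Qh).HasRightDerivedFunctor
    (HomotopyCategory.quasiIso A (ComplexShape.up ℤ)) := by
  have : F.mapDerivedCategory.IsRightDerivedFunctor (factorsh F).hom (HomotopyCategory.quasiIso A (ComplexShape.up ℤ)) :=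
    Functor.isRightDerivedFunctor_of_inverts _ _ (factorsh F).symm
  exact Functor.HasRightDerivedFunctor.mk' F.mapDerivedCategory (factorsh F).hom

/-- The total right derived functor of an exact functor is its extension. -/
noncomputable def derivedIso [(F.mapHomotopyCategory (ComplexShape.up ℤ) ⋙ DerivedCategory.Qh).HasRightDerivedFunctor
    (HomotopyCategory.quasiIso A (ComplexShape.up ℤ))] :
    (F.mapHomotopyCategory (ComplexShape.up ℤ) ⋙ DerivedCategory.Qh).totalRightDerived DerivedCategory.Qh
      (HomotopyCategory.quasiIso A (ComplexShape.up ℤ)) ≅ F.mapDerivedCategory :=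
  have : F.mapDerivedCategory.IsRightDerivedFunctor (factorsh F).hom (HomotopyCategory.quasiIso A (ComplexShape.up ℤ)) :=
    Functor.isRightDerivedFunctor_of_inverts _ _ (factorsh F).symm
  Functor.rightDerivedUnique _ _
    ((F.mapHomotopyCategory (ComplexShape.up ℤ) ⋙ DerivedCategory.Qh).totalRightDerivedUnit DerivedCategory.Qh
      (HomotopyCategory.quasiIso A (ComplexShape.up ℤ))) (factorsh F).hom
    (HomotopyCategory.quasiIso A (ComplexShape.up ℤ))

end Exact

variable {C : Type u} [SmallCategory C] {J : GrothendieckTopology C} {O O' : Sheaf J CommRingCat.{u}} (φ : O ⟶ O')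

/-- A map of sheaves of rings as a morphism of ringed sites. -/
noncomputable def idMor : ModSite.RMor O' O where
  fn := 𝟭 C
  exact := ModSite.RMor.exact_of_flat (𝟭 C)
  sharp := φ

/-- Restriction of scalars. -/
noncomputable abbrev res : Mod O' ⥤ Mod O :=
  SheafOfModules.restrictScalars.{u} ((sheafCompose J (forget₂ CommRingCat.{u} RingCat.{u})).map φ)

/-- Restriction of scalars detects derived completeness. -/
theorem isDerComp_iff [PreservesFiniteLimits (res φ)] [PreservesFiniteColimits (res φ)]
    (I : IdealSh O) (I' : IdealSh O') (hI' : IsIdealExt φ I I') (K' : DerivedCategory (Mod O')) :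
    IsDerComp O' I' K' ↔ IsDerComp O I ((res φ).mapDerivedCategory.obj K') := by
  have : SiteCmp.HasRpushD (idMor φ) := hasRightDerived (res φ)
  let e : (SiteCmp.RpushD (idMor φ)).obj K' ≅ (res φ).mapDerivedCategory.obj K' :=
    (@derivedIso _ _ _ _ _ _ (res φ) _ _ _ (hasRightDerived (res φ))).app K'
  have hgood : ∀ (W : C) (g : O.obj.obj (op W)),
      GoodLocus.GoodAt ((res φ).mapDerivedCategory.obj K') W g ↔
        GoodLocus.GoodAt K' W ((φ.hom.app (op W)).hom g) := fun W g =>
    (Iff.intro (fun h => h.of_iso _ e.symm) fun h => h.of_iso _ e).trans (PushComplete.goodAt_push (idMor φ) K' W g)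
  rw [GoodLocus.isDerComp_iff _ I]
  constructor
  · intro h W g hg
    exact (hgood W g).2 ((GoodLocus.isDerComp_iff K' I').1 h W _ (hI'.1 W g hg))
  · intro h
    refine (GoodLocus.isDerComp_iff_le K' I').2 (hI'.2 _ fun U g hg V a => ?_)
    have e1 : (O'.obj.map a.op).hom ((φ.hom.app (op U)).hom g) = (φ.hom.app (op V)).hom ((O.obj.map a.op).hom g) := by
      rw [← CommRingCat.comp_apply, ← φ.hom.naturality, CommRingCat.comp_apply]
    rw [e1]
    exact (hgood V _).1 (h V _ (I.map_mem a hg))

end Groth.Agent.KFlat.RestrictComplete
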