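import Groth.Agent.KFlat.RpushPerfect
import Groth.Agent.KFlat.TensorLocFree
import Groth.Agent.KFlat.QCohTensor
import Groth.Agent.PCohD.RelQcoh
import Groth.Agent.FDesc.Stalk
import Groth.Agent.CBC.Stage
import Groth.Agent.CycLib.ModStalk
import Groth.Agent.LimTop.TensorQC

/-!
# `Rf_*(E ⊗ᴸ G)` is perfect for perfect `E` and flat coherent `G` with proper support
-/

set_option autoImplicit false

universe u

open CategoryTheory CategoryTheory.Limits MonoidalCategory AlgebraicGeometry TopologicalSpace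
open Groth.Agent.KFlat Groth.Agent.KFlat.Pull
open scoped TensorProduct

attribute [local instance] HasDerivedCategory.standard

noncomputable section

namespace Groth.Agent.KFlat.RpushTensor

variable {X Y : Scheme.{u}}

/-- A flat module over `B` tensored with a `B`-module flat over `A` is flat over `A`. -/
theorem flat_tensor_over {A B : Type u} [CommRing A] [CommRing B] [Algebra A B] (M N : Type u)
    [AddCommGroup M] [Module B M] [Module.Flat B M] [AddCommGroup N] [Module B N] [Module A N]
    [IsScalarTower A B N] [Module.Flat A N] [Module A M] [IsScalarTower A B M] :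
    Module.Flat A (M ⊗[B] N) := by
  rw [Module.Flat.iff_rTensor_preserves_injective_linearMap]
  intro P Q _ _ _ _ h hh
  have h1 : Function.Injective (TensorProduct.AlgebraTensorModule.lTensor B N h) :=
    Module.Flat.lTensor_preserves_injective_linearMap (M := N) h hh
  have h2 : Function.Injective (LinearMap.lTensor M (TensorProduct.AlgebraTensorModule.lTensor B N h)) :=
    Module.Flat.lTensor_preserves_injective_linearMap _ h1
  have key : Function.Injective (LinearMap.lTensor (M ⊗[B] N) h) := by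
    let eP := TensorProduct.AlgebraTensorModule.assoc A B B M N P
    let eQ := TensorProduct.AlgebraTensorModule.assoc A B B M N Q
    have hc : ∀ z, eQ (LinearMap.lTensor (M ⊗[B] N) h z) =
        LinearMap.lTensor M (TensorProduct.AlgebraTensorModule.lTensor B N h) (eP z) := by
      intro z
      induction z using TensorProduct.induction_on with
      | zero => simp
      | add x y hx hy => simp [hx, hy]
      | tmul w p =>
        induction w using TensorProduct.induction_on with
        | zero => simp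
        | add x y hx hy => simp only [TensorProduct.add_tmul, map_add, hx, hy]
        | tmul m n => rfl
    intro a b hab
    exact eP.injective (h2 (by rw [← hc, ← hc, hab]))
  have hr : LinearMap.rTensor (M ⊗[B] N) h =
      (TensorProduct.comm A (M ⊗[B] N) Q).toLinearMap ∘ₗ LinearMap.lTensor (M ⊗[B] N) h ∘ₗ
        (TensorProduct.comm A P (M ⊗[B] N)).toLinearMap := by
    ext; simp
  rw [hr]
  exact (TensorProduct.comm A (M ⊗[B] N) Q).injective.comp
    (key.comp (TensorProduct.comm A P (M ⊗[B] N)).injective)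

/-- A flat module tensored with a module flat over the base is flat over the base. -/
theorem flat_stalkOver_tensor (f : X ⟶ Y) {M G : X.Modules} (hM : FlatMod.IsFlat M)
    (hG : FlatMod.IsFlatOver f G) (x : X) :
    Module.Flat (Y.presheaf.stalk (f.base x)) ((DerSch.stalkOver f x).obj ((DCoh.tensorRightMod G).obj M)) := by
  letI : Algebra (Y.presheaf.stalk (f.base x)) (X.presheaf.stalk x) := (f.stalkMap x).hom.toAlgebra
  letI := Module.compHom ((DerSch.stalkFunctor X x).obj M) (algebraMap (Y.presheaf.stalk (f.base x)) (X.presheaf.stalk x))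
  haveI : IsScalarTower (Y.presheaf.stalk (f.base x)) (X.presheaf.stalk x) ((DerSch.stalkFunctor X x).obj M) :=
    IsScalarTower.of_algebraMap_smul fun _ _ => rfl
  letI := Module.compHom ((DerSch.stalkFunctor X x).obj G) (algebraMap (Y.presheaf.stalk (f.base x)) (X.presheaf.stalk x))
  haveI : IsScalarTower (Y.presheaf.stalk (f.base x)) (X.presheaf.stalk x) ((DerSch.stalkFunctor X x).obj G) :=
    IsScalarTower.of_algebraMap_smul fun _ _ => rfl
  haveI : Module.Flat (X.presheaf.stalk x) ((DerSch.stalkFunctor X x).obj M) := hM x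
  haveI : Module.Flat (Y.presheaf.stalk (f.base x)) ((DerSch.stalkFunctor X x).obj G) := hG x
  have h := flat_tensor_over (A := Y.presheaf.stalk (f.base x)) (B := X.presheaf.stalk x)
    ((DerSch.stalkFunctor X x).obj M) ((DerSch.stalkFunctor X x).obj G)
  let e : (DerSch.stalkFunctor X x).obj ((DCoh.tensorRightMod G).obj M) ≅
      ((DerSch.stalkFunctor X x).obj M) ⊗ ((DerSch.stalkFunctor X x).obj G) := StalkCx.stIso x M G
  letI := Module.compHom ((DerSch.stalkFunctor X x).obj ((DCoh.tensorRightMod G).obj M))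
    (algebraMap (Y.presheaf.stalk (f.base x)) (X.presheaf.stalk x))
  haveI : IsScalarTower (Y.presheaf.stalk (f.base x)) (X.presheaf.stalk x)
      ((DerSch.stalkFunctor X x).obj ((DCoh.tensorRightMod G).obj M)) :=
    IsScalarTower.of_algebraMap_smul fun _ _ => rfl
  let e' : (DerSch.stalkFunctor X x).obj ((DCoh.tensorRightMod G).obj M) ≃ₗ[X.presheaf.stalk x]
      TensorProduct (X.presheaf.stalk x) ((DerSch.stalkFunctor X x).obj M) ((DerSch.stalkFunctor X x).obj G) :=
    e.toLinearEquiv
  exact @Module.Flat.of_linearEquiv _ _ _ _ _ _ _ _ h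
    (e'.restrictScalars (Y.presheaf.stalk (f.base x)))

/-- A bounded flat complex tensored with a flat module has tor amplitude over the base. -/
theorem hasTorAmplitude_tmCx (f : X ⟶ Y) {E : CochainComplex X.Modules ℤ} {a b : ℤ}
    (hv : DCoh.VanishesOutside E a b) (hE : ∀ i, FlatMod.IsFlat (E.X i)) {G : X.Modules}
    (hG : FlatMod.IsFlatOver f G) : DerSch.HasTorAmplitude f a b ((LTensorMod.tmCx G).obj E) := fun x =>
  ⟨_, fun i hi => (DerSch.stalkOver f x).map_isZero ((DCoh.tensorRightMod G).map_isZero (hv i hi)),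
    fun i => flat_stalkOver_tensor f (hE i) hG x, ⟨Iso.refl _⟩⟩

theorem isFlatOver_restrict (f : X ⟶ Y) {G : X.Modules} (hG : FlatMod.IsFlatOver f G) (V : X.Opens) :
    FlatMod.IsFlatOver (V.ι ≫ f) (G.restrict V.ι) := fun z =>
  (CBC.isFlatOverAt_congr_iso (V.ι ≫ f) ((Scheme.Modules.restrictFunctorIsoPullback V.ι).app G).symm z).1
    ((FDesc.Stalk.flatOverAt_pullback_iff V.ι f G z (Flat.stalkMap V.ι z)).2 (hG _))

/-- Restriction of `P ⊗ G`. -/
def restrictTmIso (V : X.Opens) (P : CochainComplex X.Modules ℤ) (G : X.Modules) :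
    (DCoh.restrictCx V).obj ((LTensorMod.tmCx G).obj P) ≅
      (LTensorMod.tmCx (G.restrict V.ι)).obj ((DCoh.restrictCx V).obj P) :=
  (DCoh.restrictCx V).mapIso ((totSingleCxIso (DCoh.tensorBi (X := X)) G).app P) ≪≫
    (FlatPull.restrictCxIso V).app _ ≪≫ PullTensor.pullTensorCxIso V.ι P _ ≪≫
    (DCoh.tensorCx.mapIso ((FlatPull.restrictCxIso V).app P).symm).app _ ≪≫
    (DCoh.tensorCx.obj _).mapIso (((FlatPull.restrictCxIso V).app _).symm ≪≫
      (HomologicalComplex.singleMapHomologicalComplex (Scheme.Modules.restrictFunctor V.ι) (ComplexShape.up ℤ) 0).app G) ≪≫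
    ((totSingleCxIso (DCoh.tensorBi (X := (V : Scheme.{u}))) (G.restrict V.ι)).app _).symm

/-- K-flat complexes isomorphic in `D(O_X)` tensor alike with a module. -/
theorem exists_tmQ_iso {A A' : CochainComplex X.Modules ℤ} (hA : DCoh.IsKFlat A) (hA' : DCoh.IsKFlat A')
    (G : X.Modules) (e : DerivedCategory.Q.obj A ≅ DerivedCategory.Q.obj A') :
    Nonempty (DerivedCategory.Q.obj ((LTensorMod.tmCx G).obj A) ≅
      DerivedCategory.Q.obj ((LTensorMod.tmCx G).obj A')) := by
  obtain ⟨e₁⟩ := QCohTensor.exists_tensor_iso_left hA hA'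
    ((HomologicalComplex.single X.Modules (ComplexShape.up ℤ) 0).obj G) e
  exact ⟨(LTensorMod.tmQIso G).app A ≪≫ e₁ ≪≫ ((LTensorMod.tmQIso G).app A').symm⟩

/-- Subsets of a set proper over the base. -/
theorem isProperOver_subset {S : Scheme.{u}} (f : X ⟶ S) {Z Z' : Set X} (h : ClSub.IsProperOver f Z)
    (hc : IsClosed Z') (hsub : Z' ⊆ Z) : ClSub.IsProperOver f Z' := by
  obtain ⟨hZ, hp⟩ := h
  refine ⟨hc, ?_⟩
  have hle : Scheme.IdealSheafData.vanishingIdeal ⟨Z, hZ⟩ ≤ Scheme.IdealSheafData.vanishingIdeal ⟨Z', hc⟩ :=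
    Scheme.IdealSheafData.gc.monotone_u (show (⟨Z', hc⟩ : TopologicalSpace.Closeds X) ≤ ⟨Z, hZ⟩ from hsub)
  have h1 : IsClosedImmersion (Scheme.IdealSheafData.inclusion hle) := by
    have : IsClosedImmersion (Scheme.IdealSheafData.inclusion hle ≫
        (Scheme.IdealSheafData.vanishingIdeal ⟨Z, hZ⟩).subschemeι) := by
      rw [Scheme.IdealSheafData.inclusion_subschemeι]; infer_instance
    exact IsClosedImmersion.of_comp _ (Scheme.IdealSheafData.vanishingIdeal ⟨Z, hZ⟩).subschemeι
  rw [← Scheme.IdealSheafData.inclusion_subschemeι hle, Category.assoc]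
  infer_instance

theorem isCoh_tensorRightMod {M G : X.Modules} (hM : Coh.IsCoh M) (hG : Coh.IsCoh G) :
    Coh.IsCoh ((DCoh.tensorRightMod G).obj M) := by
  haveI := hM.1
  haveI := hM.2
  haveI := hG.1
  haveI := hG.2
  exact ⟨LimTop.TensorQC.isQuasicoherent_tensM M G, LimTop.TensorQC.isFT_tensM M G⟩

theorem support_homology_tmCx (G : X.Modules) (P : CochainComplex X.Modules ℤ) (i : ℤ) :
    CohB1.support (((LTensorMod.tmCx G).obj P).homology i) ⊆ CohB1.support G := by
  intro x hx hG
  refine hx ?_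
  let T := (LTensorMod.tmCx G).obj P
  have h : IsZero ((DerSch.stalkFunctor X x).obj (T.homology i)) := by
    refine (ShortComplex.isZero_homology_of_isZero_X₂ (((StalkCx.stCx x).obj T).sc i) ?_).of_iso
      ((T.sc i).mapHomologyIso (DerSch.stalkFunctor X x)).symm
    have hG' : IsZero ((DerSch.stalkFunctor X x).obj G) :=
      @ModuleCat.isZero_of_subsingleton _ _ _ hG
    exact ((tensorLeft ((DerSch.stalkFunctor X x).obj (P.X i))).map_isZero hG').of_iso (StalkCx.stIso x (P.X i) G)
  exact ModuleCat.subsingleton_of_isZero h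

/-- `Rf_*(E ⊗ᴸ G)` is perfect. -/
theorem isPerfect_Rpush_LTensorMod [IsNoetherian Y] (f : X ⟶ Y) [LocallyOfFiniteType f]
    (E : DCoh.D X) (hE : DCoh.IsPerfect E) (G : X.Modules) (hG : Coh.IsCoh G) (hflat : FlatMod.IsFlatOver f G)
    (hsupp : ClSub.IsProperOver f (CohB1.support G)) [DCoh.HasLTensorMod G] [DCoh.HasRpush f] :
    DCoh.IsPerfect ((DCoh.Rpush f).obj ((DCoh.LTensorMod G).obj E)) := by
  classical
  have : IsLocallyNoetherian X := LocallyOfFiniteType.isLocallyNoetherian f
  let F₀ := DerivedCategory.Q.objPreimage E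
  let P := (resY X).obj F₀
  have := quasiIso_resYπ F₀
  let eP : DerivedCategory.Q.obj P ≅ E :=
    asIso (DerivedCategory.Q.map ((resYπ X).app F₀)) ≪≫ DerivedCategory.Q.objObjPreimageIso E
  have hP : DCoh.IsKFlat P := isKFlat_resY F₀
  let F := (LTensorMod.tmCx G).obj P
  refine PerfTri.Perfect.isPerfect_of_iso
    ((DCoh.Rpush f).mapIso ((LTensorMod.ltensorModIso G hP).symm ≪≫ (DCoh.LTensorMod G).mapIso eP)) ?_
  choose V hxV E' hE' e using fun x : X => (fun ⟨V, hx, hV⟩ => ⟨V, hx, hV P ⟨eP⟩⟩ :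
    (∃ (V : X.Opens), x ∈ V ∧ ∀ F' : CochainComplex X.Modules ℤ, Nonempty (DCoh.toD X F' ≅ E) →
      ∃ E' : CochainComplex (V : Scheme.{u}).Modules ℤ, DCoh.IsStrictlyPerfect E' ∧
        Nonempty (DerivedCategory.Q.obj ((DCoh.restrictCx V).obj F') ≅ DerivedCategory.Q.obj E')) →
    ∃ (V : X.Opens), x ∈ V ∧ ∃ E' : CochainComplex (V : Scheme.{u}).Modules ℤ, DCoh.IsStrictlyPerfect E' ∧
      Nonempty (DerivedCategory.Q.obj ((DCoh.restrictCx V).obj P) ≅ DerivedCategory.Q.obj E')) (hE x)
  choose a b hv using fun x => (hE' x).1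
  have hkE : ∀ x, DCoh.IsKFlat (E' x) := fun x => LocalD.isKFlat_of_isStrictlyPerfect (hE' x)
  have eF : ∀ x, Nonempty (DerivedCategory.Q.obj ((DCoh.restrictCx (V x)).obj F) ≅
      DerivedCategory.Q.obj ((LTensorMod.tmCx (G.restrict (V x).ι)).obj (E' x))) := fun x => by
    obtain ⟨e₁⟩ := exists_tmQ_iso (LocalD.isKFlat_restrict hP (V x)) (hkE x) (G.restrict (V x).ι) (e x).some
    exact ⟨DerivedCategory.Q.mapIso (restrictTmIso (V x) P G) ≪≫ e₁⟩
  let eh : ∀ (K : CochainComplex X.Modules ℤ) x i, (K.homology i).restrict (V x).ι ≅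
      DCoh.HD (DerivedCategory.Q.obj ((DCoh.restrictCx (V x)).obj K)) i := fun K x i =>
    ((K.sc i).mapHomologyIso (Scheme.Modules.restrictFunctor (V x).ι)).symm ≪≫
      ((DerivedCategory.homologyFunctorFactors (V x : Scheme.{u}).Modules i).app
        ((DCoh.restrictCx (V x)).obj K)).symm
  -- a finite cover of the support
  obtain ⟨hZ, hZp⟩ := hsupp
  have hcpt : IsCompact (CohB1.support G) := by
    have : CompactSpace (Scheme.IdealSheafData.vanishingIdeal ⟨_, hZ⟩).subscheme :=
      QuasiCompact.compactSpace_of_compactSpace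
        ((Scheme.IdealSheafData.vanishingIdeal ⟨_, hZ⟩).subschemeι ≫ f)
    have h := isCompact_range (Scheme.IdealSheafData.vanishingIdeal ⟨_, hZ⟩).subschemeι.continuous
    rwa [Scheme.IdealSheafData.range_subschemeι, Scheme.IdealSheafData.coe_support_vanishingIdeal] at h
  obtain ⟨t, ht⟩ := hcpt.elim_finite_subcover (fun x => (V x : Set X)) (fun x => (V x).2)
    fun x _ => Set.mem_iUnion.2 ⟨x, hxV x⟩
  obtain ⟨A, hA⟩ := (t.image a).bddBelow
  obtain ⟨B, hB⟩ := (t.image b).bddAbove
  let W : X.Opens := ⟨(CohB1.support G)ᶜ, hZ.isOpen_compl⟩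
  let cov : Option t → X.Opens := fun o => o.elim W fun x => V x.1
  have hcov : ∀ y : X, ∃ o, y ∈ cov o := fun y => by
    by_cases hy : y ∈ CohB1.support G
    · obtain ⟨x, hx, hy'⟩ := Set.mem_iUnion₂.1 (ht hy)
      exact ⟨some ⟨x, hx⟩, hy'⟩
    · exact ⟨none, hy⟩
  have hW0 : IsZero (G.restrict W.ι) :=
    CohDev.isZero_restrict_of_support W.ι fun y hy => by
      rw [Scheme.Opens.range_ι]; exact fun h => h hy
  have hFW : ∀ n, IsZero (((DCoh.restrictCx W).obj F).X n) := fun n => by
    change IsZero ((StalkTensor.tensM (P.X n) G).restrict W.ι)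
    exact (((ModSite.tensorBi (W : Scheme.{u}).sheaf).obj _).map_isZero hW0).of_iso
      (TensorLocFree.restrictTensorIso (P.X n) G W)
  -- vanishing of cohomology
  have hbd : ∀ i : ℤ, i < A ∨ B < i → IsZero (DCoh.HD (DerivedCategory.Q.obj F) i) := fun i hi => by
    refine IsZero.of_iso ?_ ((DerivedCategory.homologyFunctorFactors _ i).app F)
    refine PCohD.isZero_of_cover cov hcov _ fun o => ?_
    cases o with
    | none =>
      exact (ShortComplex.isZero_homology_of_isZero_X₂ (((DCoh.restrictCx W).obj F).sc i) (hFW i)).of_iso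
        ((F.sc i).mapHomologyIso (Scheme.Modules.restrictFunctor W.ι)).symm
    | some x =>
      have hai : i < a x.1 ∨ b x.1 < i := by
        have h1 : A ≤ a x.1 := hA (Finset.mem_coe.2 (Finset.mem_image_of_mem a x.2))
        have h2 : b x.1 ≤ B := hB (Finset.mem_coe.2 (Finset.mem_image_of_mem b x.2))
        omega
      exact ((ShortComplex.isZero_homology_of_isZero_X₂
        (((LTensorMod.tmCx (G.restrict (V x.1).ι)).obj (E' x.1)).sc i)
        ((DCoh.tensorRightMod (G.restrict (V x.1).ι)).map_isZero (hv x.1 i hai))).of_iso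
        ((DerivedCategory.homologyFunctorFactors _ i).app _)).of_iso
        (eh F x.1 i ≪≫ (DerivedCategory.homologyFunctor _ i).mapIso (eF x.1).some)
  -- coherence
  have hcoh : DCoh.IsCohD (DCoh.toD X F) := fun i => by
    refine CohDev.isCoh_of_iso ((DerivedCategory.homologyFunctorFactors _ i).app F).symm ?_
    refine PerfTri.Bounded.isCoh_of_cover V (IsOpenCover.mk
      (top_le_iff.mp fun x _ => Opens.mem_iSup.2 ⟨x, hxV x⟩)) _ fun x => ?_
    have := isLocallyNoetherian_of_isOpenImmersion (V x).ι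
    refine CohDev.isCoh_of_iso ((eh F x i ≪≫ (DerivedCategory.homologyFunctor _ i).mapIso (eF x).some ≪≫
      (DerivedCategory.homologyFunctorFactors _ i).app _).symm) ?_
    exact PerfTri.Bounded.isCoh_homology _ (fun n => isCoh_tensorRightMod
      (PerfTri.Bounded.isCoh_of_isFinLocFree ((hE' x).2 n)) (PCNoeth.isCoh_restrict _ hG)) i
  have hs : ∀ i, ClSub.IsProperOver f (CohB1.support (DCoh.HD (DCoh.toD X F) i)) := fun i => by
    have : (DCoh.HD (DCoh.toD X F) i).IsQuasicoherent := (hcoh i).1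
    refine isProperOver_subset f ⟨hZ, hZp⟩ (CycLib.isClosed_support (DCoh.HD (DCoh.toD X F) i) (hcoh i) |> fun h => by
      simpa only [CohB1.support, not_subsingleton_iff_nontrivial] using h) ?_
    exact (CohDev.support_subset_of_mono ((DerivedCategory.homologyFunctorFactors _ i).app F).hom).trans
      (support_homology_tmCx G P i)
  -- tor amplitude over the base
  refine RpushPerfect.isPerfect_Rpush f F hcoh A B hbd hs A B fun M Q hQ q hq i hi => ?_
  let T := (DCoh.tensorCx.obj ((pullCx f).obj Q)).obj F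
  refine PCohD.isZero_of_cover cov hcov _ fun o => ?_
  refine IsZero.of_iso ?_ ((T.sc i).mapHomologyIso (Scheme.Modules.restrictFunctor (cov o).ι)).symm
  let U := cov o
  let eT : (DCoh.restrictCx U).obj T ≅ (DCoh.tensorCx.obj ((pullCx (U.ι ≫ f)).obj Q)).obj ((DCoh.restrictCx U).obj F) :=
    (FlatPull.restrictCxIso U).app T ≪≫ PullTensor.pullTensorCxIso U.ι ((pullCx f).obj Q) F ≪≫
      (DCoh.tensorCx.obj _).mapIso ((FlatPull.restrictCxIso U).app F).symm ≪≫
      (DCoh.tensorCx.mapIso ((pullCxComp U.ι f).app Q)).app _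
  refine IsZero.of_iso ?_ ((HomologicalComplex.homologyFunctor _ _ i).mapIso eT)
  have hQ' := isKFlat_pullCx (U.ι ≫ f) hQ
  cases o with
  | none =>
    refine ShortComplex.isZero_homology_of_isZero_X₂ _ ?_
    rw [IsZero.iff_id_eq_zero]
    exact tot_hom_ext (F := DCoh.tensorBi (X := (U : Scheme.{u}))) fun p r _ => IsZero.eq_of_src
      (Functor.map_isZero ((ModSite.tensorBi (U : Scheme.{u}).sheaf).obj _) (hFW r)) _ _
  | some x =>
    obtain ⟨e'⟩ := QCohTensor.exists_tensor_iso hQ' (eF x.1).some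
    have hai : i < a x.1 ∨ b x.1 < i := by
      have h1 : A ≤ a x.1 := hA (Finset.mem_coe.2 (Finset.mem_image_of_mem a x.2))
      have h2 : b x.1 ≤ B := hB (Finset.mem_coe.2 (Finset.mem_image_of_mem b x.2))
      omega
    refine (RelTor.isZero_homology_pull_tensor ((V x.1).ι ≫ f) _ Q hQ M q (a x.1) (b x.1)
      (hasTorAmplitude_tmCx _ (hv x.1) (fun n => LocalD.flat_of_isFinLocFree ((hE' x.1).2 n))
        (isFlatOver_restrict f hflat (V x.1))) i hai).of_iso ?_
    exact ((DerivedCategory.homologyFunctorFactors _ i).app _).symm ≪≫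
      (DerivedCategory.homologyFunctor _ i).mapIso e' ≪≫ (DerivedCategory.homologyFunctorFactors _ i).app _

end Groth.Agent.KFlat.RpushTensor
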