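import Groth.Agent.KFlat.Approx

/-!
# Approximation on an affine scheme with given equations
-/

set_option autoImplicit false

universe u

open CategoryTheory CategoryTheory.Limits AlgebraicGeometry Pretriangulated TopologicalSpace
open Groth.Agent.CohDerLib.Kosz Groth.Agent.PerfExt Groth.Agent.PerfTri

attribute [local instance] HasDerivedCategory.standard

noncomputable section

namespace Groth.Agent.KFlat.Approx

variable {X : Scheme.{u}} [IsAffine X]

/-- vanishing on the union of the basic opens of `fs` is torsion with respect to `fs` -/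
theorem isZero_iff_of_eq (U : X.Opens) (fs : List Γ(X, ⊤))
    (hfs : Groth.Agent.CohDerLib.Kosz.U fs = X.isoSpec.inv ⁻¹ᵁ U)
    (Z : DerivedCategory (ModuleCat.{u} Γ(X, ⊤))) :
    IsZero ((DCoh.restrictD U.ι).obj ((T X).obj Z)) ↔ ∀ g ∈ fs, HTors g Z := by
  let A := Γ(X, ⊤)
  let e := X.isoSpec
  let K := (DCoh.tildeD (CommRingCat.of A)).obj Z
  let W := Groth.Agent.CohDerLib.Kosz.U fs
  let l := IsOpenImmersion.lift W.ι (U.ι ≫ e.hom) (by
    rintro _ ⟨z, rfl⟩
    rw [Scheme.Opens.range_ι]
    refine (hfs.ge ?_ :)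
    show e.inv (e.hom (U.ι z)) ∈ U
    rw [← Scheme.Hom.comp_apply, e.hom_inv_id]
    exact z.2)
  let l' := IsOpenImmersion.lift U.ι (W.ι ≫ e.inv) (by
    rintro _ ⟨z, rfl⟩
    rw [Scheme.Opens.range_ι]
    exact (hfs.le z.2 :))
  have : IsOpenImmersion l := by
    have : IsOpenImmersion (l ≫ W.ι) := by rw [IsOpenImmersion.lift_fac]; infer_instance
    exact IsOpenImmersion.of_comp l W.ι
  have : IsOpenImmersion l' := by
    have : IsOpenImmersion (l' ≫ U.ι) := by rw [IsOpenImmersion.lift_fac]; infer_instance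
    exact IsOpenImmersion.of_comp l' U.ι
  let c₁ : (DCoh.restrictD U.ι).obj ((T X).obj Z) ≅ (DCoh.restrictD l).obj ((DCoh.restrictD W.ι).obj K) :=
    (restrictDComp U.ι e.hom (U.ι ≫ e.hom) rfl).app K ≪≫
      ((restrictDComp l W.ι (U.ι ≫ e.hom) (IsOpenImmersion.lift_fac _ _ _)).app K).symm
  constructor
  · intro h g hg
    refine hTors_of_isZero_restrictD fs ?_ hg
    refine ((DCoh.restrictD l').map_isZero h).of_iso ?_
    have h1 : l' ≫ U.ι ≫ e.hom = W.ι := by
      exact (Category.assoc _ _ _).symm.trans ((congrArg (· ≫ e.hom) (IsOpenImmersion.lift_fac _ _ _)).trans ((Category.assoc _ _ _).trans ((congrArg (W.ι ≫ ·) e.inv_hom_id).trans (Category.comp_id _))))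
    exact ((restrictDComp l' (U.ι ≫ e.hom) W.ι h1).app K).symm ≪≫
      (DCoh.restrictD l').mapIso ((restrictDComp U.ι e.hom (U.ι ≫ e.hom) rfl).app K).symm
  · intro h
    refine ((DCoh.restrictD l).map_isZero ?_).of_iso c₁
    have hz : ∀ i, IsZero ((DerivedCategory.homologyFunctor _ i).obj ((DCoh.restrictD W.ι).obj K)) := fun i =>
      (isZero_restrict_of_tors fs fun g hg x => h g hg i x).of_iso (homologyRestrictTildeIso fs _ i)
    have : IsIso (0 : (DCoh.restrictD W.ι).obj K ⟶ (DCoh.restrictD W.ι).obj K) := by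
      rw [DerivedCategory.isIso_iff]
      exact fun i => isIso_of_isInitial (hz i).isInitial (hz i).isInitial _
    rw [IsZero.iff_id_eq_zero]
    exact (cancel_epi (0 : (DCoh.restrictD W.ι).obj K ⟶ _)).1 (by simp)

end Groth.Agent.KFlat.Approx
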