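import Groth.Agent.KFlat.CohExt
import Groth.Agent.KFlat.RPush
import Groth.Agent.KFlat.RPushBase
import Groth.Agent.PerfTri.Bounded
import Groth.Agent.S0998
import Groth.Agent.S11115

/-!
# Extending objects of the derived category from an open subscheme
-/

set_option autoImplicit false

universe u

open CategoryTheory CategoryTheory.Limits AlgebraicGeometry TopologicalSpace
open Groth.Agent.KFlat

attribute [local instance] HasDerivedCategory.standard

noncomputable section

namespace Groth.Agent.KFlat.CohExtend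

variable {X : Scheme.{u}} (U : X.Opens)

local notation "R" => Scheme.Modules.restrictFunctor U.ι

/-- Restricting a direct image from an open. -/
def restrictPushCxIso : WeakKInj.pushCx U.ι ⋙ DCoh.restrictCx U ≅
    𝟭 (CochainComplex (U : Scheme.{u}).Modules ℤ) :=
  RPushBase.mapCxComp (Scheme.Modules.pushforward U.ι) (R) (ComplexShape.up ℤ) ≪≫
    NatIso.mapHomologicalComplex (asIso (Scheme.Modules.restrictAdjunction U.ι).counit) _ ≪≫
    Functor.mapHomologicalComplexIdIso _ _

/-- An object on a quasi-compact open extends, with quasi-coherent cohomology and the same lower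
bound. -/
theorem exists_extension [QuasiCompact U.ι] (F : DCoh.D (U : Scheme.{u})) (hF : DCoh.IsQCohD F) :
    ∃ G : CochainComplex X.Modules ℤ, DCoh.IsQCohD (DCoh.toD X G) ∧
      (∀ a : ℤ, F.IsGE a → (DCoh.toD X G).IsGE a) ∧
      Nonempty (DerivedCategory.Q.obj ((DCoh.restrictCx U).obj G) ≅ F) := by
  haveI : DCoh.HasRpush U.ι := RPush.hasRpush _
  let A := DerivedCategory.Q.objPreimage F
  let eA : DerivedCategory.Q.obj A ≅ F := DerivedCategory.Q.objObjPreimageIso F
  let I := (RPush.injRes (U : Scheme.{u})).obj A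
  let G := (WeakKInj.pushCx U.ι).obj I
  let e : DCoh.toD X G ≅ (DCoh.Rpush U.ι).obj F :=
    ((RPush.rpushIso U.ι).app A).symm ≪≫ (DCoh.Rpush U.ι).mapIso eA
  refine ⟨G, fun i => ?_, fun a ha => ?_, ⟨?_⟩⟩
  · exact @QCoh.isQuasicoherent_of_iso X _ _
      ((DerivedCategory.homologyFunctor X.Modules i).mapIso e).symm
      (S0998.result U.ι F hF i)
  · haveI := ha
    haveI := S11115.result U.ι F a
    exact DerivedCategory.TStructure.t.isGE_of_iso e.symm a
  · exact DerivedCategory.Q.mapIso ((restrictPushCxIso U).app I) ≪≫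
      (RPush.injQIso (X := (U : Scheme.{u}))).app A ≪≫ eA

/-- A bounded object with coherent cohomology on an open of a Noetherian scheme extends to one. -/
theorem exists_coh_extension [IsNoetherian X] (F : DCoh.D (U : Scheme.{u})) (hF : DCoh.IsCohD F)
    (a b : ℤ) [F.IsGE a] [F.IsLE b] :
    ∃ (G : CochainComplex X.Modules ℤ) (a' b' : ℤ), DCoh.IsCohD (DCoh.toD X G) ∧
      (DCoh.toD X G).IsGE a' ∧ (DCoh.toD X G).IsLE b' ∧
      Nonempty (DerivedCategory.Q.obj ((DCoh.restrictCx U).obj G) ≅ F) := by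
  haveI : QuasiCompact U.ι := inferInstance
  obtain ⟨G₁, hq, hge, ⟨e₁⟩⟩ := exists_extension U F fun i => (hF i).1
  haveI := hge a ‹_›
  let G₂ := G₁.truncLE b
  let e₂ := DerivedCategory.homologyFunctorFactors X.Modules
  have hiso : ∀ i ≤ b, IsIso (HomologicalComplex.homologyMap (G₁.ιTruncLE b) i) := fun i hi =>
    (quasiIsoAt_iff_isIso_homologyMap _ _).1 (CochainComplex.quasiIsoAt_ιTruncLE _ b i hi)
  have hz₂ : ∀ i, b < i → IsZero (G₂.homology i) := fun i hi =>
    HomologicalComplex.ExactAt.isZero_homology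
      (ShortComplex.exact_of_isZero_X₂ (G₂.sc i) (CochainComplex.isZero_of_isStrictlyLE G₂ b i hi))
  have hz₁ : ∀ i, b < i → IsZero ((R).obj (G₁.homology i)) := fun i hi =>
    ((DerivedCategory.isLE_iff F b).1 ‹_› i hi).of_iso
      (((G₁.sc i).mapHomologyIso (R)).symm ≪≫ (DerivedCategory.homologyFunctorFactors _ i).symm.app
        ((DCoh.restrictCx U).obj G₁) ≪≫ (DerivedCategory.homologyFunctor _ i).mapIso e₁)
  haveI : QuasiIso ((DCoh.restrictCx U).map (G₁.ιTruncLE b)) := ⟨fun i => by
    rw [quasiIsoAt_iff, ShortComplex.quasiIso_iff]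
    have hmap : IsIso ((R).map (HomologicalComplex.homologyMap (G₁.ιTruncLE b) i)) := by
      by_cases hi : i ≤ b
      · haveI := hiso i hi; infer_instance
      · exact isIso_of_source_target_iso_zero _ ((R).map_isZero (hz₂ i (by omega))).isoZero
          (hz₁ i (by omega)).isoZero
    let φs := (HomologicalComplex.shortComplexFunctor X.Modules (ComplexShape.up ℤ) i).map (G₁.ιTruncLE b)
    have hn : ShortComplex.homologyMap ((R).mapShortComplex.map φs) ≫
        ((G₁.sc i).mapHomologyIso (R)).hom =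
        ((G₂.sc i).mapHomologyIso (R)).hom ≫ (R).map (ShortComplex.homologyMap φs) :=
      ShortComplex.mapHomologyIso_hom_naturality φs (R)
    have h2 : ShortComplex.homologyMap ((R).mapShortComplex.map φs) =
        ((G₂.sc i).mapHomologyIso (R)).hom ≫ (R).map (ShortComplex.homologyMap φs) ≫
          ((G₁.sc i).mapHomologyIso (R)).inv := by
      rw [← Category.assoc]
      exact (Iso.eq_comp_inv _).2 hn
    exact Eq.mpr (congrArg (fun ψ => IsIso ψ) h2)
      (IsIso.comp_isIso' inferInstance (IsIso.comp_isIso' hmap inferInstance))⟩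
  have hq₂ : ∀ i, Coh.IsQCoh (G₂.homology i) := fun i => by
    by_cases hi : i ≤ b
    · haveI := hiso i hi
      exact @QCoh.isQuasicoherent_of_iso X _ _
        ((e₂ i).app G₁ ≪≫ (asIso (HomologicalComplex.homologyMap (G₁.ιTruncLE b) i)).symm) (hq i)
    · exact (CohDev.isCoh_of_isZero (hz₂ i (by omega))).1
  have hq₂' : DCoh.IsQCohD (DCoh.toD X G₂) := fun i =>
    @QCoh.isQuasicoherent_of_iso X _ _ ((e₂ i).app G₂).symm (hq₂ i)
  haveI : (DCoh.toD X G₂).IsGE a := (DerivedCategory.isGE_iff _ a).2 fun i hi => by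
    by_cases hib : i ≤ b
    · haveI := hiso i hib
      exact ((DerivedCategory.isGE_iff (DCoh.toD X G₁) a).1 ‹_› i hi).of_iso
        ((e₂ i).app G₂ ≪≫ @asIso _ _ _ _ (HomologicalComplex.homologyMap (G₁.ιTruncLE b) i) (hiso i hib) ≪≫
          ((e₂ i).app G₁).symm)
    · exact (hz₂ i (by omega)).of_iso ((e₂ i).app G₂)
  haveI : (DCoh.toD X G₂).IsLE b := (DerivedCategory.isLE_iff _ b).2 fun i hi =>
    (hz₂ i hi).of_iso ((e₂ i).app G₂)
  obtain ⟨K, hKa, hKb, hK, ⟨eK⟩⟩ := CohExt.exists_qcoh_rep (DCoh.toD X G₂) a b hq₂'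
  let eF : DerivedCategory.Q.obj ((DCoh.restrictCx U).obj K) ≅ F :=
    ((R).mapDerivedCategoryFactors.app K).symm ≪≫ (R).mapDerivedCategory.mapIso eK.symm ≪≫
      (R).mapDerivedCategoryFactors.app G₂ ≪≫
      asIso (DerivedCategory.Q.map ((DCoh.restrictCx U).map (G₁.ιTruncLE b))) ≪≫ e₁
  have hH : ∀ n, Coh.IsCoh ((R).obj (K.homology n)) := fun n =>
    CohDev.isCoh_of_iso (((DerivedCategory.homologyFunctor _ n).mapIso eF).symm ≪≫
      (DerivedCategory.homologyFunctorFactors _ n).app ((DCoh.restrictCx U).obj K) ≪≫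
      (K.sc n).mapHomologyIso (R)) (hF n)
  obtain ⟨G, φ, hG, hGa, hGb, hφ⟩ := CohExt.exists_coh_approx (U := U) a b hK hH
  refine ⟨G, a, b, fun i => ?_, ?_, ?_, ⟨asIso (DerivedCategory.Q.map ((DCoh.restrictCx U).map φ)) ≪≫ eF⟩⟩
  · exact CohDev.isCoh_of_iso ((e₂ i).app G).symm (PerfTri.Bounded.isCoh_homology G hG i)
  · exact (DerivedCategory.isGE_iff _ a).2 fun i hi =>
      (HomologicalComplex.ExactAt.isZero_homology
        (ShortComplex.exact_of_isZero_X₂ _ (G.isZero_of_isStrictlyGE a i hi))).of_iso ((e₂ i).app G)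
  · exact (DerivedCategory.isLE_iff _ b).2 fun i hi =>
      (HomologicalComplex.ExactAt.isZero_homology
        (ShortComplex.exact_of_isZero_X₂ _ (G.isZero_of_isStrictlyLE b i hi))).of_iso ((e₂ i).app G)

end Groth.Agent.KFlat.CohExtend
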