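import Groth.Agent.CohDerLib.QC.PerfHom
import Groth.Agent.CohDerLib.QC.PerfBound
import Groth.Agent.CohAff.AffineCech
import Groth.Agent.PCohD.FreeLocus
import Groth.Agent.PerfTri.Betti
import Groth.Agent.S12451
import Groth.Agent.AlgzW.EpiGen

/-!
# A uniform bound for `Ext` out of finite locally free modules
-/

set_option autoImplicit false
set_option backward.isDefEq.respectTransparency.types false
set_option backward.isDefEq.respectTransparency false

universe u

open CategoryTheory CategoryTheory.Limits AlgebraicGeometry DerivedCategory Pretriangulated TopologicalSpace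

attribute [local instance] HasDerivedCategory.standard preservesBinaryBiproducts_of_preservesBiproducts

noncomputable section

namespace Groth.Agent.KFlat.ExtUniform

open Groth.Agent.KFlat Groth.Agent.CohDerLib Groth.Agent.CohDerLib.QC Groth.Agent.KFlat.WeakKInj
  Groth.Agent.PerfTri.Nullhom Groth.Agent.PerfTri.Perfect

variable {X : Scheme.{u}}

/-- a given bound for `C` over every scheme immersed onto the open `W` -/
def VanOnD (d : ℤ) (C : CochainComplex X.Modules ℤ) (W : X.Opens) : Prop :=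
  ∀ (Z : Scheme.{u}) (j : Z ⟶ X) [IsOpenImmersion j], j.opensRange = W →
    VanD d (Q.obj ((resC j).obj C) : DCoh.D Z)

/-- Mayer–Vietoris step -/
theorem vanOnD_sup (C : CochainComplex X.Modules ℤ) (U V : X.Opens) {dU dV dW : ℤ} (hU : VanOnD dU C U)
    (hV : VanOnD dV C V) (hUV : VanOnD dW C (U ⊓ V)) :
    VanOnD (max dU (max dV (dW + 1))) C (U ⊔ V) := by
  intro Z j hj hr E hE b hb hbd
  let U' := j ⁻¹ᵁ U
  let V' := j ⁻¹ᵁ V
  have hcov : U' ⊔ V' = ⊤ := by
    refine top_le_iff.1 fun z _ => ?_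
    have hz : j z ∈ U ⊔ V := hr ▸ ⟨z, rfl⟩
    exact hz
  let K := Q.objPreimage E
  let I := (RPush.injRes Z).obj K
  let eI : Q.obj I ≅ E := (asIso (Q.map ((RPush.injι Z).app K))).symm ≪≫ Q.objObjPreimageIso E
  have hqI : DCoh.IsQCohD (Q.obj I : DCoh.D Z) := isQCohD_iso eI.symm hE
  have hbI : (Q.obj I).IsLE b := TStructure.t.isLE_of_iso eI.symm b
  have hinj : ∀ n, Injective (I.X n) := fun n => inferInstance
  -- the pieces
  have piece : ∀ (J : CochainComplex Z.Modules ℤ) [J.IsKInjective] (c : ℤ), DCoh.IsQCohD (Q.obj J : DCoh.D Z) →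
      (Q.obj J).IsLE c → ∀ (W : X.Opens), W ≤ j.opensRange → ∀ dd,
        (∀ (Z' : Scheme.{u}) (j' : Z' ⟶ X) [IsOpenImmersion j'], j'.opensRange = W → VanD dd (Q.obj ((resC j').obj C))) →
        c + dd < 0 →
        Subsingleton (Q.obj ((resC j).obj C) ⟶ Q.obj ((MVTriangle.Rc (j ⁻¹ᵁ W)).obj J)) := by
    intro J _ c hJq hJc W hW dd hd hc
    refine subsingleton_to_Rc _ _ _ ?_
    have hr' : ((j ⁻¹ᵁ W).ι ≫ j).opensRange = W := by
      rw [Scheme.Hom.opensRange_comp, Scheme.Opens.opensRange_ι, Scheme.Hom.image_preimage_eq_opensRange_inf]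
      exact inf_eq_right.2 hW
    refine @Equiv.subsingleton _ _
      (Iso.homFromEquiv (Q.mapIso ((resCompIso (j ⁻¹ᵁ W).ι j ((j ⁻¹ᵁ W).ι ≫ j) rfl).app C))) ?_
    exact hd _ ((j ⁻¹ᵁ W).ι ≫ j) hr' _ (QCohModel.isQCohD_restrJ (j ⁻¹ᵁ W).ι hJq) c
      (isLE_restr (j ⁻¹ᵁ W).ι J c hJc) hc
  let S := MVTriangle.scc U' V' I
  have hS : S.ShortExact := MVTriangle.shortExact_scc I hcov
  let T := triangleOfSES hS
  have hT : T ∈ distinguishedTriangles := triangleOfSES_distinguished hS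
  have hle : U ⊔ V ≤ j.opensRange := hr.ge
  have h₂ : Subsingleton (Q.obj ((resC j).obj C) ⟶ T.obj₂) := by
    have h1 := piece I b hqI hbI U (le_sup_left.trans hle) dU (fun Z' j' _ h => hU Z' j' h) (by omega)
    have h2 := piece I b hqI hbI V (le_sup_right.trans hle) dV (fun Z' j' _ h => hV Z' j' h) (by omega)
    refine subsingleton_of_forall_eq 0 fun y => ?_
    have e : (𝟙 T.obj₂) = Q.map biprod.fst ≫ Q.map biprod.inl + Q.map biprod.snd ≫ Q.map biprod.inr := by
      rw [← Q.map_comp, ← Q.map_comp, ← Q.map_add, biprod.total, CategoryTheory.Functor.map_id]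
      rfl
    rw [← Category.comp_id y, e, Preadditive.comp_add, ← Category.assoc, ← Category.assoc,
      h1.elim (y ≫ Q.map biprod.fst) 0, h2.elim (y ≫ Q.map biprod.snd) 0, zero_comp, zero_comp, add_zero]
  have h₃ : Subsingleton (Q.obj ((resC j).obj C) ⟶ (T.obj₃)⟦(-1 : ℤ)⟧) := by
    have hq' : DCoh.IsQCohD (Q.obj (I⟦(-1 : ℤ)⟧) : DCoh.D Z) := fun k =>
      qcoh_iso ((((homologyFunctor Z.Modules 0).shiftIso (-1 : ℤ) k (k - 1) (by omega)).app (Q.obj I)).symm ≪≫
        (homologyFunctor Z.Modules k).mapIso ((Q.commShiftIso (-1 : ℤ)).app I).symm) (hqI (k - 1))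
    have hb' : (Q.obj (I⟦(-1 : ℤ)⟧) : DCoh.D Z).IsLE (b + 1) := by
      have : ((Q.obj I)⟦(-1 : ℤ)⟧).IsLE (b + 1) := TStructure.t.isLE_shift (Q.obj I) b (-1) (b + 1) (by omega)
      exact TStructure.t.isLE_of_iso (X := (Q.obj I)⟦(-1 : ℤ)⟧) ((Q.commShiftIso (-1 : ℤ)).app I).symm (b + 1)
    have h3 := piece (I⟦(-1 : ℤ)⟧) (b + 1) hq' hb' (U ⊓ V) (inf_le_left.trans (le_sup_left.trans hle)) dW
      (fun Z' j' _ h => hUV Z' j' h) (by omega)
    let e : Q.obj ((MVTriangle.Rc (j ⁻¹ᵁ (U ⊓ V))).obj (I⟦(-1 : ℤ)⟧)) ≅ (T.obj₃)⟦(-1 : ℤ)⟧ :=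
      Q.mapIso (((Scheme.Modules.pushforward (j ⁻¹ᵁ (U ⊓ V)).ι).mapHomologicalComplex (ComplexShape.up ℤ)).mapIso
          (((DCoh.restrictCx (j ⁻¹ᵁ (U ⊓ V))).commShiftIso (-1 : ℤ)).app I) ≪≫
        (((Scheme.Modules.pushforward (j ⁻¹ᵁ (U ⊓ V)).ι).mapHomologicalComplex (ComplexShape.up ℤ)).commShiftIso (-1 : ℤ)).app _) ≪≫
        (Q.commShiftIso (-1 : ℤ)).app _
    exact @Equiv.subsingleton _ _ (Iso.homToEquiv e).symm h3
  have hmain : Subsingleton (Q.obj ((resC j).obj C) ⟶ T.obj₁) := by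
    refine subsingleton_of_forall_eq 0 fun y => ?_
    obtain ⟨x, hx⟩ := Triangle.coyoneda_exact₂ _ (inv_rot_of_distTriang _ hT) y (h₂.elim _ _)
    rw [hx, h₃.elim x 0]
    exact zero_comp
  exact @Equiv.subsingleton _ _ (Iso.homToEquiv eI).symm hmain


theorem vanOnD_mono {d d' : ℤ} {C : CochainComplex X.Modules ℤ} {W : X.Opens} (h : VanOnD d C W)
    (hd : d ≤ d') : VanOnD d' C W := fun Z j _ hr => (h Z j hr).mono hd

theorem van_retract {d : ℕ} {P P' : X.Modules} (r : Retract P P') (h : Van d P') : Van d P := by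
  intro F hF a b hab f
  have h0 := h F hF a b hab ((singleFunctor X.Modules a).map r.r ≫ f)
  rw [← Category.id_comp f, ← CategoryTheory.Functor.map_id, ← r.retract, Functor.map_comp,
    Category.assoc, h0, comp_zero]

/-- A finite projective module gives a direct summand of a free module. -/
theorem exists_retract_spec {R : CommRingCat.{u}} (P : ModuleCat.{u} R) (hP : Module.Finite R P)
    (hP' : Module.Projective R P) :
    ∃ n, Nonempty (Retract (tilde P) (FlatMod.freeMod (Spec R) n)) := by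
  obtain ⟨n, f, hf⟩ := Module.Finite.exists_fin' R P
  let F : ModuleCat.{u} R := ModuleCat.of R (ULift.{u} (Fin n) →₀ R)
  let d : (Fin n → R) ≃ₗ[R] F :=
    (LinearEquiv.funCongrLeft R R Equiv.ulift).trans (Finsupp.linearEquivFunOnFinite R R _).symm
  let π : F →ₗ[R] P := f ∘ₗ d.symm.toLinearMap
  obtain ⟨s, hs⟩ := Module.projective_lifting_property π LinearMap.id (hf.comp d.symm.surjective)
  let ρ : Retract P F :=
    { i := ModuleCat.ofHom s
      r := ModuleCat.ofHom π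
      retract := by ext x; exact LinearMap.congr_fun hs x }
  exact ⟨n, ⟨(ρ.map (tilde.functor R)).trans
    (Retract.ofIso (tildeFinsupp (ULift.{u} (Fin n)) ≪≫ Props.QProj.freeModIso (Spec R) n))⟩⟩

theorem exists_retract_free [IsAffine X] {M : X.Modules} (hM : FlatMod.IsFinLocFree M) :
    ∃ n, Nonempty (Retract M (FlatMod.freeMod X n)) := by
  let e := X.isoSpec
  let N := M.restrict e.inv
  have hN : FlatMod.IsFinLocFree N := PCohD.FreeLocus.isFinLocFree_restrict e.inv hM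
  have : N.IsQuasicoherent := PerfTri.Betti.isQuasicoherent_of_isFinLocFree hN
  have := Scheme.Modules.isIso_fromTildeΓ_of_isQuasicoherent N
  let i : tilde (moduleSpecΓFunctor.obj N) ≅ N := asIso N.fromTildeΓ
  obtain ⟨h₁, h₂⟩ := (S12451.result _).1 (LocFree.isFinLocFree_of_iso i.symm hN)
  obtain ⟨n, ⟨r⟩⟩ := exists_retract_spec _ h₁ h₂
  let G := Scheme.Modules.restrictFunctor e.hom
  let back : M ≅ G.obj N :=
    ((Scheme.Modules.restrictFunctorId.symm ≪≫
      Scheme.Modules.restrictFunctorCongr e.hom_inv_id.symm ≪≫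
      Scheme.Modules.restrictFunctorComp e.hom e.inv).app M)
  exact ⟨n, ⟨(Retract.ofIso back).trans (((Retract.ofIso i.symm).trans r).map G |>.trans
    (Retract.ofIso (PerfTri.LocalLift.freeRestrIso e.hom n)))⟩⟩

/-- A single module, as a complex. -/
def one (F : X.Modules) : CochainComplex X.Modules ℤ :=
  (HomologicalComplex.single X.Modules (ComplexShape.up ℤ) 0).obj F

theorem vanOnD_affine {F : X.Modules} (hF : FlatMod.IsFinLocFree F) {W : X.Opens}
    (hW : IsAffineOpen W) : VanOnD 0 (one F) W := by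
  intro Z j _ hr
  have : IsAffine j.opensRange.toScheme := by rw [hr]; exact hW
  have : IsAffine Z := IsAffine.of_isIso j.isoOpensRange.hom
  obtain ⟨n, ⟨r⟩⟩ := exists_retract_free (PCohD.FreeLocus.isFinLocFree_restrict j hF)
  exact VanD.of_iso ((QCohAcy.singleQIso 0 (F.restrict j)).symm ≪≫
    Q.mapIso ((HomologicalComplex.singleMapHomologicalComplex (Scheme.Modules.restrictFunctor j)
      (ComplexShape.up ℤ) 0).app F).symm) ((vanD_single (van_retract r (van_freeMod n)) 0).mono (by omega))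

/-- On a quasi-compact quasi-separated scheme `Hom(F, E)` vanishes for `E` far to the left,
uniformly in the finite locally free module `F`. -/
theorem exists_bound_top [CompactSpace X] [QuasiSeparatedSpace X] :
    ∃ d : ℤ, ∀ F : X.Modules, FlatMod.IsFinLocFree F → VanD d (DCoh.inD X F) := by
  classical
  obtain ⟨s, hs, e⟩ := (isCompact_iff_finite_and_eq_biUnion_affineOpens (U := (⊤ : X.Opens))).mp
    isCompact_univ
  suffices ∀ W : X.Opens, IsCompact (W : Set X) →
      ∃ d : ℤ, ∀ F : X.Modules, FlatMod.IsFinLocFree F → VanOnD d (one F) W by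
    obtain ⟨d, hd⟩ := this ⊤ isCompact_univ
    refine ⟨d, fun F hF => VanD.of_iso (Q.mapIso ((NatIso.mapHomologicalComplex
      Scheme.Modules.restrictFunctorId (ComplexShape.up ℤ) ≪≫
      Functor.mapHomologicalComplexIdIso _ _).app (one F)) ≪≫ QCohAcy.singleQIso 0 F)
      (hd F hF X (𝟙 X) (top_le_iff.1 fun z _ => ⟨z, rfl⟩))⟩
  have hind : ∀ A : X.Opens, IsAffineOpen A → ∀ W : X.Opens, W ≤ A → IsCompact (W : Set X) →
      ∃ d : ℤ, ∀ F : X.Modules, FlatMod.IsFinLocFree F → VanOnD d (one F) W := fun A hA W hW hc => by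
    refine Groth.Agent.CohAff.compact_le_induction hA.isQuasiSeparated
      (fun W _ => ∃ d : ℤ, ∀ F : X.Modules, FlatMod.IsFinLocFree F → VanOnD d (one F) W)
      (fun B _ hB => ⟨0, fun F hF => vanOnD_affine hF hB⟩) ?_ W hW hc
    rintro U V _ - - ⟨dU, hU⟩ ⟨dV, hV⟩ ⟨dW, hUV⟩
    exact ⟨_, fun F hF => vanOnD_sup (one F) U V (hU F hF) (hV F hF) (hUV F hF)⟩
  intro W hW
  obtain ⟨t, ht, hWt⟩ := (isCompact_iff_finite_and_eq_biUnion_affineOpens (U := W)).mp hW
  have hWe : W = ht.toFinset.sup (fun A : X.affineOpens => (A : X.Opens)) := by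
    rw [hWt, Finset.sup_eq_iSup]
    simp
  rw [hWe]
  generalize ht.toFinset = σ
  suffices (∃ d : ℤ, ∀ F : X.Modules, FlatMod.IsFinLocFree F →
      VanOnD d (one F) (σ.sup fun A => (A : X.Opens))) ∧
      IsCompact ((σ.sup fun A : X.affineOpens => (A : X.Opens) : X.Opens) : Set X) from this.1
  induction σ using Finset.induction with
  | empty =>
    rw [Finset.sup_empty]
    refine ⟨⟨0, fun F _ Z j _ hr => vanD_isZero (Q.map_isZero ?_) 0⟩, by simp⟩
    have hZ : ∀ _ : Z, False := fun z => (hr ▸ (⟨z, rfl⟩ : j z ∈ j.opensRange) : j z ∈ (⊥ : X.Opens))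
    rw [IsZero.iff_id_eq_zero]
    exact HomologicalComplex.hom_ext _ _ fun n => (isZero_modules_of_isEmpty hZ _).eq_of_src _ _
  | insert A σ _ ih =>
    rw [Finset.sup_insert]
    obtain ⟨⟨dV, hV⟩, hcV⟩ := ih
    refine ⟨?_, by simpa using A.2.isCompact.union hcV⟩
    have hc : IsCompact (((A : X.Opens) ⊓ σ.sup fun B : X.affineOpens => (B : X.Opens) : X.Opens) : Set X) :=
      (QuasiSeparatedSpace.inter_isCompact _ _ (A : X.Opens).2 A.2.isCompact (σ.sup fun B : X.affineOpens => (B : X.Opens)).2 hcV :)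
    obtain ⟨dW, hW⟩ := hind A A.2 _ inf_le_left hc
    exact ⟨_, fun F hF => vanOnD_sup (one F) _ _ (vanOnD_affine hF A.2) (hV F hF) (hW F hF)⟩

theorem ext_vanishes [CompactSpace X] [QuasiSeparatedSpace X] (E : DCoh.D X) (hE : DCoh.IsQCohD E)
    (b : ℤ) [E.IsLE b] :
    ∃ n₀ : ℤ, 0 < n₀ ∧ ∀ (F : X.Modules), FlatMod.IsFinLocFree F → ∀ n : ℤ, n₀ ≤ n →
      ∀ φ : DCoh.inD X F ⟶ E⟦n⟧, φ = 0 := by
  obtain ⟨d, hd⟩ := exists_bound_top (X := X)
  exact ⟨max 1 (b + d + 1), by omega, fun F hF n hn φ =>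
    (subsingleton_hom_shift_of_isLE (hd F hF) hE b n (by omega)).elim φ 0⟩

end Groth.Agent.KFlat.ExtUniform
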