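import Mathlib.Algebra.Homology.BifunctorShift

/-!
# Naturality of the shift isomorphism of a tensor product in the other variable
-/

set_option autoImplicit false

open CategoryTheory CategoryTheory.Limits HomologicalComplex

namespace Groth.Agent.KFlat.ShiftNat

variable {C₁ C₂ D : Type*} [Category C₁] [Category C₂] [Category D]
  [HasZeroMorphisms C₁] [Preadditive C₂] [Preadditive D]
  {K₁ L₁ : CochainComplex C₁ ℤ} (f₁ : K₁ ⟶ L₁) (K₂ : CochainComplex C₂ ℤ)
  (F : C₁ ⥤ C₂ ⥤ D) [F.PreservesZeroMorphisms] [∀ (X₁ : C₁), (F.obj X₁).Additive] (y : ℤ)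
  [CochainComplex.HasMapBifunctor K₁ K₂ F] [CochainComplex.HasMapBifunctor L₁ K₂ F]

set_option backward.defeqAttrib.useBackward true in
set_option backward.isDefEq.respectTransparency false in
theorem naturality₁ :
    mapBifunctorMap f₁ (𝟙 (K₂⟦y⟧)) F (.up ℤ) ≫ (CochainComplex.mapBifunctorShift₂Iso L₁ K₂ F y).hom =
      (CochainComplex.mapBifunctorShift₂Iso K₁ K₂ F y).hom ≫ (mapBifunctorMap f₁ (𝟙 K₂) F (.up ℤ))⟦y⟧' := by
  ext n p q h
  simp [CochainComplex.ι_mapBifunctorShift₂Iso_hom_f _ _ _ _ _ _ _ _ (q + y) (n + y) rfl rfl,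
    CochainComplex.ι_mapBifunctorShift₂Iso_hom_f_assoc _ _ _ _ _ _ _ _ (q + y) (n + y) rfl rfl]

end Groth.Agent.KFlat.ShiftNat
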