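import Groth.Agent.KFlat.DualMap
import Groth.Agent.KFlat.LTensorExact
import Groth.Agent.KFlat.CellGen
import Groth.Agent.KFlat.RHomLocal
import Groth.Agent.KFlat.StalkD
import Groth.Agent.KFlat.ShiftNat
import Groth.Agent.KFlat.ExtZero
import Groth.Agent.KFlat.NatTransClosed

/-!
# The dual of a perfect complex
-/

set_option autoImplicit false

universe u

open CategoryTheory CategoryTheory.Limits AlgebraicGeometry CategoryTheory.Pretriangulated
open Groth.Agent.KFlat.Pull Groth.Agent.KFlat.LTensor Groth.Agent.KFlat.UnitCx Groth.Agent.KFlat.DualMap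
open Groth.Agent.KFlat.ProjFormula Groth.Agent.KFlat.StalkD

attribute [local instance] HasDerivedCategory.standard

namespace Groth.Agent.KFlat.PerfectDual

variable {X : Scheme.{u}}

local notation "Q" => DerivedCategory.Q (C := X.Modules)
local notation "sgl" => HomologicalComplex.single X.Modules (ComplexShape.up ℤ)

/-! ### Tensoring with shifts of the unit -/

theorem isKFlat_one : DCoh.IsKFlat (oneCx X) :=
  (Groth.Agent.KFlat.isKFlat_iff (O := X.sheaf) _).2 fun L hL =>
    Groth.Agent.KFlat.acyclic_of_iso (unitIsoApp L).symm hL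

/-- `- ⊗ O[m] ≅ [m]`. -/
noncomputable def flipShiftIso (m : ℤ) :
    (DCoh.tensorCx (X := X)).flip.obj ((oneCx X)⟦m⟧) ≅ shiftFunctor (CochainComplex X.Modules ℤ) m :=
  NatIso.ofComponents
    (fun L => Groth.Agent.KFlat.tensShiftIso (O := X.sheaf) L (oneCx X) m ≪≫
      (shiftFunctor (CochainComplex X.Modules ℤ) m).mapIso (unitIsoApp L))
    fun {L L'} φ => by
      have h := ShiftNat.naturality₁ φ (oneCx X) (DCoh.tensorBi (X := X)) m
      refine (Category.assoc _ _ _).symm.trans ((congrArg (· ≫ _) h).trans ?_)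
      refine (Category.assoc _ _ _).trans (Eq.trans ?_ (Category.assoc _ _ _).symm)
      exact congrArg (_ ≫ ·) (((shiftFunctor _ m).map_comp _ _).symm.trans
        ((congrArg (shiftFunctor _ m).map (unitNatIso.hom.naturality φ)).trans ((shiftFunctor _ m).map_comp _ _)))

/-- `O[m] ⊗ - ≅ [m]`. -/
noncomputable def objShiftIso (m : ℤ) :
    (DCoh.tensorCx (X := X)).obj ((oneCx X)⟦m⟧) ≅ shiftFunctor (CochainComplex X.Modules ℤ) m :=
  ((Groth.Agent.KFlat.tensFlipIso X.sheaf).app ((oneCx X)⟦m⟧)).symm ≪≫ flipShiftIso m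

theorem isKFlat_oneShift (m : ℤ) : DCoh.IsKFlat ((oneCx X)⟦m⟧) :=
  Groth.Agent.KFlat.isKFlat_shift (O := X.sheaf) isKFlat_one m

/-- Tensoring with `O[m]` is the shift. -/
noncomputable def ΦShiftIso (m : ℤ) :
    Φ ((oneCx X)⟦m⟧) (isKFlat_oneShift m) ≅ shiftFunctor (DCoh.D X) m :=
  Localization.liftNatIso (Q) (HomologicalComplex.quasiIso X.Modules (ComplexShape.up ℤ))
    ((Q) ⋙ Φ ((oneCx X)⟦m⟧) (isKFlat_oneShift m)) ((Q) ⋙ shiftFunctor (DCoh.D X) m) _ _
    (ιΦ _ (isKFlat_oneShift m) ≪≫ Functor.isoWhiskerRight (objShiftIso m) _ ≪≫ (Q).commShiftIso m)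

theorem isEquivalence_Φ (m : ℤ) : (Φ ((oneCx X)⟦m⟧) (isKFlat_oneShift m)).IsEquivalence :=
  Functor.isEquivalence_of_iso (ΦShiftIso m).symm

variable (K D : CochainComplex X.Modules ℤ) [DCoh.HasLTensorCx K] [DCoh.HasRSheafHom K]

/-- The value of `RHom(K, -)` at the structure sheaf. -/
noncomputable abbrev dual : DCoh.D X :=
  (DCoh.RSheafHom K).obj ((DerivedCategory.singleFunctor X.Modules 0).obj (Coh.structureModule X))

theorem exists_pairing (hK : DCoh.IsKFlat K) (hD : DCoh.IsKFlat D) (eD : (Q).obj D ≅ dual K)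
    [DCoh.HasLTensorCx D] : ∃ π : Pairing D K, Univ π := by
  have := isIso_toTensor_of_kflat K hK D
  let ε : (DCoh.LTensorCx K).obj ((Q).obj D) ⟶ (Q).obj (oneCx X) :=
    (DCoh.LTensorCx K).map eD.hom ≫ (DCoh.RSheafHomAdj K).counit.app _
  let f : (Q).obj ((DCoh.tensorCx.obj D).obj K) ⟶ (Q).obj (oneCx X) := inv ((toTensor K).app D) ≫ ε
  obtain ⟨T₀, s₀, hs₀, g₀', hf⟩ := DerivedCategory.right_fac f
  have hρ := quasiIso_resYπ T₀
  have hq : QuasiIso s₀ := (DerivedCategory.isIso_Q_map_iff_quasiIso X.Modules s₀).1 hs₀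
  have hs : QuasiIso ((resYπ X).app T₀ ≫ s₀) := quasiIso_comp (hφ := hρ) (hφ' := hq) ..
  let π : Pairing D K :=
    { T := (resY X).obj T₀, s := (resYπ X).app T₀ ≫ s₀, g := (resYπ X).app T₀ ≫ g₀', qis := hs,
      hT := isKFlat_resY T₀, hD := hD, hK := hK }
  refine ⟨π, fun N => ?_⟩
  have hg : g₀ π = ε := by
    have h1 : inv ((Q).map π.s) ≫ (Q).map π.g = f := by
      rw [IsIso.inv_comp_eq]
      simp only [π, Functor.map_comp, Category.assoc, hf, IsIso.hom_inv_id_assoc]
    exact (congrArg ((toTensor K).app D ≫ ·) h1).trans (IsIso.hom_inv_id_assoc _ _)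
  let adj := DCoh.RSheafHomAdj K
  have hy : (fun y : N ⟶ (Q).obj D => (DCoh.LTensorCx K).map y ≫ g₀ π) =
      (adj.homEquiv N _).symm ∘ fun y => y ≫ eD.hom := funext fun y => by
    rw [hg, Function.comp_apply, Adjunction.homEquiv_counit, Functor.map_comp, Category.assoc]
    rfl
  rw [hy]
  exact (adj.homEquiv N _).symm.bijective.comp
    ⟨fun a b h => (cancel_mono eD.hom).1 h, fun z => ⟨z ≫ eD.inv, by simp⟩⟩

variable {K D} [DCoh.HasLTensorCx D] (π : Pairing D K)

theorem isIso_θ_single_one (hu : Univ π) (n : ℤ) :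
    IsIso ((θ π).app ((Q).obj ((sgl n).obj (Coh.structureModule X)))) := by
  have := isEquivalence_Φ (X := X) (-n)
  have h := isIso_θ_of_univ π ((oneCx X)⟦-n⟧) (isKFlat_oneShift (-n)) hu
  exact (NatTrans.isIso_app_iff_of_iso (θ π) ((Q).mapIso
    (((CochainComplex.singleFunctors X.Modules).shiftIso (-n) n 0 (neg_add_cancel n)).app
      (Coh.structureModule X)))).1 h

theorem isIso_θ_free (hKp : DCoh.IsPerfect (DCoh.toD X K)) (hu : Univ π) (W : X.Opens) (n : ℤ) :
    IsIso ((θ π).app ((Q).obj ((sgl n).obj (Groth.Agent.KFlat.freeU X.sheaf W)))) := by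
  refine isIso_of_hStalk _ fun y => ?_
  let φ : (sgl n).obj (fU W) ⟶ (sgl n).obj (Coh.structureModule X) := (sgl n).map (toUnit W)
  have := isIso_toTensor_of_kflat D π.hD ((sgl n).obj (fU W))
  by_cases hy : y ∈ W
  · have := isIso_θ_single_one π hu n
    have := isIso_toTensor_of_kflat D π.hD ((sgl n).obj (Coh.structureModule X))
    refine HStalkIso.of_square ((θ π).naturality ((Q).map φ)) ?_ (hStalkIso_of_isIso _) ?_
    · have := stalkIso_toUnit W hy
      have := isIso_stCx_single (y := y) (toUnit W) n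
      exact @HStalkIso.conj X y _ _ _ _ _ _ (hStalkIso_Q _ (isIso_stCx_tens φ D)) _ _
        (isIso_toTensor_of_kflat D π.hD _) (isIso_toTensor_of_kflat D π.hD _) ((toTensor D).naturality φ)
    · obtain ⟨V, hyV, hVW, E, E', P, hLT, -, -, ⟨w⟩⟩ := RHomLocal.exists_local K hKp y W hy
      refine hStalkIso_of_restrict (V := V) ⟨y, hyV⟩ _ ?_
      have h0 := isIso_restrict_toUnit hVW
      have h1 : IsIso ((DCoh.restrictCx V).map φ) :=
        (NatIso.isIso_map_iff (HomologicalComplex.singleMapHomologicalComplex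
          (Scheme.Modules.restrictFunctor V.ι) (ComplexShape.up ℤ) n) (toUnit W)).2
          (inferInstanceAs (IsIso ((HomologicalComplex.single _ _ n).map
            ((Scheme.Modules.restrictFunctor V.ι).map (toUnit W)))))
      have h2 : IsIso ((DCoh.restrictD V.ι).map ((Q).map φ)) :=
        (NatIso.isIso_map_iff (Scheme.Modules.restrictFunctor V.ι).mapDerivedCategoryFactors φ).2
          (inferInstanceAs (IsIso (DerivedCategory.Q.map ((DCoh.restrictCx V).map φ))))
      have h3 : IsIso ((DCoh.restrictD V.ι).map ((DCoh.RSheafHom K).map ((Q).map φ))) :=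
        (NatIso.isIso_map_iff w _).2 (inferInstanceAs (IsIso ((DCoh.LTensorCx E').map _)))
      exact @hStalkIso_of_isIso _ _ _ _ _ h3
  · have hM : ∀ p, IsZero ((DerSch.stalkFunctor X y).obj (((sgl n).obj (fU W)).X p)) :=
      isZero_stalk_single (isZero_stalk_freeU W hy) n
    refine hStalkIso_of_zero ((hStalkZero_Q (isZero_stalk_tens D hM)).of_iso
      (@asIso _ _ _ _ _ (isIso_toTensor_of_kflat D π.hD _))) ?_ _
    obtain ⟨V, hyV, -, E, E', P, hLT, -, -, ⟨w⟩⟩ := RHomLocal.exists_local K hKp y ⊤ trivial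
    have := isIso_toTensor_of_kflat E' (StrictDual.isKFlat_right P) ((DCoh.restrictCx V).obj ((sgl n).obj (fU W)))
    refine hStalkZero_of_restrict (V := V) ⟨y, hyV⟩ ((hStalkZero_Q (isZero_stalk_tens E'
      (L := (DCoh.restrictCx V).obj ((sgl n).obj (fU W)))
      fun p => (isZero_stalk_restrict_iff (V := V) ⟨y, hyV⟩ _).2 (hM p))).of_iso ?_)
    exact w.app _ ≪≫ (DCoh.LTensorCx E').mapIso
      ((Scheme.Modules.restrictFunctor V.ι).mapDerivedCategoryFactors.app _) ≪≫
      @asIso _ _ _ _ _ (isIso_toTensor_of_kflat E' (StrictDual.isKFlat_right P) _)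

/-! ### Coproducts -/

/-- Transport of a colimit cofan along isomorphisms. -/
noncomputable def isColimitTransport {C : Type*} [Category C] {ι : Type*} {A A' : ι → C} {P P' : C}
    {f : ∀ i, A i ⟶ P} {f' : ∀ i, A' i ⟶ P'} (h : IsColimit (Cofan.mk P f)) (e : P ≅ P')
    (eA : ∀ i, A i ≅ A' i) (w : ∀ i, f i ≫ e.hom = (eA i).hom ≫ f' i) : IsColimit (Cofan.mk P' f') :=
  Cofan.IsColimit.mk _ (fun s => e.inv ≫ Cofan.IsColimit.desc h fun i => (eA i).hom ≫ s.inj i)
    (fun s i => by
      have w' : f' i ≫ e.inv = (eA i).inv ≫ f i := by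
        rw [Iso.eq_inv_comp, ← Category.assoc, ← w, Category.assoc, e.hom_inv_id, Category.comp_id]
      have hd : f i ≫ Cofan.IsColimit.desc h (fun i => (eA i).hom ≫ s.inj i) = (eA i).hom ≫ s.inj i :=
        Cofan.IsColimit.fac h _ i
      change f' i ≫ e.inv ≫ _ = _
      rw [← Category.assoc, w', Category.assoc, hd, Iso.inv_hom_id_assoc])
    (fun s m hm => by
      rw [Iso.eq_inv_comp]
      refine Cofan.IsColimit.hom_ext h _ _ fun i => ?_
      rw [Cofan.IsColimit.fac]
      change f i ≫ e.hom ≫ m = _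
      rw [← Category.assoc, w, Category.assoc]
      exact congrArg _ (hm i))

theorem hasCoproduct_D {ι : Type u} (A : ι → DCoh.D X) : HasCoproduct A := by
  let L : ι → CochainComplex X.Modules ℤ := fun i => (Q).objPreimage (A i)
  obtain ⟨hc⟩ := LTensorCoprod.isColimit_Q_of_isColimit L _ (coproductIsCoproduct L)
  exact ⟨⟨⟨_, isColimitTransport (A' := A) hc (Iso.refl _) (fun i => (Q).objObjPreimageIso (A i))
    (f' := fun i => ((Q).objObjPreimageIso (A i)).inv ≫ (Q).map (Sigma.ι L i)) fun i => by simp⟩⟩⟩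

theorem preservesColimit_restrictD (V : X.Opens) {ι : Type u} (A : ι → DCoh.D X) :
    PreservesColimit (Discrete.functor A) (DCoh.restrictD V.ι) := by
  let L : ι → CochainComplex X.Modules ℤ := fun i => (Q).objPreimage (A i)
  obtain ⟨hc⟩ := LTensorCoprod.isColimit_Q_of_isColimit L _ (coproductIsCoproduct L)
  have : PreservesColimit (Discrete.functor L) (DCoh.restrictCx V) := by
    have : PreservesColimitsOfSize.{u, u} (Scheme.Modules.restrictFunctor V.ι) :=
      (Scheme.Modules.restrictAdjunction V.ι).leftAdjoint_preservesColimits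
    infer_instance
  obtain ⟨hd⟩ := LTensorCoprod.isColimit_Q_of_isColimit _ _
    (isColimitMapCoconeCofanMkEquiv (DCoh.restrictCx V) L (Sigma.ι L)
      (isColimitOfPreserves (DCoh.restrictCx V) (coproductIsCoproduct L)))
  have : PreservesColimit (Discrete.functor fun i => (Q).obj (L i)) (DCoh.restrictD V.ι) :=
    preservesColimit_of_preserves_colimit_cocone hc ((isColimitMapCoconeCofanMkEquiv _ _ _).symm
      (isColimitTransport hd
        ((Scheme.Modules.restrictFunctor V.ι).mapDerivedCategoryFactors.app _).symm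
        (fun i => ((Scheme.Modules.restrictFunctor V.ι).mapDerivedCategoryFactors.app (L i)).symm)
        fun i => (Scheme.Modules.restrictFunctor V.ι).mapDerivedCategoryFactors.inv.naturality (Sigma.ι L i)))
  exact preservesColimit_of_iso_diagram (K₁ := Discrete.functor fun i => (Q).obj (L i)) _
    (Discrete.natIso fun i => (Q).objObjPreimageIso (A i.as))

omit [DCoh.HasLTensorCx D] in
theorem preservesColimit_RSheafHom (hKp : DCoh.IsPerfect (DCoh.toD X K)) {ι : Type u} (A : ι → DCoh.D X) :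
    PreservesColimit (Discrete.functor A) (DCoh.RSheafHom K) := by
  refine ⟨fun {c} hc => ⟨?_⟩⟩
  let B : ι → DCoh.D X := fun i => (DCoh.RSheafHom K).obj (A i)
  have := hasCoproduct_D B
  let γ : ∐ B ⟶ (DCoh.RSheafHom K).obj c.pt :=
    Sigma.desc fun i => (DCoh.RSheafHom K).map (c.ι.app ⟨i⟩)
  have hγ : ∀ y, HStalkIso y γ := fun y => by
    obtain ⟨V, hyV, -, E, E', P, hLT, -, -, ⟨w⟩⟩ := RHomLocal.exists_local K hKp y ⊤ trivial
    refine hStalkIso_of_restrict (V := V) ⟨y, hyV⟩ γ ?_
    have := preservesColimit_restrictD V A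
    have := preservesColimit_restrictD V B
    have : PreservesColimit (Discrete.functor A ⋙ DCoh.restrictD V.ι) (DCoh.LTensorCx E') :=
      have : PreservesColimit (Discrete.functor fun i => (DCoh.restrictD V.ι).obj (A i)) (DCoh.LTensorCx E') :=
        LTensorCoprod.preservesColimit_LTensorCx E' _
      preservesColimit_of_iso_diagram (K₁ := Discrete.functor fun i => (DCoh.restrictD V.ι).obj (A i)) _
        (Discrete.natIso fun _ => Iso.refl _)
    have := preservesColimit_of_natIso (Discrete.functor A) w.symm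
    have h1 := isColimitMapCoconeCofanMkEquiv (DCoh.restrictD V.ι) B (Sigma.ι B)
      (isColimitOfPreserves (DCoh.restrictD V.ι) (coproductIsCoproduct B))
    have h2 := isColimitOfPreserves (DCoh.RSheafHom K ⋙ DCoh.restrictD V.ι) hc
    let d : Cofan fun i => (DCoh.restrictD V.ι).obj (B i) :=
      Cofan.mk ((DCoh.restrictD V.ι).obj ((DCoh.RSheafHom K).obj c.pt))
        fun i => (DCoh.restrictD V.ι).map ((DCoh.RSheafHom K).map (c.ι.app ⟨i⟩))
    have hd : IsColimit d := Cofan.IsColimit.mk d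
      (fun t => h2.desc (Cocone.mk t.pt (Discrete.natTrans fun i => t.inj i.as)))
      (fun t i => h2.fac (Cocone.mk t.pt (Discrete.natTrans fun i => t.inj i.as)) ⟨i⟩)
      (fun t m hm => h2.hom_ext fun ⟨i⟩ =>
        (hm i).trans (h2.fac (Cocone.mk t.pt (Discrete.natTrans fun i => t.inj i.as)) ⟨i⟩).symm)
    have e : (DCoh.restrictD V.ι).map γ = (h1.coconePointUniqueUpToIso hd).hom := by
      refine Cofan.IsColimit.hom_ext h1 _ _ fun i => ?_
      refine Eq.trans ?_ (h1.comp_coconePointUniqueUpToIso_hom hd ⟨i⟩).symm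
      exact ((DCoh.restrictD V.ι).map_comp _ _).symm.trans (congrArg _ (Sigma.ι_desc _ _))
    have : IsIso ((DCoh.restrictD V.ι).map γ) := by rw [e]; infer_instance
    exact hStalkIso_of_isIso _
  have := isIso_of_hStalk γ hγ
  refine
    { desc := fun t => inv γ ≫ Sigma.desc fun i => t.ι.app ⟨i⟩
      fac := fun t ⟨i⟩ => ?_
      uniq := fun t m hm => ?_ }
  · have h : Sigma.ι B i ≫ γ = ((DCoh.RSheafHom K).mapCocone c).ι.app ⟨i⟩ := Sigma.ι_desc _ _
    refine ((congrArg (· ≫ _) h.symm).trans (Category.assoc _ _ _)).trans ?_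
    refine (congrArg (Sigma.ι B i ≫ ·) (IsIso.hom_inv_id_assoc γ _)).trans ?_
    exact Sigma.ι_desc (f := B) (fun i => t.ι.app ⟨i⟩) i
  · refine ((IsIso.inv_hom_id_assoc γ m).symm).trans (congrArg (inv γ ≫ ·) (Sigma.hom_ext _ _ fun i => ?_))
    refine ((Category.assoc _ _ _).symm.trans (congrArg (· ≫ m) (Sigma.ι_desc _ _))).trans ?_
    exact (hm ⟨i⟩).trans (Sigma.ι_desc (f := B) (fun i => t.ι.app ⟨i⟩) i).symm

/-! ### Exactness -/

omit [DCoh.HasLTensorCx D] in
theorem midExact_RSheafHom : NatTransClosed.MidExact (DCoh.RSheafHom K) := by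
  intro T hT N a ha
  let adj := DCoh.RSheafHomAdj K
  have := LTensorExact.additive_LTensorCx K
  have := adj.right_adjoint_additive
  have h : (adj.homEquiv N T.obj₂).symm a ≫ T.mor₂ = 0 := by
    rw [← adj.homEquiv_naturality_right_symm, ha, Adjunction.homEquiv_counit, Functor.map_zero, zero_comp]
  obtain ⟨b, hb⟩ := Triangle.coyoneda_exact₂ T hT _ h
  exact ⟨adj.homEquiv _ _ b, by rw [← adj.homEquiv_naturality_right, ← hb, Equiv.apply_symm_apply]⟩

theorem isIso_θ (hKp : DCoh.IsPerfect (DCoh.toD X K)) (hu : Univ π) : IsIso (θ π) := by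
  have := LTensorExact.additive_LTensorCx D
  have := LTensorExact.additive_LTensorCx K
  have := (DCoh.RSheafHomAdj K).right_adjoint_additive
  have hF := LTensorExact.midExact D π.hD
  have hG := midExact_RSheafHom (K := K)
  have hP : CellGen.Closed (fun M => NatTransClosed.AllShifts (θ π) M) :=
    { iso := fun e h => NatTransClosed.AllShifts.iso (θ π) e h
      tri₂ := fun T hT => NatTransClosed.allShifts_obj₂ (θ π) hF hG T hT
      tri₃ := fun T hT => NatTransClosed.allShifts_obj₃ (θ π) hF hG T hT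
      sum := fun C c hc h => NatTransClosed.allShifts_sum (θ π) C c hc
        (fun N => LTensorCoprod.preservesColimit_LTensorCx D N)
        (fun N => preservesColimit_RSheafHom hKp N) h }
  have := fun M => NatTransClosed.AllShifts.app (θ π) (CellGen.mem hP (fun W n k =>
    (NatTrans.isIso_app_iff_of_iso (θ π) (((Q).commShiftIso k).symm.app _ ≪≫ (Q).mapIso
      (((CochainComplex.singleFunctors X.Modules).shiftIso k (n - k) n (by omega)).app _)).symm).1
      (isIso_θ_free π hKp hu W (n - k))) M)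
  exact NatIso.isIso_of_isIso_app _

end Groth.Agent.KFlat.PerfectDual
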