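import Groth.Agent.KFlat.CompactOne
import Groth.Agent.KFlat.PerfectDual
import Groth.Agent.CohDerLib.QC.AcyPush
import Groth.Agent.KFlat.RHomLocal
import Groth.Agent.KFlat.RHomExists
import Mathlib.CategoryTheory.Adjunction.Additive

/-!
# Perfect objects are compact with respect to bounded below families
-/

set_option autoImplicit false

universe w v' u

open CategoryTheory CategoryTheory.Limits AlgebraicGeometry
open Groth.Agent.KFlat.Pull Groth.Agent.KFlat.LTensor Groth.Agent.KFlat.CompactOne Groth.Agent.KFlat.UnitCx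

attribute [local instance] HasDerivedCategory.standard

namespace Groth.Agent.KFlat.PerfectCompact

section Generic

variable {D : Type*} [Category.{v'} D] [Preadditive D] {D' : Type*} [Category.{v'} D'] [Preadditive D']
  {I : Type w}

theorem finSum_of_src {K K' : D} {M : I → D} {P : D} {j : ∀ i, M i ⟶ P} (e : K' ≅ K) (h : FinSum K' j) :
    FinSum K j := by
  refine ⟨fun φ => ?_, fun S t ht i hi => ?_⟩
  · obtain ⟨S, t, ht⟩ := h.1 (e.hom ≫ φ)
    refine ⟨S, fun i => e.inv ≫ t i, ?_⟩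
    rw [← cancel_epi e.hom, ht, Preadditive.comp_sum]
    exact Finset.sum_congr rfl fun i _ => by simp
  · exact (cancel_epi e.hom).1 ((h.2 S (fun i => e.hom ≫ t i) (by
      simp only [Category.assoc, ← Preadditive.comp_sum, ht, comp_zero]) i hi).trans comp_zero.symm)

theorem finSum_of_adj {L : D' ⥤ D} {R : D ⥤ D'} (adj : L ⊣ R) [L.Additive] {Z : D'} {M : I → D} {P : D}
    {j : ∀ i, M i ⟶ P} (h : FinSum Z fun i => R.map (j i)) : FinSum (L.obj Z) j := by
  have hs : ∀ (S : Finset I) (t : ∀ i, L.obj Z ⟶ M i),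
      adj.homAddEquiv Z P (∑ i ∈ S, t i ≫ j i) = ∑ i ∈ S, adj.homAddEquiv Z (M i) (t i) ≫ R.map (j i) :=
    fun S t => by
      rw [map_sum]
      exact Finset.sum_congr rfl fun i _ => adj.homEquiv_naturality_right (t i) (j i)
  refine ⟨fun φ => ?_, fun S t ht i hi => ?_⟩
  · obtain ⟨S, t, ht⟩ := h.1 (adj.homAddEquiv Z P φ)
    refine ⟨S, fun i => (adj.homAddEquiv Z (M i)).symm (t i), (adj.homAddEquiv Z P).injective ?_⟩
    rw [hs, ht]
    simp only [AddEquiv.apply_symm_apply]
  · apply (adj.homAddEquiv Z (M i)).injective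
    rw [map_zero]
    exact h.2 S (fun i => adj.homAddEquiv Z (M i) (t i)) (by rw [← hs, ht, map_zero]) i hi

end Generic

variable {X : Scheme.{u}}

theorem isPerfect_of_iso {K K' : DCoh.D X} (e : K ≅ K') (h : DCoh.IsPerfect K) : DCoh.IsPerfect K' := fun x =>
  let ⟨V, hV, hF⟩ := h x
  ⟨V, hV, fun F ⟨e'⟩ => hF F ⟨e' ≪≫ e.symm⟩⟩

theorem isGE_tensor_local {V : Scheme.{u}} (E M : CochainComplex V.Modules ℤ) (a b a₀ : ℤ)
    (hE : ∀ q, q < a → IsZero (E.X q)) (hM : ∀ p, p < a₀ → IsZero (M.X p)) (n : ℤ) (hn : n < b)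
    (hb : b ≤ a₀ + a) : IsZero (((DCoh.tensorCx.obj M).obj E).X n) := by
  rw [IsZero.iff_id_eq_zero]
  refine tot_hom_ext (F := DCoh.tensorBi (X := V)) fun p q h => IsZero.eq_of_src ?_ _ _
  by_cases hp : p < a₀
  · exact Functor.map_isZero ((DCoh.tensorBi (X := V)).flip.obj (E.X q)) (hM p hp)
  · exact Functor.map_isZero ((DCoh.tensorBi (X := V)).obj (M.X p)) (hE q (by omega))

theorem exists_bound [CompactSpace X] (P : CochainComplex X.Modules ℤ) [DCoh.HasLTensorCx P]
    [DCoh.HasRSheafHom P] (hP : DCoh.IsPerfect (DCoh.toD X P)) :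
    ∃ c : ℤ, ∀ (M : DCoh.D X) (a₀ : ℤ), M.IsGE a₀ → ((DCoh.RSheafHom P).obj M).IsGE (a₀ + c) := by
  classical
  choose V hxV _ E E' π hLT hV e hiso using fun x : X => RHomLocal.exists_local P hP x ⊤ trivial
  choose a b hv using fun x => (StrictDual.isStrictlyPerfect_right (π x)).1
  obtain ⟨σ, hσ⟩ := isCompact_univ.elim_finite_subcover (fun x : X => (V x : Set X)) (fun x => (V x).2)
    fun x _ => Set.mem_iUnion.2 ⟨x, hxV x⟩
  obtain ⟨c, hc⟩ : ∃ c : ℤ, ∀ x ∈ σ, c ≤ a x := by
    obtain ⟨c, hc⟩ := (σ.image a).bddBelow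
    exact ⟨c, fun x hx => hc (Finset.mem_coe.2 (Finset.mem_image_of_mem a hx))⟩
  refine ⟨c, fun M a₀ hM => ?_⟩
  rw [DerivedCategory.isGE_iff]
  intro n hn
  refine Groth.Agent.CohDerLib.QC.isZero_of_restrict (fun x : σ => V x.1) (top_unique fun y _ => ?_) fun x => ?_
  · obtain ⟨x, hx, hy⟩ := Set.mem_iUnion₂.1 (hσ (Set.mem_univ y))
    exact TopologicalSpace.Opens.mem_iSup.2 ⟨⟨x, hx⟩, hy⟩
  · obtain ⟨w⟩ := hiso x.1
    have := hLT x.1
    obtain ⟨L, hL, ⟨eL⟩⟩ := DerivedCategory.exists_iso_Q_obj_of_isGE M a₀ (hX := hM)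
    let W : X.Opens := V x.1
    let LW : CochainComplex (W : Scheme.{u}).Modules ℤ := (DCoh.restrictCx W).obj L
    have := isIso_toTensor_of_kflat (E' x.1) (StrictDual.isKFlat_right (π x.1)) LW
    refine IsZero.of_iso ?_ ((MapHomology.iso (Scheme.Modules.restrictFunctor W.ι) n).app _).symm
    refine IsZero.of_iso ?_ ((DerivedCategory.homologyFunctor _ n).mapIso (w.app M ≪≫
      (DCoh.LTensorCx (E' x.1)).mapIso ((DCoh.restrictD W.ι).mapIso eL ≪≫
        (Scheme.Modules.restrictFunctor W.ι).mapDerivedCategoryFactors.app L) ≪≫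
      (@asIso _ _ _ _ ((toTensor (E' x.1)).app LW) this :)) ≪≫
      (DerivedCategory.homologyFunctorFactors _ n).app _)
    exact ShortComplex.isZero_homology_of_isZero_X₂ _ (isGE_tensor_local (E' x.1) LW (a x.1) (a₀ + c) a₀
      (fun q hq => hv x.1 q (Or.inl hq))
      (fun p hp => (Scheme.Modules.restrictFunctor W.ι).map_isZero (L.isZero_of_isStrictlyGE a₀ p hp)) n hn
      (by have := hc x.1 x.2; omega))

/-- Maps out of a perfect object commute with direct sums. -/
theorem finSum_perfect [CompactSpace X] [QuasiSeparatedSpace X] (K : DCoh.D X) (hK : DCoh.IsPerfect K)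
    {ι : Type u} (M : ι → DCoh.D X) (hM : CompactOne.Good X M) (c : Cofan M) (hc : IsColimit c) :
    FinSum K c.inj := by
  let F₀ := DerivedCategory.Q.objPreimage K
  let P := (resY X).obj F₀
  have := quasiIso_resYπ F₀
  let eP : DerivedCategory.Q.obj P ≅ K :=
    asIso (DerivedCategory.Q.map ((resYπ X).app F₀)) ≪≫ DerivedCategory.Q.objObjPreimageIso K
  have hPp : DCoh.IsPerfect (DCoh.toD X P) := isPerfect_of_iso eP.symm hK
  have := LTensor.hasLTensorCx P
  have : DCoh.HasRSheafHom P := RHomExists.hasRSheafHom P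
  let F₁ := DerivedCategory.Q.objPreimage (PerfectDual.dual P)
  let D₀ := (resY X).obj F₁
  have := quasiIso_resYπ F₁
  let eD : DerivedCategory.Q.obj D₀ ≅ PerfectDual.dual P :=
    asIso (DerivedCategory.Q.map ((resYπ X).app F₁)) ≪≫ DerivedCategory.Q.objObjPreimageIso _
  have := LTensor.hasLTensorCx D₀
  obtain ⟨π, hu⟩ := PerfectDual.exists_pairing P D₀ (isKFlat_resY F₀) (isKFlat_resY F₁) eD
  have := PerfectDual.isIso_θ π hPp hu
  let θ : DCoh.LTensorCx D₀ ≅ DCoh.RSheafHom P := asIso (DualMap.θ π)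
  have := isIso_toTensor_of_kflat P (isKFlat_resY F₀) (oneCx X)
  let eK : (DCoh.LTensorCx P).obj ((DerivedCategory.singleFunctor X.Modules 0).obj (Coh.structureModule X)) ≅ K :=
    (asIso ((toTensor P).app (oneCx X)) :) ≪≫
      DerivedCategory.Q.mapIso (PerfectTensor.flipIso (oneCx X) P ≪≫ unitIsoApp P) ≪≫ eP
  refine finSum_of_src eK ?_
  have := LTensorExact.additive_LTensorCx P
  refine finSum_of_adj (DCoh.RSheafHomAdj P) ?_
  refine FinSum.of_iso (j := fun i => (DCoh.LTensorCx D₀).map (c.inj i)) ?_ (fun i => θ.app (M i))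
    (θ.app c.pt) fun i => θ.hom.naturality (c.inj i)
  have := LTensorCoprod.preservesColimit_LTensorCx D₀ M
  refine finSum_one (fun i => (DCoh.LTensorCx D₀).obj (M i)) ?_ (Cofan.mk _ fun i => (DCoh.LTensorCx D₀).map (c.inj i))
    (isColimitCofanMkObjOfIsColimit (DCoh.LTensorCx D₀) M _
      (hc.ofIsoColimit (Cocone.ext (Iso.refl _) (fun _ => Category.comp_id _))))
  rcases hM with hd | ⟨a, ha⟩
  · exact Or.inl hd
  · obtain ⟨d, hd⟩ := exists_bound P hPp
    exact Or.inr ⟨a + d, fun i =>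
      have := hd (M i) a (ha i)
      DerivedCategory.TStructure.t.isGE_of_iso (θ.app (M i)).symm (a + d)⟩

/-- The form used in the statement. -/
theorem bijective [CompactSpace X] [QuasiSeparatedSpace X] (K : DCoh.D X) (hK : DCoh.IsPerfect K)
    (I : Type u) (M : I → DCoh.D X) [HasCoproduct fun i : ULift.{u + 1} I => M i.down]
    (hM : CompactOne.Good X M) :
    Function.Bijective (CohDer.homSumToHomCoprod K (fun i : ULift.{u + 1} I => M i.down)) := by
  let d : Cofan M := Cofan.mk (∐ fun i : ULift.{u + 1} I => M i.down)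
    fun i => Sigma.ι (fun i : ULift.{u + 1} I => M i.down) ⟨i⟩
  have hd : IsColimit d := Cofan.isColimitEquivOfEquiv Equiv.ulift.symm
    (Cofan.mk (∐ fun i : ULift.{u + 1} I => M i.down) (Sigma.ι fun i : ULift.{u + 1} I => M i.down))
    (coproductIsCoproduct _)
  exact CompactOne.homSum_bijective _ Equiv.ulift hd (finSum_perfect K hK M hM d hd)

end Groth.Agent.KFlat.PerfectCompact
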