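import Groth.Agent.KFlat.ApproxAlg
import Groth.Agent.PerfExt.LiftMap

/-!
# Approximation by perfect complexes
-/

set_option autoImplicit false

universe u

open CategoryTheory CategoryTheory.Limits AlgebraicGeometry Pretriangulated DerivedCategory
open Groth.Agent.PerfTri Groth.Agent.CohDerLib Groth.Agent.PerfExt
open Groth.Agent.KFlat.TildePC (Appr)
open scoped ZeroObject

attribute [local instance] HasDerivedCategory.standard
attribute [-instance] CategoryTheory.ReflQuiver.toQuiver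

noncomputable section

namespace Groth.Agent.KFlat.Approx

variable {X : Scheme.{u}}

/-- cohomology sheaves vanish in degrees `≥ n` -/
def VanGE (n : ℤ) (K : DCoh.D X) : Prop :=
  ∀ i : ℤ, n ≤ i → IsZero ((homologyFunctor X.Modules i).obj K)

/-- there is an approximation at level `m` by a perfect object vanishing on `W`, recorded by its cone -/
def Appx (W : X.Opens) (m : ℤ) (E : DCoh.D X) : Prop :=
  ∃ (C P : DCoh.D X) (b : E ⟶ C) (c : C ⟶ P) (d : P ⟶ E⟦(1 : ℤ)⟧),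
    Triangle.mk b c d ∈ distinguishedTriangles ∧ DCoh.IsPerfect P ∧
      IsZero ((DCoh.restrictD W.ι).obj P) ∧ VanGE m C

/-- approximation holds with loss `r` -/
def Good (X : Scheme.{u}) (W : X.Opens) (r : ℤ) : Prop :=
  ∀ (m : ℤ) (E : DCoh.D X), DCoh.IsQCohD E → DCoh.IsPseudoCoherentD (m - r) E →
    VanGE (m - r) ((DCoh.restrictD W.ι).obj E) → Appx W m E

theorem vanGE_mono {n n' : ℤ} {K : DCoh.D X} (h : VanGE n K) (hn : n ≤ n') : VanGE n' K :=
  fun i hi => h i (by omega)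

theorem vanGE_of_iso {n : ℤ} {K L : DCoh.D X} (e : K ≅ L) (h : VanGE n K) : VanGE n L :=
  fun i hi => (h i hi).of_iso ((homologyFunctor _ i).mapIso e.symm)

theorem vanGE_of_isZero {n : ℤ} {K : DCoh.D X} (h : IsZero K) : VanGE n K :=
  fun i _ => (homologyFunctor _ i).map_isZero h

theorem vanGE_restrict {Y : Scheme.{u}} (j : Y ⟶ X) [IsOpenImmersion j] {n : ℤ} {K : DCoh.D X}
    (h : VanGE n K) : VanGE n ((DCoh.restrictD j).obj K) := fun i hi =>
  ((Scheme.Modules.restrictFunctor j).map_isZero (h i hi)).of_iso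
    ((MapHomology.iso (Scheme.Modules.restrictFunctor j) i).app K)

theorem vanGE_of_range {n : ℤ} {K : DCoh.D X} (W : X.Opens) {Y : Scheme.{u}} (j : Y ⟶ X) [IsOpenImmersion j]
    (h : Set.range j ⊆ W) (hK : VanGE n ((DCoh.restrictD W.ι).obj K)) :
    VanGE n ((DCoh.restrictD j).obj K) := by
  let l := IsOpenImmersion.lift W.ι j (by rwa [Scheme.Opens.range_ι])
  have : IsOpenImmersion l := by
    have : IsOpenImmersion (l ≫ W.ι) := by rw [IsOpenImmersion.lift_fac]; infer_instance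
    exact IsOpenImmersion.of_comp l W.ι
  exact vanGE_of_iso ((restrictDComp l W.ι j (IsOpenImmersion.lift_fac _ _ _)).app K) (vanGE_restrict l hK)

theorem support_subset_of_vanGE {n : ℤ} {K : DCoh.D X} (W : X.Opens)
    (h : VanGE n ((DCoh.restrictD W.ι).obj K)) (i : ℤ) (hi : n ≤ i) :
    CohB1.support (DCoh.HD K i) ⊆ (W : Set X)ᶜ := fun _ hx hxW =>
  hx (Groth.Agent.S6528.subsingleton_stalk (U := W)
    ((h i hi).of_iso (Kosz.homologyRestrictIso W K i).symm) hxW)

theorem vanGE_restrict_of_support {n : ℤ} {K : DCoh.D X} (W : X.Opens)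
    (h : ∀ i, n ≤ i → CohB1.support (DCoh.HD K i) ⊆ (W : Set X)ᶜ) :
    VanGE n ((DCoh.restrictD W.ι).obj K) := fun i hi => by
  refine (CohDev.isZero_restrict_of_support W.ι (M := DCoh.HD K i) ?_).of_iso (Kosz.homologyRestrictIso W K i)
  intro x hx
  rw [Scheme.Opens.range_ι]
  exact h i hi hx

theorem vanGE_of_sup {n : ℤ} {K : DCoh.D X} (U V W : X.Opens) (hW : W ≤ U ⊔ V)
    (hU : VanGE n ((DCoh.restrictD U.ι).obj K)) (hV : VanGE n ((DCoh.restrictD V.ι).obj K)) :
    VanGE n ((DCoh.restrictD W.ι).obj K) :=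
  vanGE_restrict_of_support W fun i hi x hx hxW =>
    (hW hxW).elim (fun h => support_subset_of_vanGE U hU i hi hx h)
      fun h => support_subset_of_vanGE V hV i hi hx h

theorem vanGE_of_cover {n : ℤ} {K : DCoh.D X} (U V : X.Opens) (hUV : U ⊔ V = ⊤)
    (hU : VanGE n ((DCoh.restrictD U.ι).obj K)) (hV : VanGE n ((DCoh.restrictD V.ι).obj K)) :
    VanGE n K := fun i hi => StalkCx.isZero_of_isZero_stalk fun x => by
  have hx : x ∈ U ⊔ V := by rw [hUV]; trivial
  have : Subsingleton ((DCoh.HD K i).presheaf.stalk x) := hx.elim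
    (fun h => Groth.Agent.S6528.subsingleton_stalk (U := U)
      ((hU i hi).of_iso (Kosz.homologyRestrictIso U K i).symm) h)
    (fun h => Groth.Agent.S6528.subsingleton_stalk (U := V)
      ((hV i hi).of_iso (Kosz.homologyRestrictIso V K i).symm) h)
  exact @ModuleCat.isZero_of_subsingleton _ _ _ this

theorem vanGE₃ (T : Triangle (DCoh.D X)) (hT : T ∈ distinguishedTriangles) (n : ℤ)
    (h₂ : ∀ i, n ≤ i → (homologyFunctor _ i).map T.mor₂ = 0) (h₁ : VanGE (n + 1) T.obj₁) :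
    VanGE n T.obj₃ := fun i hi =>
  (HomologySequence.exact₃ T hT i (i + 1) rfl).isZero_of_both_zeros
    (h₂ i hi) ((h₁ (i + 1) (by omega)).eq_of_tgt _ _)

/-- the trivial approximation -/
theorem appx_of_vanGE {W : X.Opens} {m : ℤ} {E : DCoh.D X} (h : VanGE m E) : Appx W m E :=
  have hz : IsZero (0 : DCoh.D X) := isZero_zero _
  ⟨E, 0, 𝟙 E, 0, 0, contractible_distinguished E, Perfect.isPerfect_zero hz, Functor.map_isZero _ hz, h⟩

theorem isZero_restrict_mid (W : X.Opens) {T : Triangle (DCoh.D X)} (hT : T ∈ distinguishedTriangles)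
    (h₁ : IsZero ((DCoh.restrictD W.ι).obj T.obj₁)) (h₃ : IsZero ((DCoh.restrictD W.ι).obj T.obj₃)) :
    IsZero ((DCoh.restrictD W.ι).obj T.obj₂) :=
  (Triangle.isZero₂_iff _ ((DCoh.restrictD W.ι).map_distinguished _ hT)).2
    ⟨h₁.eq_of_src _ _, h₃.eq_of_tgt _ _⟩

/-- approximations compose -/
theorem appx_trans {W : X.Opens} {m : ℤ} {E C₁ P : DCoh.D X} {b : E ⟶ C₁} {c : C₁ ⟶ P}
    {d : P ⟶ E⟦(1 : ℤ)⟧} (hT : Triangle.mk b c d ∈ distinguishedTriangles) (hP : DCoh.IsPerfect P)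
    (hPW : IsZero ((DCoh.restrictD W.ι).obj P)) (h : Appx W m C₁) : Appx W m E := by
  obtain ⟨C₂, P₂, b', c', d', hT₂, hP₂, hP₂W, hC₂⟩ := h
  obtain ⟨P₃, c₃, d₃, hT₃⟩ := distinguished_cocone_triangle (b ≫ b')
  let O := Triangulated.someOctahedron rfl hT hT₂ hT₃
  exact ⟨C₂, P₃, b ≫ b', c₃, d₃, hT₃, Perfect.isPerfect₂ _ O.mem hP hP₂,
    isZero_restrict_mid W O.mem hPW hP₂W, hC₂⟩

section Affine

variable [IsAffine X]

theorem TH_of_perfect_appr {m : ℤ} {E : DRing.Cx Γ(X, ⊤)} {b : ℤ} (hv : DRing.VanishesOutside E m b)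
    (hp : ∀ i, Module.Finite Γ(X, ⊤) (E.X i) ∧ Module.Projective Γ(X, ⊤) (E.X i)) :
    ApproxAlg.TH m (DRing.toD E) := ApproxAlg.tH_of_rep E hv hp

/-- cohomology of `~M` -/
def TH_iso (M : DerivedCategory (ModuleCat.{u} Γ(X, ⊤))) (k : ℤ) :
    (homologyFunctor X.Modules k).obj ((T X).obj M) ≅
      (Scheme.Modules.restrictFunctor X.isoSpec.hom).obj
        ((tilde.functor (CommRingCat.of Γ(X, ⊤))).obj ((homologyFunctor _ k).obj M)) :=
  (MapHomology.iso (Scheme.Modules.restrictFunctor X.isoSpec.hom) k).app _ ≪≫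
    (Scheme.Modules.restrictFunctor X.isoSpec.hom).mapIso
      ((MapHomology.iso (tilde.functor (CommRingCat.of Γ(X, ⊤))) k).app M)

theorem torsGE_of_vanGE (W : X.Opens) {fs : List Γ(X, ⊤)}
    (hfs : ∀ Z, IsZero ((DCoh.restrictD W.ι).obj ((T X).obj Z)) ↔ ∀ g ∈ fs, Kosz.HTors g Z)
    (M : DerivedCategory (ModuleCat.{u} Γ(X, ⊤))) (a : ℤ)
    (h : VanGE a ((DCoh.restrictD W.ι).obj ((T X).obj M))) (g : Γ(X, ⊤)) (hg : g ∈ fs) :
    ApproxAlg.TorsGE g a M := by
  let t := (DerivedCategory.TStructure.t : Triangulated.TStructure (DerivedCategory (ModuleCat.{u} Γ(X, ⊤))))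
  let M' := (t.truncGE a).obj M
  have hiso : ∀ k, a ≤ k → IsIso ((homologyFunctor _ k).map ((t.truncGEπ a).app M)) :=
    fun k hk => TruncHom.isIso_H_truncGEπ M a k hk
  have hz : IsZero ((DCoh.restrictD W.ι).obj ((T X).obj M')) := by
    have hh : ∀ k, IsZero ((homologyFunctor _ k).obj ((DCoh.restrictD W.ι).obj ((T X).obj M'))) := fun k => by
      by_cases hk : a ≤ k
      · have := hiso k hk
        exact (h k hk).of_iso ((TUH W k).app M' ≪≫
          (Scheme.Modules.restrictFunctor X.isoSpec.hom ⋙ Scheme.Modules.restrictFunctor W.ι).mapIso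
            ((tilde.functor (CommRingCat.of Γ(X, ⊤))).mapIso
              (asIso ((homologyFunctor _ k).map ((t.truncGEπ a).app M))).symm) ≪≫ ((TUH W k).app M).symm)
      · have hM' : M'.IsGE a := inferInstanceAs (t.IsGE ((t.truncGE a).obj M) a)
        exact ((tilde.functor (CommRingCat.of Γ(X, ⊤)) ⋙ Scheme.Modules.restrictFunctor X.isoSpec.hom ⋙
          Scheme.Modules.restrictFunctor W.ι).map_isZero
            (DerivedCategory.isZero_of_isGE M' a k (by omega))).of_iso ((TUH W k).app M')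
    have : IsIso (0 : (DCoh.restrictD W.ι).obj ((T X).obj M') ⟶ (DCoh.restrictD W.ι).obj ((T X).obj M')) := by
      rw [DerivedCategory.isIso_iff]
      exact fun k => isIso_of_isInitial (hh k).isInitial (hh k).isInitial _
    rw [IsZero.iff_id_eq_zero]
    exact (cancel_epi (0 : (DCoh.restrictD W.ι).obj ((T X).obj M') ⟶ _)).1 (by simp)
  intro i hi x
  have := hiso i hi
  let e := (asIso ((homologyFunctor _ i).map ((t.truncGEπ a).app M))).toLinearEquiv
  obtain ⟨k, hk⟩ := (hfs M').1 hz g hg i (e x)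
  exact ⟨k, e.injective (by rw [map_smul, map_zero]; exact hk)⟩

/-- one step of the affine approximation -/
theorem affine_step (W : X.Opens) {fs : List Γ(X, ⊤)}
    (hfs : ∀ Z, IsZero ((DCoh.restrictD W.ι).obj ((T X).obj Z)) ↔ ∀ g ∈ fs, Kosz.HTors g Z)
    (m e : ℤ) (he : m ≤ e) (E : DCoh.D X) (hq : DCoh.IsQCohD E) (hpc : DCoh.IsPseudoCoherentD m E)
    (hW : VanGE (m - (fs.length : ℤ) + 1) ((DCoh.restrictD W.ι).obj E)) (hE : VanGE (e + 1) E) :
    ∃ (C P : DCoh.D X) (b : E ⟶ C) (c : C ⟶ P) (d : P ⟶ E⟦(1 : ℤ)⟧),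
      Triangle.mk b c d ∈ distinguishedTriangles ∧ DCoh.IsPerfect P ∧
        IsZero ((DCoh.restrictD W.ι).obj P) ∧ VanGE e C := by
  obtain ⟨M, ⟨eM⟩⟩ := exists_iso_T X hq
  have hMpc : DRing.IsPseudoCoherent Γ(X, ⊤) m M := by
    refine KFlat.TildePC.isPseudoCoherent_of_tildeD (A := CommRingCat.of Γ(X, ⊤)) M m ?_
    exact PCohD.pc_of_iso (((restrictDComp X.isoSpec.inv X.isoSpec.hom (𝟙 _) X.isoSpec.inv_hom_id).trans
        (restrictDId _)).app _) (PCohD.pc_restrict X.isoSpec.inv (PCohD.pc_of_iso eM.symm hpc))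
  obtain ⟨F, b₀, α, hFv, hFp, hα⟩ := Groth.Agent.DRing.PC.exists_approx hMpc
  have hFperf : DRing.IsPerfect Γ(X, ⊤) (DRing.toD F) := ⟨F, m, b₀, hFv,
    fun i => ⟨(hFp i).1, have := (hFp i).2; inferInstance⟩, ⟨Iso.refl _⟩⟩
  have hMe : ∀ i, e + 1 ≤ i → IsZero ((homologyFunctor _ i).obj M) := fun i hi => by
    have hz : IsZero ((homologyFunctor X.Modules i).obj ((T X).obj M)) :=
      (hE i hi).of_iso ((homologyFunctor _ i).mapIso eM)
    have h1 := hz.of_iso (TH_iso M i).symm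
    have h2 : IsZero ((tilde.functor (CommRingCat.of Γ(X, ⊤))).obj ((homologyFunctor _ i).obj M)) := by
      have h3 := (Scheme.Modules.restrictFunctor X.isoSpec.inv).map_isZero h1
      exact h3.of_iso ((Scheme.Modules.restrictFunctorId.symm ≪≫
        Scheme.Modules.restrictFunctorCongr X.isoSpec.inv_hom_id.symm ≪≫
        Scheme.Modules.restrictFunctorComp X.isoSpec.inv X.isoSpec.hom).app _)
    exact IsZero.of_full_of_faithful_of_isZero (tilde.functor (CommRingCat.of Γ(X, ⊤))) _ h2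
  have hFe : ApproxAlg.VanA (e + 1) (DRing.toD F) := fun i hi => by
    have := hα.1 i (by omega)
    exact (hMe i hi).of_iso (asIso ((homologyFunctor _ i).map α))
  obtain ⟨Z, q, ψ, hZ, hqψ, hZtors, hZe, -⟩ := ApproxAlg.exists_factorGE fs (DRing.toD F) M hFperf m (e + 1)
    (TH_of_perfect_appr hFv fun i => ⟨(hFp i).1, have := (hFp i).2; inferInstance⟩) hFe
    (fun g hg => torsGE_of_vanGE W hfs M _
      (vanGE_of_iso ((DCoh.restrictD W.ι).mapIso eM.symm) hW) g hg) α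
  obtain ⟨C, b, c, hC⟩ := distinguished_cocone_triangle ((T X).map ψ ≫ eM.hom)
  refine ⟨C, ((T X).obj Z)⟦(1 : ℤ)⟧, b, c, -(((T X).map ψ ≫ eM.hom)⟦(1 : ℤ)⟧'), rot_of_distTriang _ hC,
    Perfect.isPerfect_shift ((isPerfect_T_iff X Z).2 hZ) 1, ?_, ?_⟩
  · exact ((shiftFunctor _ (1 : ℤ)).map_isZero ((hfs Z).2 hZtors)).of_iso
      (((DCoh.restrictD W.ι).commShiftIso (1 : ℤ)).app _)
  · refine vanGE₃ _ hC e (fun i hi => ?_) fun i hi => ?_
    · have hψ : Epi ((homologyFunctor _ i).map ψ) := by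
        have hαi : Epi ((homologyFunctor _ i).map α) := by
          rcases eq_or_lt_of_le (he.trans hi) with rfl | hlt
          · exact hα.2
          · have := hα.1 i hlt
            infer_instance
        rw [← hqψ, Functor.map_comp] at hαi
        exact epi_of_epi ((homologyFunctor _ i).map q) _
      have hTψ : Epi ((homologyFunctor X.Modules i).map ((T X).map ψ ≫ eM.hom)) := by
        have e₁ : Epi ((homologyFunctor X.Modules i).map ((T X).map ψ)) := by
          have hn := (MapHomology.iso (Scheme.Modules.restrictFunctor X.isoSpec.hom) i).hom.naturality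
            ((DCoh.tildeD (CommRingCat.of Γ(X, ⊤))).map ψ)
          have hn' := (MapHomology.iso (tilde.functor (CommRingCat.of Γ(X, ⊤))) i).hom.naturality ψ
          have : Epi ((homologyFunctor _ i).map ((DCoh.tildeD (CommRingCat.of Γ(X, ⊤))).map ψ)) :=
            (MorphismProperty.epimorphisms _).of_postcomp (W' := MorphismProperty.isomorphisms _) _
              ((MapHomology.iso (tilde.functor (CommRingCat.of Γ(X, ⊤))) i).hom.app M) inferInstance
              ((congrArg (fun f => Epi f) hn').mpr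
                (@epi_comp _ _ _ _ _ _ inferInstance _
                  (inferInstanceAs (Epi ((tilde.functor (CommRingCat.of Γ(X, ⊤))).map ((homologyFunctor _ i).map ψ))))))
          exact (MorphismProperty.epimorphisms _).of_postcomp (W' := MorphismProperty.isomorphisms _) _
              ((MapHomology.iso (Scheme.Modules.restrictFunctor X.isoSpec.hom) i).hom.app _) inferInstance
              ((congrArg (fun f => Epi f) hn).mpr
                (@epi_comp _ _ _ _ _ _ inferInstance _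
                  (inferInstanceAs (Epi ((Scheme.Modules.restrictFunctor X.isoSpec.hom).map
                    ((homologyFunctor _ i).map ((DCoh.tildeD (CommRingCat.of Γ(X, ⊤))).map ψ)))))))
        rw [Functor.map_comp]
        infer_instance
      refine (cancel_epi ((homologyFunctor X.Modules i).map ((T X).map ψ ≫ eM.hom))).1 ?_
      exact (((homologyFunctor X.Modules i).map_comp _ _).symm.trans
        ((congrArg _ (comp_distTriang_mor_zero₁₂ _ hC)).trans (Functor.map_zero _ _ _))).trans comp_zero.symm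
    · exact (Functor.map_isZero _ ((tilde.functor (CommRingCat.of Γ(X, ⊤))).map_isZero (hZe i hi))).of_iso
        (TH_iso Z i)

theorem pc_cone {m : ℤ} {E C P : DCoh.D X} {b : E ⟶ C} {c : C ⟶ P} {d : P ⟶ E⟦(1 : ℤ)⟧}
    (hT : Triangle.mk b c d ∈ distinguishedTriangles) (hP : DCoh.IsPerfect P)
    (hE : DCoh.IsPseudoCoherentD m E) : DCoh.IsPseudoCoherentD m C :=
  PCohD.pc₂ _ hT hE (PCohD.pc_of_perfect hP m)

theorem affine_appx (W : X.Opens) {fs : List Γ(X, ⊤)}
    (hfs : ∀ Z, IsZero ((DCoh.restrictD W.ι).obj ((T X).obj Z)) ↔ ∀ g ∈ fs, Kosz.HTors g Z)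
    (m : ℤ) (E : DCoh.D X) (hq : DCoh.IsQCohD E) (hpc : DCoh.IsPseudoCoherentD m E)
    (hW : VanGE (m - (fs.length : ℤ) + 1) ((DCoh.restrictD W.ι).obj E)) (n : ℕ) (hn : VanGE (m + n) E) :
    Appx W m E := by
  induction n generalizing E with
  | zero => exact appx_of_vanGE (by simpa using hn)
  | succ n ih =>
    push_cast at hn
    obtain ⟨C, P, b, c, d, hT, hP, hPW, hC⟩ := affine_step W hfs m (m + n) (by omega) E hq hpc hW
      (vanGE_mono hn (by omega))
    refine appx_trans hT hP hPW (ih C (Groth.Agent.PCohD.isQCohD_obj₃ _ (inv_rot_of_distTriang _ hT)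
        (PerfExt.isQCohD_of_isPerfect (Perfect.isPerfect_shift hP (-1))) hq)
      (pc_cone hT hP hpc) (vanGE_of_iso ?_ hW) hC)
    exact @asIso _ _ _ _ ((DCoh.restrictD W.ι).map b)
      ((Triangle.isZero₃_iff_isIso₁ _ ((DCoh.restrictD W.ι).map_distinguished _ hT)).1 hPW)

end Affine

section Glue

/-- an object of a cover piece is bounded above up to `n` -/
theorem exists_bound_of_appx [CompactSpace X] {W : X.Opens} {m : ℤ} {E : DCoh.D X} (h : Appx W m E) :
    ∃ n : ℕ, VanGE (m + n) E := by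
  obtain ⟨C, P, b, c, d, hT, hP, -, hC⟩ := h
  obtain ⟨u, hu⟩ := CohDerLib.QC.exists_isLE_perfect hP
  refine ⟨(u + 2 - m).toNat + 1, fun i hi => ?_⟩
  exact (HomologySequence.exact₂ _ (inv_rot_of_distTriang _ hT) i).isZero_of_both_zeros
    (((isZero_of_isLE P u (i - 1) (by omega)).of_iso
      (((homologyFunctor X.Modules 0).shiftIso (-1 : ℤ) i (i - 1) (by omega)).app P)).eq_of_src _ _)
    ((hC i (by omega)).eq_of_tgt _ _)

theorem exists_bound_of_pc [CompactSpace X] {m : ℤ} {E : DCoh.D X} (h : DCoh.IsPseudoCoherentD m E) :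
    ∃ n : ℕ, VanGE (m + n) E := by
  choose V hV n hn using fun x => PCohD.exists_bound h x
  obtain ⟨s, hs⟩ := isCompact_univ.elim_finite_subcover (fun x => (V x : Set X)) (fun x => (V x).isOpen)
    fun x _ => Set.mem_iUnion.2 ⟨x, hV x⟩
  refine ⟨s.sup (fun x => (n x + 1 - m).toNat), fun i hi => StalkCx.isZero_of_isZero_stalk fun y => ?_⟩
  obtain ⟨x, hx, hy⟩ : ∃ x ∈ s, y ∈ V x := by simpa using hs (Set.mem_univ y)
  have := Finset.le_sup (f := fun x => (n x + 1 - m).toNat) hx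
  have : Subsingleton ((DCoh.HD E i).presheaf.stalk y) := Groth.Agent.S6528.subsingleton_stalk (U := V x)
    ((hn x i (by omega)).of_iso (Kosz.homologyRestrictIso (V x) E i).symm) hy
  exact @ModuleCat.isZero_of_subsingleton _ _ _ this

/-- lifting a map from an extended object -/
theorem exists_lift_two [CompactSpace X] [QuasiSeparatedSpace X] (U V W : X.Opens) (hUV : U ⊔ V = ⊤)
    [IsAffine (V : Scheme.{u})] (hU : IsCompact (U : Set X)) (hW : IsCompact (W : Set X))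
    (E : DCoh.D X) (hE : DCoh.IsQCohD E) (R₀ : DCoh.D X) (hR₀ : DCoh.IsPerfect R₀)
    (hR₀W : IsZero ((DCoh.restrictD W.ι).obj R₀))
    (α' : (DCoh.restrictD U.ι).obj R₀ ⟶ (DCoh.restrictD U.ι).obj E) :
    ∃ (R : DCoh.D X) (β : R ⟶ E) (ν : R ⟶ R₀), DCoh.IsPerfect R ∧ IsZero ((DCoh.restrictD W.ι).obj R) ∧
      IsIso ((DCoh.restrictD U.ι).map ν) ∧
      (DCoh.restrictD U.ι).map β = (DCoh.restrictD U.ι).map ν ≫ α' := by
  have : CompactSpace (U : Scheme.{u}) := isCompact_iff_compactSpace.1 hU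
  have : QuasiCompact U.ι := AlgebraicGeometry.quasiCompact_of_compactSpace U.ι
  have : QuasiCompact V.ι := AlgebraicGeometry.quasiCompact_of_compactSpace V.ι
  have := KFlat.RPush.hasRpush U.ι
  have := KFlat.RPush.hasRpush V.ι
  obtain ⟨adj⟩ := exists_adj (X := X) U.ι
  obtain ⟨adjV⟩ := exists_adj (X := X) V.ι
  let φ : R₀ ⟶ (DCoh.Rpush U.ι).obj ((DCoh.restrictD U.ι).obj E) := adj.homEquiv _ _ α'
  obtain ⟨C, c, d, hC⟩ := distinguished_cocone_triangle (adj.unit.app E)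
  have hCq : DCoh.IsQCohD C := Groth.Agent.PCohD.isQCohD_obj₃ _ hC hE
    (QC.isQCohD_Rpush U.ι _ (isQCohD_restrict U.ι hE))
  have hCU : IsZero ((DCoh.restrictD U.ι).obj C) :=
    (Triangle.isZero₃_iff_isIso₁ _ ((DCoh.restrictD U.ι).map_distinguished _ hC)).2 (Kosz.isIso_restrict_unit U adj E)
  obtain ⟨M, ⟨eM⟩⟩ := exists_iso_T (V : Scheme.{u}) (isQCohD_restrict V.ι (isQCohD_of_isPerfect hR₀))
  obtain ⟨N, ⟨eN⟩⟩ := exists_iso_T (V : Scheme.{u}) (isQCohD_restrict V.ι hCq)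
  let O : (V : Scheme.{u}).Opens := V.ι ⁻¹ᵁ U
  let WV : (V : Scheme.{u}).Opens := V.ι ⁻¹ᵁ W
  obtain ⟨fs, hfs⟩ := exists_isZero_iff (V : Scheme.{u}) O (QuasiCompact.isCompact_preimage (f := V.ι) _ U.isOpen hU)
  obtain ⟨gs, hgs⟩ := exists_isZero_iff (V : Scheme.{u}) WV (QuasiCompact.isCompact_preimage (f := V.ι) _ W.isOpen hW)
  obtain ⟨θ, hθ⟩ := (T (V : Scheme.{u})).map_surjective (eM.hom ≫ (DCoh.restrictD V.ι).map (φ ≫ c) ≫ eN.inv)
  have hNO : ∀ g ∈ fs, Kosz.HTors g N := (hfs N).1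
    (((isZero_restrict_of_range U (O.ι ≫ V.ι) (by rintro _ ⟨z, rfl⟩; exact z.2) hCU).of_iso
      ((restrictDComp O.ι V.ι _ rfl).app C)).of_iso ((DCoh.restrictD O.ι).mapIso eN))
  have hMW : ∀ g ∈ gs, Kosz.HTors g M := (hgs M).1
    (((isZero_restrict_of_range W (WV.ι ≫ V.ι) (by rintro _ ⟨z, rfl⟩; exact z.2) hR₀W).of_iso
      ((restrictDComp WV.ι V.ι _ rfl).app R₀)).of_iso ((DCoh.restrictD WV.ι).mapIso eM))
  obtain ⟨Z, q, ψ, hZp, hq, hZO, hZx⟩ := exists_factor' fs M N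
    ((isPerfect_T_iff _ M).1 (Perfect.isPerfect_of_iso eM.symm (isPerfect_restrict V.ι hR₀))) hNO θ
  let ZX := (DCoh.Rpush V.ι).obj ((T (V : Scheme.{u})).obj Z)
  have hZU : IsZero ((DCoh.restrictD U.ι).obj ZX) := by
    have := KFlat.RPush.hasRpush (V.ι ∣_ U)
    exact ((DCoh.Rpush (V.ι ∣_ U)).map_isZero ((hfs Z).2 hZO)).of_iso
      ((KFlat.RPushBase.restrictRpushIso V.ι U).app ((T (V : Scheme.{u})).obj Z))
  have hZW : IsZero ((DCoh.restrictD W.ι).obj ZX) := by
    have := KFlat.RPush.hasRpush (V.ι ∣_ W)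
    exact ((DCoh.Rpush (V.ι ∣_ W)).map_isZero ((hgs Z).2 fun g hg => hZx g (hMW g hg))).of_iso
      ((KFlat.RPushBase.restrictRpushIso V.ι W).app ((T (V : Scheme.{u})).obj Z))
  have hZperf : DCoh.IsPerfect ZX := isPerfect_of_cover U V hUV (Perfect.isPerfect_zero hZU)
    (Perfect.isPerfect_of_iso ((Kosz.restrictRpushSelf V).app _).symm ((isPerfect_T_iff _ Z).2 hZp))
  let q' : R₀ ⟶ ZX := adjV.homEquiv _ _ (eM.inv ≫ (T (V : Scheme.{u})).map q)
  let ψ' : ZX ⟶ (DCoh.Rpush V.ι).obj ((DCoh.restrictD V.ι).obj C) :=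
    (DCoh.Rpush V.ι).map ((T (V : Scheme.{u})).map ψ ≫ eN.hom)
  have hηC : IsIso (adjV.unit.app C) := by
    refine isIso_of_cover U V hUV _ (isIso_of_isInitial hCU.isInitial (IsZero.isInitial ?_) _)
      (Kosz.isIso_restrict_unit V adjV C)
    have := KFlat.RPush.hasRpush (V.ι ∣_ U)
    exact ((DCoh.Rpush (V.ι ∣_ U)).map_isZero ((isZero_restrict_of_range U (O.ι ≫ V.ι)
      (by rintro _ ⟨z, rfl⟩; exact z.2) hCU).of_iso ((restrictDComp O.ι V.ι _ rfl).app C))).of_iso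
      ((KFlat.RPushBase.restrictRpushIso V.ι U).app _)
  obtain ⟨R, ν, h', hR⟩ := distinguished_cocone_triangle₁ q'
  have hqψ : q' ≫ ψ' = (φ ≫ c) ≫ adjV.unit.app C := by
    refine (adjV.homEquiv_naturality_right _ _).symm.trans ?_
    refine Eq.trans ?_ (adjV.unit.naturality (φ ≫ c)).symm
    rw [Adjunction.homEquiv_unit]
    refine congrArg (fun x => adjV.unit.app R₀ ≫ (DCoh.Rpush V.ι).map x) ?_
    rw [Category.assoc, ← Functor.map_comp_assoc, hq, hθ]
    simp only [Category.assoc, Iso.inv_hom_id, Category.comp_id, Iso.inv_hom_id_assoc]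
  have hν : (ν ≫ φ) ≫ c = 0 := by
    refine (cancel_mono (adjV.unit.app C)).1 ?_
    rw [zero_comp, Category.assoc ν φ c, Category.assoc ν (φ ≫ c), ← hqψ, ← Category.assoc]
    exact (congrArg (· ≫ ψ') (comp_distTriang_mor_zero₁₂ _ hR)).trans zero_comp
  obtain ⟨β, hβ⟩ : ∃ β : R ⟶ E, ν ≫ φ = β ≫ adj.unit.app E := Triangle.coyoneda_exact₂ _ hC (ν ≫ φ) hν
  refine ⟨R, β, ν, Perfect.isPerfect₁ _ hR hR₀ hZperf, ?_,
    (Triangle.isZero₃_iff_isIso₁ _ ((DCoh.restrictD U.ι).map_distinguished _ hR)).1 hZU, ?_⟩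
  · refine (Triangle.isZero₁_iff_isIso₂ _ ((DCoh.restrictD W.ι).map_distinguished _ hR)).2 ?_
    exact isIso_of_isInitial hR₀W.isInitial hZW.isInitial _
  · apply (adj.homEquiv _ _).injective
    rw [adj.homEquiv_naturality_left]
    exact ((adj.homEquiv_unit _ _ _).trans (adj.unit.naturality β).symm).trans hβ.symm

variable [CompactSpace X] [QuasiSeparatedSpace X] (U V W : X.Opens) (hUV : U ⊔ V = ⊤) [IsAffine (V : Scheme.{u})]
  (hU : IsCompact (U : Set X)) (hW : IsCompact (W : Set X))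

include hUV hU hW in
/-- one step of the approximation along `U` -/
theorem step_U {r : ℤ} (hGU : Good (U : Scheme.{u}) (U.ι ⁻¹ᵁ W) r) (hr : 0 ≤ r) (n e : ℤ) (hne : n ≤ e)
    (E : DCoh.D X) (hq : DCoh.IsQCohD E) (hpc : DCoh.IsPseudoCoherentD (n - r) E)
    (hEW : VanGE (n - r) ((DCoh.restrictD W.ι).obj E))
    (hE : VanGE (e + 1) ((DCoh.restrictD U.ι).obj E)) :
    ∃ (C P : DCoh.D X) (b : E ⟶ C) (c : C ⟶ P) (d : P ⟶ E⟦(1 : ℤ)⟧),
      Triangle.mk b c d ∈ distinguishedTriangles ∧ DCoh.IsPerfect P ∧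
        IsZero ((DCoh.restrictD W.ι).obj P) ∧ VanGE e ((DCoh.restrictD U.ι).obj C) := by
  have : CompactSpace (U : Scheme.{u}) := isCompact_iff_compactSpace.1 hU
  have hEW' : VanGE (n - r) ((DCoh.restrictD (U.ι ⁻¹ᵁ W).ι).obj ((DCoh.restrictD U.ι).obj E)) :=
    vanGE_of_iso ((restrictDComp (U.ι ⁻¹ᵁ W).ι U.ι _ rfl).app E).symm
      (vanGE_of_range W _ (by rintro _ ⟨z, rfl⟩; exact z.2) hEW)
  obtain ⟨CU, PU₁, bU, cU, dU, hTU, hPU₁, hPUW₁, hCU⟩ :=
    hGU n _ (isQCohD_restrict U.ι hq) (PCohD.pc_restrict U.ι hpc) hEW'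
  let PU := PU₁⟦(-1 : ℤ)⟧
  have hT' := inv_rot_of_distTriang _ hTU
  let α : PU ⟶ (DCoh.restrictD U.ι).obj E := (Triangle.mk bU cU dU).invRotate.mor₁
  have hPU : DCoh.IsPerfect PU := Perfect.isPerfect_shift hPU₁ (-1)
  have hPUW : IsZero ((DCoh.restrictD (U.ι ⁻¹ᵁ W).ι).obj PU) :=
    ((shiftFunctor _ (-1 : ℤ)).map_isZero hPUW₁).of_iso
      (((DCoh.restrictD (U.ι ⁻¹ᵁ W).ι).commShiftIso (-1 : ℤ)).app PU₁)
  have hPUv : VanGE (e + 1) PU := fun i hi =>
    ((HomologySequence.exact₂ _ (rot_of_distTriang _ hTU) (i - 1)).isZero_of_both_zeros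
      ((hCU (i - 1) (by omega)).eq_of_src _ _)
      (((hE i hi).of_iso (((homologyFunctor (U : Scheme.{u}).Modules 0).shiftIso (1 : ℤ) (i - 1) i
        (by omega)).app ((DCoh.restrictD U.ι).obj E))).eq_of_tgt _ _)).of_iso
      (((homologyFunctor (U : Scheme.{u}).Modules 0).shiftIso (-1 : ℤ) i (i - 1) (by omega)).app PU₁)
  have := HasBinaryBiproducts.of_hasBinaryProducts (C := DCoh.D (U : Scheme.{u}))
  obtain ⟨R₀, hR₀, hR₀W, ⟨eR⟩⟩ := exists_extension U V W hUV hU hW PU hPU hPUW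
  obtain ⟨R, β, ν, hR, hRW, hν, hβ⟩ := exists_lift_two U V W hUV hU hW E hq R₀ hR₀ hR₀W
    (eR.hom ≫ biprod.fst ≫ α)
  obtain ⟨C, b, c, hC⟩ := distinguished_cocone_triangle β
  refine ⟨C, R⟦(1 : ℤ)⟧, b, c, -(β⟦(1 : ℤ)⟧'), rot_of_distTriang _ hC, Perfect.isPerfect_shift hR 1,
    ((shiftFunctor _ (1 : ℤ)).map_isZero hRW).of_iso (((DCoh.restrictD W.ι).commShiftIso (1 : ℤ)).app R), ?_⟩
  refine vanGE₃ _ ((DCoh.restrictD U.ι).map_distinguished _ hC) e (fun i hi => ?_) ?_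
  · have h1 : (homologyFunctor _ i).map ((DCoh.restrictD U.ι).map β) ≫
        (homologyFunctor _ i).map ((DCoh.restrictD U.ι).map b) = 0 :=
      ((homologyFunctor _ i).map_comp _ _).symm.trans ((congrArg _ (((DCoh.restrictD U.ι).map_comp β b).symm.trans
        ((congrArg (fun f => (DCoh.restrictD U.ι).map f) (comp_distTriang_mor_zero₁₂ _ hC)).trans
          (Functor.map_zero _ _ _)))).trans (Functor.map_zero _ _ _))
    have hαe : Epi ((homologyFunctor _ i).map α) :=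
      (HomologySequence.epi_homologyMap_mor₁_iff _ hT' i).2 ((hCU i (by omega)).eq_of_tgt _ _)
    have : Epi ((homologyFunctor _ i).map ((DCoh.restrictD U.ι).map β)) := by
      rw [hβ, Functor.map_comp, Functor.map_comp, Functor.map_comp]
      infer_instance
    exact (cancel_epi ((homologyFunctor _ i).map ((DCoh.restrictD U.ι).map β))).1 (h1.trans comp_zero.symm)
  · intro i hi
    refine IsZero.of_iso ?_ ((homologyFunctor _ i).mapIso (@asIso _ _ _ _ _ hν ≪≫ eR))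
    exact (HomologySequence.exact₂ _ (binaryBiproductTriangle_distinguished PU (PU⟦(1 : ℤ)⟧)) i).isZero_of_both_zeros
      ((hPUv i (by omega)).eq_of_src _ _)
      (((hPUv (i + 1) (by omega)).of_iso
        (((homologyFunctor (U : Scheme.{u}).Modules 0).shiftIso (1 : ℤ) i (i + 1) (by omega)).app PU)).eq_of_tgt _ _)

include hUV hU hW in
/-- approximation on `U` reduces to vanishing on `U` -/
theorem reduce_U {r : ℤ} (hGU : Good (U : Scheme.{u}) (U.ι ⁻¹ᵁ W) r) (hr : 0 ≤ r) (n : ℤ) (k : ℕ)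
    (E : DCoh.D X) (hq : DCoh.IsQCohD E) (hpc : DCoh.IsPseudoCoherentD (n - r) E)
    (hEW : VanGE (n - r) ((DCoh.restrictD W.ι).obj E))
    (hk : VanGE (n + k) ((DCoh.restrictD U.ι).obj E)) {m : ℤ}
    (h : ∀ C : DCoh.D X, DCoh.IsQCohD C → DCoh.IsPseudoCoherentD (n - r) C →
      VanGE (n - r) ((DCoh.restrictD W.ι).obj C) → VanGE n ((DCoh.restrictD U.ι).obj C) → Appx W m C) :
    Appx W m E := by
  induction k generalizing E with
  | zero => exact h E hq hpc hEW (by simpa using hk)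
  | succ k ih =>
    push_cast at hk
    obtain ⟨C, P, b, c, d, hT, hP, hPW, hC⟩ := step_U U V W hUV hU hW hGU hr n (n + k) (by omega) E hq hpc hEW
      (vanGE_mono hk (by omega))
    refine appx_trans hT hP hPW (ih C (Groth.Agent.PCohD.isQCohD_obj₃ _ (inv_rot_of_distTriang _ hT)
        (PerfExt.isQCohD_of_isPerfect (Perfect.isPerfect_shift hP (-1))) hq)
      (PCohD.pc₂ _ hT hpc (PCohD.pc_of_perfect hP _)) (vanGE_of_iso ?_ hEW) hC)
    exact @asIso _ _ _ _ ((DCoh.restrictD W.ι).map b)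
      ((Triangle.isZero₃_iff_isIso₁ _ ((DCoh.restrictD W.ι).map_distinguished _ hT)).1 hPW)

include hUV hU in
/-- extending an approximation from `V` for an object small on `U` -/
theorem extend_V (m : ℤ) (E : DCoh.D X) (hUv : VanGE m ((DCoh.restrictD U.ι).obj E))
    (hV : Appx (V.ι ⁻¹ᵁ (U ⊔ W)) m ((DCoh.restrictD V.ι).obj E)) : Appx W m E := by
  have : QuasiCompact V.ι := AlgebraicGeometry.quasiCompact_of_compactSpace V.ι
  have : CompactSpace (U : Scheme.{u}) := isCompact_iff_compactSpace.1 hU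
  have : QuasiCompact U.ι := AlgebraicGeometry.quasiCompact_of_compactSpace U.ι
  obtain ⟨CV, PV₁, bV, cV, dV, hTV, hPV₁, hPVW₁, hCV⟩ := hV
  let PV := PV₁⟦(-1 : ℤ)⟧
  have hT' := inv_rot_of_distTriang _ hTV
  let α : PV ⟶ (DCoh.restrictD V.ι).obj E := (Triangle.mk bV cV dV).invRotate.mor₁
  have := KFlat.RPush.hasRpush U.ι
  have := KFlat.RPush.hasRpush V.ι
  obtain ⟨adj⟩ := exists_adj (X := X) U.ι
  obtain ⟨adjV⟩ := exists_adj (X := X) V.ι
  have hPVz : IsZero ((DCoh.restrictD (V.ι ⁻¹ᵁ (U ⊔ W)).ι).obj PV) :=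
    ((shiftFunctor _ (-1 : ℤ)).map_isZero hPVW₁).of_iso
      (((DCoh.restrictD (V.ι ⁻¹ᵁ (U ⊔ W)).ι).commShiftIso (-1 : ℤ)).app PV₁)
  let R := (DCoh.Rpush V.ι).obj PV
  have hRA : ∀ A : X.Opens, A ≤ U ⊔ W → IsZero ((DCoh.restrictD A.ι).obj R) := fun A hA => by
    have := KFlat.RPush.hasRpush (V.ι ∣_ A)
    refine ((DCoh.Rpush (V.ι ∣_ A)).map_isZero ?_).of_iso ((KFlat.RPushBase.restrictRpushIso V.ι A).app PV)
    exact isZero_restrict_of_range (V.ι ⁻¹ᵁ (U ⊔ W)) _ (by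
      rw [Scheme.Opens.range_ι]
      exact fun y hy => hA hy) hPVz
  have hR : DCoh.IsPerfect R := isPerfect_of_cover U V hUV (Perfect.isPerfect_zero (hRA U le_sup_left))
    (Perfect.isPerfect_of_iso ((Kosz.restrictRpushSelf V).app _).symm (Perfect.isPerfect_shift hPV₁ (-1)))
  obtain ⟨D, c, d, hD⟩ := distinguished_cocone_triangle (adjV.unit.app E)
  have hDV : IsZero ((DCoh.restrictD V.ι).obj D) :=
    (Triangle.isZero₃_iff_isIso₁ _ ((DCoh.restrictD V.ι).map_distinguished _ hD)).2 (Kosz.isIso_restrict_unit V adjV E)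
  have hηD : IsIso (adj.unit.app D) := by
    refine isIso_of_cover U V hUV _ (Kosz.isIso_restrict_unit U adj D)
      (isIso_of_isInitial hDV.isInitial (IsZero.isInitial ?_) _)
    have := KFlat.RPush.hasRpush (U.ι ∣_ V)
    exact ((DCoh.Rpush (U.ι ∣_ V)).map_isZero ((isZero_restrict_of_range V ((U.ι ⁻¹ᵁ V).ι ≫ U.ι)
      (by rintro _ ⟨z, rfl⟩; exact z.2) hDV).of_iso ((restrictDComp (U.ι ⁻¹ᵁ V).ι U.ι _ rfl).app D))).of_iso
      ((KFlat.RPushBase.restrictRpushIso U.ι V).app _)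
  let φ : R ⟶ (DCoh.Rpush V.ι).obj ((DCoh.restrictD V.ι).obj E) := (DCoh.Rpush V.ι).map α
  have hφc : φ ≫ c = 0 := by
    refine (cancel_mono (adj.unit.app D)).1 ?_
    rw [zero_comp]
    exact (adj.homEquiv _ _).symm.injective ((hRA U le_sup_left).eq_of_src _ _)
  obtain ⟨β, hβ⟩ : ∃ β : R ⟶ E, φ = β ≫ adjV.unit.app E := Triangle.coyoneda_exact₂ _ hD φ hφc
  obtain ⟨C, b, c₂, hC⟩ := distinguished_cocone_triangle β
  have hRW := hRA W le_sup_right
  refine ⟨C, R⟦(1 : ℤ)⟧, b, c₂, -(β⟦(1 : ℤ)⟧'), rot_of_distTriang _ hC, Perfect.isPerfect_shift hR 1,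
    ((shiftFunctor _ (1 : ℤ)).map_isZero hRW).of_iso (((DCoh.restrictD W.ι).commShiftIso (1 : ℤ)).app R), ?_⟩
  refine vanGE_of_cover U V hUV ?_ ?_
  · have : IsIso ((DCoh.restrictD U.ι).map b) :=
      (Triangle.isZero₁_iff_isIso₂ _ ((DCoh.restrictD U.ι).map_distinguished _ hC)).1 (hRA U le_sup_left)
    exact vanGE_of_iso (asIso ((DCoh.restrictD U.ι).map b)) hUv
  · have hcou : (adjV.counit.app PV) ≫ α = (DCoh.restrictD V.ι).map β := by
      apply (adjV.homEquiv _ _).injective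
      rw [adjV.homEquiv_unit, adjV.homEquiv_unit, Functor.map_comp, adjV.right_triangle_components_assoc]
      exact hβ.trans (adjV.unit.naturality β)
    have := adjV.isIso_counit_of_iso (Kosz.restrictRpushSelf V)
    refine vanGE_of_iso (Triangle.π₃.mapIso (isoTriangleOfIso₁₂ _ _ hT'
      ((DCoh.restrictD V.ι).map_distinguished _ hC) (asIso (adjV.counit.app PV)).symm (Iso.refl _) ?_)) hCV
    exact (Category.comp_id α).trans (((cancel_epi (adjV.counit.app PV)).1
      (hcou.trans (IsIso.hom_inv_id_assoc _ _).symm)))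

include hUV hU hW in
/-- approximation on `U` gives approximation on `X = U ∪ V` -/
theorem good_two {r : ℤ} (hGU : Good (U : Scheme.{u}) (U.ι ⁻¹ᵁ W) r) (hr : 0 ≤ r) :
    ∃ r', 0 ≤ r' ∧ Good X W r' := by
  have : QuasiCompact V.ι := AlgebraicGeometry.quasiCompact_of_compactSpace V.ι
  let W' : (V : Scheme.{u}).Opens := V.ι ⁻¹ᵁ (U ⊔ W)
  obtain ⟨fs, hfs⟩ := exists_isZero_iff (V : Scheme.{u}) W'
    (QuasiCompact.isCompact_preimage (f := V.ι) _ (U ⊔ W).isOpen (hU.union hW))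
  refine ⟨r + fs.length, by omega, fun m E hq hpc hEW => ?_⟩
  obtain ⟨k, hk⟩ := exists_bound_of_pc hpc
  let n : ℤ := m - fs.length
  refine reduce_U U V W hUV hU hW hGU hr n k E hq (by simpa [n, sub_sub, add_comm] using hpc)
    (by simpa [n, sub_sub, add_comm] using hEW)
    (vanGE_mono (vanGE_restrict U.ι hk) (by simp [n]; omega)) fun C hCq hCpc hCW hCU => ?_
  refine extend_V U V W hUV hU m C (vanGE_mono hCU (by simp [n])) ?_
  have hCpc' := PCohD.pc_restrict V.ι (PCohD.pc_mono hCpc (show n - r ≤ m by simp [n]; omega))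
  obtain ⟨k', hk'⟩ := exists_bound_of_pc hCpc'
  refine affine_appx (X := (V : Scheme.{u})) W' hfs m _ (isQCohD_restrict V.ι hCq) hCpc'
    (vanGE_mono ?_ (show n ≤ m - (fs.length : ℤ) + 1 by simp [n])) k' hk'
  refine vanGE_of_iso ((restrictDComp W'.ι V.ι _ rfl).app C).symm (vanGE_of_range (U ⊔ W) _
    (by rintro _ ⟨z, rfl⟩; exact z.2) (vanGE_of_sup U W _ le_rfl hCU (vanGE_mono hCW (by omega))))

end Glue

/-- approximation holds on quasi-compact quasi-separated schemes -/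
theorem exists_good (X : Scheme.{u}) [CompactSpace X] [QuasiSeparatedSpace X] (W : X.Opens)
    (hW : IsCompact (W : Set X)) : ∃ r, 0 ≤ r ∧ Good X W r := by
  suffices h : ∀ S : X.Opens, IsCompact (S : Set X) →
      ∀ (Y : Scheme.{u}) (j : Y ⟶ X) [IsOpenImmersion j], Set.range j = (S : Set X) →
        ∀ W : Y.Opens, IsCompact (W : Set Y) → ∃ r, 0 ≤ r ∧ Good Y W r from
    h ⊤ isCompact_univ X (𝟙 X) (by simp) W hW
  intro S hS
  refine compact_open_induction_on (P := fun S : X.Opens =>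
    ∀ (Y : Scheme.{u}) (j : Y ⟶ X) [IsOpenImmersion j], Set.range j = (S : Set X) →
      ∀ W : Y.Opens, IsCompact (W : Set Y) → ∃ r, 0 ≤ r ∧ Good Y W r) S hS ?_ ?_
  · intro Y j _ hj W _
    have : IsEmpty Y := ⟨fun y => by
      have : j y ∈ Set.range j := ⟨y, rfl⟩
      rw [hj] at this
      exact this⟩
    exact ⟨0, le_rfl, fun m E _ _ _ => appx_of_vanGE fun i _ =>
      StalkCx.isZero_of_isZero_stalk fun x => isEmptyElim x⟩
  · intro S₀ hS₀ V₀ ih Y j _ hj W hW
    have hYc : CompactSpace Y := by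
      refine ⟨j.isOpenEmbedding.isInducing.isCompact_iff.2 ?_⟩
      rw [Set.image_univ, hj]
      exact hS₀.union V₀.2.isCompact
    have hYq : QuasiSeparatedSpace Y := j.isOpenEmbedding.quasiSeparatedSpace
    let U : Y.Opens := j ⁻¹ᵁ S₀
    let V : Y.Opens := j ⁻¹ᵁ V₀
    have hsub : ∀ Z : X.Opens, (Z : Set X) ⊆ (S₀ ⊔ V₀ : X.Opens) → (Z : Set X) ⊆ Set.range j := fun Z hZ => hZ.trans hj.ge
    have hU : IsCompact (U : Set Y) := j.isOpenEmbedding.isInducing.isCompact_preimage' hS₀ (hsub S₀ (fun x hx => Or.inl hx))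
    have hUV : U ⊔ V = ⊤ := top_le_iff.1 fun y _ => by
      have h1 : j y ∈ Set.range j := ⟨y, rfl⟩
      rw [hj] at h1
      exact h1
    have hV : IsAffineOpen V := V₀.2.preimage_of_isOpenImmersion j (hsub V₀ (fun x hx => Or.inr hx))
    have : IsAffine (V : Scheme.{u}) := hV
    have hUr : Set.range (U.ι ≫ j) = (S₀ : Set X) := by
      ext x
      constructor
      · rintro ⟨z, rfl⟩; exact z.2
      · intro hx
        obtain ⟨y, rfl⟩ := hsub S₀ (fun x hx => Or.inl hx) hx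
        exact ⟨⟨y, hx⟩, rfl⟩
    have : CompactSpace (U : Scheme.{u}) := isCompact_iff_compactSpace.1 hU
    have : QuasiCompact U.ι := AlgebraicGeometry.quasiCompact_of_compactSpace U.ι
    obtain ⟨r, hr, hGU⟩ := ih (U : Scheme.{u}) (U.ι ≫ j) hUr (U.ι ⁻¹ᵁ W)
      (QuasiCompact.isCompact_preimage (f := U.ι) _ W.isOpen hW)
    exact good_two U V W hUV hU hW hGU hr

/-- the shape used in the statements -/
theorem exists_map {W : X.Opens} {m : ℤ} {E : DCoh.D X} (h : Appx W m E) :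
    ∃ (P : DCoh.D X) (α : P ⟶ E), DCoh.IsPerfect P ∧
      (∀ i : ℤ, CohB1.support (DCoh.HD P i) ⊆ (W : Set X)ᶜ) ∧
      (∀ i : ℤ, m < i → IsIso ((homologyFunctor X.Modules i).map α)) ∧
      Epi ((homologyFunctor X.Modules m).map α) := by
  obtain ⟨C, P₁, b, c, d, hT, hP₁, hPW, hC⟩ := h
  have hT' := inv_rot_of_distTriang _ hT
  refine ⟨P₁⟦(-1 : ℤ)⟧, (Triangle.mk b c d).invRotate.mor₁, Perfect.isPerfect_shift hP₁ (-1),
    fun i => PerfExt.support_subset_of_isZero_restrict W (((shiftFunctor _ (-1 : ℤ)).map_isZero hPW).of_iso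
      (((DCoh.restrictD W.ι).commShiftIso (-1 : ℤ)).app P₁)) i, fun i hi => ?_,
    (HomologySequence.epi_homologyMap_mor₁_iff _ hT' m).2 ((hC m le_rfl).eq_of_tgt _ _)⟩
  have he : Epi ((homologyFunctor X.Modules i).map (Triangle.mk b c d).invRotate.mor₁) :=
    (HomologySequence.epi_homologyMap_mor₁_iff _ hT' i).2 ((hC i hi.le).eq_of_tgt _ _)
  have hm : Mono ((homologyFunctor X.Modules i).map (Triangle.mk b c d).invRotate.mor₁) :=
    (HomologySequence.mono_homologyMap_mor₁_iff _ hT' (i - 1) i (by omega)).2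
      ((hC (i - 1) (by omega)).eq_of_src _ _)
  exact @isIso_of_mono_of_epi _ _ _ _ _ _ hm he

end Groth.Agent.KFlat.Approx
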