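import Groth.Agent.KFlat.FlatProper
import Groth.Agent.KFlat.Approx
import Groth.Agent.S0999

/-!
# `Rf_*` of pseudo-coherent objects along flat proper morphisms of finite presentation
-/

set_option autoImplicit false

universe u

open CategoryTheory CategoryTheory.Limits AlgebraicGeometry Pretriangulated DerivedCategory
open Groth.Agent.PerfTri Groth.Agent.CohDerLib

attribute [local instance] HasDerivedCategory.standard
attribute [-instance] CategoryTheory.ReflQuiver.toQuiver

noncomputable section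

namespace Groth.Agent.KFlat.FlatProper

variable {X S : Scheme.{u}}

theorem isQCohD_of_pc {E : DCoh.D X} (hE : ∀ m, DCoh.IsPseudoCoherentD m E) : DCoh.IsQCohD E :=
  fun i => (Groth.Agent.S7240.result (i - 1) E (hE (i - 1))).1 i (by omega)

theorem pc_Rpush_compact [CompactSpace S] [QuasiSeparatedSpace S] (f : X ⟶ S) [IsProper f] [Flat f]
    [LocallyOfFinitePresentation f] [DCoh.HasRpush f] (E : DCoh.D X) (hE : ∀ m, DCoh.IsPseudoCoherentD m E)
    (m : ℤ) : DCoh.IsPseudoCoherentD m ((DCoh.Rpush f).obj E) := by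
  have : CompactSpace X := QuasiCompact.compactSpace_of_compactSpace f
  have : QuasiSeparatedSpace X := quasiSeparatedSpace_of_quasiSeparated f
  obtain ⟨ι, B, d, hB, hd⟩ := QC.exists_bound f
  obtain ⟨r, -, hr⟩ := Approx.exists_good X ⊥ (by simp)
  have hqE := isQCohD_of_pc hE
  obtain ⟨C, P, b, c, δ, hT, hP, -, hC⟩ := hr (m - d) E hqE (hE _) fun i _ =>
    (CohDev.isZero_restrict_of_support (⊥ : X.Opens).ι (M := DCoh.HD E i) (fun x _ => by
      rintro ⟨z, -⟩
      exact z.2)).of_iso (Kosz.homologyRestrictIso ⊥ E i)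
  have hqC : DCoh.IsQCohD C := Groth.Agent.PCohD.isQCohD_obj₃ _ (inv_rot_of_distTriang _ hT)
    (PerfExt.isQCohD_of_isPerfect (Perfect.isPerfect_shift hP (-1))) hqE
  have : C.IsLE (m - d - 1) := (DerivedCategory.isLE_iff C _).2 fun i hi => hC i (by omega)
  have hpC : DCoh.IsPseudoCoherentD m ((DCoh.Rpush f).obj C) := PCohD.pc_of_vanish fun i hi =>
    QC.isZero_HD_Rpush f B hB C i fun j => QC.hom_zero (hd j) C hqC (m - d - 1) i (by omega)
  obtain ⟨δ', hδ'⟩ := RPushTriangle.distinguished_Rpush f _ hT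
  have h1 := PCohD.pc₁ (m := m - 1) _ hδ' (by simpa using hpC) (PCohD.pc_of_perfect (isPerfect_Rpush f P hP) (m - 1))
  simpa using h1

/-- pseudo-coherence of `Rf_*` -/
theorem pc_Rpush (f : X ⟶ S) [IsProper f] [Flat f] [LocallyOfFinitePresentation f] [DCoh.HasRpush f]
    (E : DCoh.D X) (hE : ∀ m, DCoh.IsPseudoCoherentD m E) (m : ℤ) :
    DCoh.IsPseudoCoherentD m ((DCoh.Rpush f).obj E) := by
  refine PCohD.pc_of_local fun s => ?_
  obtain ⟨V, hV, hs, -⟩ := exists_isAffineOpen_mem_and_subset (U := (⊤ : S.Opens)) (x := s) trivial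
  have : IsAffine (V : Scheme.{u}) := hV
  have : IsProper (f ∣_ V) := IsZariskiLocalAtTarget.restrict ‹_› V
  have := RPush.hasRpush (f ∣_ V)
  exact ⟨V, V.ι, inferInstance, ⟨⟨s, hs⟩, rfl⟩, PCohD.pc_of_iso ((RPushBase.restrictRpushIso f V).app E).symm
    (pc_Rpush_compact (f ∣_ V) _ (fun n => PCohD.pc_restrict _ (hE n)) m)⟩

end Groth.Agent.KFlat.FlatProper
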