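import Groth.Agent.KFlat.Generator
import Groth.Agent.KFlat.MapHomology
import Groth.Agent.KFlat.CxAdj
import Groth.Agent.DHA.KInj.Products
import Mathlib.Algebra.Homology.DerivedCategory.ExactFunctor

/-!
# The derived functor of an exact fully faithful left adjoint

If maps out of the image of a projective separator compute cohomology on the objects with cohomology
in the essential image, the derived functor is fully faithful with that essential image.
-/

set_option autoImplicit false

universe w w' v v' u u'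

open CategoryTheory Limits DerivedCategory
open Groth.Agent.KFlat.TruncHom Groth.Agent.KFlat.Generator

namespace Groth.Agent.KFlat.DerivedFF

variable {A : Type u} [Category.{v} A] [Abelian A] [HasDerivedCategory.{w} A]
  {B : Type u'} [Category.{v'} B] [Abelian B] [HasDerivedCategory.{w'} B]
  (F : A ⥤ B) [F.Additive] [PreservesFiniteLimits F] [PreservesFiniteColimits F]

/-- The comparison `DF (QK) ≅ Q (FK)`. -/
noncomputable abbrev fac (K : CochainComplex A ℤ) :
    F.mapDerivedCategory.obj (Q.obj K) ≅ Q.obj ((F.mapHomologicalComplex (ComplexShape.up ℤ)).obj K) :=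
  F.mapDerivedCategoryFactors.app K

/-- The image of a single object. -/
noncomputable abbrev single (P : A) (m : ℤ) :
    F.mapDerivedCategory.obj ((singleFunctor A m).obj P) ≅ (singleFunctor B m).obj (F.obj P) :=
  (F.mapDerivedCategorySingleFunctor m).app P

variable [F.Full] [F.Faithful]

variable (P : A) [Projective P]
  (hΦ : ∀ K : DerivedCategory B, (∀ m, F.essImage ((homologyFunctor B m).obj K)) →
    ∀ m, Function.Bijective (Φ (F.obj P) m K))

theorem essImage_homology (M : DerivedCategory A) (m : ℤ) :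
    F.essImage ((homologyFunctor B m).obj (F.mapDerivedCategory.obj M)) :=
  ⟨(homologyFunctor A m).obj M, ⟨((MapHomology.iso F m).app M).symm⟩⟩

include hΦ in
/-- Maps out of the image of a shift of `P` are determined by cohomology. -/
theorem ext_single (N : DerivedCategory A) (m : ℤ)
    {h h' : F.mapDerivedCategory.obj ((singleFunctor A m).obj P) ⟶ F.mapDerivedCategory.obj N}
    (e : (homologyFunctor B m).map h = (homologyFunctor B m).map h') : h = h' := by
  apply (cancel_epi (single F P m).inv).1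
  refine (hΦ _ (essImage_homology F N) m).1 ?_
  rw [Φ_apply, Φ_apply, Functor.map_comp, Functor.map_comp, e]

include hΦ in
/-- The derived functor is bijective on maps out of shifts of `P`. -/
theorem map_bijective_single (N : DerivedCategory A) (m : ℤ) :
    Function.Bijective fun g : (singleFunctor A m).obj P ⟶ N => F.mapDerivedCategory.map g := by
  have hnat : ∀ g : (singleFunctor A m).obj P ⟶ N,
      (homologyFunctor B m).map (F.mapDerivedCategory.map g) =
        (MapHomology.iso F m).hom.app _ ≫ F.map ((homologyFunctor A m).map g) ≫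
          (MapHomology.iso F m).inv.app N := fun g =>
    (NatIso.naturality_2 (MapHomology.iso F m) g).symm
  constructor
  · intro g g' hgg'
    refine (Φ_bijective_of_projective P m N).1 (congrArg ((ιH P m).hom ≫ ·) (F.map_injective ?_))
    have h := congrArg (homologyFunctor B m).map hgg'
    rw [hnat, hnat] at h
    exact (cancel_mono _).1 ((cancel_epi _).1 h)
  · intro h
    obtain ⟨γ, hγ⟩ := F.map_surjective ((MapHomology.iso F m).inv.app ((singleFunctor A m).obj P) ≫
      (homologyFunctor B m).map h ≫ (MapHomology.iso F m).hom.app N)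
    obtain ⟨g, hg⟩ := (Φ_bijective_of_projective P m N).2 ((ιH P m).hom ≫ γ)
    refine ⟨g, ext_single F P hΦ N m ?_⟩
    have hgγ : (homologyFunctor A m).map g = γ := (cancel_epi (ιH P m).hom).1 hg
    rw [hnat, hgγ, hγ]
    simp

variable {G : B ⥤ A} [G.Additive] (adj : F ⊣ G)

include adj in
theorem isKInjective_right (I : CochainComplex B ℤ) [hI : I.IsKInjective] :
    CochainComplex.IsKInjective ((G.mapHomologicalComplex (ComplexShape.up ℤ)).obj I) := by
  refine ⟨fun {K} f hK => ?_⟩
  let a := CxAdj.mapCx adj (ComplexShape.up ℤ)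
  have hK' : HomologicalComplex.Acyclic ((F.mapHomologicalComplex (ComplexShape.up ℤ)).obj K) := fun n =>
    ShortComplex.Exact.map (hK n) F
  obtain ⟨H⟩ := hI.nonempty_homotopy_zero ((a.homEquiv K I).symm f) hK'
  refine ⟨((Homotopy.ofEq ?_).trans ((G.mapHomotopy H).compLeft (a.unit.app K))).trans
    (Homotopy.ofEq (by simp))⟩
  exact ((a.homEquiv K I).apply_symm_apply f).symm.trans (a.homEquiv_unit K I _)

/-- The adjunct in the derived category of a map to the image of a K-injective complex. -/
noncomputable def adjunct (M : CochainComplex A ℤ) (I : CochainComplex B ℤ)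
    (φ : Q.obj M ⟶ Q.obj ((G.mapHomologicalComplex (ComplexShape.up ℤ)).obj I)) :
    F.mapDerivedCategory.obj (Q.obj M) ⟶ Q.obj I :=
  F.mapDerivedCategory.map φ ≫ (fac F _).hom ≫ Q.map ((CxAdj.mapCx adj (ComplexShape.up ℤ)).counit.app I)

theorem adjunct_map (M : CochainComplex A ℤ) (I : CochainComplex B ℤ)
    (u : M ⟶ (G.mapHomologicalComplex (ComplexShape.up ℤ)).obj I) :
    adjunct F adj M I (Q.map u) =
      (fac F M).hom ≫ Q.map (((CxAdj.mapCx adj (ComplexShape.up ℤ)).homEquiv M I).symm u) := by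
  rw [adjunct, (CxAdj.mapCx adj (ComplexShape.up ℤ)).homEquiv_counit, Functor.map_comp]
  exact (Category.assoc _ _ _).symm.trans ((congrArg (· ≫ _)
    (F.mapDerivedCategoryFactors.hom.naturality u)).trans (Category.assoc _ _ _))

theorem adjunct_bijective (M : CochainComplex A ℤ) (I : CochainComplex B ℤ) [I.IsKInjective] :
    Function.Bijective (adjunct F adj M I) := by
  have := isKInjective_right F adj I
  let a := CxAdj.mapCx adj (ComplexShape.up ℤ)
  have hadd : ∀ φ φ', adjunct F adj M I (φ - φ') = adjunct F adj M I φ - adjunct F adj M I φ' := fun φ φ' => by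
    simp [adjunct, Preadditive.sub_comp]
  constructor
  · intro φ φ' h
    rw [← sub_eq_zero]
    have h0 : adjunct F adj M I (φ - φ') = 0 := (hadd φ φ').trans (sub_eq_zero.2 h)
    obtain ⟨u, hu⟩ := DHA.KInj.Q_map_surjective M _ (φ - φ')
    rw [← hu] at h0 ⊢
    rw [adjunct_map] at h0
    obtain ⟨H⟩ := DHA.KInj.homotopy_of_Q_map_eq (f := (a.homEquiv M I).symm u) (g := 0)
      ((zero_of_epi_comp _ h0).trans (Functor.map_zero _ _ _).symm)
    refine (DHA.KInj.Q_map_eq_of_homotopy (g := 0) ?_).trans (Functor.map_zero _ _ _)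
    exact ((Homotopy.ofEq (((a.homEquiv M I).apply_symm_apply u).symm.trans (a.homEquiv_unit M I _))).trans
      ((G.mapHomotopy H).compLeft (a.unit.app M))).trans (Homotopy.ofEq (by simp))
  · intro h
    obtain ⟨v, hv⟩ := DHA.KInj.Q_map_surjective _ I ((fac F M).inv ≫ h)
    refine ⟨Q.map (a.homEquiv M I v), ?_⟩
    rw [adjunct_map, Equiv.symm_apply_apply, hv]
    simp

variable (hsep : ∀ {M N : A} (f : M ⟶ N), (∀ g : P ⟶ M, g ≫ f = 0) → f = 0)
  (hres : ∀ K : CochainComplex B ℤ, ∃ (I : CochainComplex B ℤ) (s : K ⟶ I), I.IsKInjective ∧ QuasiIso s)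

include hΦ hsep hres adj

theorem map_bijective (M N : CochainComplex A ℤ) :
    Function.Bijective fun g : Q.obj M ⟶ Q.obj N => F.mapDerivedCategory.map g := by
  obtain ⟨I, e, hI, he⟩ := hres ((F.mapHomologicalComplex (ComplexShape.up ℤ)).obj N)
  let a := CxAdj.mapCx adj (ComplexShape.up ℤ)
  let ψ := a.homEquiv N I e
  let e' : F.mapDerivedCategory.obj (Q.obj N) ≅ Q.obj I := fac F N ≪≫ asIso (Q.map e)
  have key : ∀ (M : CochainComplex A ℤ) (g : Q.obj M ⟶ Q.obj N),
      adjunct F adj M I (g ≫ Q.map ψ) = F.mapDerivedCategory.map g ≫ e'.hom := fun M g => by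
    have h := adjunct_map F adj N I ψ
    rw [Equiv.symm_apply_apply] at h
    rw [adjunct, Functor.map_comp, Category.assoc]
    exact congrArg (_ ≫ ·) h
  have hψ : IsIso (Q.map ψ) := by
    refine isIso_of_bijective_single P hsep _ fun m => ?_
    let Pc : CochainComplex A ℤ := (HomologicalComplex.single A (ComplexShape.up ℤ) m).obj P
    let s : (singleFunctor A m).obj P ≅ Q.obj Pc :=
      ((SingleFunctors.evaluation _ _ m).mapIso (singleFunctorsPostcompQIso A)).app P
    have hb : Function.Bijective fun g : Q.obj Pc ⟶ Q.obj N => g ≫ Q.map ψ := by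
      refine (Function.Bijective.of_comp_iff' (adjunct_bijective F adj Pc I) _).1 ?_
      have : (adjunct F adj Pc I ∘ fun g : Q.obj Pc ⟶ Q.obj N => g ≫ Q.map ψ) =
          fun g => F.mapDerivedCategory.map g ≫ e'.hom := funext fun g => key Pc g
      rw [this]
      have hbs := map_bijective_single F P hΦ (Q.obj N) m
      constructor
      · intro g g' h
        have := (cancel_mono e'.hom).1 h
        apply (cancel_epi s.hom).1
        refine hbs.1 ?_
        simp [this]
      · intro h
        obtain ⟨g, hg⟩ := hbs.2 (F.mapDerivedCategory.map s.hom ≫ h ≫ e'.inv)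
        refine ⟨s.inv ≫ g, ?_⟩
        simp only at hg ⊢
        rw [Functor.map_comp, hg, ← Category.assoc (F.mapDerivedCategory.map s.inv),
          ← Functor.map_comp, s.inv_hom_id]
        simp
    constructor
    · intro g g' h
      apply (cancel_epi s.inv).1
      refine hb.1 ?_
      exact (Category.assoc _ _ _).trans ((congrArg (s.inv ≫ ·) h).trans (Category.assoc _ _ _).symm)
    · intro h
      obtain ⟨g, hg⟩ := hb.2 (s.inv ≫ h)
      refine ⟨s.hom ≫ g, ?_⟩
      exact (Category.assoc _ _ _).trans ((congrArg (s.hom ≫ ·) hg).trans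
        (Iso.hom_inv_id_assoc _ _))
  constructor
  · intro g g' h
    exact (cancel_mono (Q.map ψ)).1 ((adjunct_bijective F adj M I).1
      ((key M g).trans ((congrArg (· ≫ e'.hom) h).trans (key M g').symm)))
  · intro h
    obtain ⟨φ, hφ⟩ := (adjunct_bijective F adj M I).2 (h ≫ e'.hom)
    refine ⟨φ ≫ inv (Q.map ψ), (cancel_mono e'.hom).1 ((key M _).symm.trans ?_)⟩
    rw [Category.assoc, IsIso.inv_hom_id, Category.comp_id, hφ]

theorem full_faithful : F.mapDerivedCategory.Full ∧ F.mapDerivedCategory.Faithful := by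
  have hb : ∀ X Y : DerivedCategory A, Function.Bijective fun g : X ⟶ Y => F.mapDerivedCategory.map g := by
    intro X Y
    let eX := Q.objObjPreimageIso X
    let eY := Q.objObjPreimageIso Y
    have hb := map_bijective F P hΦ adj hsep hres (Q.objPreimage X) (Q.objPreimage Y)
    constructor
    · intro g g' h
      apply (cancel_epi eX.hom).1
      apply (cancel_mono eY.inv).1
      refine hb.1 ?_
      simp only at h ⊢
      simp [h]
    · intro h
      obtain ⟨g, hg⟩ := hb.2 (F.mapDerivedCategory.map eX.hom ≫ h ≫ F.mapDerivedCategory.map eY.inv)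
      refine ⟨eX.inv ≫ g ≫ eY.hom, ?_⟩
      simp only at hg ⊢
      rw [Functor.map_comp, Functor.map_comp, hg]
      simp
  exact ⟨⟨fun {X Y} => (hb X Y).2⟩, ⟨fun {X Y} => @(hb X Y).1⟩⟩

theorem exists_preimage (K : DerivedCategory B) (hK : ∀ m, F.essImage ((homologyFunctor B m).obj K)) :
    ∃ M, Nonempty (F.mapDerivedCategory.obj M ≅ K) := by
  obtain ⟨I, e, hI, he⟩ := hres (Q.objPreimage K)
  let eK : Q.obj I ≅ K := (asIso (Q.map e)).symm ≪≫ Q.objObjPreimageIso K
  let N := (G.mapHomologicalComplex (ComplexShape.up ℤ)).obj I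
  let ε : F.mapDerivedCategory.obj (Q.obj N) ⟶ Q.obj I := adjunct F adj N I (𝟙 _)
  have hε : ∀ (M : CochainComplex A ℤ) (φ : Q.obj M ⟶ Q.obj N),
      adjunct F adj M I φ = F.mapDerivedCategory.map φ ≫ ε := fun M φ => by
    simp [ε, adjunct, N]
  have hI' : ∀ m, F.essImage ((homologyFunctor B m).obj (Q.obj I)) := fun m =>
    F.essImage.prop_of_iso ((homologyFunctor B m).mapIso eK.symm) (hK m)
  suffices IsIso ε from ⟨Q.obj N, ⟨asIso ε ≪≫ eK⟩⟩
  rw [DerivedCategory.isIso_iff]
  intro m
  obtain ⟨V, ⟨eV⟩⟩ := hI' m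
  let eN := (MapHomology.iso F m).app (Q.obj N)
  obtain ⟨γ, hγ⟩ := F.map_surjective (eN.inv ≫ (homologyFunctor B m).map ε ≫ eV.inv)
  have hεγ : (homologyFunctor B m).map ε = eN.hom ≫ F.map γ ≫ eV.hom := by
    rw [hγ]; simp
  suffices IsIso γ by rw [hεγ]; infer_instance
  let Pc : CochainComplex A ℤ := (HomologicalComplex.single A (ComplexShape.up ℤ) m).obj P
  let s : (singleFunctor A m).obj P ≅ Q.obj Pc :=
    ((SingleFunctors.evaluation _ _ m).mapIso (singleFunctorsPostcompQIso A)).app P
  let σ : F.mapDerivedCategory.obj (Q.obj Pc) ≅ (singleFunctor B m).obj (F.obj P) :=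
    F.mapDerivedCategory.mapIso s.symm ≪≫ single F P m
  have hΦε : ∀ a : Q.obj Pc ⟶ Q.obj N,
      Φ (F.obj P) m _ (σ.inv ≫ adjunct F adj Pc I a) =
        Φ (F.obj P) m _ (σ.inv ≫ F.mapDerivedCategory.map a) ≫ (homologyFunctor B m).map ε := fun a => by
    rw [hε, ← Category.assoc, Φ_comp]
  have hN : ∀ m, F.essImage ((homologyFunctor B m).obj (F.mapDerivedCategory.obj (Q.obj N))) :=
    fun m => essImage_homology F (Q.obj N) m
  refine isIso_of_bijective P hsep γ ⟨fun a b hab => ?_, fun c => ?_⟩
  · obtain ⟨a', ha⟩ := (hΦ _ hN m).2 (F.map a ≫ eN.inv)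
    obtain ⟨b', hb⟩ := (hΦ _ hN m).2 (F.map b ≫ eN.inv)
    obtain ⟨α, hα⟩ := (map_bijective F P hΦ adj hsep hres Pc N).2 (σ.hom ≫ a')
    obtain ⟨β, hβ⟩ := (map_bijective F P hΦ adj hsep hres Pc N).2 (σ.hom ≫ b')
    simp only at hα hβ hab
    have hαa : σ.inv ≫ F.mapDerivedCategory.map α = a' := by rw [hα, Iso.inv_hom_id_assoc]
    have hβb : σ.inv ≫ F.mapDerivedCategory.map β = b' := by rw [hβ, Iso.inv_hom_id_assoc]
    have heq : Φ (F.obj P) m _ (σ.inv ≫ adjunct F adj Pc I α) = Φ (F.obj P) m _ (σ.inv ≫ adjunct F adj Pc I β) := by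
      rw [hΦε, hΦε, hαa, hβb, ha, hb, hεγ]
      simp only [Category.assoc, Iso.inv_hom_id_assoc]
      rw [← F.map_comp_assoc, ← F.map_comp_assoc, hab]
    have : α = β := (adjunct_bijective F adj Pc I).1 ((cancel_epi σ.inv).1 ((hΦ _ hI' m).1 heq))
    have hab' : a' = b' := by rw [← hαa, ← hβb, this]
    apply F.map_injective
    rw [← cancel_mono eN.inv, ← ha, ← hb, hab']
  · obtain ⟨z, hz⟩ := (hΦ _ hI' m).2 (F.map c ≫ eV.hom)
    obtain ⟨α, hα⟩ := (adjunct_bijective F adj Pc I).2 (σ.hom ≫ z)
    obtain ⟨g, hg⟩ := F.map_surjective (Φ (F.obj P) m _ (σ.inv ≫ F.mapDerivedCategory.map α) ≫ eN.hom)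
    refine ⟨g, F.map_injective ?_⟩
    have h1 := hΦε α
    rw [hα, Iso.inv_hom_id_assoc, hz, hεγ] at h1
    change F.map (g ≫ γ) = F.map c
    rw [Functor.map_comp, hg, ← cancel_mono eV.hom, h1]
    simp only [Category.assoc]
    rfl

end Groth.Agent.KFlat.DerivedFF
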