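import Groth.Agent.KFlat.FlatProper
import Groth.Agent.PerfExt.Compact
import Groth.Agent.S1008
import Groth.Prelude.Def_DDual2

/-!
# Right adjoints of functors on `D_QCoh` preserving perfect objects preserve sums
-/

set_option autoImplicit false

universe u

open CategoryTheory CategoryTheory.Limits AlgebraicGeometry Pretriangulated
open Groth.Agent.KFlat.CompactOne (FinSum)

attribute [local instance] HasDerivedCategory.standard
attribute [-instance] CategoryTheory.ReflQuiver.toQuiver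

noncomputable section

namespace Groth.Agent.KFlat

variable {X Y : Scheme.{u}}

/-- testing isomorphisms of `D_QCoh` by perfect objects -/
theorem isIso_of_bijective_perfect [CompactSpace X] [QuasiSeparatedSpace X] {A B : DCoh.D X}
    (hA : DCoh.IsQCohD A) (hB : DCoh.IsQCohD B) (θ : A ⟶ B)
    (h : ∀ P : DCoh.D X, DCoh.IsPerfect P → Function.Bijective fun φ : P ⟶ A => φ ≫ θ) : IsIso θ := by
  obtain ⟨Z, g, δ, hT⟩ := Pretriangulated.distinguished_cocone_triangle θ
  refine (Triangle.isZero₃_iff_isIso₁ _ hT).1 ?_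
  have hZ : DCoh.IsQCohD Z :=
    (DCoh.IsQCohD (X := X)).ext_of_isTriangulatedClosed₃ _ hT hA hB
  obtain ⟨G, hG, hgen⟩ := Groth.Agent.S1008.result X
  refine (hgen Z hZ).2 fun n φ => ?_
  have hPn := PerfTri.Perfect.isPerfect_shift hG n
  -- the boundary map kills `φ`
  have h0 : φ ≫ δ = 0 := by
    have h1 : (φ ≫ δ) ≫ θ⟦(1 : ℤ)⟧' = 0 := by
      have := comp_distTriang_mor_zero₃₁ _ hT
      simp only [Triangle.mk_mor₁, Triangle.mk_mor₃] at this
      rw [Category.assoc]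
      exact (congrArg (φ ≫ ·) this).trans comp_zero
    let e := shiftFunctorCompIsoId (DCoh.D X) (-1 : ℤ) 1 (by omega)
    obtain ⟨ψ, hψ⟩ := (shiftFunctor (DCoh.D X) (1 : ℤ)).map_surjective
      (X := (G⟦n⟧)⟦(-1 : ℤ)⟧) (Y := A) ((e.app _).hom ≫ φ ≫ δ)
    have h2 : ψ ≫ θ = 0 := (shiftFunctor (DCoh.D X) (1 : ℤ)).map_injective (by
      rw [Functor.map_comp, hψ, Functor.map_zero, Category.assoc, h1, comp_zero])
    have h3 : ψ = 0 := (h _ (PerfTri.Perfect.isPerfect_shift hPn (-1))).1 (by simpa using h2)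
    rw [h3, Functor.map_zero] at hψ
    exact (cancel_epi (e.app _).hom).1 (hψ.symm.trans comp_zero.symm)
  obtain ⟨χ, hχ⟩ := Triangle.coyoneda_exact₃ _ hT φ h0
  obtain ⟨ξ, hξ⟩ := (h _ hPn).2 χ
  have := comp_distTriang_mor_zero₁₂ _ hT
  simp only [Triangle.mk_mor₁, Triangle.mk_mor₂] at this hχ hξ
  refine hχ.trans ((congrArg (· ≫ g) hξ.symm).trans ?_)
  exact (Category.assoc _ _ _).trans ((congrArg (ξ ≫ ·) this).trans comp_zero)

theorem bijective_of_finSum_cofan {D D' : Type*} [Category D] [Preadditive D] [Category D'] [Preadditive D']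
    {I : Type*} {K : D} {K' : D'} {M : I → D} {N : I → D'} {P : D} {Q : D'} {j : ∀ i, M i ⟶ P}
    {k : ∀ i, N i ⟶ Q} (e : ∀ i, (K ⟶ M i) ≃+ (K' ⟶ N i)) (E : (K ⟶ P) →+ (K' ⟶ Q))
    (w : ∀ i (t : K ⟶ M i), E (t ≫ j i) = e i t ≫ k i)
    (h : FinSum K j) (h' : FinSum K' k) : Function.Bijective E := by
  refine ⟨(injective_iff_map_eq_zero E).2 fun φ hφ => ?_, fun φ => ?_⟩
  · obtain ⟨S, t, rfl⟩ := h.1 φ
    simp only [map_sum, w] at hφ
    have := h'.2 S (fun i => e i (t i)) hφ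
    refine Finset.sum_eq_zero fun i hi => ?_
    rw [(e i).map_eq_zero_iff.1 (this i hi), zero_comp]
  · obtain ⟨S, t, rfl⟩ := h'.1 φ
    exact ⟨∑ i ∈ S, (e i).symm (t i) ≫ j i, by simp [map_sum, w]⟩

/-- a right adjoint of a functor on `D_QCoh` preserving perfect objects preserves sums -/
theorem preservesCoproducts_rightAdjoint [CompactSpace X] [QuasiSeparatedSpace X] [CompactSpace Y]
    [QuasiSeparatedSpace Y] (F : DCoh.DQCoh X ⥤ DCoh.DQCoh Y) [F.Additive]
    (hF : ∀ P : DCoh.DQCoh X, DCoh.IsPerfect P.obj → DCoh.IsPerfect (F.obj P).obj)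
    (a : DCoh.DQCoh Y ⥤ DCoh.DQCoh X) (adj : F ⊣ a) (J : Type u) :
    PreservesColimitsOfShape (Discrete J) a := by
  refine ⟨fun {K} => ?_⟩
  suffices h : PreservesColimit (Discrete.functor (K.obj ∘ Discrete.mk)) a from
    have := h
    preservesColimit_of_iso_diagram a (Discrete.natIsoFunctor (F := K)).symm
  generalize K.obj ∘ Discrete.mk = Q
  refine preservesColimit_of_preserves_colimit_cocone (coproductIsCoproduct Q) ?_
  let c : Cofan Q := Cofan.mk (∐ Q) (Sigma.ι Q)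
  have hc' := isColimitCofanMkObjOfIsColimit (DCoh.IsQCohD (X := Y)).ι Q _ (coproductIsCoproduct Q)
  refine (isColimitMapCoconeCofanMkEquiv a Q (Sigma.ι Q)).symm ?_
  let R : J → DCoh.DQCoh X := fun j => a.obj (Q j)
  let θ : ∐ R ⟶ a.obj (∐ Q) := Sigma.desc fun j => a.map (Sigma.ι Q j)
  have hd' := isColimitCofanMkObjOfIsColimit (DCoh.IsQCohD (X := X)).ι R _ (coproductIsCoproduct R)
  have : IsIso θ.hom := by
    refine isIso_of_bijective_perfect (∐ R).property (a.obj (∐ Q)).property θ.hom fun P hP => ?_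
    let P' : DCoh.DQCoh X := ⟨P, PerfExt.isQCohD_of_isPerfect hP⟩
    have h₁ : FinSum P fun j => (Sigma.ι R j).hom :=
      PerfExt.finSum_of_isPerfect hP _ (fun j => (R j).property) _ hd'
    have h₂ : FinSum (F.obj P').obj fun j => (Sigma.ι Q j).hom :=
      PerfExt.finSum_of_isPerfect (hF P' hP) _ (fun j => (Q j).property) _ hc'
    let e : ∀ A : DCoh.DQCoh Y, (P ⟶ (a.obj A).obj) ≃+ ((F.obj P').obj ⟶ A.obj) := fun A =>
      { toFun := fun φ => ((adj.homEquiv P' A).symm ⟨φ⟩).hom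
        invFun := fun ψ => ((adj.homEquiv P' A) ⟨ψ⟩).hom
        left_inv := fun φ => congrArg (fun x : P' ⟶ a.obj A => x.hom) ((adj.homEquiv P' A).apply_symm_apply ⟨φ⟩)
        right_inv := fun ψ => congrArg (fun x : F.obj P' ⟶ A => x.hom) ((adj.homEquiv P' A).symm_apply_apply ⟨ψ⟩)
        map_add' := fun φ ψ => by
          change ((adj.homEquiv P' A).symm (⟨φ⟩ + ⟨ψ⟩)).hom = _
          simp [Adjunction.homEquiv_symm_apply]
          rfl }
    let E : (P ⟶ (∐ R).obj) →+ ((F.obj P').obj ⟶ (∐ Q).obj) :=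
      { toFun := fun φ => e _ (φ ≫ θ.hom)
        map_zero' := by simp
        map_add' := fun φ ψ => by simp }
    have hE : Function.Bijective E := bijective_of_finSum_cofan (fun j => e (Q j)) E (fun j t => by
      change ((adj.homEquiv P' _).symm ⟨(t ≫ (Sigma.ι R j).hom) ≫ θ.hom⟩).hom = _
      have hw : (⟨(t ≫ (Sigma.ι R j).hom) ≫ θ.hom⟩ : P' ⟶ a.obj (∐ Q))
          = (⟨t⟩ : P' ⟶ R j) ≫ a.map (Sigma.ι Q j) := by
        have hι : Sigma.ι R j ≫ θ = a.map (Sigma.ι Q j) := Sigma.ι_desc _ _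
        exact ObjectProperty.hom_ext _ ((Category.assoc _ _ _).trans (congrArg (fun x : R j ⟶ a.obj (∐ Q) => t ≫ x.hom) hι))
      rw [hw, Adjunction.homEquiv_naturality_right_symm]
      rfl) h₁ h₂
    exact (e (∐ Q)).bijective.of_comp_iff' (fun φ : P ⟶ (∐ R).obj => φ ≫ θ.hom) |>.1 hE
  have : IsIso ((DCoh.IsQCohD (X := X)).ι.map θ) := this
  have := isIso_of_fully_faithful (DCoh.IsQCohD (X := X)).ι θ
  let t : Cofan R := Cofan.mk (a.obj (∐ Q)) fun j => a.map (Sigma.ι Q j)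
  have : IsIso ((coproductIsCoproduct R).desc t) := by
    have h0 : (coproductIsCoproduct R).desc t = θ := Cofan.IsColimit.hom_ext (coproductIsCoproduct R) _ _ fun j =>
      ((coproductIsCoproduct R).fac t ⟨j⟩).trans (Sigma.ι_desc (fun j => a.map (Sigma.ι Q j)) j).symm
    rw [h0]; infer_instance
  exact IsColimit.ofPointIso (coproductIsCoproduct R) (t := t)

end Groth.Agent.KFlat
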