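import Groth.Agent.KFlat.SheafDual
import Groth.Agent.KFlat.RightAdjoint
import Groth.Agent.KFlat.RPushBase
import Groth.Agent.PerfExt.Gen
import Groth.Agent.DRing.PointHom.DualNbhd
import Groth.Agent.CohDerLib.QC.PushQCoh

/-!
# The right adjoint of `Rf_*` preserves supports
-/

set_option autoImplicit false

universe u

open CategoryTheory CategoryTheory.Limits AlgebraicGeometry
open Groth.Agent.KFlat.Pull Groth.Agent.KFlat.LTensor Groth.Agent.KFlat.RPush
open Groth.Agent.PerfTri

attribute [local instance] HasDerivedCategory.standard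
attribute [-instance] CategoryTheory.ReflQuiver.toQuiver

noncomputable section

namespace Groth.Agent.KFlat.AdjSupport

variable {X Y : Scheme.{u}}

/-- the pullback of the structure sheaf -/
theorem nonempty_Lpull_one (f : X ⟶ Y) [DCoh.HasLpull f] :
    Nonempty ((DCoh.Lpull f).obj (DCoh.inD Y (Coh.structureModule Y)) ≅ DCoh.inD X (Coh.structureModule X)) := by
  let s := fun S : Scheme.{u} => (DerivedCategory.singleFunctorIsoCompQ S.Modules 0).app (Coh.structureModule S)
  exact ⟨(DCoh.Lpull f).mapIso (s Y) ≪≫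
    @asIso _ _ _ _ ((toPull f).app (UnitCx.oneCx Y)) (isIso_toPull f PerfectDual.isKFlat_one) ≪≫
    DerivedCategory.Q.mapIso ((HomologicalComplex.singleMapHomologicalComplex (Scheme.Modules.pullback f)
      (ComplexShape.up ℤ) 0).app (Coh.structureModule Y) ≪≫
      (HomologicalComplex.single _ _ 0).mapIso (Groth.Agent.QCoh.pullbackUnitIso f)) ≪≫ (s X).symm⟩

/-- `Q` supported off an affine open `V` has `a Q` supported off `f⁻¹ V`. -/
theorem isZero_restrict_rightAdjoint [CompactSpace X] [QuasiSeparatedSpace X] [CompactSpace Y]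
    [QuasiSeparatedSpace Y] (f : X ⟶ Y) [DCoh.HasRpush f] (hf : DCoh.RpushPreservesQCoh f)
    (a : DCoh.DQCoh Y ⥤ DCoh.DQCoh X) (adj : DCoh.RpushQ f hf ⊣ a)
    (hperf : ∀ P : DCoh.D X, DCoh.IsPerfect P → DCoh.IsPerfect ((DCoh.Rpush f).obj P))
    (V : Y.Opens) (hV : IsAffineOpen V) (Q : DCoh.DQCoh Y) (hQ : IsZero ((DCoh.restrictD V.ι).obj Q.obj)) :
    IsZero ((DCoh.restrictD (f ⁻¹ᵁ V).ι).obj (a.obj Q).obj) := by
  have : QuasiCompact f := AlgebraicGeometry.quasiCompact_of_compactSpace f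
  have : QuasiSeparated f := QuasiSeparated.of_quasiSeparatedSpace f
  let U := f ⁻¹ᵁ V
  have : IsAffine (V : Scheme.{u}) := hV
  have : CompactSpace (U : Scheme.{u}) := isCompact_iff_compactSpace.1 (f.isCompact_preimage hV.isCompact)
  have : QuasiCompact U.ι := AlgebraicGeometry.quasiCompact_of_compactSpace U.ι
  have := hasRpush U.ι
  have := hasRpush (f ∣_ V)
  have := hasLpull (f ∣_ V)
  obtain ⟨adjU⟩ := PerfExt.exists_adj (X := X) U.ι
  let K := (DCoh.restrictD U.ι).obj (a.obj Q).obj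
  have hKq : DCoh.IsQCohD K := PerfExt.isQCohD_restrict U.ι (a.obj Q).property
  -- no maps from restrictions of perfect objects
  have key : ∀ P : DCoh.D X, DCoh.IsPerfect P → ∀ ψ : (DCoh.restrictD U.ι).obj P ⟶ K, ψ = 0 := fun P hP ψ => by
    let F₀ := DerivedCategory.Q.objPreimage P
    let L := (resY X).obj F₀
    have hLf : DCoh.IsKFlat L := isKFlat_resY F₀
    have := quasiIso_resYπ F₀
    let eL : DCoh.toD X L ≅ P :=
      asIso (DerivedCategory.Q.map ((resYπ X).app F₀)) ≪≫ DerivedCategory.Q.objObjPreimageIso _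
    have := LTensor.hasLTensorCx L
    have := RHomExists.hasRSheafHom L
    obtain ⟨K', _, _, ⟨d⟩⟩ := SheafDual.exists_duality f hf a adj L (Perfect.isPerfect_of_iso eL.symm hP)
      (Perfect.isPerfect_of_iso ((DCoh.Rpush f).mapIso eL.symm) (hperf P hP))
    let L' := (DCoh.restrictCx U).obj L
    have := LTensor.hasLTensorCx L'
    have := RHomExists.hasRSheafHom L'
    have := LTensor.hasLTensorCx ((DCoh.restrictCx V).obj K')
    have := RHomExists.hasRSheafHom ((DCoh.restrictCx V).obj K')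
    have hz : IsZero ((DCoh.RSheafHom ((DCoh.restrictCx V).obj K')).obj ((DCoh.restrictD V.ι).obj Q.obj)) := by
      have := LTensorExact.additive_LTensorCx ((DCoh.restrictCx V).obj K')
      have := (DCoh.RSheafHomAdj ((DCoh.restrictCx V).obj K')).right_adjoint_additive
      exact Functor.map_isZero _ hQ
    let e : (DCoh.RSheafHom ((DCoh.restrictCx V).obj K')).obj ((DCoh.restrictD V.ι).obj Q.obj) ≅
        (DCoh.Rpush (f ∣_ V)).obj ((DCoh.RSheafHom L').obj K) :=
      ((ExtZeroTensorCx.restrictRHomIso V K').app Q.obj).symm ≪≫ (DCoh.restrictD V.ι).mapIso (d.app Q) ≪≫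
        (RPushBase.restrictRpushIso f V).app ((DCoh.RSheafHom L).obj (a.obj Q).obj) ≪≫
        (DCoh.Rpush (f ∣_ V)).mapIso ((ExtZeroTensorCx.restrictRHomIso U L).app (a.obj Q).obj)
    obtain ⟨u⟩ := nonempty_Lpull_one (f ∣_ V)
    have hzero : ∀ φ : DCoh.inD (U : Scheme.{u}) (Coh.structureModule (U : Scheme.{u})) ⟶
        (DCoh.RSheafHom L').obj K, φ = 0 := fun φ => by
      refine (cancel_epi u.hom).1 (((DerivedAdj.adj (f ∣_ V)).homEquiv _ _).injective ?_)
      exact (hz.of_iso e.symm).eq_of_tgt _ _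
    obtain ⟨w⟩ := DRing.PointHom.nonempty_LTensorCx_unit L' (LocalD.isKFlat_restrict hLf U)
    let r : DCoh.toD (U : Scheme.{u}) L' ≅ (DCoh.restrictD U.ι).obj P :=
      ((Scheme.Modules.restrictFunctor U.ι).mapDerivedCategoryFactors.app L).symm ≪≫
        (DCoh.restrictD U.ι).mapIso eL
    refine (cancel_epi (w.hom ≫ r.hom)).1 (((DCoh.RSheafHomAdj L').homEquiv _ _).injective ?_)
    exact (hzero _).trans (hzero _).symm
  have hR : DCoh.IsQCohD ((DCoh.Rpush U.ι).obj K) := CohDerLib.QC.isQCohD_Rpush U.ι K hKq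
  obtain ⟨G, hG, hgen⟩ := Groth.Agent.S1008.result X
  have hz : IsZero ((DCoh.Rpush U.ι).obj K) := (hgen _ hR).2 fun n φ =>
    (adjU.homEquiv _ _).symm.injective ((key _ (Perfect.isPerfect_shift hG n) _).trans
      (key _ (Perfect.isPerfect_shift hG n) _).symm)
  have := adjU.isIso_counit_of_iso (CohDerLib.Kosz.restrictRpushSelf U)
  have : IsIso (adjU.counit.app K) := inferInstanceAs (IsIso (adjU.counit.app K))
  exact ((DCoh.restrictD U.ι).map_isZero hz).of_iso (@asIso _ _ _ _ (adjU.counit.app K) this).symm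

end Groth.Agent.KFlat.AdjSupport
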