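import Groth.Agent.KFlat.RHomApprox
import Groth.Agent.KFlat.LTensorExact
import Groth.Agent.KFlat.PerfectCompact
import Groth.Agent.KFlat.PCNoeth

/-!
# `RHom` between bounded complexes with coherent cohomology
-/

set_option autoImplicit false

universe u

open CategoryTheory CategoryTheory.Limits AlgebraicGeometry Opposite
open CategoryTheory.Pretriangulated
open scoped ZeroObject
open Groth.Agent.KFlat Groth.Agent.KFlat.Pull Groth.Agent.SitePull

attribute [local instance] HasDerivedCategory.standard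

noncomputable section

namespace Groth.Agent.KFlat.RHomCoh

variable {X : Scheme.{u}}

/-- the `t`-structure -/
abbrev tX (X : Scheme.{u}) : CategoryTheory.Triangulated.TStructure (DCoh.D X) :=
  DerivedCategory.TStructure.t (C := X.Modules)

/-- Tensoring with a K-flat complex living in degrees `≥ c` raises lower bounds by `c`. -/
theorem isGE_LTensorCx (E : CochainComplex X.Modules ℤ) [DCoh.HasLTensorCx E] (hE : DCoh.IsKFlat E) (c : ℤ)
    (hv : ∀ q, q < c → IsZero (E.X q)) (M : DCoh.D X) (a : ℤ) (hM : M.IsGE a) :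
    ((DCoh.LTensorCx E).obj M).IsGE (a + c) := by
  obtain ⟨L, hL, ⟨eL⟩⟩ := DerivedCategory.exists_iso_Q_obj_of_isGE M a (hX := hM)
  have := LTensor.isIso_toTensor_of_kflat E hE L
  rw [DerivedCategory.isGE_iff]
  intro n hn
  refine IsZero.of_iso ?_ ((DerivedCategory.homologyFunctor _ n).mapIso
    ((DCoh.LTensorCx E).mapIso eL ≪≫ (@asIso _ _ _ _ ((LTensor.toTensor E).app L) this :)) ≪≫
      (DerivedCategory.homologyFunctorFactors _ n).app _)
  exact ShortComplex.isZero_homology_of_isZero_X₂ _ (PerfectCompact.isGE_tensor_local E L c (a + c) a hv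
    (fun p hp => L.isZero_of_isStrictlyGE a p hp) n hn le_rfl)

/-- Cohomology in low degrees of the tensor product only depends on a truncation. -/
theorem isIso_H_LTensor (E : CochainComplex X.Modules ℤ) [DCoh.HasLTensorCx E] (hE : DCoh.IsKFlat E) (c : ℤ)
    (hv : ∀ q, q < c → IsZero (E.X q)) (T : Triangle (DCoh.D X)) (hT : T ∈ distinguishedTriangles) (n : ℤ)
    (hn : T.obj₃.IsGE n) (i : ℤ) (hi : i < n + c) :
    IsIso ((DerivedCategory.homologyFunctor X.Modules i).map ((DCoh.LTensorCx E).map T.mor₁)) := by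
  let F := DCoh.LTensorCx E
  have hF := LTensorExact.midExact E hE
  refine RHomApprox.isIso_H_of_bijective _ i fun W => ?_
  let N := (DerivedCategory.singleFunctor X.Modules i).obj (freeU X.sheaf W)
  have hN : (tX X).IsLE N i := inferInstanceAs (N.IsLE i)
  have hzero : ∀ (M : DCoh.D X) (a : ℤ), M.IsGE a → i < a + c → ∀ z : N ⟶ F.obj M, z = 0 := fun M a hM ha z =>
    (tX X).zero_of_isLE_of_isGE z i (a + c) ha hN (isGE_LTensorCx E hE c hv M a hM)
  refine ⟨fun y y' h => sub_eq_zero.1 ?_, fun a => ?_⟩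
  · have hs : (y - y') ≫ F.map T.invRotate.mor₂ = 0 := by
      change (y - y') ≫ F.map T.mor₁ = 0
      rw [Preadditive.sub_comp, sub_eq_zero]
      exact h
    obtain ⟨b, hb⟩ := hF _ (inv_rot_of_distTriang _ hT) N (y - y') hs
    have : (tX X).IsGE (T.obj₃⟦(-1 : ℤ)⟧) (n + 1) := (tX X).isGE_shift T.obj₃ n (-1) (n + 1) (by omega)
    have hb0 : b = 0 := hzero _ (n + 1) this (by omega) b
    exact hb.symm.trans ((congrArg (· ≫ _) hb0).trans zero_comp)
  · exact hF _ hT N a (hzero _ n hn hi _)

/-- A strictly perfect complex tensored with coherent cohomology has coherent cohomology. -/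
theorem isCohD_LTensorCx [IsLocallyNoetherian X] (E : CochainComplex X.Modules ℤ) [DCoh.HasLTensorCx E]
    (hE : DCoh.IsStrictlyPerfect E) (G : DCoh.D X) (hG : DCoh.IsCohD G) :
    DCoh.IsCohD ((DCoh.LTensorCx E).obj G) := fun i => by
  obtain ⟨⟨c, d, hv⟩, hf⟩ := hE
  have hEK : DCoh.IsKFlat E := LocalD.isKFlat_of_isStrictlyPerfect ⟨⟨c, d, hv⟩, hf⟩
  obtain ⟨T₁, T₃, h₁, h₃, f, g, h, hT⟩ := (tX X).exists_triangle G (i - c) (i - c + 1) rfl
  let T := Triangle.mk f g h
  have h₃' : T₃.IsGE (i - c + 1) := ⟨h₃⟩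
  have h₁' : T₁.IsLE (i - c) := ⟨h₁⟩
  have hi := isIso_H_LTensor E hEK c (fun q hq => hv q (Or.inl hq)) T hT (i - c + 1) h₃' i (by omega)
  refine CohDev.isCoh_of_iso (@asIso _ _ _ _ _ hi) ?_
  have hc₁ : ∀ k, Coh.IsCoh (DCoh.HD T₁ k) := fun k => by
    by_cases hk : k ≤ i - c
    · have hz : ∀ l, l ≤ i - c → IsZero ((DerivedCategory.homologyFunctor X.Modules l).obj T.obj₃) :=
        fun l hl => DerivedCategory.isZero_of_isGE T₃ (i - c + 1) l (by omega)
      have : Epi ((DerivedCategory.homologyFunctor X.Modules k).map T.mor₁) :=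
        (DerivedCategory.HomologySequence.epi_homologyMap_mor₁_iff T hT k).2 ((hz k hk).eq_of_tgt _ _)
      have : Mono ((DerivedCategory.homologyFunctor X.Modules k).map T.mor₁) :=
        (DerivedCategory.HomologySequence.mono_homologyMap_mor₁_iff T hT (k - 1) k (by omega)).2
          ((hz (k - 1) (by omega)).eq_of_src _ _)
      have := isIso_of_mono_of_epi ((DerivedCategory.homologyFunctor X.Modules k).map T.mor₁)
      exact CohDev.isCoh_of_iso (asIso ((DerivedCategory.homologyFunctor X.Modules k).map T.mor₁)).symm (hG k)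
    · exact CohDev.isCoh_of_isZero (DerivedCategory.isZero_of_isLE T₁ (i - c) k (by omega))
  let F₀ := DerivedCategory.Q.objPreimage T₁
  let P := (resY X).obj F₀
  have := quasiIso_resYπ F₀
  let eP : DerivedCategory.Q.obj P ≅ T₁ :=
    asIso (DerivedCategory.Q.map ((resYπ X).app F₀)) ≪≫ DerivedCategory.Q.objObjPreimageIso T₁
  let eh : ∀ k, P.homology k ≅ DCoh.HD T₁ k := fun k =>
    ((DerivedCategory.homologyFunctorFactors X.Modules k).app P).symm ≪≫
      (DerivedCategory.homologyFunctor X.Modules k).mapIso eP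
  have hP : DCoh.IsKFlat P := isKFlat_resY F₀
  have := LTensor.isIso_toTensor E hP
  let e' : (pullCx (𝟙 X)).obj P ≅ P :=
    (NatIso.mapHomologicalComplex (Scheme.Modules.pullbackId X) (ComplexShape.up ℤ)).app P ≪≫
      HomologicalComplex.Hom.isoOfComponents (fun _ => Iso.refl _)
  refine CohDev.isCoh_of_iso ?_ (HTor95.CohModel.isCoh_homology_tensor_pull (𝟙 X) hP
    (fun k => CohDev.isCoh_of_iso (eh k).symm (hc₁ k)) (i - c)
    (fun k hk => (DerivedCategory.isZero_of_isLE T₁ (i - c) k hk).of_iso (eh k)) (G := E)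
    (fun k => PerfTri.Bounded.isCoh_homology E (fun q => PerfTri.Bounded.isCoh_of_isFinLocFree (hf q)) k) d
    (fun k hk => ShortComplex.isZero_homology_of_isZero_X₂ _ (hv k (Or.inr hk))) i)
  exact (HomologicalComplex.homologyFunctor _ _ i).mapIso ((DCoh.tensorCx.mapIso e').app E) ≪≫
    ((DerivedCategory.homologyFunctorFactors _ i).app _).symm ≪≫
    (DerivedCategory.homologyFunctor _ i).mapIso
      ((@asIso _ _ _ _ ((LTensor.toTensor E).app P) this).symm ≪≫ (DCoh.LTensorCx E).mapIso eP)

theorem isCohD_restrictD {U : Scheme.{u}} (j : U ⟶ X) [IsOpenImmersion j] {E : DCoh.D X}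
    (hE : DCoh.IsCohD E) : DCoh.IsCohD ((DCoh.restrictD j).obj E) := fun i =>
  CohDev.isCoh_of_iso (PCNoeth.hdRestrict j E i).symm (PCNoeth.isCoh_restrict j (hE i))

/-- `RHom(perfect, coherent)` has coherent cohomology. -/
theorem isCohD_RSheafHom [IsLocallyNoetherian X] (K : CochainComplex X.Modules ℤ) [DCoh.HasLTensorCx K]
    [DCoh.HasRSheafHom K] (hK : DCoh.IsPerfect (DCoh.toD X K)) (L : DCoh.D X) (hL : DCoh.IsCohD L) :
    DCoh.IsCohD ((DCoh.RSheafHom K).obj L) := fun i => by
  choose V hxV _ E E' P hLT hV e hiso using fun x : X => RHomLocal.exists_local K hK x ⊤ trivial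
  refine PerfTri.Bounded.isCoh_of_cover V (TopologicalSpace.IsOpenCover.mk
    (top_unique fun x _ => TopologicalSpace.Opens.mem_iSup.2 ⟨x, hxV x⟩)) _ fun x => ?_
  have := hLT x
  have := isLocallyNoetherian_of_isOpenImmersion (V x).ι
  obtain ⟨w⟩ := hiso x
  exact CohDev.isCoh_of_iso ((DerivedCategory.homologyFunctor _ i).mapIso (w.app L).symm ≪≫
      PCNoeth.hdRestrict (V x).ι ((DCoh.RSheafHom K).obj L) i)
    (isCohD_LTensorCx (E' x) (StrictDual.isStrictlyPerfect_right (P x)) _ (isCohD_restrictD _ hL) i)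

/-- An approximation of complexes from one in the derived category. -/
theorem exists_roof {V : Scheme.{u}} {E K : CochainComplex V.Modules ℤ}
    (α : DerivedCategory.Q.obj E ⟶ DerivedCategory.Q.obj K) (hE : DCoh.IsStrictlyPerfect E) (n : ℤ)
    (h₁ : ∀ k, n < k → IsIso ((DerivedCategory.homologyFunctor V.Modules k).map α))
    (h₂ : Epi ((DerivedCategory.homologyFunctor V.Modules n).map α)) :
    ∃ (Z : CochainComplex V.Modules ℤ) (g : Z ⟶ K), DCoh.IsPerfect (DCoh.toD V Z) ∧
      (∀ k, n < k → IsIso (HomologicalComplex.homologyMap g k)) ∧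
      Epi (HomologicalComplex.homologyMap g n) := by
  obtain ⟨Z, s, hs, g, hg⟩ := DerivedCategory.right_fac α
  have := hs
  let H := fun k => DerivedCategory.homologyFunctor V.Modules k
  have hgs : DerivedCategory.Q.map g = DerivedCategory.Q.map s ≫ α := by rw [hg]; simp
  refine ⟨Z, g, PerfTri.Perfect.isPerfect_of_iso (asIso (DerivedCategory.Q.map s)).symm
    (RHomApprox.isPerfect_toD hE), fun k hk => ?_, ?_⟩
  · have := h₁ k hk
    refine (NatIso.isIso_map_iff (DerivedCategory.homologyFunctorFactors V.Modules k) g).1 ?_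
    change IsIso ((H k).map (DerivedCategory.Q.map g))
    rw [hgs, Functor.map_comp]
    infer_instance
  · have : Epi ((H n).map (DerivedCategory.Q.map g)) := by
      rw [hgs, Functor.map_comp]
      exact epi_comp _ _
    let Φn := DerivedCategory.homologyFunctorFactors V.Modules n
    have e2 : HomologicalComplex.homologyMap g n = (Φn.app Z).inv ≫ (H n).map (DerivedCategory.Q.map g) ≫
        (Φn.app K).hom := (NatIso.naturality_1 Φn g).symm
    rw [e2]
    exact epi_comp' inferInstance (epi_comp' this inferInstance)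

/-- `RHom` out of a pseudo-coherent complex into a coherent one is coherent in low degrees. -/
theorem isCoh_HD_RSheafHom [IsLocallyNoetherian X] (K : CochainComplex X.Modules ℤ) (n : ℤ)
    (hK : DCoh.IsPseudoCoherentD n (DCoh.toD X K)) [DCoh.HasLTensorCx K] [DCoh.HasRSheafHom K]
    (G : DCoh.D X) (hG : DCoh.IsCohD G) (r : ℤ) [G.IsGE r] (j : ℤ) (hj : j + n < r) :
    Coh.IsCoh (DCoh.HD ((DCoh.RSheafHom K).obj G) j) := by
  choose V hxV hV using hK
  refine PerfTri.Bounded.isCoh_of_cover V (TopologicalSpace.IsOpenCover.mk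
    (top_unique fun x _ => TopologicalSpace.Opens.mem_iSup.2 ⟨x, hxV x⟩)) _ fun x => ?_
  obtain ⟨E, α, hE, h₁, h₂⟩ := hV x K ⟨Iso.refl _⟩
  let K' := (DCoh.restrictCx (V x)).obj K
  obtain ⟨Z, g, hZp, hn₁, hn₂⟩ := exists_roof α hE n h₁ h₂
  have := LTensor.hasLTensorCx K'
  have := LTensor.hasLTensorCx Z
  have := RHomExists.hasRSheafHom (E := K')
  have := RHomExists.hasRSheafHom (E := Z)
  have := isLocallyNoetherian_of_isOpenImmersion (V x).ι
  let G' := (DCoh.restrictD (V x).ι).obj G
  have : G'.IsGE r := (DerivedCategory.isGE_iff _ r).2 fun i hi =>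
    IsZero.of_iso ((Scheme.Modules.restrictFunctor (V x).ι).map_isZero (DerivedCategory.isZero_of_isGE G r i hi))
      ((MapHomology.iso (Scheme.Modules.restrictFunctor (V x).ι) i).app G)
  have := RHomApprox.isIso_H_rhomMap g j n r hj hn₁ hn₂ G'
  exact CohDev.isCoh_of_iso
    ((asIso ((DerivedCategory.homologyFunctor _ j).map ((RHomApprox.rhomMap g).app G'))).symm ≪≫
      (DerivedCategory.homologyFunctor _ j).mapIso ((ExtZeroTensorCx.restrictRHomIso (V x) K).app G).symm ≪≫
      PCNoeth.hdRestrict (V x).ι ((DCoh.RSheafHom K).obj G) j)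
    (isCohD_RSheafHom Z hZp G' (isCohD_restrictD _ hG) j)

/-- `RHom(K, L)` is `≥ a - b` for `K ≤ b` and `L ≥ a`. -/
theorem isGE_RSheafHom (K : CochainComplex X.Modules ℤ) (b : ℤ) [(DCoh.toD X K).IsLE b]
    [DCoh.HasLTensorCx K] [DCoh.HasRSheafHom K] (L : DCoh.D X) (a : ℤ) [L.IsGE a] :
    ((DCoh.RSheafHom K).obj L).IsGE (a - b) := by
  rw [DerivedCategory.isGE_iff]
  intro j hj
  let R := (DCoh.RSheafHom K).obj L
  let Z : DCoh.D X := DerivedCategory.Q.obj 0
  have hZ : IsZero Z := DerivedCategory.Q.map_isZero (isZero_zero _)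
  have : IsIso ((DerivedCategory.homologyFunctor X.Modules j).map (0 : Z ⟶ R)) := by
    refine RHomApprox.isIso_H_of_bijective _ j fun W => ⟨fun y y' _ => hZ.eq_of_tgt _ _, fun y => ⟨0, ?_⟩⟩
    let P := (HomologicalComplex.single X.Modules (ComplexShape.up ℤ) j).obj (freeU X.sheaf W)
    have hP : DCoh.IsKFlat P := isKFlat_single (O := X.sheaf) (tensorMono_freeU W) j
    obtain ⟨K', q, hq, hK'⟩ := RHomApprox.exists_truncLE K b fun i hi =>
      (DerivedCategory.isZero_of_isLE (DCoh.toD X K) b i hi).of_iso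
        ((DerivedCategory.homologyFunctorFactors X.Modules i).app K).symm
    have := LTensor.quasiIso_tensorCx_map_right _ hP q
    let P' := ((DCoh.tensorCx (X := X)).obj P).obj K
    have hle : (DerivedCategory.Q.obj P').IsLE (j + b) := RHomApprox.isLE_of_isZero_homology _ _ fun k hk =>
      ((HomologicalComplex.exactAt_iff_isZero_homology _ _).1
        (HomologicalComplex.ExactAt.of_isZero (RHomApprox.isZero_tot_single _ j b K' hK' k hk))).of_iso
        (asIso (HomologicalComplex.homologyMap (((DCoh.tensorCx (X := X)).obj P).map q) k)).symm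
    have := LTensor.isIso_toTensor K hP
    let σ : (DerivedCategory.singleFunctor X.Modules j).obj (freeU X.sheaf W) ≅ DerivedCategory.Q.obj P :=
      ((SingleFunctors.evaluation _ _ j).mapIso (DerivedCategory.singleFunctorsPostcompQIso X.Modules)).app _
    let aK := (DCoh.LTensorCx K).mapIso σ ≪≫ asIso ((LTensor.toTensor K).app P)
    have h0 : aK.inv ≫ ((DCoh.RSheafHomAdj K).homEquiv _ L).symm y = 0 :=
      (tX X).zero_of_isLE_of_isGE _ (j + b) a (by omega) hle inferInstance
    refine zero_comp.trans (Eq.symm ?_)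
    apply ((DCoh.RSheafHomAdj K).homEquiv _ L).symm.injective
    refine ((cancel_epi aK.inv).1 (h0.trans comp_zero.symm)).trans ?_
    refine ((Adjunction.homEquiv_counit (DCoh.RSheafHomAdj K) _ L 0).trans ?_).symm
    exact (congrArg (· ≫ _) (Functor.map_zero _ _ _)).trans zero_comp
  exact ((DerivedCategory.homologyFunctor X.Modules j).map_isZero hZ).of_iso
    (asIso ((DerivedCategory.homologyFunctor X.Modules j).map (0 : Z ⟶ R))).symm

end Groth.Agent.KFlat.RHomCoh
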