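import Groth.Agent.KFlat.AdjSupport
import Groth.Agent.KFlat.RHomCoh
import Groth.Agent.KFlat.PCNoeth
import Groth.Agent.CohDerLib.QC.CohPush
import Groth.Agent.PerfTri.Bounded
import Groth.Agent.S1001

/-!
# The right adjoint of `Rf_*` preserves supports of bounded below objects (proper, Noetherian)
-/

set_option autoImplicit false

universe u

open CategoryTheory CategoryTheory.Limits AlgebraicGeometry
open Groth.Agent.KFlat.Pull Groth.Agent.KFlat.LTensor Groth.Agent.KFlat.RPush Groth.Agent.KFlat.WeakKInj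
open Groth.Agent.PerfTri

attribute [local instance] HasDerivedCategory.standard
attribute [-instance] CategoryTheory.ReflQuiver.toQuiver

noncomputable section

namespace Groth.Agent.KFlat.AdjSupportPlus

variable {X Y : Scheme.{u}}

/-- `RHom` out of a pseudo-coherent complex into a bounded below object of `D_QCoh` is in `D_QCoh`. -/
theorem isQCohD_RSheafHom (K : CochainComplex X.Modules ℤ) [DCoh.HasLTensorCx K] [DCoh.HasRSheafHom K]
    (hK : ∀ n, DCoh.IsPseudoCoherentD n (DCoh.toD X K))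
    (G : DCoh.D X) (hG : DCoh.IsQCohD G) (r : ℤ) [G.IsGE r] : DCoh.IsQCohD ((DCoh.RSheafHom K).obj G) := fun j => by
  choose V hxV hV using hK (r - j - 1)
  have hres : ∀ x, ((DCoh.HD ((DCoh.RSheafHom K).obj G) j).restrict (V x).ι).IsQuasicoherent := fun x => by
    obtain ⟨E, α, hE, h₁, h₂⟩ := hV x K ⟨Iso.refl _⟩
    let K' := (DCoh.restrictCx (V x)).obj K
    obtain ⟨Z, g, hZp, hn₁, hn₂⟩ := RHomCoh.exists_roof α hE (r - j - 1) h₁ h₂
    have := LTensor.hasLTensorCx K'
    have := LTensor.hasLTensorCx Z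
    have := RHomExists.hasRSheafHom (E := K')
    have := RHomExists.hasRSheafHom (E := Z)
    let G' := (DCoh.restrictD (V x).ι).obj G
    have : G'.IsGE r := (DerivedCategory.isGE_iff _ r).2 fun i hi =>
      IsZero.of_iso ((Scheme.Modules.restrictFunctor (V x).ι).map_isZero (DerivedCategory.isZero_of_isGE G r i hi))
        ((MapHomology.iso (Scheme.Modules.restrictFunctor (V x).ι) i).app G)
    have := RHomApprox.isIso_H_rhomMap g j (r - j - 1) r (by omega) hn₁ hn₂ G'
    exact @Groth.Agent.QCoh.isQuasicoherent_of_iso _ _ _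
      ((asIso ((DerivedCategory.homologyFunctor _ j).map ((RHomApprox.rhomMap g).app G'))).symm ≪≫
        (DerivedCategory.homologyFunctor _ j).mapIso ((ExtZeroTensorCx.restrictRHomIso (V x) K).app G).symm ≪≫
        PCNoeth.hdRestrict (V x).ι ((DCoh.RSheafHom K).obj G) j)
      (RHomLocal.isQCohD_RSheafHom Z hZp G' (PerfExt.isQCohD_restrict (V x).ι hG) j)
  exact Groth.Agent.QCoh.isQuasicoherent_of_isOpenCover _ V
    (TopologicalSpace.IsOpenCover.mk (top_unique fun x _ => TopologicalSpace.Opens.mem_iSup.2 ⟨x, hxV x⟩))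

variable [IsNoetherian Y] (f : X ⟶ Y) [IsProper f] [DCoh.HasRpush f] (hf : DCoh.RpushPreservesQCoh f)
  (a : DCoh.DQCoh Y ⥤ DCoh.DQCoh X) (adj : DCoh.RpushQ f hf ⊣ a)

/-- direct images of perfect objects are pseudo-coherent -/
theorem pc_Rpush_perfect (P : DCoh.D X) (hP : DCoh.IsPerfect P) (m : ℤ) :
    DCoh.IsPseudoCoherentD m ((DCoh.Rpush f).obj P) := by
  have : IsLocallyNoetherian X := LocallyOfFiniteType.isLocallyNoetherian f
  have : CompactSpace X := QuasiCompact.compactSpace_of_compactSpace f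
  have : IsNoetherian X := {}
  obtain ⟨hcoh, a', b', _, _⟩ := PerfTri.Bounded.perfect_isCohD_bounded P hP
  obtain ⟨h1, -, b, hb⟩ := Groth.Agent.S1001.result f P a' b' hcoh
    (fun i => ⟨CohDev.isClosed_support (hcoh i), inferInstance⟩)
  exact PCNoeth.isPseudoCoherentD_of_isCohD _ h1 b m

include adj in
/-- Sheafified duality at a bounded below object. -/
theorem exists_iso (L : CochainComplex X.Modules ℤ) [DCoh.HasLTensorCx L] [DCoh.HasRSheafHom L]
    (hL : DCoh.IsPerfect (DCoh.toD X L)) (Q : DCoh.DQCoh Y) (c : ℤ) [Q.obj.IsGE c] :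
    ∃ (K : CochainComplex Y.Modules ℤ) (_ : DCoh.HasLTensorCx K) (_ : DCoh.HasRSheafHom K),
      Nonempty ((DCoh.RSheafHom K).obj Q.obj ≅ (DCoh.Rpush f).obj ((DCoh.RSheafHom L).obj (a.obj Q).obj)) := by
  have := hasLpull f
  let J := (injRes X).obj L
  let eJ : DerivedCategory.Q.obj J ≅ DerivedCategory.Q.obj L := injQIso.app L
  let K := ProjPerfect.fJ f J
  let eK : DerivedCategory.Q.obj K ≅ (DCoh.Rpush f).obj (DCoh.toD X L) :=
    @asIso _ _ _ _ ((toRpush f).app J) (isIso_toRpush f J) ≪≫ (DCoh.Rpush f).mapIso eJ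
  have := LTensor.hasLTensorCx K
  have := LTensor.hasLTensorCx J
  have := RHomExists.hasRSheafHom K
  have := RHomExists.hasRSheafHom J
  have hJp : DCoh.IsPerfect (DCoh.toD X J) := Perfect.isPerfect_of_iso eJ.symm hL
  have hKpc : ∀ m, DCoh.IsPseudoCoherentD m (DCoh.toD Y K) := fun m =>
    PCohD.pc_of_iso eK.symm (pc_Rpush_perfect f _ hL m)
  have hJq : DCoh.IsQCohD (DerivedCategory.Q.obj J) := PerfExt.isQCohD_of_isPerfect hJp
  obtain ⟨p⟩ := SheafDual.nonempty_projIso f J hJq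
  let R₁ : DCoh.DQCoh Y := ⟨(DCoh.RSheafHom K).obj Q.obj, isQCohD_RSheafHom K hKpc Q.obj Q.property c⟩
  let adj' := (SheafDual.pullAdjQ f hf).comp ((SheafDual.adjQ J hJq hJp).comp adj)
  let R₂ := ((a ⋙ SheafDual.homQ J hJp) ⋙ DCoh.RpushQ f hf).obj Q
  let F := SheafDual.pullQ f ⋙ SheafDual.tensQ J hJq ⋙ DCoh.RpushQ f hf
  let e : ∀ M : DCoh.DQCoh Y, (M ⟶ R₁) ≃ (M ⟶ R₂) := fun M =>
    Equiv.trans
      { toFun := fun φ => (⟨(p.app M).inv ≫ ((DCoh.RSheafHomAdj K).homEquiv M.obj Q.obj).symm φ.hom⟩ : F.obj M ⟶ Q)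
        invFun := fun ψ => ⟨(DCoh.RSheafHomAdj K).homEquiv M.obj Q.obj ((p.app M).hom ≫ ψ.hom)⟩
        left_inv := fun φ => ObjectProperty.hom_ext _
          ((congrArg _ (Iso.hom_inv_id_assoc (p.app M) _)).trans (Equiv.apply_symm_apply _ _))
        right_inv := fun ψ => ObjectProperty.hom_ext _
          ((congrArg (fun x => (p.app M).inv ≫ x) (Equiv.symm_apply_apply _ _)).trans (Iso.inv_hom_id_assoc (p.app M) _)) }
      (adj'.homEquiv M Q)
  have hnat : ∀ {M M' : DCoh.DQCoh Y} (g : M ⟶ M') (φ : M' ⟶ R₁), e M (g ≫ φ) = g ≫ e M' φ := fun {M M'} g φ => by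
    change adj'.homEquiv M Q _ = g ≫ adj'.homEquiv M' Q _
    rw [← adj'.homEquiv_naturality_left]
    refine congrArg _ (ObjectProperty.hom_ext _ ?_)
    change (p.app M).inv ≫ ((DCoh.RSheafHomAdj K).homEquiv M.obj Q.obj).symm (g.hom ≫ φ.hom) =
      (F.map g).hom ≫ (p.app M').inv ≫ ((DCoh.RSheafHomAdj K).homEquiv M'.obj Q.obj).symm φ.hom
    rw [Adjunction.homEquiv_naturality_left_symm, ← Category.assoc, ← Category.assoc]
    exact congrArg (· ≫ _) (p.inv.naturality g).symm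
  let iso : R₁ ≅ R₂ :=
    (Yoneda.fullyFaithful).preimageIso (NatIso.ofComponents (fun M => (e M.unop).toIso)
      (fun {M M'} g => by
        ext φ
        exact hnat g.unop φ))
  obtain ⟨cL⟩ := StrictDual.nonempty_ltCongr eJ
  let e₃ : DCoh.RSheafHom J ≅ DCoh.RSheafHom L :=
    ((DCoh.RSheafHomAdj J).ofNatIsoLeft cL).rightAdjointUniq (DCoh.RSheafHomAdj L)
  exact ⟨K, inferInstance, inferInstance,
    ⟨(DCoh.IsQCohD (X := Y)).ι.mapIso iso ≪≫ (DCoh.Rpush f).mapIso (e₃.app _)⟩⟩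

include adj in
/-- Supports. -/
theorem isZero_restrict_rightAdjoint (V : Y.Opens) (hV : IsAffineOpen V) (Q : DCoh.DQCoh Y) (c : ℤ) [Q.obj.IsGE c]
    (hQ : IsZero ((DCoh.restrictD V.ι).obj Q.obj)) :
    IsZero ((DCoh.restrictD (f ⁻¹ᵁ V).ι).obj (a.obj Q).obj) := by
  have : CompactSpace X := QuasiCompact.compactSpace_of_compactSpace f
  have : QuasiSeparatedSpace X := AlgebraicGeometry.quasiSeparatedSpace_of_quasiSeparated f
  let U := f ⁻¹ᵁ V
  have : IsAffine (V : Scheme.{u}) := hV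
  have : CompactSpace (U : Scheme.{u}) := isCompact_iff_compactSpace.1 (f.isCompact_preimage hV.isCompact)
  have : QuasiCompact U.ι := AlgebraicGeometry.quasiCompact_of_compactSpace U.ι
  have := hasRpush U.ι
  have := hasRpush (f ∣_ V)
  have := hasLpull (f ∣_ V)
  obtain ⟨adjU⟩ := PerfExt.exists_adj (X := X) U.ι
  let K := (DCoh.restrictD U.ι).obj (a.obj Q).obj
  have hKq : DCoh.IsQCohD K := PerfExt.isQCohD_restrict U.ι (a.obj Q).property
  have key : ∀ P : DCoh.D X, DCoh.IsPerfect P → ∀ ψ : (DCoh.restrictD U.ι).obj P ⟶ K, ψ = 0 := fun P hP ψ => by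
    let F₀ := DerivedCategory.Q.objPreimage P
    let L := (resY X).obj F₀
    have hLf : DCoh.IsKFlat L := isKFlat_resY F₀
    have := quasiIso_resYπ F₀
    let eL : DCoh.toD X L ≅ P :=
      asIso (DerivedCategory.Q.map ((resYπ X).app F₀)) ≪≫ DerivedCategory.Q.objObjPreimageIso _
    have := LTensor.hasLTensorCx L
    have := RHomExists.hasRSheafHom L
    obtain ⟨K', _, _, ⟨d⟩⟩ := exists_iso f hf a adj L (Perfect.isPerfect_of_iso eL.symm hP) Q c
    let L' := (DCoh.restrictCx U).obj L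
    have := LTensor.hasLTensorCx L'
    have := RHomExists.hasRSheafHom L'
    have := LTensor.hasLTensorCx ((DCoh.restrictCx V).obj K')
    have := RHomExists.hasRSheafHom ((DCoh.restrictCx V).obj K')
    have hz : IsZero ((DCoh.RSheafHom ((DCoh.restrictCx V).obj K')).obj ((DCoh.restrictD V.ι).obj Q.obj)) := by
      have := LTensorExact.additive_LTensorCx ((DCoh.restrictCx V).obj K')
      have := (DCoh.RSheafHomAdj ((DCoh.restrictCx V).obj K')).right_adjoint_additive
      exact Functor.map_isZero _ hQ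
    let e : (DCoh.RSheafHom ((DCoh.restrictCx V).obj K')).obj ((DCoh.restrictD V.ι).obj Q.obj) ≅
        (DCoh.Rpush (f ∣_ V)).obj ((DCoh.RSheafHom L').obj K) :=
      ((ExtZeroTensorCx.restrictRHomIso V K').app Q.obj).symm ≪≫ (DCoh.restrictD V.ι).mapIso d ≪≫
        (RPushBase.restrictRpushIso f V).app ((DCoh.RSheafHom L).obj (a.obj Q).obj) ≪≫
        (DCoh.Rpush (f ∣_ V)).mapIso ((ExtZeroTensorCx.restrictRHomIso U L).app (a.obj Q).obj)
    obtain ⟨u⟩ := AdjSupport.nonempty_Lpull_one (f ∣_ V)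
    have hzero : ∀ φ : DCoh.inD (U : Scheme.{u}) (Coh.structureModule (U : Scheme.{u})) ⟶
        (DCoh.RSheafHom L').obj K, φ = 0 := fun φ => by
      refine (cancel_epi u.hom).1 (((DerivedAdj.adj (f ∣_ V)).homEquiv _ _).injective ?_)
      exact (hz.of_iso e.symm).eq_of_tgt _ _
    obtain ⟨w⟩ := DRing.PointHom.nonempty_LTensorCx_unit L' (LocalD.isKFlat_restrict hLf U)
    let r : DCoh.toD (U : Scheme.{u}) L' ≅ (DCoh.restrictD U.ι).obj P :=
      ((Scheme.Modules.restrictFunctor U.ι).mapDerivedCategoryFactors.app L).symm ≪≫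
        (DCoh.restrictD U.ι).mapIso eL
    refine (cancel_epi (w.hom ≫ r.hom)).1 (((DCoh.RSheafHomAdj L').homEquiv _ _).injective ?_)
    exact (hzero _).trans (hzero _).symm
  have hR : DCoh.IsQCohD ((DCoh.Rpush U.ι).obj K) := CohDerLib.QC.isQCohD_Rpush U.ι K hKq
  obtain ⟨G, hG, hgen⟩ := Groth.Agent.S1008.result X
  have hz : IsZero ((DCoh.Rpush U.ι).obj K) := (hgen _ hR).2 fun n φ =>
    (adjU.homEquiv _ _).symm.injective ((key _ (Perfect.isPerfect_shift hG n) _).trans
      (key _ (Perfect.isPerfect_shift hG n) _).symm)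
  have := adjU.isIso_counit_of_iso (CohDerLib.Kosz.restrictRpushSelf U)
  have : IsIso (adjU.counit.app K) := inferInstanceAs (IsIso (adjU.counit.app K))
  exact ((DCoh.restrictD U.ι).map_isZero hz).of_iso (@asIso _ _ _ _ (adjU.counit.app K) this).symm

end Groth.Agent.KFlat.AdjSupportPlus
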