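import Groth.Agent.KFlat.LTensorExact
import Groth.Agent.KFlat.Lpull
import Mathlib.CategoryTheory.Adjunction.Additive

/-!
# Exactness in the middle of derived functors given by K-flat resolutions
-/

set_option autoImplicit false

universe u

open CategoryTheory CategoryTheory.Limits AlgebraicGeometry CategoryTheory.Pretriangulated
open Groth.Agent.KFlat.Pull Groth.Agent.KFlat.LTensor Groth.Agent.KFlat.NatTransClosed

attribute [local instance] HasDerivedCategory.standard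

namespace Groth.Agent.KFlat.ExactComp

/-- Right adjoints preserve exactness in the middle. -/
theorem midExact_comp_right {C C' C'' : Type*} [Category C] [Preadditive C] [HasZeroObject C] [HasShift C ℤ]
    [∀ n : ℤ, (shiftFunctor C n).Additive] [Pretriangulated C] [Category C'] [Preadditive C'] [Category C'']
    [Preadditive C''] {F : C ⥤ C'} (hF : MidExact F) {L : C'' ⥤ C'} {R : C' ⥤ C''} (adj : L ⊣ R)
    [R.Additive] : MidExact (F ⋙ R) := fun T hT N a ha => by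
  have := adj.left_adjoint_additive
  have h : (adj.homEquiv N _).symm a ≫ F.map T.mor₂ = 0 := by
    rw [← adj.homEquiv_naturality_right_symm]
    erw [ha]
    rw [Adjunction.homEquiv_counit, Functor.map_zero, zero_comp]
  obtain ⟨b, hb⟩ := hF T hT _ _ h
  exact ⟨adj.homEquiv _ _ b, by
    change _ ≫ R.map (F.map T.mor₁) = a
    rw [← adj.homEquiv_naturality_right, hb, Equiv.apply_symm_apply]⟩

variable {Y Z : Scheme.{u}} {F : DCoh.D Y ⥤ DCoh.D Z} {G : CochainComplex Y.Modules ℤ ⥤ CochainComplex Z.Modules ℤ}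
  (t : DerivedCategory.Q ⋙ F ⟶ G ⋙ DerivedCategory.Q)

/-- Exactness transported along isomorphisms. -/
theorem exact_of_iso {S : ShortComplex (CochainComplex Z.Modules ℤ)} (hS : S.ShortExact)
    {A₁ A₂ A₃ T₁ T₂ T₃ : DCoh.D Y} {f : A₁ ⟶ A₂} {g : A₂ ⟶ A₃} {f' : T₁ ⟶ T₂} {g' : T₂ ⟶ T₃}
    (t₁ : F.obj A₁ ⟶ DerivedCategory.Q.obj S.X₁) (t₂ : F.obj A₂ ⟶ DerivedCategory.Q.obj S.X₂)
    (t₃ : F.obj A₃ ⟶ DerivedCategory.Q.obj S.X₃) [IsIso t₁] [IsIso t₂]
    (hf : F.map f ≫ t₂ = t₁ ≫ DerivedCategory.Q.map S.f)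
    (hg : F.map g ≫ t₃ = t₂ ≫ DerivedCategory.Q.map S.g)
    (i₁ : A₁ ≅ T₁) (i₂ : A₂ ≅ T₂) (i₃ : A₃ ≅ T₃) (e₁ : f ≫ i₂.hom = i₁.hom ≫ f')
    (e₂ : g ≫ i₃.hom = i₂.hom ≫ g') {N : DCoh.D Z} (a : N ⟶ F.obj T₂) (ha : a ≫ F.map g' = 0) :
    ∃ b : N ⟶ F.obj T₁, b ≫ F.map f' = a := by
  let a'' : N ⟶ DerivedCategory.Q.obj S.X₂ := (a ≫ F.map i₂.inv) ≫ t₂
  have hg' : i₂.inv ≫ g = g' ≫ i₃.inv := by rw [Iso.inv_comp_eq, ← Category.assoc, Iso.eq_comp_inv, e₂]
  have h2 : a'' ≫ DerivedCategory.Q.map S.g = 0 := by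
    simp only [a'', Category.assoc]
    rw [← hg, ← Category.assoc (F.map i₂.inv), ← F.map_comp, hg', F.map_comp, Category.assoc,
      ← Category.assoc a, ha, zero_comp]
  obtain ⟨b, hb⟩ := Triangle.coyoneda_exact₂ _ (DerivedCategory.triangleOfSES_distinguished hS) a'' h2
  obtain ⟨u₁, hu₁, hu₁'⟩ : IsIso t₁ := ‹_›
  obtain ⟨u₂, hu₂, hu₂'⟩ : IsIso t₂ := ‹_›
  let b₀ : N ⟶ DerivedCategory.Q.obj S.X₁ := b
  refine ⟨(b₀ ≫ u₁) ≫ F.map i₁.hom, ?_⟩
  have hb₀ : b₀ ≫ DerivedCategory.Q.map S.f = a'' := hb.symm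
  have hn : u₁ ≫ F.map f = DerivedCategory.Q.map S.f ≫ u₂ := by
    calc u₁ ≫ F.map f = u₁ ≫ F.map f ≫ t₂ ≫ u₂ := by rw [hu₂, Category.comp_id]
      _ = u₁ ≫ (t₁ ≫ DerivedCategory.Q.map S.f) ≫ u₂ := by rw [← Category.assoc (F.map f), hf]
      _ = DerivedCategory.Q.map S.f ≫ u₂ := by rw [Category.assoc, ← Category.assoc u₁, hu₁', Category.id_comp]
  have he : F.map i₁.hom ≫ F.map f' = F.map f ≫ F.map i₂.hom := by
    rw [← F.map_comp, ← e₁, F.map_comp]
  calc ((b₀ ≫ u₁) ≫ F.map i₁.hom) ≫ F.map f' = b₀ ≫ (u₁ ≫ F.map f) ≫ F.map i₂.hom := by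
        simp only [Category.assoc, he]
    _ = (a'' ≫ u₂) ≫ F.map i₂.hom := by rw [hn, ← hb₀]; simp only [Category.assoc]
    _ = a := by
        simp only [a'', Category.assoc]
        rw [← Category.assoc t₂, hu₂, Category.id_comp, ← F.map_comp, Iso.inv_hom_id, F.map_id, Category.comp_id]

set_option maxHeartbeats 800000 in
/-- A functor computed by K-flat complexes through a functor preserving degreewise split sequences. -/
theorem midExact_of_model (ht : ∀ P, DCoh.IsKFlat P → IsIso (t.app P))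
    [G.PreservesZeroMorphisms]
    (hG : ∀ S : ShortComplex (CochainComplex Y.Modules ℤ),
      (∀ q, (S.map (HomologicalComplex.eval Y.Modules (ComplexShape.up ℤ) q)).Splitting) →
        (S.map G).ShortExact) : MidExact F := by
  intro T hT N a ha
  obtain ⟨P, P', r, ⟨w⟩⟩ := TorTriangle.exists_kflat_cone _ (inv_rot_of_distTriang _ hT)
  let C := CochainComplex.mappingCone r
  let S := (CochainComplex.mappingCone.triangleRotateShortComplex r).map G
  have hS : S.ShortExact := hG _ (CochainComplex.mappingCone.triangleRotateShortComplexSplitting r)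
  let m₃ : C ⟶ P.1⟦(1 : ℤ)⟧ := (CochainComplex.mappingCone.triangle r).mor₃
  let i₁ : DerivedCategory.Q.obj P.1 ≅ T.obj₃⟦(-1 : ℤ)⟧ := Triangle.π₁.mapIso w
  let i₂ : DerivedCategory.Q.obj P'.1 ≅ T.obj₁ := Triangle.π₂.mapIso w
  let i₃ : DerivedCategory.Q.obj C ≅ T.obj₂ := Triangle.π₃.mapIso w
  let k : DerivedCategory.Q.obj (P.1⟦(1 : ℤ)⟧) ≅ T.obj₃ :=
    (DerivedCategory.Q.commShiftIso (1 : ℤ)).app P.1 ≪≫ (shiftFunctor (DCoh.D Y) (1 : ℤ)).mapIso i₁ ≪≫
      (shiftEquiv (DCoh.D Y) (1 : ℤ)).counitIso.app T.obj₃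
  have e₂ : DerivedCategory.Q.map (CochainComplex.mappingCone.inr r) ≫ i₃.hom = i₂.hom ≫ T.mor₁ :=
    w.hom.comm₂
  have e₃ : DerivedCategory.Q.map m₃ ≫ k.hom = i₃.hom ≫ T.mor₂ := by
    have h : (DerivedCategory.Q.map m₃ ≫ ((DerivedCategory.Q.commShiftIso (1 : ℤ)).app P.1).hom) ≫
        i₁.hom⟦(1 : ℤ)⟧' = i₃.hom ≫ T.mor₂ ≫ (shiftEquiv (DCoh.D Y) (1 : ℤ)).counitIso.inv.app T.obj₃ :=
      w.hom.comm₃
    simp only [k, Iso.trans_hom, Iso.app_hom]
    refine (Category.assoc _ _ _).symm.trans ((Category.assoc _ _ _).symm.trans ?_)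
    exact (congrArg (· ≫ _) h).trans
      (LTensorExact.cancel_aux i₃.hom T.mor₂ ((shiftEquiv (DCoh.D Y) (1 : ℤ)).counitIso.app T.obj₃))
  let t₁ : F.obj (DerivedCategory.Q.obj P'.1) ⟶ DerivedCategory.Q.obj S.X₁ := t.app P'.1
  let t₂ : F.obj (DerivedCategory.Q.obj C) ⟶ DerivedCategory.Q.obj S.X₂ := t.app C
  let t₃ : F.obj (DerivedCategory.Q.obj (P.1⟦(1 : ℤ)⟧)) ⟶ DerivedCategory.Q.obj S.X₃ := t.app (P.1⟦(1 : ℤ)⟧)
  have hf : F.map (DerivedCategory.Q.map (CochainComplex.mappingCone.inr r)) ≫ t₂ =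
      t₁ ≫ DerivedCategory.Q.map S.f := t.naturality _
  have hg : F.map (DerivedCategory.Q.map m₃) ≫ t₃ = t₂ ≫ DerivedCategory.Q.map S.g := t.naturality m₃
  have : IsIso t₁ := ht _ P'.2
  have : IsIso t₂ := ht C (Groth.Agent.KFlat.isKFlat_mappingCone (O := Y.sheaf) r P.2 P'.2)
  exact exact_of_iso (f := DerivedCategory.Q.map (CochainComplex.mappingCone.inr r))
    (g := DerivedCategory.Q.map m₃) (f' := T.mor₁) (g' := T.mor₂) hS t₁ t₂ t₃ hf hg i₂ i₃ k e₂ e₃ a ha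

/-- `- ⊗ᴸ D` is exact in the middle. -/
theorem midExact_LT (D : CochainComplex Y.Modules ℤ) [DCoh.HasLTensorCx D] : MidExact (DCoh.LTensorCx D) :=
  midExact_of_model (G := (DCoh.tensorCx (X := Y)).flip.obj D) (toTensor D) (fun _ hP => isIso_toTensor D hP)
    fun _ spl => Groth.Agent.KFlat.shortExact_tens_flip (O := Y.sheaf) spl D

variable {X : Scheme.{u}} (f : X ⟶ Y) [DCoh.HasLpull f]

/-- `Lf^*` followed by `- ⊗ᴸ D` is exact in the middle. -/
theorem midExact_Lpull_LT (D : CochainComplex X.Modules ℤ) [DCoh.HasLTensorCx D] :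
    MidExact (DCoh.Lpull f ⋙ DCoh.LTensorCx D) :=
  have : (Scheme.Modules.pullback f).Additive := inferInstance
  have : (pullCx f).Additive := inferInstanceAs ((Scheme.Modules.pullback f).mapHomologicalComplex (ComplexShape.up ℤ)).Additive
  have hz : (pullCx f).PreservesZeroMorphisms := inferInstance
  midExact_of_model (G := pullCx f ⋙ (DCoh.tensorCx (X := X)).flip.obj D)
    ((Functor.associator _ _ _).inv ≫ Functor.whiskerRight (toPull f) _ ≫ (Functor.associator _ _ _).hom ≫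
      Functor.whiskerLeft (pullCx f) (toTensor D) ≫ (Functor.associator _ _ _).inv)
    (fun P hP => by
      have := isIso_toPull f hP
      have := isIso_toTensor D (isKFlat_pullCx f hP)
      simp only [NatTrans.comp_app, Functor.associator_inv_app, Functor.associator_hom_app,
        Functor.whiskerRight_app, Functor.whiskerLeft_app, Category.id_comp, Category.comp_id]
      infer_instance)
    fun S spl => Groth.Agent.KFlat.shortExact_tens_flip (O := X.sheaf) (S := @ShortComplex.map _ _ _ _ _ _ S (pullCx f) hz)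
      (fun q => (spl q).map (Scheme.Modules.pullback f)) D

end Groth.Agent.KFlat.ExactComp
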