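import Groth.Agent.KFlat.Pull
import Groth.Agent.DRing.KFlatRes
import Groth.Agent.KFlat.Shift

/-!
# Inverse images of acyclic K-flat complexes are acyclic
-/

set_option autoImplicit false

universe u

open CategoryTheory CategoryTheory.Limits MonoidalCategory AlgebraicGeometry

namespace Groth.Agent.KFlat.Pull

theorem acyclic_tensor_of_kflat {R : Type u} [CommRing R] {P : DRing.Cx R}
    (hP : DRing.IsKFlat R P) (hac : ∀ i, IsZero (P.homology i)) (L : DRing.Cx R) (i : ℤ) :
    IsZero ((L ⊗ P).homology i) := by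
  let ρ := Groth.Agent.DRing.KProjRes.resπ L
  have : QuasiIso (ρ ▷ P) := Groth.Agent.DRing.KFlat.quasiIso_whiskerRight hP ρ
  have h : IsZero ((Groth.Agent.DRing.KProjRes.res L ⊗ P).homology i) :=
    (Groth.Agent.DRing.KFlat.isKFlat_res (K := L)) |> fun hR => hR.isZero_homology_left hac i
  exact IsZero.of_iso h (isoOfQuasiIsoAt (ρ ▷ P) i).symm

theorem acyclic_extCx {A B : Type u} [CommRing A] [CommRing B] (φ : A →+* B) {K : DRing.Cx A}
    (hK : DRing.IsKFlat A K) (hac : ∀ i, IsZero (K.homology i)) (i : ℤ) :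
    IsZero (((BaseChange.extCx φ).obj K).homology i) := by
  have : (ModuleCat.restrictScalars.{u} φ).PreservesHomology := Functor.preservesHomologyOfExact _
  refine BaseChange.isZero_of_restrictScalars φ ?_
  let L : DRing.Cx B := HomologicalComplex.tensorUnit (ModuleCat.{u} B) (ComplexShape.up ℤ)
  exact IsZero.of_iso (acyclic_tensor_of_kflat hK hac ((BaseChange.resCx φ).obj L) i)
    (((((BaseChange.extCx φ).obj K)).sc i).mapHomologyIso (ModuleCat.restrictScalars φ) |>.symm.trans
      ((HomologicalComplex.homologyFunctor _ _ i).mapIso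
        ((BaseChange.resCx φ).mapIso (λ_ ((BaseChange.extCx φ).obj K)).symm ≪≫ BaseChange.projCxIso φ L K)))

variable {X Y : Scheme.{u}} (f : X ⟶ Y)

theorem isZero_homology_pullCx {K : CochainComplex Y.Modules ℤ} (hK : DCoh.IsKFlat K)
    (hac : ∀ i, IsZero (K.homology i)) (i : ℤ) : IsZero (((pullCx f).obj K).homology i) :=
  (StalkCx.acyclic_iff_stalk _).2 (fun y j => IsZero.of_iso
    (acyclic_extCx _ ((StalkCx.isKFlat_iff_stalk K).1 hK (f.base y))
      ((StalkCx.acyclic_iff_stalk K).1 hac (f.base y)) j)
    ((HomologicalComplex.homologyFunctor _ _ j).mapIso (stPullIso f y K))) i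

/-- Inverse image preserves quasi-isomorphisms between K-flat complexes. -/
theorem quasiIso_pullCx {K K' : CochainComplex Y.Modules ℤ} (s : K ⟶ K') [QuasiIso s]
    (hK : DCoh.IsKFlat K) (hK' : DCoh.IsKFlat K') : QuasiIso ((pullCx f).map s) := by
  let S := CochainComplex.mappingCone.triangleRotateShortComplex s
  have hcone : DCoh.IsKFlat (CochainComplex.mappingCone s) := isKFlat_mappingCone (O := Y.sheaf) s hK hK'
  have hz : ∀ i, IsZero (((pullCx f).obj (CochainComplex.mappingCone s)).homology i) :=
    isZero_homology_pullCx f hcone ((acyclic_iff_isZero _).1 (acyclic_mappingCone_of_quasiIso s))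
  have hz' : (CochainComplex.mappingCone ((pullCx f).map s)).Acyclic :=
    (acyclic_iff_isZero _).2 fun i => IsZero.of_iso (hz i)
      ((HomologicalComplex.homologyFunctor _ _ i).mapIso
        (CochainComplex.mappingCone.mapHomologicalComplexIso s (Scheme.Modules.pullback f))).symm
  exact quasiIso_of_acyclic_mappingCone _ hz'

end Groth.Agent.KFlat.Pull
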