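import Groth.Agent.KFlat.SchemeTor
import Groth.Agent.KFlat.LTensor
import Groth.Agent.KFlat.PullAcyclic
import Groth.Agent.DRing.SingleTensor
import Groth.Agent.KFlat.Lpull
import Groth.Agent.KFlat.LpullComp
import Groth.Agent.KFlat.PullTensor
import Groth.Agent.KFlat.LocalD
import Groth.Prelude.Def_DerSch

/-!
# Tensor products with inverse images, for complexes of finite tor amplitude over the base
-/

set_option autoImplicit false

universe u

open CategoryTheory CategoryTheory.Limits MonoidalCategory AlgebraicGeometry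
open Groth.Agent.KFlat.Pull

attribute [local instance] HasDerivedCategory.standard

noncomputable section

namespace Groth.Agent.KFlat.RelTor

section Ring

variable {A : Type u} [CommRing A]

/-- Tensoring with a flat resolution of a module vanishes outside the tor amplitude. -/
theorem isZero_homology_tensor_res {K P : DRing.Cx A} {a b : ℤ}
    (hK : DRing.HasTorAmplitudeIn A a b (DRing.toD K)) (hP : Groth.Agent.DRing.KFlat.IsKFlat P)
    (N : ModuleCat.{u} A) (q : P ⟶ Groth.Agent.DRing.SingleTensor.S0 N) [QuasiIso q]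
    (i : ℤ) (hi : i < a ∨ b < i) : IsZero ((K ⊗ P).homology i) := by
  obtain ⟨G, hv, hflat, ⟨e⟩⟩ := hK
  have hG := Groth.Agent.DRing.TorAmp.isKFlat_of_flat hv hflat
  obtain ⟨R, π, hR, -, hq, -⟩ := Groth.Agent.DRing.KProjRes.exists_resolution K
  obtain ⟨g, hg⟩ := Groth.Agent.DRing.DBasic.exists_Q_map_eq (L := G) (DerivedCategory.Q.map π ≫ e.inv)
  have : QuasiIso g :=
    (DerivedCategory.isIso_Q_map_iff_quasiIso (C := ModuleCat.{u} A) g).1 (by rw [hg]; infer_instance)
  have := Groth.Agent.DRing.KFlat.quasiIso_whiskerRight hP π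
  have := Groth.Agent.DRing.KFlat.quasiIso_whiskerRight hP g
  have := Groth.Agent.DRing.KFlat.quasiIso_whiskerRight hG q
  have h0 : IsZero ((Groth.Agent.DRing.SingleTensor.S0 N ⊗ G).homology i) :=
    ((DRing.tensorCx G N).exactAt_iff_isZero_homology i).1
      (Groth.Agent.DRing.TorAmp.torVan_of_flat hv N i hi) |>.of_iso
        ((HomologicalComplex.homologyFunctor _ _ i).mapIso (Groth.Agent.DRing.SingleTensor.iso N G)).symm
  have h1 : IsZero ((G ⊗ P).homology i) :=
    (h0.of_iso (isoOfQuasiIsoAt (q ▷ G) i)).of_iso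
      ((HomologicalComplex.homologyFunctor _ _ i).mapIso (Groth.Agent.DRing.Tensor.braid G P))
  exact (h1.of_iso (isoOfQuasiIsoAt (g ▷ P) i)).of_iso (isoOfQuasiIsoAt (π ▷ P) i).symm

end Ring

variable {X Y : Scheme.{u}} (f : X ⟶ Y)

/-- Stalks of `f^*P ⊗ F`, over the local ring of the base. -/
theorem isZero_stalk_pull_tensor (F : CochainComplex X.Modules ℤ) (P : CochainComplex Y.Modules ℤ)
    (hP : DCoh.IsKFlat P) (M : Y.Modules)
    (q : P ⟶ (HomologicalComplex.single Y.Modules (ComplexShape.up ℤ) 0).obj M) [QuasiIso q]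
    (x : X) (a b : ℤ) (hF : DerSch.HasTorAmplitudeAt f a b F x) (i : ℤ) (hi : i < a ∨ b < i) :
    IsZero (((StalkCx.stCx x).obj ((DCoh.tensorCx.obj F).obj ((pullCx f).obj P))).homology i) := by
  let φ := (f.stalkMap x).hom
  let s := f.base x
  have : (ModuleCat.restrictScalars.{u} φ).PreservesHomology := Functor.preservesHomologyOfExact _
  refine IsZero.of_iso ?_ ((HomologicalComplex.homologyFunctor _ _ i).mapIso
    (StalkCx.stTensIso x F ((pullCx f).obj P) ≪≫
      MonoidalCategory.whiskerLeftIso ((StalkCx.stCx x).obj F) (stPullIso f x P)))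
  refine BaseChange.isZero_of_restrictScalars φ ?_
  have hq : QuasiIso ((StalkCx.stCx s).map q) := inferInstance
  let q' : (StalkCx.stCx s).obj P ⟶
      Groth.Agent.DRing.SingleTensor.S0 ((DerSch.stalkFunctor Y s).obj M) :=
    (StalkCx.stCx s).map q ≫
      ((HomologicalComplex.singleMapHomologicalComplex (DerSch.stalkFunctor Y s) (ComplexShape.up ℤ) 0).app M).hom
  have : QuasiIso q' := quasiIso_comp (hφ := hq) (hφ' := inferInstance) ..
  refine (isZero_homology_tensor_res (K := (BaseChange.resCx φ).obj ((StalkCx.stCx x).obj F)) hF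
    ((StalkCx.isKFlat_iff_stalk P).1 hP s) ((DerSch.stalkFunctor Y s).obj M) q' i hi).of_iso ?_
  exact ((((StalkCx.stCx x).obj F ⊗ (BaseChange.extCx φ).obj ((StalkCx.stCx s).obj P)).sc i).mapHomologyIso
      (ModuleCat.restrictScalars φ)).symm ≪≫
    (HomologicalComplex.homologyFunctor _ _ i).mapIso
      (BaseChange.projCxIso φ ((StalkCx.stCx x).obj F) ((StalkCx.stCx s).obj P))

/-- `f^*P ⊗ F` for a flat resolution `P` of a module, outside the tor amplitude of `F`. -/
theorem isZero_homology_pull_tensor (F : CochainComplex X.Modules ℤ) (P : CochainComplex Y.Modules ℤ)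
    (hP : DCoh.IsKFlat P) (M : Y.Modules)
    (q : P ⟶ (HomologicalComplex.single Y.Modules (ComplexShape.up ℤ) 0).obj M) [QuasiIso q]
    (a b : ℤ) (hF : DerSch.HasTorAmplitude f a b F) (i : ℤ) (hi : i < a ∨ b < i) :
    IsZero (((DCoh.tensorCx.obj ((pullCx f).obj P)).obj F).homology i) := by
  let T := (DCoh.tensorCx.obj ((pullCx f).obj P)).obj F
  let e : (DCoh.tensorCx.obj F).obj ((pullCx f).obj P) ≅ T :=
    ((tensFlipIso X.sheaf).app ((pullCx f).obj P)).app F
  refine StalkCx.isZero_of_isZero_stalk fun x => ?_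
  refine ((isZero_stalk_pull_tensor f F P hP M q x a b (hF x) i hi).of_iso
    ((HomologicalComplex.homologyFunctor _ _ i).mapIso ((StalkCx.stCx x).mapIso e)).symm).of_iso ?_
  exact ((T.sc i).mapHomologyIso (DerSch.stalkFunctor X x)).symm

/-- `F ⊗ᴸ Lf^*M` is supported in the tor amplitude of `F` over the base. -/
theorem isZero_HD_LTensor_Lpull [DCoh.HasLpull f] (F : CochainComplex X.Modules ℤ) [DCoh.HasLTensorCx F]
    (a b : ℤ) (hF : DerSch.HasTorAmplitude f a b F) (M : Y.Modules) (i : ℤ) (hi : i < a ∨ b < i) :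
    IsZero (DCoh.HD ((DCoh.LTensorCx F).obj ((DCoh.Lpull f).obj (DCoh.inD Y M))) i) := by
  let S := (HomologicalComplex.single Y.Modules (ComplexShape.up ℤ) 0).obj M
  let P := (resY Y).obj S
  have hP : DCoh.IsKFlat P := isKFlat_resY S
  have := quasiIso_resYπ S
  have hT := isZero_homology_pull_tensor f F P hP M ((resYπ Y).app S) a b hF i hi
  have := LTensor.isIso_toTensor F (isKFlat_pullCx f hP)
  have := isIso_toPull f hP
  let eP : DCoh.inD Y M ≅ DerivedCategory.Q.obj P :=
    (DerivedCategory.singleFunctorIsoCompQ Y.Modules 0).app M ≪≫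
      (asIso (DerivedCategory.Q.map ((resYπ Y).app S))).symm
  exact (hT.of_iso ((DerivedCategory.homologyFunctorFactors _ i).app _)).of_iso
    ((DerivedCategory.homologyFunctor _ i).mapIso
      ((DCoh.LTensorCx F).mapIso ((DCoh.Lpull f).mapIso eP ≪≫ asIso ((toPull f).app P)) ≪≫
        asIso ((LTensor.toTensor F).app ((pullCx f).obj P))))

/-- The same over an open of the base. -/
theorem isZero_HD_LTensor_Lpull_restrict (F : CochainComplex X.Modules ℤ) (a b : ℤ)
    (hF : DerSch.HasTorAmplitude f a b F) (V : Y.Opens) (M : (V : Scheme.{u}).Modules)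
    [DCoh.HasLpull (f ∣_ V)] [DCoh.HasLTensorCx ((DCoh.restrictCx (f ⁻¹ᵁ V)).obj F)]
    (i : ℤ) (hi : i < a ∨ b < i) :
    IsZero (DCoh.HD ((DCoh.LTensorCx ((DCoh.restrictCx (f ⁻¹ᵁ V)).obj F)).obj
      ((DCoh.Lpull (f ∣_ V)).obj (DCoh.inD (V : Scheme.{u}) M))) i) := by
  let U := f ⁻¹ᵁ V
  let g := f ∣_ V
  let N := (Scheme.Modules.pushforward V.ι).obj M
  let S := (HomologicalComplex.single Y.Modules (ComplexShape.up ℤ) 0).obj N
  let P := (resY Y).obj S
  have hP : DCoh.IsKFlat P := isKFlat_resY S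
  have := quasiIso_resYπ S
  let T := (DCoh.tensorCx.obj ((pullCx f).obj P)).obj F
  let P' := (DCoh.restrictCx V).obj P
  have hP' : DCoh.IsKFlat P' := LocalD.isKFlat_restrict hP V
  let S' := (HomologicalComplex.single (V : Scheme.{u}).Modules (ComplexShape.up ℤ) 0).obj M
  let eS : (DCoh.restrictCx V).obj S ≅ S' :=
    (HomologicalComplex.singleMapHomologicalComplex (Scheme.Modules.restrictFunctor V.ι) (ComplexShape.up ℤ) 0).app N ≪≫
      (HomologicalComplex.single (V : Scheme.{u}).Modules (ComplexShape.up ℤ) 0).mapIso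
        ((Scheme.Modules.restrictFunctorAdjCounitIso V.ι).app M)
  have : QuasiIso ((DCoh.restrictCx V).map ((resYπ Y).app S)) := inferInstance
  let eP : DCoh.inD (V : Scheme.{u}) M ≅ DerivedCategory.Q.obj P' :=
    (DerivedCategory.singleFunctorIsoCompQ (V : Scheme.{u}).Modules 0).app M ≪≫
      DerivedCategory.Q.mapIso eS.symm ≪≫
      (asIso (DerivedCategory.Q.map ((DCoh.restrictCx V).map ((resYπ Y).app S)))).symm
  let eg : (DCoh.restrictCx U).obj ((pullCx f).obj P) ≅ (pullCx g).obj P' :=
    LocalD.restrictPullCxIso f V U le_rfl P ≪≫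
      (NatIso.mapHomologicalComplex (Scheme.Modules.pullbackCongr
        (Scheme.Hom.resLE_eq_morphismRestrict f)) (ComplexShape.up ℤ)).app P'
  let eT : (DCoh.restrictCx U).obj T ≅
      (DCoh.tensorCx.obj ((pullCx g).obj P')).obj ((DCoh.restrictCx U).obj F) :=
    (FlatPull.restrictCxIso U).app T ≪≫ PullTensor.pullTensorCxIso U.ι ((pullCx f).obj P) F ≪≫
      (DCoh.tensorCx.mapIso ((FlatPull.restrictCxIso U).app _).symm).app _ ≪≫
      (DCoh.tensorCx.obj _).mapIso ((FlatPull.restrictCxIso U).app F).symm ≪≫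
      (DCoh.tensorCx.mapIso eg).app _
  have hT : IsZero (((DCoh.tensorCx.obj ((pullCx g).obj P')).obj ((DCoh.restrictCx U).obj F)).homology i) :=
    (((Scheme.Modules.restrictFunctor U.ι).map_isZero
      (isZero_homology_pull_tensor f F P hP N ((resYπ Y).app S) a b hF i hi)).of_iso
        ((T.sc i).mapHomologyIso (Scheme.Modules.restrictFunctor U.ι))).of_iso
      ((HomologicalComplex.homologyFunctor _ _ i).mapIso eT).symm
  have := LTensor.isIso_toTensor ((DCoh.restrictCx U).obj F) (isKFlat_pullCx g hP')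
  have := isIso_toPull g hP'
  exact (hT.of_iso ((DerivedCategory.homologyFunctorFactors _ i).app _)).of_iso
    ((DerivedCategory.homologyFunctor _ i).mapIso
      ((DCoh.LTensorCx _).mapIso ((DCoh.Lpull g).mapIso eP ≪≫ asIso ((toPull g).app P')) ≪≫
        asIso ((LTensor.toTensor ((DCoh.restrictCx U).obj F)).app ((pullCx g).obj P'))))

end Groth.Agent.KFlat.RelTor
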