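import Groth.Agent.KFlat.TildeAmp
import Groth.Agent.KFlat.SchemeTor
import Groth.Agent.KFlat.LTensorMod
import Groth.Agent.QCoh.Qcqs
import Mathlib.RingTheory.Localization.BaseChange
import Mathlib.AlgebraicGeometry.Morphisms.QuasiSeparated

/-!
# Tor amplitude is tested by quasi-coherent modules
-/

set_option autoImplicit false

universe u

open CategoryTheory Limits AlgebraicGeometry TopologicalSpace
open Groth.Agent.KFlat.TildeKFlat

attribute [local instance] HasDerivedCategory.standard

namespace Groth.Agent.KFlat.TorQCoh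

/-- Extension and restriction of scalars along a bijective ring map. -/
theorem exists_restrict_extend_iso {R S : Type u} [CommRing R] [CommRing S] (e : R →+* S)
    (he : Function.Bijective e) (M : ModuleCat.{u} R) :
    Nonempty ((ModuleCat.restrictScalars e).obj ((ModuleCat.extendScalars e).obj M) ≅ M) := by
  let := e.toAlgebra
  let eL : R ≃ₗ[R] S := LinearEquiv.ofBijective (Algebra.linearMap R S) he
  exact ⟨(show ((ModuleCat.restrictScalars e).obj ((ModuleCat.extendScalars e).obj M) : Type u) ≃ₗ[R] M from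
    (TensorProduct.congr eL.symm (LinearEquiv.refl R M)).trans (TensorProduct.lid R M)).toModuleIso⟩

/-- The local ring at a point of `Spec A` is a localisation: extending a restricted module gives it back. -/
theorem exists_extend_restrict_iso {A : CommRingCat.{u}} (y : Spec A)
    (N : ModuleCat.{u} ((Spec A).presheaf.stalk y)) :
    Nonempty ((ModuleCat.extendScalars (toLocal A y)).obj ((ModuleCat.restrictScalars (toLocal A y)).obj N) ≅ N) := by
  let O := (Spec A).presheaf.stalk y
  let : Algebra A O := (toLocal A y).toAlgebra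
  let : Algebra Γ(Spec A, ⊤) O := ((Spec A).presheaf.germ ⊤ y trivial).hom.toAlgebra
  let p := ((isAffineOpen_top (Spec A)).primeIdealOf ⟨y, trivial⟩).asIdeal.primeCompl
  have hloc : IsLocalization p O := (isAffineOpen_top (Spec A)).isLocalization_stalk ⟨y, trivial⟩
  let σ : Γ(Spec A, ⊤) ≃+* A := (Scheme.ΓSpecIso A).commRingCatIsoToRingEquiv
  have : IsLocalization (p.map σ.toMonoidHom) O := by
    refine cast ?_ (IsLocalization.isLocalization_of_base_ringEquiv p O σ)
    congr 1
  let : Module A N := Module.compHom N (toLocal A y)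
  have : IsScalarTower A O N := IsScalarTower.of_algebraMap_smul fun _ _ => rfl
  have h := (isLocalizedModule_iff_isBaseChange (p.map σ.toMonoidHom) O (LinearMap.id (R := A) (M := N))).1
    (isLocalizedModule_id (p.map σ.toMonoidHom) N O)
  exact ⟨h.equiv.toModuleIso⟩

variable {X : Scheme.{u}}

/-- Every module over a local ring of a quasi-separated scheme is the stalk of a quasi-coherent module. -/
theorem exists_qcoh_stalk [QuasiSeparatedSpace X] (x : X) (N : ModuleCat.{u} (X.presheaf.stalk x)) :
    ∃ F : X.Modules, F.IsQuasicoherent ∧ Nonempty ((DerSch.stalkFunctor X x).obj F ≅ N) := by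
  obtain ⟨U, hU, hxU, -⟩ := Opens.isBasis_iff_nbhd.1 X.isBasis_affineOpens (Opens.mem_top x)
  have hU : IsAffineOpen U := hU
  let j := hU.fromSpec
  obtain ⟨y, rfl⟩ : x ∈ Set.range j := by rw [hU.range_fromSpec]; exact hxU
  let e := (j.stalkMap y).hom
  have he : Function.Bijective e := ConcreteCategory.bijective_of_isIso (j.stalkMap y)
  let N' := (ModuleCat.extendScalars e).obj N
  let G : (Spec Γ(X, U)).Modules :=
    (tilde.functor Γ(X, U)).obj ((ModuleCat.restrictScalars (toLocal Γ(X, U) y)).obj N')
  have hG : G.IsQuasicoherent := TildeD.isQuasicoherent_of_essImage ⟨_, ⟨Iso.refl _⟩⟩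
  let F := (Scheme.Modules.pushforward j).obj G
  have : QuasiCompact j := inferInstance
  refine ⟨F, @Groth.Agent.QCoh.isQuasicoherent_pushforward _ _ j _ inferInstance G hG, ?_⟩
  obtain ⟨a⟩ := exists_extend_restrict_iso y N'
  obtain ⟨b⟩ := exists_restrict_extend_iso e he N
  obtain ⟨c⟩ := exists_restrict_extend_iso e he ((DerSch.stalkFunctor X (j y)).obj F)
  let s : (ModuleCat.extendScalars e).obj ((DerSch.stalkFunctor X (j y)).obj F) ≅ N' :=
    ((Pull.stalkPullIso j y).app F).symm ≪≫
      (DerSch.stalkFunctor _ y).mapIso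
        (((Scheme.Modules.restrictFunctorIsoPullback j).app F).symm ≪≫
          (asIso (Scheme.Modules.restrictAdjunction j).counit).app G) ≪≫
      (stalkTildeIso Γ(X, U) y).app _ ≪≫ a
  exact ⟨c.symm ≪≫ (ModuleCat.restrictScalars e).mapIso s ≪≫ b⟩

theorem torAmp_of_qcoh [QuasiSeparatedSpace X] (E : DCoh.D X) (a b : ℤ)
    (h : ∀ (F : X.Modules), Coh.IsQCoh F → ∀ [DCoh.HasLTensorMod F] (i : ℤ), (i < a ∨ b < i) →
      IsZero (DCoh.HD ((DCoh.LTensorMod F).obj E) i)) :
    DCoh.HasTorAmplitudeIn a b E := by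
  let P := (Pull.resY X).obj (DerivedCategory.Q.objPreimage E)
  have hP : DCoh.IsKFlat P := Pull.isKFlat_resY _
  have := Pull.quasiIso_resYπ (DerivedCategory.Q.objPreimage E)
  let e : DerivedCategory.Q.obj P ≅ E :=
    asIso (DerivedCategory.Q.map ((Pull.resYπ X).app _)) ≪≫ DerivedCategory.Q.objObjPreimageIso E
  refine (SchemeTor.torAmp_iff hP e a b).2 fun G i hi => ?_
  refine (SchemeTor.exactAt_iff_stalk _ i).2 fun x => ?_
  obtain ⟨F, hF, ⟨c⟩⟩ := exists_qcoh_stalk x ((DerSch.stalkFunctor X x).obj G)
  have := LTensorMod.hasLTensorMod F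
  have hFP : ((LTensorMod.tmCx F).obj P).ExactAt i := by
    rw [HomologicalComplex.exactAt_iff_isZero_homology]
    exact (h F hF i hi).of_iso ((LTensorMod.hdIso F hP i).symm ≪≫
      (DerivedCategory.homologyFunctor X.Modules i).mapIso ((DCoh.LTensorMod F).mapIso e))
  refine (SchemeTor.exactAt_stalk x hFP).of_iso (SchemeTor.stTmIso x F P ≪≫
    (NatIso.mapHomologicalComplex ((MonoidalCategory.tensoringRight (ModuleCat.{u} (X.presheaf.stalk x))).mapIso c)
      (ComplexShape.up ℤ)).app ((StalkCx.stCx x).obj P) ≪≫ (SchemeTor.stTmIso x G P).symm)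

end Groth.Agent.KFlat.TorQCoh
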