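import Groth.Agent.KFlat.RelTor
import Groth.Agent.KFlat.PCNoeth
import Groth.Agent.KFlat.TorQCoh
import Groth.Agent.CohDerLib.QC.CohPush
import Groth.Agent.S1118
import Groth.Agent.S1001
import Groth.Agent.S0999
import Groth.Agent.S11115
import Groth.Agent.S0912
import Groth.Agent.S0913

/-!
# Perfectness of direct images
-/

set_option autoImplicit false

universe u

open CategoryTheory CategoryTheory.Limits AlgebraicGeometry DerivedCategory TopologicalSpace
open Groth.Agent.KFlat Groth.Agent.KFlat.Pull Groth.Agent.KFlat.RPush Groth.Agent.CohDerLib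

attribute [local instance] HasDerivedCategory.standard

noncomputable section

namespace Groth.Agent.KFlat.RpushPerfect

variable {X Y : Scheme.{u}}

/-- `⊗^L` with a module, in terms of the complex in degree `0`. -/
theorem nonempty_ltensorMod_iso (G : X.Modules) [DCoh.HasLTensorMod G]
    [DCoh.HasLTensorCx ((HomologicalComplex.single X.Modules (ComplexShape.up ℤ) 0).obj G)] (R : DCoh.D X) :
    Nonempty ((DCoh.LTensorMod G).obj R ≅
      (DCoh.LTensorCx ((HomologicalComplex.single X.Modules (ComplexShape.up ℤ) 0).obj G)).obj R) := by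
  let F := DerivedCategory.Q.objPreimage R
  let P := (resY X).obj F
  have := quasiIso_resYπ F
  let eP : DerivedCategory.Q.obj P ≅ R :=
    asIso (DerivedCategory.Q.map ((resYπ X).app F)) ≪≫ DerivedCategory.Q.objObjPreimageIso R
  have hP : DCoh.IsKFlat P := isKFlat_resY F
  have := LTensor.isIso_toTensor ((HomologicalComplex.single X.Modules (ComplexShape.up ℤ) 0).obj G) hP
  exact ⟨(DCoh.LTensorMod G).mapIso eP.symm ≪≫ LTensorMod.ltensorModIso G hP ≪≫
    (LTensorMod.tmQIso G).app P ≪≫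
    (asIso ((LTensor.toTensor ((HomologicalComplex.single X.Modules (ComplexShape.up ℤ) 0).obj G)).app P)).symm ≪≫
    (DCoh.LTensorCx _).mapIso eP⟩

/-- Tor amplitude of a direct image, from vanishing of the tensor products with inverse images. -/
theorem exists_torAmp_Rpush (f : X ⟶ Y) [QuasiCompact f] [QuasiSeparated f] [CompactSpace Y]
    [QuasiSeparatedSpace Y] [DCoh.HasRpush f]
    (F : CochainComplex X.Modules ℤ) (hF : DCoh.IsQCohD (DCoh.toD X F)) (a b : ℤ)
    (h : ∀ (M : Y.Modules) (P : CochainComplex Y.Modules ℤ), DCoh.IsKFlat P →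
      ∀ q : P ⟶ (HomologicalComplex.single Y.Modules (ComplexShape.up ℤ) 0).obj M, QuasiIso q →
      ∀ i, i < a ∨ b < i → IsZero (((DCoh.tensorCx.obj ((pullCx f).obj P)).obj F).homology i)) :
    ∃ b' : ℤ, DCoh.HasTorAmplitudeIn a b' ((DCoh.Rpush f).obj (DCoh.toD X F)) := by
  obtain ⟨ι, B, N, hB, hN⟩ := QC.exists_bound f
  let R := (DCoh.Rpush f).obj (DCoh.toD X F)
  refine ⟨max a (b + (N : ℤ)), Groth.Agent.KFlat.TorQCoh.torAmp_of_qcoh R a _ fun G hG _ i hi => ?_⟩
  let S := (HomologicalComplex.single Y.Modules (ComplexShape.up ℤ) 0).obj G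
  let P := (resY Y).obj S
  have hP : DCoh.IsKFlat P := isKFlat_resY S
  have := quasiIso_resYπ S
  have hS : DCoh.IsQCohD (DCoh.toD Y S) := QCohModel.isQCohD_Q_of_terms S fun j => by
    by_cases hj : j = 0
    · subst hj
      exact @QCoh.isQuasicoherent_of_iso _ _ _ (HomologicalComplex.singleObjXSelf (ComplexShape.up ℤ) 0 G).symm hG
    · exact CohDerLib.QC.qcoh_of_isZero (HomologicalComplex.isZero_single_obj_X _ _ _ _ hj)
  have := LTensor.hasLTensorCx S
  have := LTensor.hasLTensorCx ((pullCx f).obj P)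
  have : DCoh.HasLpull f := Pull.hasLpull f
  have := isIso_toPull f hP
  obtain ⟨e⟩ := Groth.Agent.S1118.result f (DCoh.toD X F) hF S hS ((pullCx f).obj P)
    ⟨(asIso ((toPull f).app P)).symm ≪≫ (DCoh.Lpull f).mapIso (asIso (DerivedCategory.Q.map ((resYπ Y).app S)))⟩
  obtain ⟨eG⟩ := nonempty_ltensorMod_iso G R
  let W := (DCoh.LTensorCx ((pullCx f).obj P)).obj (DCoh.toD X F)
  have hPq : DCoh.IsQCohD (DCoh.toD X ((pullCx f).obj P)) := QCohModel.isQCohD_of_iso
    (((DCoh.Lpull f).mapIso (asIso (DerivedCategory.Q.map ((resYπ Y).app S))).symm) ≪≫ asIso ((toPull f).app P))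
    (QCohModel.isQCohD_Lpull f _ hS)
  have hW : DCoh.IsQCohD W := QCohTensor.isQCohD_LTensorCx _ hPq _ hF
  have hz : ∀ j, j < a ∨ b < j → IsZero (DCoh.HD W j) := fun j hj => by
    have := LTensor.isIso_toTensor_of_kflat ((pullCx f).obj P) (isKFlat_pullCx f hP) F
    refine ((h G P hP ((resYπ Y).app S) inferInstance j hj).of_iso
      ((DerivedCategory.homologyFunctorFactors _ j).app _ ≪≫
        (HomologicalComplex.homologyFunctor _ _ j).mapIso
          (((tensFlipIso X.sheaf).app ((pullCx f).obj P)).app F))).of_iso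
      ((DerivedCategory.homologyFunctor _ j).mapIso
        (@asIso _ _ _ _ ((LTensor.toTensor ((pullCx f).obj P)).app F) this))
  have : W.IsGE a := (DerivedCategory.isGE_iff W a).2 fun j hj => hz j (Or.inl hj)
  have hge := Groth.Agent.S11115.result f W a
  refine IsZero.of_iso ?_ ((DerivedCategory.homologyFunctor _ i).mapIso (eG ≪≫ e))
  rcases hi with hi | hi
  · exact DerivedCategory.isZero_of_isGE _ a i hi
  · have := QC.isIso_HD_Rpush_truncGE f B hB hN W hW (b + 1) i (by omega)
    refine IsZero.of_iso ?_ (asIso ((homologyFunctor Y.Modules i).map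
      ((DCoh.Rpush f).map ((TStructure.t.truncGEπ (b + 1)).app W))))
    refine Functor.map_isZero _ (Functor.map_isZero _ ?_)
    refine QC.isZero_of_homology _ fun j => ?_
    by_cases hj : j < b + 1
    · have : ((TStructure.t.truncGE (b + 1)).obj W).IsGE (b + 1) := inferInstance
      exact isZero_of_isGE _ (b + 1) j hj
    · have := HComp.isIso_homology_truncGEπ W (b + 1) j (by omega)
      exact (hz j (Or.inr (by omega))).of_iso
        (asIso ((homologyFunctor _ j).map ((TStructure.t.truncGEπ (b + 1)).app W))).symm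

/-- A bounded coherent object with proper support is pushed forward from a quasi-compact open. -/
theorem exists_qc_open [IsNoetherian Y] (f : X ⟶ Y) [LocallyOfFiniteType f] [DCoh.HasRpush f] (E : DCoh.D X)
    (a b : ℤ) (hz : ∀ i : ℤ, i < a ∨ b < i → IsZero (DCoh.HD E i))
    (hsupp : ∀ i : ℤ, ClSub.IsProperOver f (CohB1.support (DCoh.HD E i))) :
    ∃ U : X.Opens, CompactSpace (U : Scheme.{u}) ∧ ∀ [DCoh.HasRpush (U.ι ≫ f)],
      Nonempty ((DCoh.Rpush (U.ι ≫ f)).obj ((DCoh.restrictD U.ι).obj E) ≅ (DCoh.Rpush f).obj E) := by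
  classical
  let K : Set X := ⋃ i ∈ Finset.Icc a b, CohB1.support (DCoh.HD E i)
  have hKc : IsCompact K := (Finset.Icc a b).isCompact_biUnion fun i _ => by
    obtain ⟨hZ, hp⟩ := hsupp i
    have : CompactSpace (Scheme.IdealSheafData.vanishingIdeal ⟨_, hZ⟩).subscheme :=
      QuasiCompact.compactSpace_of_compactSpace
        ((Scheme.IdealSheafData.vanishingIdeal ⟨_, hZ⟩).subschemeι ≫ f)
    have h := isCompact_range (Scheme.IdealSheafData.vanishingIdeal ⟨_, hZ⟩).subschemeι.continuous
    rwa [Scheme.IdealSheafData.range_subschemeι, Scheme.IdealSheafData.coe_support_vanishingIdeal] at h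
  obtain ⟨s, hs⟩ := hKc.elim_finite_subcover (fun V : X.affineOpens => (V.1 : Set X)) (fun V => V.1.2)
    (fun x _ => by
      have hx : x ∈ (⨆ V : X.affineOpens, V.1) := by rw [iSup_affineOpens_eq_top]; trivial
      simpa using Opens.mem_iSup.1 hx)
  let U : X.Opens := ⨆ V ∈ s, (V : X.affineOpens).1
  have hKcl : IsClosed K := Set.Finite.isClosed_biUnion (Finset.Icc a b).finite_toSet fun i _ => (hsupp i).1
  let W : X.Opens := ⟨Kᶜ, hKcl.isOpen_compl⟩
  have hUc : IsCompact (U : Set X) := by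
    simp only [U, Opens.coe_iSup]
    exact s.isCompact_biUnion fun V _ => V.2.isCompact
  have hKU : K ⊆ (U : Set X) := fun x hx => by
    have := hs hx
    simp only [U, Opens.coe_iSup]
    exact this
  have hUW : U ⊔ W = ⊤ := by
    ext x
    simp only [Opens.coe_sup, Set.mem_union, Opens.coe_top, Set.mem_univ, iff_true]
    by_cases hx : x ∈ K
    · exact Or.inl (hKU hx)
    · exact Or.inr hx
  have hdisj : ∀ i, Disjoint (W : Set X) (CohB1.support (DCoh.HD E i)) := fun i => by
    refine Set.disjoint_left.2 fun x hW hx => hW ?_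
    by_cases hi : i ∈ Finset.Icc a b
    · exact Set.mem_biUnion hi hx
    · refine absurd (@AddCommGrpCat.subsingleton_of_isZero _ ?_) hx
      rw [Finset.mem_Icc, not_and_or, not_le, not_le] at hi
      exact (Scheme.Modules.toPresheaf X ⋙ TopCat.Presheaf.stalkFunctor AddCommGrpCat.{u} x).map_isZero (hz i hi)
  have := hasRpush U.ι
  obtain ⟨adj⟩ : Nonempty (DCoh.restrictD U.ι ⊣ DCoh.Rpush U.ι) :=
    Groth.Agent.DTrunc.DerivedPushAdj.nonempty_adjunction (DCoh.Rpush U.ι)
      ((DCoh.pushKh U.ι).totalRightDerivedUnit DerivedCategory.Qh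
        (HomotopyCategory.quasiIso (U : Scheme.{u}).Modules (ComplexShape.up ℤ)))
      (Scheme.Modules.restrictAdjunction U.ι)
  have := QC.isIso_unit_of_support U W hUW adj E hdisj
  refine ⟨U, isCompact_iff_compactSpace.1 hUc, fun {_} => ⟨?_⟩⟩
  exact (rpushCompIso U.ι f).symm.app _ ≪≫ (DCoh.Rpush f).mapIso (asIso (adj.unit.app E)).symm

/-- Perfectness from the vanishing of tensor products with inverse images. -/
theorem isPerfect_Rpush [IsNoetherian Y] (f : X ⟶ Y) [LocallyOfFiniteType f] [DCoh.HasRpush f]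
    (F : CochainComplex X.Modules ℤ) (hcoh : DCoh.IsCohD (DCoh.toD X F)) (c d : ℤ)
    (hbdd : ∀ i : ℤ, i < c ∨ d < i → IsZero (DCoh.HD (DCoh.toD X F) i))
    (hsupp : ∀ i : ℤ, ClSub.IsProperOver f (CohB1.support (DCoh.HD (DCoh.toD X F) i))) (a b : ℤ)
    (h : ∀ (M : Y.Modules) (P : CochainComplex Y.Modules ℤ), DCoh.IsKFlat P →
      ∀ q : P ⟶ (HomologicalComplex.single Y.Modules (ComplexShape.up ℤ) 0).obj M, QuasiIso q →
      ∀ i, i < a ∨ b < i → IsZero (((DCoh.tensorCx.obj ((pullCx f).obj P)).obj F).homology i)) :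
    DCoh.IsPerfect ((DCoh.Rpush f).obj (DCoh.toD X F)) := by
  have : (DCoh.toD X F).IsGE c := (DerivedCategory.isGE_iff _ c).2 fun i hi => hbdd i (Or.inl hi)
  have : (DCoh.toD X F).IsLE d := (DerivedCategory.isLE_iff _ d).2 fun i hi => hbdd i (Or.inr hi)
  obtain ⟨hR, -, b₁, hb₁⟩ := Groth.Agent.S1001.result f (DCoh.toD X F) c d hcoh hsupp
  obtain ⟨U, hU, hUf⟩ := exists_qc_open f (DCoh.toD X F) c d hbdd hsupp
  have := hasRpush (U.ι ≫ f)
  obtain ⟨eU⟩ := hUf
  have : IsLocallyNoetherian X := LocallyOfFiniteType.isLocallyNoetherian f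
  have : QuasiCompact (U.ι ≫ f) := AlgebraicGeometry.quasiCompact_of_compactSpace (U.ι ≫ f)
  have : QuasiSeparated (U.ι ≫ f) := QuasiSeparated.of_quasiSeparatedSpace _
  let g := U.ι ≫ f
  let F' := (DCoh.restrictCx U).obj F
  let eF : (DCoh.restrictD U.ι).obj (DCoh.toD X F) ≅ DCoh.toD (U : Scheme.{u}) F' :=
    (Scheme.Modules.restrictFunctor U.ι).mapDerivedCategoryFactors.app F
  have hF' : DCoh.IsQCohD (DCoh.toD (U : Scheme.{u}) F') :=
    QCohModel.isQCohD_of_iso eF (PCNoeth.isQCohD_restrictD U.ι fun i => (hcoh i).1)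
  obtain ⟨b', hb'⟩ := exists_torAmp_Rpush g F' hF' a b fun M P hP q hq i hi => by
    let T := (DCoh.tensorCx.obj ((pullCx f).obj P)).obj F
    let eT : (DCoh.restrictCx U).obj T ≅ (DCoh.tensorCx.obj ((pullCx g).obj P)).obj F' :=
      (FlatPull.restrictCxIso U).app T ≪≫ PullTensor.pullTensorCxIso U.ι ((pullCx f).obj P) F ≪≫
        (DCoh.tensorCx.obj _).mapIso ((FlatPull.restrictCxIso U).app F).symm ≪≫
        (DCoh.tensorCx.mapIso ((pullCxComp U.ι f).app P)).app _
    exact (((Scheme.Modules.restrictFunctor U.ι).map_isZero (h M P hP q hq i hi)).of_iso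
      ((T.sc i).mapHomologyIso (Scheme.Modules.restrictFunctor U.ι))).of_iso
      ((HomologicalComplex.homologyFunctor _ _ i).mapIso eT).symm
  let eR : (DCoh.Rpush g).obj (DCoh.toD (U : Scheme.{u}) F') ≅ (DCoh.Rpush f).obj (DCoh.toD X F) :=
    (DCoh.Rpush g).mapIso eF.symm ≪≫ eU
  refine PerfTri.Perfect.isPerfect_of_iso eR ?_
  have hb'' : DCoh.HasTorAmplitudeIn a (max a b') ((DCoh.Rpush g).obj (DCoh.toD (U : Scheme.{u}) F')) :=
    fun G _ i hi => hb' G i (by omega)
  have hflat := (Groth.Agent.S0912.result _ a (max a b') (le_max_left _ _)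
    (fun G => LTensorMod.hasLTensorMod G)).1 hb''
  refine Groth.Agent.S0913.result _ a _ (le_max_left _ _) hflat (PCohD.pc_of_iso eR.symm ?_)
  have := hb₁
  exact PCNoeth.isPseudoCoherentD_of_isCohD _ hR b₁ _

end Groth.Agent.KFlat.RpushPerfect
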