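import Groth.Agent.KFlat.FlatProperPC
import Groth.Agent.KFlat.RpushPerfect
import Groth.Agent.KFlat.RelTor
import Groth.Agent.KFlat.QCohTensor
import Groth.Agent.FlatBC.Main
import Groth.Agent.S0910
import Groth.Agent.S0913

/-!
# `Rf_*` of objects perfect relative to the base
-/

set_option autoImplicit false

universe u

open CategoryTheory CategoryTheory.Limits AlgebraicGeometry Pretriangulated DerivedCategory
open Groth.Agent.PerfTri Groth.Agent.CohDerLib Groth.Agent.CohBase
open Groth.Agent.KFlat.Pull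

attribute [local instance] HasDerivedCategory.standard
attribute [-instance] CategoryTheory.ReflQuiver.toQuiver

noncomputable section

namespace Groth.Agent.KFlat.FlatProper

variable {X S : Scheme.{u}}

/-- vanishing of tensor products with inverse images, uniformly on a quasi-compact scheme -/
theorem exists_tensor_vanishing [CompactSpace X] (f : X ⟶ S) (F : CochainComplex X.Modules ℤ)
    (h : DCoh.LocHasFiniteRelTorDim f (DCoh.toD X F)) :
    ∃ a b : ℤ, ∀ (M : S.Modules) (P : CochainComplex S.Modules ℤ), DCoh.IsKFlat P →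
      ∀ q : P ⟶ (HomologicalComplex.single S.Modules (ComplexShape.up ℤ) 0).obj M, QuasiIso q →
      ∀ i, i < a ∨ b < i → IsZero (((DCoh.tensorCx.obj ((pullCx f).obj P)).obj F).homology i) := by
  classical
  choose V a b hxV hV using h
  obtain ⟨s, hs⟩ := isCompact_univ.elim_finite_subcover (fun x => (V x : Set X)) (fun x => (V x).isOpen)
    fun x _ => Set.mem_iUnion.2 ⟨x, hxV x⟩
  obtain ⟨lo, hlo⟩ := (s.image a).bddBelow
  obtain ⟨hi, hhi⟩ := (s.image b).bddAbove
  refine ⟨lo, hi, fun M P hP q hq i hi' => StalkCx.isZero_of_isZero_stalk fun y => ?_⟩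
  obtain ⟨x, hxs, hy⟩ : ∃ x ∈ s, y ∈ V x := by simpa using hs (Set.mem_univ y)
  have hax : lo ≤ a x := hlo (Finset.mem_image_of_mem a hxs)
  have hbx : b x ≤ hi := hhi (Finset.mem_image_of_mem b hxs)
  obtain ⟨E, hEv, hEf, ⟨e⟩⟩ := hV x F ⟨Iso.refl _⟩
  let U := V x
  let T := (DCoh.tensorCx.obj ((pullCx f).obj P)).obj F
  let F' := (DCoh.restrictCx U).obj F
  let g := U.ι ≫ f
  let eT : (DCoh.restrictCx U).obj T ≅ (DCoh.tensorCx.obj ((pullCx g).obj P)).obj F' :=
    (FlatPull.restrictCxIso U).app T ≪≫ PullTensor.pullTensorCxIso U.ι ((pullCx f).obj P) F ≪≫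
      (DCoh.tensorCx.obj _).mapIso ((FlatPull.restrictCxIso U).app F).symm ≪≫
      (DCoh.tensorCx.mapIso ((pullCxComp U.ι f).app P)).app _
  have h0 : IsZero (((DCoh.tensorCx.obj ((pullCx g).obj P)).obj E).homology i) :=
    RelTor.isZero_homology_pull_tensor g E P hP M q (a x) (b x)
      (fun z => ⟨(DerSch.stalkCxOver g z).obj E, fun j hj => (DerSch.stalkOver g z).map_isZero (hEv j hj), fun j => hEf j z, ⟨Iso.refl _⟩⟩)
      i (by omega)
  obtain ⟨e'⟩ := QCohTensor.exists_tensor_iso (isKFlat_pullCx g hP) e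
  have h1 : IsZero (((DCoh.tensorCx.obj ((pullCx g).obj P)).obj F').homology i) :=
    (h0.of_iso ((homologyFunctorFactors (U : Scheme.{u}).Modules i).app _)).of_iso
      ((homologyFunctor _ i).mapIso e'.symm) |>.of_iso ((homologyFunctorFactors (U : Scheme.{u}).Modules i).app _).symm
  have h2 : IsZero ((Scheme.Modules.restrictFunctor U.ι).obj (T.homology i)) :=
    (h1.of_iso ((HomologicalComplex.homologyFunctor _ _ i).mapIso eT)).of_iso
      ((T.sc i).mapHomologyIso (Scheme.Modules.restrictFunctor U.ι)).symm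
  exact @ModuleCat.isZero_of_subsingleton _ _ _ (Groth.Agent.S6528.subsingleton_stalk (U := U) h2 hy)

theorem isPerfect_Rpush_rel_compact [CompactSpace S] [QuasiSeparatedSpace S] (f : X ⟶ S) [IsProper f] [Flat f]
    [LocallyOfFinitePresentation f] [DCoh.HasRpush f] (E : DCoh.D X) (hpc : ∀ m, DCoh.IsPseudoCoherentD m E)
    (htor : DCoh.LocHasFiniteRelTorDim f E) : DCoh.IsPerfect ((DCoh.Rpush f).obj E) := by
  have : CompactSpace X := QuasiCompact.compactSpace_of_compactSpace f
  let F := DerivedCategory.Q.objPreimage E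
  let eF : DCoh.toD X F ≅ E := DerivedCategory.Q.objObjPreimageIso E
  have htor' : DCoh.LocHasFiniteRelTorDim f (DCoh.toD X F) := fun x => by
    obtain ⟨V, a, b, hx, hV⟩ := htor x
    exact ⟨V, a, b, hx, fun F' ⟨e⟩ => hV F' ⟨e ≪≫ eF⟩⟩
  obtain ⟨a, b, hab⟩ := exists_tensor_vanishing f F htor'
  have hF : DCoh.IsQCohD (DCoh.toD X F) := QCohModel.isQCohD_of_iso eF.symm (isQCohD_of_pc hpc)
  obtain ⟨b', hb'⟩ := RpushPerfect.exists_torAmp_Rpush f F hF a b hab
  have hb'' : DCoh.HasTorAmplitudeIn a (max a b') ((DCoh.Rpush f).obj (DCoh.toD X F)) :=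
    fun G _ i hi => hb' G i (by omega)
  have hflat := (Groth.Agent.S0912.result _ a (max a b') (le_max_left _ _)
    (fun G => LTensorMod.hasLTensorMod G)).1 hb''
  refine Perfect.isPerfect_of_iso ((DCoh.Rpush f).mapIso eF) ?_
  exact Groth.Agent.S0913.result _ a _ (le_max_left _ _) hflat
    (pc_Rpush_compact f _ (fun m => PCohD.pc_of_iso eF.symm (hpc m)) _)

/-- inverse image along an open immersion is restriction, on objects -/
theorem nonempty_Lpull_restrictD {U : Scheme.{u}} (j : U ⟶ S) [IsOpenImmersion j] [DCoh.HasLpull j] (K : DCoh.D S) :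
    Nonempty ((DCoh.Lpull j).obj K ≅ (DCoh.restrictD j).obj K) := by
  let F₀ := DerivedCategory.Q.objPreimage K
  let P := (resY S).obj F₀
  have hP : DCoh.IsKFlat P := isKFlat_resY F₀
  have := quasiIso_resYπ F₀
  let eP : DerivedCategory.Q.obj P ≅ K :=
    asIso (DerivedCategory.Q.map ((resYπ S).app F₀)) ≪≫ DerivedCategory.Q.objObjPreimageIso K
  exact ⟨(DCoh.Lpull j).mapIso eP.symm ≪≫ @asIso _ _ _ _ ((toPull j).app P) (isIso_toPull j hP) ≪≫
    DerivedCategory.Q.mapIso ((NatIso.mapHomologicalComplex (Scheme.Modules.restrictFunctorIsoPullback j).symm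
      (ComplexShape.up ℤ)).app P) ≪≫
    (Perfect.restrQ j P).symm ≪≫ (DCoh.restrictD j).mapIso eP⟩

/-- `Rf_*` of a relatively perfect object -/
theorem isPerfect_Rpush_rel (f : X ⟶ S) [IsProper f] [Flat f] [LocallyOfFinitePresentation f] [DCoh.HasRpush f]
    (E : DCoh.D X) (hpc : ∀ m, DCoh.IsPseudoCoherentD m E) (htor : DCoh.LocHasFiniteRelTorDim f E) :
    DCoh.IsPerfect ((DCoh.Rpush f).obj E) := by
  refine (Perfect.near_iff _).mpr fun s => ?_
  obtain ⟨V, hV, hs, -⟩ := exists_isAffineOpen_mem_and_subset (U := (⊤ : S.Opens)) (x := s) trivial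
  let j := hV.fromSpec
  have := Pull.hasLpull j
  have := Pull.hasLpull (pullback.fst f j)
  have := RPush.hasRpush (pullback.snd f j)
  have hE' := FlatBC.locHasFiniteRelTorDim_Lpull f j E htor
  have hpc' := fun m => Groth.Agent.S0910.result (pullback.fst f j) m E (hpc m)
  have h1 := isPerfect_Rpush_rel_compact (pullback.snd f j) _ hpc' hE'
  have := TorBC.isBC_of_torSq (IsPullback.of_hasPullback f j) (torSq_of_flat f j) E (isQCohD_of_pc hpc)
  have h2 := Perfect.isPerfect_of_iso
    (@asIso _ _ _ _ (TorBC.bc f j (pullback.fst f j) (pullback.snd f j) (IsPullback.of_hasPullback f j).w E) this).symm h1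
  obtain ⟨eR⟩ := nonempty_Lpull_restrictD j ((DCoh.Rpush f).obj E)
  obtain ⟨y, hy⟩ : s ∈ Set.range j := by rw [hV.range_fromSpec]; exact hs
  obtain ⟨U, k, hk, ⟨z, hz⟩, hsp⟩ := (Perfect.near_iff _).mp (Perfect.isPerfect_of_iso eR h2) y
  exact ⟨U, k ≫ j, inferInstance, ⟨z, by rw [Scheme.Hom.comp_apply, hz, hy]⟩,
    Perfect.isSP_of_iso (Perfect.restrComp k j (k ≫ j) rfl _) hsp⟩

end Groth.Agent.KFlat.FlatProper
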