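import Groth.Agent.KFlat.AdjSupport

/-!
# Testing morphisms through `Rf_* RHom(E, -)`
-/

set_option autoImplicit false

universe u

open CategoryTheory CategoryTheory.Limits AlgebraicGeometry
open Groth.Agent.KFlat.Pull Groth.Agent.KFlat.LTensor Groth.Agent.KFlat.RPush
open Groth.Agent.PerfTri

attribute [local instance] HasDerivedCategory.standard
attribute [-instance] CategoryTheory.ReflQuiver.toQuiver

noncomputable section

namespace Groth.Agent.KFlat.RHomTest

variable {X Y : Scheme.{u}}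

theorem bijective_of_isIso (f : X ⟶ Y) [DCoh.HasRpush f] (L : CochainComplex X.Modules ℤ) (hL : DCoh.IsKFlat L)
    [DCoh.HasLTensorCx L] [DCoh.HasRSheafHom L] {A B : DCoh.D X} (φ : A ⟶ B)
    [IsIso ((DCoh.Rpush f).map ((DCoh.RSheafHom L).map φ))] :
    Function.Bijective fun x : DCoh.toD X L ⟶ A => x ≫ φ := by
  have := hasLpull f
  obtain ⟨u⟩ := AdjSupport.nonempty_Lpull_one f
  obtain ⟨w⟩ := DRing.PointHom.nonempty_LTensorCx_unit L hL
  let adjT := DCoh.RSheafHomAdj L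
  let adjP := DerivedAdj.adj f
  let Φ : ∀ C : DCoh.D X, (DCoh.toD X L ⟶ C) ≃
      (DCoh.inD Y (Coh.structureModule Y) ⟶ (DCoh.Rpush f).obj ((DCoh.RSheafHom L).obj C)) := fun C =>
    ((Iso.homCongr w.symm (Iso.refl C)).trans (adjT.homEquiv _ _)).trans
      ((Iso.homCongr u.symm (Iso.refl _)).trans (adjP.homEquiv _ _))
  have hn : ∀ x : DCoh.toD X L ⟶ A, Φ B (x ≫ φ) = Φ A x ≫ (DCoh.Rpush f).map ((DCoh.RSheafHom L).map φ) :=
    fun x => by simp [Φ, Iso.homCongr, Adjunction.homEquiv_unit]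
  have h2 : Function.Bijective fun y : DCoh.inD Y (Coh.structureModule Y) ⟶ _ =>
      y ≫ (DCoh.Rpush f).map ((DCoh.RSheafHom L).map φ) :=
    ⟨fun a b hab => (cancel_mono _).1 hab,
      fun y => ⟨y ≫ inv ((DCoh.Rpush f).map ((DCoh.RSheafHom L).map φ)), by simp⟩⟩
  refine ((Φ B).bijective.of_comp_iff' _).1 ?_
  rw [show (Φ B ∘ fun x : DCoh.toD X L ⟶ A => x ≫ φ) =
    (fun y => y ≫ (DCoh.Rpush f).map ((DCoh.RSheafHom L).map φ)) ∘ Φ A from funext hn]
  exact h2.comp (Φ A).bijective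

/-- `Rf_* RHom(E, φ)` invertible for perfect `E` makes `Hom(P, φ)` bijective for perfect `P`. -/
theorem isIso_of_perfect [CompactSpace X] [QuasiSeparatedSpace X] (f : X ⟶ Y) [DCoh.HasRpush f]
    {A B : DCoh.D X} (hA : DCoh.IsQCohD A) (hB : DCoh.IsQCohD B) (φ : A ⟶ B)
    (h : ∀ (E : CochainComplex X.Modules ℤ) [DCoh.HasLTensorCx E] [DCoh.HasRSheafHom E],
      DCoh.IsPerfect (DCoh.toD X E) → IsIso ((DCoh.Rpush f).map ((DCoh.RSheafHom E).map φ))) : IsIso φ := by
  refine isIso_of_bijective_perfect hA hB φ fun P hP => ?_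
  let F₀ := DerivedCategory.Q.objPreimage P
  let L := (resY X).obj F₀
  have := quasiIso_resYπ F₀
  let eL : DCoh.toD X L ≅ P :=
    asIso (DerivedCategory.Q.map ((resYπ X).app F₀)) ≪≫ DerivedCategory.Q.objObjPreimageIso _
  have := LTensor.hasLTensorCx L
  have := RHomExists.hasRSheafHom L
  have := h L (Perfect.isPerfect_of_iso eL.symm hP)
  have hb := bijective_of_isIso f L (isKFlat_resY F₀) φ
  constructor
  · intro a b hab
    exact (cancel_epi eL.hom).1 (hb.1 (by simpa using congrArg (eL.hom ≫ ·) hab))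
  · intro y
    obtain ⟨x, hx⟩ := hb.2 (eL.hom ≫ y)
    exact ⟨eL.inv ≫ x, by simp at hx ⊢; simp [hx]⟩

end Groth.Agent.KFlat.RHomTest
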