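import Groth.Agent.KFlat.AdjTensorTest
import Groth.Agent.KFlat.AdjSupport
import Groth.Agent.KFlat.RHomTest
import Groth.Agent.KFlat.ExactComp
import Groth.Agent.KFlat.RPushTriangle
import Groth.Agent.KFlat.FlatProperRel
import Groth.Agent.KFlat.PerfectTensor
import Groth.Agent.ProjTwist.Invertible

/-!
# `a(K) ≅ Lf^* K ⊗ᴸ a(O)`
-/

set_option autoImplicit false
set_option linter.unusedSectionVars false

universe u

open CategoryTheory CategoryTheory.Limits AlgebraicGeometry CategoryTheory.Pretriangulated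
open Groth.Agent.KFlat.Pull Groth.Agent.KFlat.LTensor Groth.Agent.KFlat.RPush Groth.Agent.KFlat.WeakKInj
open Groth.Agent.KFlat.UnitCx Groth.Agent.KFlat.StalkD
open Groth.Agent.PerfTri Groth.Agent.KFlat.CompactOne Groth.Agent.DEq

attribute [local instance] HasDerivedCategory.standard
attribute [-instance] CategoryTheory.ReflQuiver.toQuiver

noncomputable section

namespace Groth.Agent.KFlat.AdjTensor

variable {X Y : Scheme.{u}}

theorem isZero_restrict_LT (J : CochainComplex X.Modules ℤ) [DCoh.HasLTensorCx J] (U : X.Opens) (M : DCoh.D X)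
    (h : IsZero ((DCoh.restrictD U.ι).obj M)) : IsZero ((DCoh.restrictD U.ι).obj ((DCoh.LTensorCx J).obj M)) := by
  let F₀ := DerivedCategory.Q.objPreimage M
  let P := (resY X).obj F₀
  have hP : DCoh.IsKFlat P := isKFlat_resY F₀
  let eP : DerivedCategory.Q.obj P ≅ M :=
    (resQIso (Y := X)).app F₀ ≪≫ DerivedCategory.Q.objObjPreimageIso M
  have := LTensor.hasLTensorCx ((DCoh.restrictCx U).obj J)
  have := LTensorExact.additive_LTensorCx ((DCoh.restrictCx U).obj J)
  let fU := (Scheme.Modules.restrictFunctor U.ι).mapDerivedCategoryFactors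
  have hz : IsZero ((DCoh.LTensorCx ((DCoh.restrictCx U).obj J)).obj
      (DerivedCategory.Q.obj ((DCoh.restrictCx U).obj P))) :=
    Functor.map_isZero _ (h.of_iso ((fU.app P).symm ≪≫ (DCoh.restrictD U.ι).mapIso eP))
  refine hz.of_iso ?_
  exact (DCoh.restrictD U.ι).mapIso ((DCoh.LTensorCx J).mapIso eP.symm ≪≫
      @asIso _ _ _ _ ((toTensor J).app P) (isIso_toTensor J hP)) ≪≫ fU.app _ ≪≫
    DerivedCategory.Q.mapIso ((FlatPull.restrictCxIso _).app _ ≪≫
      PullTensor.pullTensorCxIso U.ι P J ≪≫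
      (DCoh.tensorCx.mapIso ((FlatPull.restrictCxIso _).app P).symm).app _ ≪≫
      (DCoh.tensorCx.obj _).mapIso ((FlatPull.restrictCxIso _).app J).symm) ≪≫
    (@asIso _ _ _ _ ((toTensor ((DCoh.restrictCx U).obj J)).app ((DCoh.restrictCx U).obj P))
      (isIso_toTensor _ (LocalD.isKFlat_restrict hP U))).symm

theorem isZero_restrict_Lpull (f : X ⟶ Y) [DCoh.HasLpull f] (V : Y.Opens) (M : DCoh.D Y)
    (h : IsZero ((DCoh.restrictD V.ι).obj M)) :
    IsZero ((DCoh.restrictD (f ⁻¹ᵁ V).ι).obj ((DCoh.Lpull f).obj M)) := by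
  let U := f ⁻¹ᵁ V
  have := hasLpull U.ι
  have := hasLpull V.ι
  have := hasLpull (f ∣_ V)
  have := hasLpull (U.ι ≫ f)
  have := hasLpull ((f ∣_ V) ≫ V.ι)
  have := ProjPerfect.additive_Lpull (f ∣_ V)
  obtain ⟨a⟩ := FlatProper.nonempty_Lpull_restrictD U.ι ((DCoh.Lpull f).obj M)
  obtain ⟨b⟩ := FlatProper.nonempty_Lpull_restrictD V.ι M
  refine ((DCoh.Lpull (f ∣_ V)).map_isZero (h.of_iso b)).of_iso ?_
  let key : ∀ {p q : (U : Scheme.{u}) ⟶ Y} [DCoh.HasLpull p] [DCoh.HasLpull q], p = q →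
      ((DCoh.Lpull p).obj M ≅ (DCoh.Lpull q).obj M) := fun {p q} _ _ h => by subst h; exact Iso.refl _
  exact a.symm ≪≫ (lpullCompIso U.ι f).app M ≪≫ key (morphismRestrict_ι f V).symm ≪≫
    ((lpullCompIso (f ∣_ V) V.ι).app M).symm

theorem midExact_of_natIso {C C' : Type*} [Category C] [Preadditive C] [HasZeroObject C] [HasShift C ℤ]
    [∀ n : ℤ, (shiftFunctor C n).Additive] [Pretriangulated C] [Category C'] [Preadditive C'] {F G : C ⥤ C'}
    (e : F ≅ G) (hF : NatTransClosed.MidExact F) : NatTransClosed.MidExact G := fun T hT N a ha => by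
  obtain ⟨b, hb⟩ := hF T hT N (a ≫ e.inv.app _) (by
    rw [Category.assoc, ← e.inv.naturality, ← Category.assoc, ha, zero_comp])
  exact ⟨b ≫ e.hom.app _, by
    rw [Category.assoc, ← e.hom.naturality, ← Category.assoc, hb, Category.assoc, Iso.inv_hom_id_app, Category.comp_id]⟩

theorem midExact_ι_comp {C' : Type*} [Category C'] [Preadditive C'] {G : DCoh.D Y ⥤ C'}
    (hG : NatTransClosed.MidExact G) : NatTransClosed.MidExact ((DCoh.IsQCohD (X := Y)).ι ⋙ G) :=
  fun T hT => hG _ ((DCoh.IsQCohD (X := Y)).ι.map_distinguished T hT)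

/-- `O|_V ≅ O`. -/
def restrictOneIso (V : Y.Opens) :
    (DCoh.restrictD V.ι).obj (DerivedCategory.Q.obj (oneCx Y)) ≅ DerivedCategory.Q.obj (oneCx (V : Scheme.{u})) :=
  (Scheme.Modules.restrictFunctor V.ι).mapDerivedCategoryFactors.app _ ≪≫
    DerivedCategory.Q.mapIso (((HomologicalComplex.singleMapHomologicalComplex
      (Scheme.Modules.restrictFunctor V.ι) (ComplexShape.up ℤ) 0).app (Coh.structureModule Y)) ≪≫
      (HomologicalComplex.single _ _ 0).mapIso ((Scheme.Modules.restrictFunctorIsoPullback V.ι).app _ ≪≫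
        Groth.Agent.QCoh.pullbackUnitIso V.ι))

theorem isQCohD_one (Z : Scheme.{u}) : DCoh.IsQCohD (DerivedCategory.Q.obj (oneCx Z)) :=
  QCohModel.isQCohD_Q_of_terms _ fun i => by
    by_cases h : i = 0
    · subst h
      exact @Groth.Agent.QCoh.isQuasicoherent_of_iso _ _ _
        (HomologicalComplex.singleObjXSelf (ComplexShape.up ℤ) (0 : ℤ) (Coh.structureModule Z)).symm
        (Groth.Agent.ProjTwist.isQuasicoherent_structureModule Z)
    · obtain ⟨W, hW, hP⟩ := ObjectProperty.ContainsZero.exists_zero (P := QCohCat.isQCoh Z)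
      exact @Groth.Agent.QCoh.isQuasicoherent_of_iso _ _ _
        (hW.iso (HomologicalComplex.isZero_single_obj_X (ComplexShape.up ℤ) 0 (Coh.structureModule Z) i h)) hP

theorem isZero_shift_restrict (V : Y.Opens) (C : DCoh.DQCoh Y) (n : ℤ)
    (hC : IsZero ((DCoh.restrictD V.ι).obj C.obj)) : IsZero ((DCoh.restrictD V.ι).obj (C⟦n⟧).obj) :=
  ((shiftFunctor (DCoh.D (V : Scheme.{u})) n).map_isZero hC).of_iso
    ((DCoh.restrictD V.ι).mapIso (((DCoh.IsQCohD (X := Y)).ι.commShiftIso n).app C) ≪≫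
      ((DCoh.restrictD V.ι).commShiftIso n).app C.obj)

variable [CompactSpace X] [QuasiSeparatedSpace X] [CompactSpace Y] [QuasiSeparatedSpace Y]
  (f : X ⟶ Y) [DCoh.HasRpush f] [DCoh.HasLpull f] (hf : DCoh.RpushPreservesQCoh f)
  (a : DCoh.DQCoh Y ⥤ DCoh.DQCoh X) (adj : DCoh.RpushQ f hf ⊣ a)

theorem hom_sum {Z : Scheme.{u}} {A B : DCoh.DQCoh Z} {κ : Type*} (s : Finset κ) (g : κ → (A ⟶ B)) :
    (∑ i ∈ s, g i).hom = ∑ i ∈ s, (g i).hom :=
  map_sum ((DCoh.IsQCohD (X := Z)).ι.mapAddHom (X := A) (Y := B)) g s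

include adj in
theorem isPerfect_Rpush_of_preservesCoproducts (hcop : ∀ J : Type u, PreservesColimitsOfShape (Discrete J) a)
    (P : DCoh.D X) (hP : DCoh.IsPerfect P) : DCoh.IsPerfect ((DCoh.Rpush f).obj P) := by
  have hPq := PerfExt.isQCohD_of_isPerfect hP
  refine PerfExt.isPerfect_of_compact (hf P hPq) fun ι E hE c hc => ?_
  let Q : ι → DCoh.DQCoh Y := fun i => ⟨E i, hE i⟩
  let P' : DCoh.DQCoh X := ⟨P, hPq⟩
  have := hcop ι
  have hd := isColimitCofanMkObjOfIsColimit (DCoh.IsQCohD (X := Y)).ι Q _ (coproductIsCoproduct Q)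
  refine (?_ : FinSum _ fun i => (Sigma.ι Q i).hom).of_cofan hd hc
  have ha := isColimitCofanMkObjOfIsColimit a Q _ (coproductIsCoproduct Q)
  have ha' := isColimitCofanMkObjOfIsColimit (DCoh.IsQCohD (X := X)).ι (fun i => a.obj (Q i)) _ ha
  have h1 : FinSum P fun i => (a.map (Sigma.ι Q i)).hom :=
    PerfExt.finSum_of_isPerfect hP _ (fun i => (a.obj (Q i)).property) _ ha'
  refine ⟨fun φ => ?_, fun s t ht i hi => ?_⟩
  · obtain ⟨s, t, hst⟩ := h1.1 (adj.homEquiv P' (∐ Q) ⟨φ⟩).hom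
    refine ⟨s, fun i => ((adj.homEquiv P' (Q i)).symm ⟨t i⟩).hom, ?_⟩
    have h2 : adj.homEquiv P' (∐ Q) ⟨φ⟩ = ∑ i ∈ s, (⟨t i⟩ : P' ⟶ a.obj (Q i)) ≫ a.map (Sigma.ι Q i) :=
      ObjectProperty.hom_ext _ (hst.trans (map_sum ((DCoh.IsQCohD (X := X)).ι.mapAddHom
        (X := P') (Y := a.obj (∐ Q))) _ _).symm)
    have h3 := congrArg (adj.homEquiv P' (∐ Q)).symm h2
    rw [Equiv.symm_apply_apply] at h3
    refine (congrArg (fun x => x.hom) h3).trans ?_
    simp only [Adjunction.homEquiv_symm_apply, Functor.map_sum, Preadditive.sum_comp, Functor.map_comp,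
      Category.assoc, Adjunction.counit_naturality]
    exact (hom_sum _ _).trans (Finset.sum_congr rfl fun _ _ => by rw [← Category.assoc]; rfl)
  · have h2 : ∑ j ∈ s, (⟨t j⟩ : (DCoh.RpushQ f hf).obj P' ⟶ Q j) ≫ Sigma.ι Q j = 0 :=
      ObjectProperty.hom_ext _ ((map_sum ((DCoh.IsQCohD (X := Y)).ι.mapAddHom
        (X := (DCoh.RpushQ f hf).obj P') (Y := ∐ Q)) _ _).trans ht)
    have := adj.right_adjoint_additive
    have h3 := congrArg (adj.homEquiv P' (∐ Q)) h2
    simp only [Adjunction.homEquiv_unit, Functor.map_sum, Preadditive.comp_sum, Functor.map_comp,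
      Functor.map_zero, comp_zero, ← Category.assoc] at h3
    have h4 := h1.2 s (fun j => (adj.homEquiv P' (Q j) ⟨t j⟩).hom) ((map_sum ((DCoh.IsQCohD (X := X)).ι.mapAddHom
        (X := P') (Y := a.obj (∐ Q))) _ _).symm.trans (congrArg (fun x => x.hom) h3)) i hi
    have h5 : adj.homEquiv P' (Q i) ⟨t i⟩ = adj.homEquiv P' (Q i) 0 :=
      ObjectProperty.hom_ext _ (h4.trans (by
        simp only [Adjunction.homEquiv_unit, Functor.map_zero, comp_zero]; rfl))
    exact congrArg (fun x => x.hom) ((adj.homEquiv P' (Q i)).injective h5)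

variable (J : CochainComplex X.Modules ℤ) [J.IsKInjective] (hJ : DCoh.IsQCohD (DCoh.toD X J))
  [DCoh.HasLTensorCx J]

/-- `Q ↦ Lf^* Q ⊗ᴸ J`. -/
abbrev F : DCoh.DQCoh Y ⥤ DCoh.DQCoh X := SheafDual.pullQ f ⋙ SheafDual.tensQ J hJ

include adj in
/-- The class argument. -/
theorem isIso_Rpush_RSheafHom (θ : F f J hJ ⟶ a) (hcop : ∀ K : Type u, PreservesColimitsOfShape (Discrete K) a)
    (L : CochainComplex X.Modules ℤ) [DCoh.HasLTensorCx L] [DCoh.HasRSheafHom L]
    (hL : DCoh.IsPerfect (DCoh.toD X L)) (hLY : DCoh.IsPerfect ((DCoh.Rpush f).obj (DCoh.toD X L)))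
    (hO : ∀ (n : ℤ) (hn : DCoh.IsQCohD (DerivedCategory.Q.obj (ProjShift.S Y n))), IsIso (θ.app ⟨_, hn⟩))
    (M : DCoh.DQCoh Y) :
    IsIso ((DCoh.Rpush f).map ((DCoh.RSheafHom L).map (θ.app M).hom)) := by
  obtain ⟨K, _, _, ⟨d⟩⟩ := SheafDual.exists_duality f hf a adj L hL hLY
  refine isIso_of_hStalk _ fun y => ?_
  obtain ⟨V, hV, hyV, -⟩ := exists_isAffineOpen_mem_and_subset (U := (⊤ : Y.Opens)) (x := y) trivial
  refine hStalkIso_of_restrict (V := V) ⟨y, hyV⟩ _ (@hStalkIso_of_isIso _ _ _ _ _ ?_)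
  have : IsAffine (V : Scheme.{u}) := hV
  have : QuasiCompact V.ι := AlgebraicGeometry.quasiCompact_of_compactSpace V.ι
  have : QuasiCompact f := AlgebraicGeometry.quasiCompact_of_compactSpace f
  have : QuasiSeparated f := QuasiSeparated.of_quasiSeparatedSpace f
  let U := f ⁻¹ᵁ V
  have := hasRpush V.ι
  have := hasRpush (f ∣_ V)
  have := LTensor.hasLTensorCx ((DCoh.restrictCx V).obj K)
  have := RHomExists.hasRSheafHom ((DCoh.restrictCx V).obj K)
  have := LTensor.hasLTensorCx ((DCoh.restrictCx U).obj L)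
  have := RHomExists.hasRSheafHom ((DCoh.restrictCx U).obj L)
  have := LTensorExact.additive_LTensorCx J
  have := LTensorExact.additive_LTensorCx L
  have := LTensorExact.additive_LTensorCx K
  have := LTensorExact.additive_LTensorCx ((DCoh.restrictCx V).obj K)
  have := LTensorExact.additive_LTensorCx ((DCoh.restrictCx U).obj L)
  have := (DCoh.RSheafHomAdj L).right_adjoint_additive
  have := (DCoh.RSheafHomAdj K).right_adjoint_additive
  have := (DCoh.RSheafHomAdj ((DCoh.restrictCx V).obj K)).right_adjoint_additive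
  have := (DCoh.RSheafHomAdj ((DCoh.restrictCx U).obj L)).right_adjoint_additive
  have := ProjPerfect.additive_Lpull f
  have := adj.right_adjoint_additive
  have : (F f J hJ ⋙ (DCoh.IsQCohD (X := X)).ι).Additive :=
    inferInstanceAs ((DCoh.IsQCohD (X := Y)).ι ⋙ DCoh.Lpull f ⋙ DCoh.LTensorCx J).Additive
  have : (F f J hJ).Additive := Functor.additive_of_comp_faithful (F f J hJ) (DCoh.IsQCohD (X := X)).ι
  let ιX := (DCoh.IsQCohD (X := X)).ι
  let ιY := (DCoh.IsQCohD (X := Y)).ι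
  let R : DCoh.DQCoh X ⥤ DCoh.D (V : Scheme.{u}) := ιX ⋙ DCoh.RSheafHom L ⋙ DCoh.Rpush f ⋙ DCoh.restrictD V.ι
  let η : F f J hJ ⋙ R ⟶ a ⋙ R := Functor.whiskerRight θ R
  let B := (((DCoh.Lpull f ⋙ DCoh.LTensorCx J) ⋙ DCoh.RSheafHom L) ⋙ DCoh.Rpush f) ⋙ DCoh.restrictD V.ι
  have h₁ : NatTransClosed.MidExact (F f J hJ ⋙ R) :=
    midExact_of_natIso (NatIso.ofComponents (fun _ => Iso.refl _) (fun _ => (Category.comp_id _).trans (Category.id_comp _).symm) : ιY ⋙ B ≅ F f J hJ ⋙ R)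
      (midExact_ι_comp (ExactComp.midExact_comp_right (ExactComp.midExact_comp_right
        (ExactComp.midExact_comp_right (ExactComp.midExact_Lpull_LT f J) (DCoh.RSheafHomAdj L))
          (DerivedAdj.adj f)) (ExtZero.extZeroDAdj V)))
  have h₂ : NatTransClosed.MidExact (a ⋙ R) :=
    midExact_of_natIso (Functor.isoWhiskerRight d (DCoh.restrictD V.ι) :
        (ιY ⋙ DCoh.RSheafHom K) ⋙ DCoh.restrictD V.ι ≅ (a ⋙ ιX ⋙ DCoh.RSheafHom L ⋙ DCoh.Rpush f) ⋙ DCoh.restrictD V.ι)
      (midExact_ι_comp (ExactComp.midExact_comp_right PerfectDual.midExact_RSheafHom (ExtZero.extZeroDAdj V)))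
  have := AffineGen.isLeftAdjoint_restrictD V.ι
  have hR : ∀ {ι : Type u} (N : ι → DCoh.DQCoh X), PreservesColimit (Discrete.functor N) R := fun {ι} N => by
    have q1 := PerfectDual.preservesColimit_RSheafHom (K := L) hL (fun i => (N i).obj)
    have q0 : PreservesColimit (Discrete.functor N ⋙ ιX) (DCoh.RSheafHom L) :=
      preservesColimit_of_iso_diagram (K₁ := Discrete.functor fun i => (N i).obj) _ (Discrete.natIso fun _ => Iso.refl _)
    let C : ι → DCoh.D X := fun i => (DCoh.RSheafHom L).obj (N i).obj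
    have := CohDerLib.QC.isIso_sigmaComparison_Rpush f C fun i => RHomLocal.isQCohD_RSheafHom L hL _ (N i).property
    have q2 : PreservesColimit (Discrete.functor C) (DCoh.Rpush f) := PreservesCoproduct.of_iso_comparison _ _
    have q3 : PreservesColimit ((Discrete.functor N ⋙ ιX) ⋙ DCoh.RSheafHom L) (DCoh.Rpush f) :=
      preservesColimit_of_iso_diagram (K₁ := Discrete.functor C) _ (Discrete.natIso fun _ => Iso.refl _)
    infer_instance
  have hF : ∀ {ι : Type u} (N : ι → DCoh.DQCoh Y), PreservesColimit (Discrete.functor N) (F f J hJ) := fun {ι} N => by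
    have : (DCoh.Lpull f).IsLeftAdjoint := (DerivedAdj.adj f).isLeftAdjoint
    have q1 := LTensorCoprod.preservesColimit_LTensorCx J (fun i => (DCoh.Lpull f).obj (N i).obj)
    have q2 : PreservesColimit ((Discrete.functor N ⋙ ιY) ⋙ DCoh.Lpull f) (DCoh.LTensorCx J) :=
      preservesColimit_of_iso_diagram (K₁ := Discrete.functor fun i => (DCoh.Lpull f).obj (N i).obj) _
        (Discrete.natIso fun _ => Iso.refl _)
    have q3 : PreservesColimit (Discrete.functor N) (ιY ⋙ DCoh.Lpull f ⋙ DCoh.LTensorCx J) := inferInstance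
    have q4 : PreservesColimit (Discrete.functor N) (F f J hJ ⋙ ιX) := q3
    exact preservesColimit_of_reflects_of_preserves (F f J hJ) ιX
  have hs₁ : ∀ {ι : Type u} (N : ι → DCoh.DQCoh Y), PreservesColimit (Discrete.functor N) (F f J hJ ⋙ R) :=
    fun {ι} N => by
      have := hF N
      have := hR fun i => (F f J hJ).obj (N i)
      have : PreservesColimit (Discrete.functor N ⋙ F f J hJ) R :=
        preservesColimit_of_iso_diagram (K₁ := Discrete.functor fun i => (F f J hJ).obj (N i)) _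
          (Discrete.natIso fun _ => Iso.refl _)
      infer_instance
  have hs₂ : ∀ {ι : Type u} (N : ι → DCoh.DQCoh Y), PreservesColimit (Discrete.functor N) (a ⋙ R) :=
    fun {ι} N => by
      have := hcop ι
      have := hR fun i => a.obj (N i)
      have : PreservesColimit (Discrete.functor N ⋙ a) R :=
        preservesColimit_of_iso_diagram (K₁ := Discrete.functor fun i => a.obj (N i)) _
          (Discrete.natIso fun _ => Iso.refl _)
      infer_instance
  -- supported objects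
  have hsupp : ∀ C : DCoh.DQCoh Y, IsZero ((DCoh.restrictD V.ι).obj C.obj) → IsIso (η.app C) := fun C hC => by
    have hzF : IsZero ((DCoh.restrictD U.ι).obj ((F f J hJ).obj C).obj) :=
      isZero_restrict_LT J U _ (isZero_restrict_Lpull f V _ hC)
    have hzR : IsZero ((DCoh.RSheafHom ((DCoh.restrictCx U).obj L)).obj
        ((DCoh.restrictD U.ι).obj ((F f J hJ).obj C).obj)) := Functor.map_isZero _ hzF
    have z1 : IsZero ((F f J hJ ⋙ R).obj C) := ((DCoh.Rpush (f ∣_ V)).map_isZero hzR).of_iso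
      ((RPushBase.restrictRpushIso f V).app _ ≪≫
        (DCoh.Rpush (f ∣_ V)).mapIso ((ExtZeroTensorCx.restrictRHomIso U L).app _))
    have hzK : IsZero ((DCoh.RSheafHom ((DCoh.restrictCx V).obj K)).obj ((DCoh.restrictD V.ι).obj C.obj)) :=
      Functor.map_isZero _ hC
    have z2 : IsZero ((a ⋙ R).obj C) := hzK.of_iso
      ((DCoh.restrictD V.ι).mapIso (d.app C).symm ≪≫ (ExtZeroTensorCx.restrictRHomIso V K).app C.obj)
    exact ⟨0, z1.eq_of_src _ _, z2.eq_of_src _ _⟩
  have hsupps : ∀ C : DCoh.DQCoh Y, IsZero ((DCoh.restrictD V.ι).obj C.obj) → NatTransClosed.AllShifts η C :=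
    fun C hC n => hsupp _ (isZero_shift_restrict V C n hC)
  obtain ⟨adjV⟩ := PerfExt.exists_adj (X := Y) V.ι
  let : (DCoh.Rpush V.ι).CommShift ℤ := adjV.rightAdjointCommShift ℤ
  let Rq : ∀ M : DCoh.D (V : Scheme.{u}), DCoh.IsQCohD M → DCoh.DQCoh Y := fun M hM =>
    ⟨(DCoh.Rpush V.ι).obj M, CohDerLib.QC.isQCohD_Rpush V.ι M hM⟩
  let Good : DCoh.D (V : Scheme.{u}) → Prop := fun M =>
    ∃ hM : DCoh.IsQCohD M, NatTransClosed.AllShifts η (Rq M hM)
  have giso : ∀ {A B : DCoh.D (V : Scheme.{u})}, (A ≅ B) → Good A → Good B := fun e h =>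
    ⟨QCohModel.isQCohD_of_iso e h.1,
      NatTransClosed.AllShifts.iso η ((DCoh.IsQCohD (X := Y)).isoMk ((DCoh.Rpush V.ι).mapIso e)) h.2⟩
  have gshift : ∀ (A : DCoh.D (V : Scheme.{u})) (n : ℤ), Good A → Good (A⟦n⟧) := fun A n h =>
    ⟨CohDerLib.QC.isQCohD_shift h.1 n, NatTransClosed.AllShifts.iso η
      ((DCoh.IsQCohD (X := Y)).isoMk ((ιY.commShiftIso n).app (Rq A h.1) ≪≫
        (((DCoh.Rpush V.ι).commShiftIso n).app A).symm)) (h.2.shift η n)⟩
  have gtri : ∀ T ∈ (distinguishedTriangles : Set (Triangle (DCoh.D (V : Scheme.{u})))),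
      Good T.obj₁ → Good T.obj₂ → Good T.obj₃ := fun T hT g₁ g₂ => by
    have hq : DCoh.IsQCohD T.obj₃ :=
      (DCoh.IsQCohD (X := (V : Scheme.{u}))).ext_of_isTriangulatedClosed₃ _ hT g₁.1 g₂.1
    obtain ⟨δ, hδ⟩ := RPushTriangle.distinguished_Rpush V.ι T hT
    let m : Rq _ g₁.1 ⟶ Rq _ g₂.1 := ⟨(DCoh.Rpush V.ι).map T.mor₁⟩
    obtain ⟨Z, g', h', hZ⟩ := distinguished_cocone_triangle m
    have e := Triangle.π₃.mapIso (isoTriangleOfIso₁₂ _ _ (ιY.map_distinguished _ hZ) hδ (Iso.refl _) (Iso.refl _)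
      ((Category.comp_id _).trans (Category.id_comp _).symm))
    exact ⟨hq, NatTransClosed.AllShifts.iso η ((DCoh.IsQCohD (X := Y)).isoMk e)
      (NatTransClosed.allShifts_obj₃ η h₁ h₂ _ hZ g₁.2 g₂.2)⟩
  have closed : CellGen.Closed Good :=
    { iso := fun e h => giso e h
      tri₃ := gtri
      tri₂ := fun T hT g₁ g₃ => gtri _ (inv_rot_of_distTriang _ hT) (gshift _ (-1) g₃) g₁
      sum := fun C c hc h => by
        have hcq := DEq.ProjQCoh.qcoh_sigma C c hc fun i => (h i).1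
        have := CohDerLib.QC.isIso_sigmaComparison_Rpush V.ι C fun i => (h i).1
        have : PreservesColimit (Discrete.functor C) (DCoh.Rpush V.ι) := PreservesCoproduct.of_iso_comparison _ _
        let hD := isColimitCofanMkObjOfIsColimit (DCoh.Rpush V.ι) C c.inj
          (hc.ofIsoColimit (Cofan.ext (Iso.refl _) fun i => by simp))
        let N : _ → DCoh.DQCoh Y := fun i => Rq (C i) (h i).1
        let cN : Cofan N := Cofan.mk (Rq c.pt hcq) fun i => ⟨(DCoh.Rpush V.ι).map (c.inj i)⟩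
        have hcN : IsColimit cN := isColimitOfIsColimitCofanMkObj ιY N _ hD
        exact ⟨hcq, NatTransClosed.allShifts_sum η N cN hcN (fun M => hs₁ M) (fun M => hs₂ M) fun i => (h i).2⟩ }
  have tri : ∀ M : DCoh.DQCoh Y, ∃ (T : Triangle (DCoh.DQCoh Y)), T ∈ distinguishedTriangles ∧ T.obj₁ = M ∧
      IsZero ((DCoh.restrictD V.ι).obj T.obj₃.obj) ∧
      Nonempty (T.obj₂ ≅ Rq _ (PerfExt.isQCohD_restrict V.ι M.property)) := fun M => by
    let m : M ⟶ Rq _ (PerfExt.isQCohD_restrict V.ι M.property) := ⟨adjV.unit.app M.obj⟩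
    obtain ⟨Z, g', h', hZ⟩ := distinguished_cocone_triangle m
    refine ⟨_, hZ, rfl, ?_, ⟨Iso.refl _⟩⟩
    have := adjV.isIso_counit_of_iso (CohDerLib.Kosz.restrictRpushSelf V)
    have : IsIso ((DCoh.restrictD V.ι).map (adjV.unit.app M.obj)) :=
      ⟨adjV.counit.app _, adjV.left_triangle_components M.obj, (cancel_mono (adjV.counit.app _)).1 (by
        rw [Category.assoc]; erw [adjV.left_triangle_components M.obj, Category.comp_id, Category.id_comp])⟩
    exact (Triangle.isZero₃_iff_isIso₁ _ ((DCoh.restrictD V.ι).map_distinguished _ (ιY.map_distinguished _ hZ))).2 this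
  have hone : Good (DerivedCategory.Q.obj (oneCx (V : Scheme.{u}))) := by
    have hq : DCoh.IsQCohD (DerivedCategory.Q.obj (oneCx Y)) := isQCohD_one Y
    obtain ⟨T, hT, h₀, hz, ⟨e⟩⟩ := tri ⟨_, hq⟩
    have hA : NatTransClosed.AllShifts η T.obj₁ := by
      rw [h₀]
      intro n
      have hn := QCohModel.isQCohD_of_iso ((DerivedCategory.Q.commShiftIso n).app (oneCx Y)).symm
        (CohDerLib.QC.isQCohD_shift hq n)
      have := hO n hn
      exact (NatTrans.isIso_app_iff_of_iso η ((DCoh.IsQCohD (X := Y)).isoMk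
        ((DerivedCategory.Q.commShiftIso n).app (oneCx Y) ≪≫ ((ιY.commShiftIso n).app ⟨_, hq⟩).symm) :
          (⟨_, hn⟩ : DCoh.DQCoh Y) ≅ _)).1 (@Functor.map_isIso _ _ _ _ _ _ R _ this)
    exact giso (restrictOneIso V) ⟨PerfExt.isQCohD_restrict V.ι hq,
      NatTransClosed.AllShifts.iso η e (NatTransClosed.allShifts_obj₂ η h₁ h₂ _ hT hA (hsupps _ hz))⟩
  have hgood : ∀ {M : DCoh.D (V : Scheme.{u})}, DCoh.IsQCohD M → Good M := AffineGen.mem closed fun n =>
    giso (((DerivedCategory.Q.commShiftIso (-n)).app _).symm ≪≫ DerivedCategory.Q.mapIso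
      (((CochainComplex.singleFunctors (V : Scheme.{u}).Modules).shiftIso (-n) n 0 (neg_add_cancel n)).app
        (Coh.structureModule (V : Scheme.{u})))) (gshift _ (-n) hone)
  obtain ⟨T, hT, rfl, hz, ⟨e⟩⟩ := tri M
  have h2 : NatTransClosed.AllShifts η T.obj₂ :=
    NatTransClosed.AllShifts.iso η e.symm (hgood (PerfExt.isQCohD_restrict V.ι T.obj₁.property)).2
  exact (NatTransClosed.allShifts_obj₂ η h₁ h₂ _ (inv_rot_of_distTriang _ hT)
    ((hsupps _ hz).shift η (-1)) h2).app η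

include adj in
/-- Main theorem. -/
theorem nonempty_iso_of_model (hcop : ∀ K : Type u, PreservesColimitsOfShape (Discrete K) a)
    (O : DCoh.DQCoh Y) (eO : O.obj ≅ DerivedCategory.Q.obj (oneCx Y))
    (eJ : DCoh.toD X J ≅ (a.obj O).obj) : Nonempty (a ≅ F f J hJ) := by
  have := LTensor.hasLTensorCx (ProjPerfect.fJ f J)
  have := LTensor.hasLTensorCx (oneCx Y)
  have := RPush.isIso_toRpush f J
  have : QuasiCompact f := AlgebraicGeometry.quasiCompact_of_compactSpace f
  have : QuasiSeparated f := QuasiSeparated.of_quasiSeparatedSpace f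
  have hperf := isPerfect_Rpush_of_preservesCoproducts f hf a adj hcop
  -- the trace
  let u₀ : (⟨DCoh.toD X J, hJ⟩ : DCoh.DQCoh X) ≅ a.obj O := (DCoh.IsQCohD (X := X)).isoMk eJ
  let χ : (DCoh.Rpush f).obj (DCoh.toD X J) ⟶ DerivedCategory.Q.obj (oneCx Y) :=
    ((adj.homEquiv _ O).symm u₀.hom).hom ≫ eO.hom
  have hχ : ∀ P : DCoh.D X, DCoh.IsQCohD P →
      Function.Bijective fun y : P ⟶ DCoh.toD X J => (DCoh.Rpush f).map y ≫ χ := fun P hP => by
    let P' : DCoh.DQCoh X := ⟨P, hP⟩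
    let e : (P ⟶ DCoh.toD X J) ≃ ((DCoh.Rpush f).obj P ⟶ DerivedCategory.Q.obj (oneCx Y)) :=
      (((DCoh.IsQCohD (X := X)).fullyFaithfulι.homEquiv (X := P') (Y := ⟨DCoh.toD X J, hJ⟩)).symm.trans
        ((Iso.homCongr (Iso.refl P') u₀).trans (adj.homEquiv P' O).symm)).trans
        (((DCoh.IsQCohD (X := Y)).fullyFaithfulι.homEquiv).trans (Iso.homCongr (Iso.refl _) eO))
    refine (congrArg Function.Bijective (funext fun y => ?_)).mp e.bijective
    show 𝟙 _ ≫ ((adj.homEquiv P' O).symm (𝟙 P' ≫ (⟨y⟩ : P' ⟶ ⟨DCoh.toD X J, hJ⟩) ≫ u₀.hom)).hom ≫ eO.hom = _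
    rw [Category.id_comp, Category.id_comp, adj.homEquiv_naturality_left_symm]
    exact Category.assoc _ _ _
  have := LTensor.hasLTensorCx ((pushCx f).obj J)
  obtain ⟨T, s, hs, g, hg⟩ := DerivedCategory.right_fac
    (show DerivedCategory.Q.obj (ProjPerfect.fJ f J) ⟶ DerivedCategory.Q.obj (oneCx Y) from (toRpush f).app J ≫ χ)
  have hqs : QuasiIso s := (DerivedCategory.isIso_Q_map_iff_quasiIso Y.Modules s).1 hs
  have := LTensor.hasLTensorCx T
  have hνiso : ∀ M : DCoh.DQCoh Y, IsIso ((ProjPerfect.ν f J).app M.obj) := fun M => by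
    let F₀ := DerivedCategory.Q.objPreimage M.obj
    let e := (resQIso (Y := Y)).app F₀ ≪≫ DerivedCategory.Q.objObjPreimageIso M.obj
    exact (NatTrans.isIso_app_iff_of_iso (ProjPerfect.ν f J) e).1
      (DEq.ProjQCoh.isIso_ν f J hJ _ (isKFlat_resY F₀) (QCohModel.isQCohD_of_iso e.symm M.property))
  let t : F f J hJ ⋙ DCoh.RpushQ f hf ⟶ 𝟭 (DCoh.DQCoh Y) :=
    { app := fun M => ⟨@inv _ _ _ _ ((ProjPerfect.ν f J).app M.obj) (hνiso M) ≫
        (AdjTensorTest.τ s g).app M.obj⟩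
      naturality := fun M M' φ => by
        refine ObjectProperty.hom_ext _ ?_
        have h1 := (ProjPerfect.ν f J).naturality φ.hom
        have h2 := (AdjTensorTest.τ s g).naturality φ.hom
        have := hνiso M
        have := hνiso M'
        change (ProjPerfect.B f J).map φ.hom ≫ inv ((ProjPerfect.ν f J).app M'.obj) ≫ _ =
          (inv ((ProjPerfect.ν f J).app M.obj) ≫ _) ≫ φ.hom
        rw [Category.assoc, IsIso.eq_inv_comp]
        refine (Category.assoc _ _ _).symm.trans ((congrArg (· ≫ _) h1.symm).trans ((Category.assoc _ _ _).trans ?_))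
        rw [IsIso.hom_inv_id_assoc]
        exact h2 }
  let θ : F f J hJ ⟶ a :=
    { app := fun M => adj.homEquiv _ M (t.app M)
      naturality := fun M M' φ => by
        rw [← adj.homEquiv_naturality_left, ← adj.homEquiv_naturality_right]
        exact congrArg _ (t.naturality φ) }
  -- invertibility at shifts of the structure sheaf
  have hO : ∀ (n : ℤ) (hn : DCoh.IsQCohD (DerivedCategory.Q.obj (ProjShift.S Y n))),
      IsIso (θ.app ⟨_, hn⟩) := fun n hn => by
    let M : DCoh.DQCoh Y := ⟨_, hn⟩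
    have := hνiso M
    have : IsIso (θ.app M).hom := by
      refine isIso_of_bijective_perfect ((F f J hJ).obj M).property (a.obj M).property _ fun P hP => ?_
      let P' : DCoh.DQCoh X := ⟨P, PerfExt.isQCohD_of_isPerfect hP⟩
      let I := (injRes X).obj (DerivedCategory.Q.objPreimage (P⟦-n⟧))
      let eI : DerivedCategory.Q.obj I ≅ P⟦-n⟧ :=
        injQIso.app _ ≪≫ DerivedCategory.Q.objObjPreimageIso _
      let eIn : DerivedCategory.Q.obj (I⟦n⟧) ≅ P :=
        (DerivedCategory.Q.commShiftIso n).app I ≪≫ (shiftFunctor (DCoh.D X) n).mapIso eI ≪≫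
          (shiftFunctorCompIsoId (DCoh.D X) (-n) n (by omega)).app P
      have hb := AdjTensorTest.bijective_trace f J s g n χ hg P I eIn
        (hχ _ (QCohModel.isQCohD_of_iso eI.symm
          (CohDerLib.QC.isQCohD_shift (PerfExt.isQCohD_of_isPerfect hP) _)))
      let e : (P ⟶ (a.obj M).obj) ≃ ((DCoh.Rpush f).obj P ⟶ M.obj) :=
        (((DCoh.IsQCohD (X := X)).fullyFaithfulι.homEquiv (X := P') (Y := a.obj M)).symm.trans
          (adj.homEquiv P' M).symm).trans (DCoh.IsQCohD (X := Y)).fullyFaithfulι.homEquiv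
      refine (e.bijective.of_comp_iff' _).1 ((congrArg Function.Bijective (funext fun φ => ?_)).mp hb)
      change ((DCoh.RpushQ f hf).map (⟨φ⟩ : P' ⟶ (F f J hJ).obj M) ≫ t.app M).hom =
        ((adj.homEquiv P' M).symm ((⟨φ⟩ : P' ⟶ (F f J hJ).obj M) ≫ adj.homEquiv _ M (t.app M))).hom
      exact (congrArg (fun x => x.hom) ((congrArg (adj.homEquiv P' M).symm
        (adj.homEquiv_naturality_left (⟨φ⟩ : P' ⟶ (F f J hJ).obj M) (t.app M)).symm).trans
          ((adj.homEquiv P' M).symm_apply_apply _))).symm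
    have : IsIso ((DCoh.IsQCohD (X := X)).ι.map (θ.app M)) := this
    exact isIso_of_fully_faithful (DCoh.IsQCohD (X := X)).ι (θ.app M)
  -- all objects
  have hall : ∀ M : DCoh.DQCoh Y, IsIso (θ.app M) := fun M => by
    have : IsIso (θ.app M).hom := by
      refine RHomTest.isIso_of_perfect f ((F f J hJ).obj M).property (a.obj M).property _ fun L _ _ hL => ?_
      exact isIso_Rpush_RSheafHom f hf a adj J hJ θ hcop L hL (hperf _ hL) hO M
    have : IsIso ((DCoh.IsQCohD (X := X)).ι.map (θ.app M)) := this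
    exact isIso_of_fully_faithful (DCoh.IsQCohD (X := X)).ι (θ.app M)
  have := NatIso.isIso_of_isIso_app θ
  exact ⟨(asIso θ).symm⟩

include adj in
/-- `a ≅ Lf^*(-) ⊗ᴸ a(O)` when `a` preserves sums. -/
theorem nonempty_iso (hcop : ∀ K : Type u, PreservesColimitsOfShape (Discrete K) a)
    (O : DCoh.DQCoh Y) (hO : Nonempty (O.obj ≅ DCoh.inD Y (Coh.structureModule Y)))
    (E : CochainComplex X.Modules ℤ) (hE : Nonempty (DCoh.toD X E ≅ (a.obj O).obj)) [DCoh.HasLTensorCx E] :
    Nonempty (a ⋙ ObjectProperty.ι _ ≅ ObjectProperty.ι _ ⋙ DCoh.Lpull f ⋙ DCoh.LTensorCx E) := by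
  obtain ⟨eO⟩ := hO
  obtain ⟨eE⟩ := hE
  let J := (injRes X).obj E
  let e : DCoh.toD X J ≅ DCoh.toD X E := injQIso.app E
  have hJ : DCoh.IsQCohD (DCoh.toD X J) := QCohModel.isQCohD_of_iso (e ≪≫ eE).symm (a.obj O).property
  have := LTensor.hasLTensorCx J
  obtain ⟨i⟩ := nonempty_iso_of_model f hf a adj J hJ hcop O
    (eO ≪≫ (DerivedCategory.singleFunctorIsoCompQ Y.Modules 0).app _) (e ≪≫ eE)
  obtain ⟨c⟩ := StrictDual.nonempty_ltCongr e
  exact ⟨Functor.isoWhiskerRight i _ ≪≫ NatIso.ofComponents (fun M => c.app _) (fun φ => c.hom.naturality _)⟩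

end Groth.Agent.KFlat.AdjTensor
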