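import Groth.Agent.KFlat.ProjShift

/-!
# The trace at shifts of the structure sheaf: the maps involved
-/

set_option autoImplicit false
set_option linter.unusedSectionVars false

universe u

open CategoryTheory CategoryTheory.Limits AlgebraicGeometry
open Groth.Agent.KFlat.Pull Groth.Agent.KFlat.LTensor Groth.Agent.KFlat.UnitCx Groth.Agent.KFlat.WeakKInj
open Groth.Agent.KFlat.RPush Groth.Agent.KFlat.PerfectDual Groth.Agent.KFlat.ProjFormula Groth.Agent.KFlat.ProjShift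

attribute [local instance] HasDerivedCategory.standard

noncomputable section

namespace Groth.Agent.KFlat.AdjTensorTest

section One

variable {Y : Scheme.{u}}

local notation "QY" => DerivedCategory.Q (C := Y.Modules)

/-- `O[n] ⊗ᴸ A ≅ A[n]`. -/
def ζ (A : CochainComplex Y.Modules ℤ) [DCoh.HasLTensorCx A] (n : ℤ) :
    (DCoh.LTensorCx A).obj ((QY).obj (S Y n)) ≅ (QY).obj (A⟦n⟧) :=
  (LTensorAssoc.ltIso A).app (S Y n) ≪≫ (ProjPerfect.flipQ A).app ((resY Y).obj (S Y n)) ≪≫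
    @asIso _ _ _ _ ((QY).map ((DCoh.tensorCx.obj A).map ((resYπ Y).app (S Y n))))
      (have := quasiIso_resYπ (Y := Y) (S Y n)
       have : QuasiIso ((DCoh.tensorCx.obj A).map ((resYπ Y).app (S Y n))) :=
         Groth.Agent.KFlat.quasiIso_tens_map (O := Y.sheaf) _ (isKFlat_resY _) (isKFlat_oneShift n) A
       inferInstance) ≪≫
    (QY).mapIso ((flipShiftIso n).app A)

theorem flip_square {C : Type*} [Category C] (T : C ⥤ C ⥤ C) (φ : T.flip ≅ T) {R S : C} {G : C ⥤ C}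
    (F : T.flip.obj S ≅ G) (π : R ⟶ S) {A B : C} (g : A ⟶ B) :
    (T.obj R).map g ≫ (φ.hom.app B).app R ≫ (T.obj B).map π ≫ F.hom.app B =
      (φ.hom.app A).app R ≫ (T.obj A).map π ≫ F.hom.app A ≫ G.map g := by
  have h1 := congrArg (fun x => NatTrans.app x R) (φ.hom.naturality g)
  have h2 := (T.map g).naturality π
  have h3 := F.hom.naturality g
  simp only [NatTrans.comp_app, Functor.flip_map_app] at h1
  simp only [Functor.flip_obj_map] at h3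
  rw [reassoc_of% h1, ← reassoc_of% h2, h3]

theorem conj_square {E : Type*} [Category E] {P P' Pa Pb Ta Tb : E} (α : P ≅ Pa) (β : P' ≅ Pb) {m : Pa ⟶ Pb}
    {Ra Sa Rb Sb : E} {b₁ : Pa ⟶ Ra} {b₂ : Ra ⟶ Sa} {b₃ : Sa ⟶ Ta} {c₁ : Pb ⟶ Rb} {c₂ : Rb ⟶ Sb} {c₃ : Sb ⟶ Tb}
    {r : Ta ⟶ Tb} (h : m ≫ c₁ ≫ c₂ ≫ c₃ = b₁ ≫ b₂ ≫ b₃ ≫ r) :
    (α.hom ≫ m ≫ β.inv) ≫ β.hom ≫ c₁ ≫ c₂ ≫ c₃ = (α.hom ≫ b₁ ≫ b₂ ≫ b₃) ≫ r := by
  simp [h]

theorem mapLT_ζ {A B : CochainComplex Y.Modules ℤ} [DCoh.HasLTensorCx A] [DCoh.HasLTensorCx B] (g : A ⟶ B)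
    (n : ℤ) : (LTensorMap.mapLT g).app ((QY).obj (S Y n)) ≫ (ζ B n).hom = (ζ A n).hom ≫ (QY).map (g⟦n⟧') := by
  have key := congrArg (QY).map (flip_square (DCoh.tensorCx (X := Y)) (Groth.Agent.KFlat.tensFlipIso Y.sheaf)
    (flipShiftIso n) ((resYπ Y).app (S Y n)) g)
  rw [Functor.map_comp, Functor.map_comp, Functor.map_comp, Functor.map_comp, Functor.map_comp, Functor.map_comp]
    at key
  exact (congrArg (· ≫ (ζ B n).hom) (LTensorMap.mapLT_app_Q g (S Y n))).trans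
    (conj_square ((LTensorAssoc.ltIso A).app (S Y n)) ((LTensorAssoc.ltIso B).app (S Y n)) key)

/-- The natural transformation of a roof. -/
def τ {A T : CochainComplex Y.Modules ℤ} [DCoh.HasLTensorCx A] [DCoh.HasLTensorCx T]
    [DCoh.HasLTensorCx (oneCx Y)] (s : T ⟶ A) [QuasiIso s] (g : T ⟶ oneCx Y) :
    DCoh.LTensorCx A ⟶ 𝟭 (DCoh.D Y) :=
  have := LTensorMap.isIso_mapLT s
  inv (LTensorMap.mapLT s) ≫ LTensorMap.mapLT g ≫ (LTensorMap.ltOne (X := Y)).hom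

theorem exists_τ_eq {A T : CochainComplex Y.Modules ℤ} [DCoh.HasLTensorCx A] [DCoh.HasLTensorCx T]
    [DCoh.HasLTensorCx (oneCx Y)] (s : T ⟶ A) [QuasiIso s] (g : T ⟶ oneCx Y) (n : ℤ) :
    ∃ v : ((QY).obj (oneCx Y))⟦n⟧ ≅ (QY).obj (S Y n),
      ((QY).commShiftIso n).inv.app A ≫ (ζ A n).inv ≫ (τ s g).app ((QY).obj (S Y n)) =
        (inv ((QY).map s) ≫ (QY).map g)⟦n⟧' ≫ v.hom := by
  refine ⟨(((QY).commShiftIso n).app (oneCx Y)).symm ≪≫ (ζ (oneCx Y) n).symm ≪≫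
    (LTensorMap.ltOne (X := Y)).app _, ?_⟩
  have := LTensorMap.isIso_mapLT s
  have hs := mapLT_ζ s n
  have hg := mapLT_ζ g n
  have h1 : (ζ A n).inv ≫ inv ((LTensorMap.mapLT s).app ((QY).obj (S Y n))) =
      inv ((QY).map (s⟦n⟧')) ≫ (ζ T n).inv := by
    rw [IsIso.eq_inv_comp, ← Category.assoc, IsIso.comp_inv_eq, Iso.comp_inv_eq, Category.assoc, hs,
      Iso.inv_hom_id_assoc]
  have h2 : (ζ T n).inv ≫ (LTensorMap.mapLT g).app ((QY).obj (S Y n)) =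
      (QY).map (g⟦n⟧') ≫ (ζ (oneCx Y) n).inv := by
    rw [Iso.inv_comp_eq, ← Category.assoc, ← hg, Category.assoc, Iso.hom_inv_id, Category.comp_id]
  have h3 : ∀ {B : CochainComplex Y.Modules ℤ} (k : T ⟶ B), (QY).map (k⟦n⟧') ≫ ((QY).commShiftIso n).hom.app B =
      ((QY).commShiftIso n).hom.app T ≫ ((QY).map k)⟦n⟧' := fun k => ((QY).commShiftIso n).hom.naturality k
  simp only [τ, NatTrans.comp_app, NatIso.isIso_inv_app, Iso.trans_hom, Iso.symm_hom, Iso.app_hom, Iso.app_inv]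
  rw [reassoc_of% h1, reassoc_of% h2, Functor.map_comp, Functor.map_inv]
  have h4 : ((QY).commShiftIso n).inv.app A ≫ inv ((QY).map (s⟦n⟧')) =
      inv (((QY).map s)⟦n⟧') ≫ ((QY).commShiftIso n).inv.app T := by
    rw [IsIso.eq_inv_comp, ← Category.assoc, IsIso.comp_inv_eq]
    exact ((QY).commShiftIso n).inv.naturality s
  rw [reassoc_of% h4]
  have h5 : ((QY).commShiftIso n).inv.app T ≫ (QY).map (g⟦n⟧') =
      ((QY).map g)⟦n⟧' ≫ ((QY).commShiftIso n).inv.app (oneCx Y) := (((QY).commShiftIso n).inv.naturality g).symm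
  rw [reassoc_of% h5]
  simp only [Category.assoc]

end One

variable {X Y : Scheme.{u}} (f : X ⟶ Y) [DCoh.HasRpush f] [DCoh.HasLpull f]
  (J : CochainComplex X.Modules ℤ) [J.IsKInjective]
  [DCoh.HasLTensorCx (ProjPerfect.fJ f J)] [DCoh.HasLTensorCx J]

local notation "QX" => DerivedCategory.Q (C := X.Modules)
local notation "QY" => DerivedCategory.Q (C := Y.Modules)

/-- The resolved source. -/
abbrev W0 (n : ℤ) : CochainComplex X.Modules ℤ :=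
  (DCoh.tensorCx.obj J).obj ((pullCx f).obj ((resY Y).obj (S Y n)))

/-- The inner part of `eB`. -/
def β (n : ℤ) : (DCoh.LTensorCx J).obj ((DCoh.Lpull f).obj ((QY).obj (S Y n))) ≅ (QX).obj (W0 f J n) :=
  (DCoh.LTensorCx J).mapIso ((lpullIso f).app (S Y n)) ≪≫
    (@asIso _ _ _ _ ((toTensor J).app ((pullCx f).obj ((resY Y).obj (S Y n))))
      (isIso_toTensor J (isKFlat_pullCx f (isKFlat_resY _)))) ≪≫
    (ProjPerfect.flipQ J).app _

/-- `W0 → J[n]`. -/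
def σ (n : ℤ) : W0 f J n ⟶ J⟦n⟧ :=
  (DCoh.tensorCx.obj J).map ((pullCx f).map ((resYπ Y).app (S Y n))) ≫
    (DCoh.tensorCx.obj J).map (pullS f n).hom ≫ (flipShiftIso n).hom.app J

theorem isIso_Q_σ (n : ℤ) : IsIso ((QX).map (σ f J n)) := by
  have := quasiIso_resYπ (Y := Y) (S Y n)
  have h2 : QuasiIso ((pullCx f).map ((resYπ Y).app (S Y n))) :=
    quasiIso_pullCx f _ (isKFlat_resY _) (isKFlat_oneShift n)
  have : QuasiIso ((DCoh.tensorCx.obj J).map ((pullCx f).map ((resYπ Y).app (S Y n)))) :=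
    @Groth.Agent.KFlat.quasiIso_tens_map _ _ _ X.sheaf _ _ ((pullCx f).map ((resYπ Y).app (S Y n))) h2
      (isKFlat_pullCx f (isKFlat_resY _)) (isKFlat_pullCx f (isKFlat_oneShift n)) J
  simp only [σ, Functor.map_comp]
  infer_instance

/-- `F(O[n]) ≅ J[n]`. -/
def w (n : ℤ) : (DCoh.LTensorCx J).obj ((DCoh.Lpull f).obj ((QY).obj (S Y n))) ≅ (QX).obj (J⟦n⟧) :=
  β f J n ≪≫ @asIso _ _ _ _ ((QX).map (σ f J n)) (isIso_Q_σ f J n)

theorem square_push {E E' : Type*} [Category E] [Category E'] (R : E ⥤ E') {q0 q1 q2 q3 : E} {p0 p1 p2 : E'}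
    (F : p1 ≅ p2) {b₁ : q0 ⟶ q1} {b₂ : q1 ⟶ q2} {b₃ : q2 ⟶ q3} {a : p0 ⟶ p1} {θR : p0 ⟶ R.obj q0}
    {θS : p1 ⟶ R.obj q1} (h : a ≫ θS = θR ≫ R.map b₁) :
    θR ≫ R.map (b₁ ≫ b₂ ≫ b₃) = (a ≫ F.hom) ≫ (F.inv ≫ θS ≫ R.map (b₂ ≫ b₃)) := by
  simp [reassoc_of% h]

end Groth.Agent.KFlat.AdjTensorTest
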