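import Groth.Agent.KFlat.AdjTensorBase

/-!
# Universality of the trace at shifts of the structure sheaf
-/

set_option autoImplicit false
set_option linter.unusedSectionVars false

universe u

open CategoryTheory CategoryTheory.Limits AlgebraicGeometry
open Groth.Agent.KFlat.Pull Groth.Agent.KFlat.LTensor Groth.Agent.KFlat.UnitCx Groth.Agent.KFlat.WeakKInj
open Groth.Agent.KFlat.RPush Groth.Agent.KFlat.PerfectDual Groth.Agent.KFlat.ProjFormula Groth.Agent.KFlat.ProjShift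

attribute [local instance] HasDerivedCategory.standard

noncomputable section

namespace Groth.Agent.KFlat.AdjTensorTest

variable {X Y : Scheme.{u}} (f : X ⟶ Y) [DCoh.HasRpush f] [DCoh.HasLpull f]
  (J : CochainComplex X.Modules ℤ) [J.IsKInjective]
  [DCoh.HasLTensorCx (ProjPerfect.fJ f J)] [DCoh.HasLTensorCx J]

local notation "QX" => DerivedCategory.Q (C := X.Modules)
local notation "QY" => DerivedCategory.Q (C := Y.Modules)

/-- The derived direct image does not see the injective resolution. -/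
theorem map_injι_rpushIso (W : CochainComplex X.Modules ℤ) :
    (QY).map ((pushCx f).map ((injι X).app W)) ≫ (rpushIso f).inv.app W = (toRpush f).app W := by
  have hn : (pushQ f).map ((injι X).app W) ≫ (toRpush f).app ((injRes X).obj W) =
    (toRpush f).app W ≫ (DCoh.Rpush f).map ((QX).map ((injι X).app W)) := (toRpush f).naturality _
  have he : (rpushIso f).inv.app W =
      (toRpush f).app ((injRes X).obj W) ≫ (DCoh.Rpush f).map ((injQIso (X := X)).hom.app W) := by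
    simp [rpushIso]
  rw [he]
  refine ((Category.assoc _ _ _).symm.trans (congrArg (· ≫ _) hn)).trans ?_
  refine (Category.assoc _ _ _).trans ?_
  have hi : (QX).map ((injι X).app W) ≫ (injQIso (X := X)).hom.app W = 𝟙 _ := by simp [injQIso]
  exact (congrArg (_ ≫ ·) (((DCoh.Rpush f).map_comp _ _).symm.trans
    ((congrArg (DCoh.Rpush f).map hi).trans ((DCoh.Rpush f).map_id _)))).trans (Category.comp_id _)

theorem νc_σ (n : ℤ) :
    (QY).map ((ProjPerfect.νc f J).app ((resY Y).obj (S Y n))) ≫ (rpushIso f).inv.app (W0 f J n) ≫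
        (DCoh.Rpush f).map ((QX).map (σ f J n)) =
      (QY).map ((DCoh.tensorCx.obj (ProjPerfect.fJ f J)).map ((resYπ Y).app (S Y n)) ≫
          (flipShiftIso n).hom.app (ProjPerfect.fJ f J)) ≫ (QY).map ((η0 f n).app J) ≫
        (toRpush f).app (J⟦n⟧) := by
  let W := W0 f J n
  have e1 : (QY).map ((pushCx f).map ((injι X).app W)) ≫ (rpushIso f).inv.app W = (toRpush f).app W :=
    map_injι_rpushIso f W
  have e2 : (ProjPerfect.νc f J).app ((resY Y).obj (S Y n)) =
      (ProjChain.θc f J).app ((resY Y).obj (S Y n)) ≫ (pushCx f).map ((injι X).app W) := by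
    exact congrArg ((ProjChain.θc f J).app ((resY Y).obj (S Y n)) ≫ ·) (Category.id_comp _)
  have e3 : (toRpush f).app W ≫ (DCoh.Rpush f).map ((QX).map (σ f J n)) =
      (QY).map ((pushCx f).map (σ f J n)) ≫ (toRpush f).app (J⟦n⟧) := ((toRpush f).naturality (σ f J n)).symm
  have e4 : (ProjChain.θc f J).app ((resY Y).obj (S Y n)) ≫ (pushCx f).map (σ f J n) =
      ((DCoh.tensorCx.obj (ProjPerfect.fJ f J)).map ((resYπ Y).app (S Y n)) ≫
        (flipShiftIso n).hom.app (ProjPerfect.fJ f J)) ≫ (η0 f n).app J :=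
    square_push (pushCx f) ((flipShiftIso n).app ((pushCx f).obj J))
      (b₁ := (DCoh.tensorCx.obj J).map ((pullCx f).map ((resYπ Y).app (S Y n))))
      (b₂ := (DCoh.tensorCx.obj J).map (pullS f n).hom) (b₃ := (flipShiftIso n).hom.app J)
      ((ProjChain.θc f J).naturality ((resYπ Y).app (S Y n)))
  rw [e2]
  refine (congrArg (· ≫ _) ((QY).map_comp _ _)).trans ((Category.assoc _ _ _).trans ?_)
  refine (congrArg (fun x => (QY).map ((ProjChain.θc f J).app ((resY Y).obj (S Y n))) ≫ x)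
    ((Category.assoc _ _ _).symm.trans ((congrArg (· ≫ (DCoh.Rpush f).map ((QX).map (σ f J n))) e1).trans e3))).trans ?_
  refine ((Category.assoc _ _ _).symm.trans (congrArg (· ≫ _) (((QY).map_comp _ _).symm.trans
    ((congrArg (QY).map e4).trans ((QY).map_comp _ _))))).trans ?_
  exact Category.assoc _ _ _

theorem conj_push {E E' : Type*} [Category E] [Category E'] (R : E ⥤ E') {U W' T' : E} (β : U ≅ W')
    {σ : W' ⟶ T'} {p0 p1 p2 p3 p4 p5 p6 : E'} {l : p0 ⟶ p1} {fl : p1 ⟶ p2} {m : p2 ⟶ p3} {r : p3 ⟶ R.obj W'}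
    {π' : p2 ⟶ p4} {F' : p4 ⟶ p5} {η : p5 ⟶ p6} {tr : p6 ⟶ R.obj T'}
    (h : m ≫ r ≫ R.map σ = π' ≫ F' ≫ η ≫ tr) :
    ((l ≫ fl) ≫ m ≫ r ≫ R.map β.inv) ≫ R.map (β.hom ≫ σ) = (l ≫ fl ≫ π' ≫ F') ≫ η ≫ tr := by
  simp only [Category.assoc, ← Functor.map_comp, Iso.inv_hom_id_assoc, h]

theorem ν_w (n : ℤ) :
    (ProjPerfect.ν f J).app ((QY).obj (S Y n)) ≫ (DCoh.Rpush f).map (w f J n).hom =
      (ζ (ProjPerfect.fJ f J) n).hom ≫ (QY).map ((η0 f n).app J) ≫ (toRpush f).app (J⟦n⟧) := by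
  have hB : (ProjPerfect.eB f J).inv.app (S Y n) =
      (rpushIso f).inv.app (W0 f J n) ≫ (DCoh.Rpush f).map (β f J n).inv := by
    simp [ProjPerfect.eB, β]
  have hA : (ProjPerfect.eA f J).hom.app (S Y n) = (LTensorAssoc.ltIso (ProjPerfect.fJ f J)).hom.app (S Y n) ≫
      (ProjPerfect.flipQ (ProjPerfect.fJ f J)).hom.app ((resY Y).obj (S Y n)) := rfl
  have hν : (ProjPerfect.ν f J).app ((QY).obj (S Y n)) = (ProjPerfect.eA f J).hom.app (S Y n) ≫
      (QY).map ((ProjPerfect.νc f J).app ((resY Y).obj (S Y n))) ≫ (ProjPerfect.eB f J).inv.app (S Y n) := by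
    rw [ProjPerfect.ν, Localization.liftNatTrans_app]
    exact (Category.id_comp _).trans (Category.comp_id _)
  have h := νc_σ f J n
  rw [Functor.map_comp, Category.assoc] at h
  exact (congrArg (· ≫ _) (hν.trans ((congrArg (fun x => x ≫ _ ≫ _) hA).trans
    (congrArg (fun x => _ ≫ _ ≫ x) hB)))).trans (conj_push (DCoh.Rpush f) (β f J n) h)

/-- The trace at `O[n]` is universal. -/
theorem bijective_trace {T : CochainComplex Y.Modules ℤ} [DCoh.HasLTensorCx T] [DCoh.HasLTensorCx (oneCx Y)]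
    (s : T ⟶ ProjPerfect.fJ f J) [QuasiIso s] (g : T ⟶ oneCx Y) (n : ℤ)
    [IsIso ((ProjPerfect.ν f J).app ((QY).obj (S Y n)))]
    (χ : (DCoh.Rpush f).obj ((QX).obj J) ⟶ (QY).obj (oneCx Y))
    (hχ0 : (toRpush f).app J ≫ χ = inv ((QY).map s) ≫ (QY).map g)
    (P : DCoh.D X) (I : CochainComplex X.Modules ℤ) [I.IsKInjective] (eI : (QX).obj (I⟦n⟧) ≅ P)
    (hχ : Function.Bijective fun y : (QX).obj I ⟶ (QX).obj J => (DCoh.Rpush f).map y ≫ χ) :
    Function.Bijective fun φ : P ⟶ (DCoh.LTensorCx J).obj ((DCoh.Lpull f).obj ((QY).obj (S Y n))) =>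
      (DCoh.Rpush f).map φ ≫ inv ((ProjPerfect.ν f J).app ((QY).obj (S Y n))) ≫
        (τ s g).app ((QY).obj (S Y n)) := by
  have := isIso_η0 f n J
  have := isIso_toRpush_of_weak f (WeakKInj.shift (WeakKInj.of_isKInjective J) n)
  obtain ⟨v, hv⟩ := exists_τ_eq s g n
  have hinv : inv ((ProjPerfect.ν f J).app ((QY).obj (S Y n))) ≫ (τ s g).app ((QY).obj (S Y n)) =
      (DCoh.Rpush f).map (w f J n).hom ≫ (c f n J).hom ≫ ((toRpush f).app J ≫ χ)⟦n⟧' ≫ v.hom := by
    refine (IsIso.inv_comp_eq _).2 ?_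
    rw [reassoc_of% (ν_w f J n), hχ0]
    simp only [c, Iso.trans_hom, Iso.symm_hom, asIso_inv, Iso.app_hom, Category.assoc, IsIso.hom_inv_id_assoc]
    erw [← hv]
    erw [IsIso.hom_inv_id_assoc, Iso.hom_inv_id_app_assoc, Iso.hom_inv_id_assoc]
  let L : ((DCoh.Rpush f).obj ((QX).obj (I⟦n⟧)) ⟶ ((QY).obj (oneCx Y))⟦n⟧) ≃ ((DCoh.Rpush f).obj P ⟶ (QY).obj (S Y n)) :=
    Iso.homCongr ((DCoh.Rpush f).mapIso eI) v
  let M : (P ⟶ (DCoh.LTensorCx J).obj ((DCoh.Lpull f).obj ((QY).obj (S Y n)))) ≃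
      ((QX).obj (I⟦n⟧) ⟶ (QX).obj (J⟦n⟧)) := Iso.homCongr eI.symm (w f J n)
  refine (congrArg Function.Bijective (funext fun φ => ?_)).mp
    ((L.bijective.comp (bijective_c f n χ hχ)).comp M.bijective)
  simp only [hinv, L, M, Function.comp_apply, Iso.homCongr, Equiv.coe_fn_mk, Functor.mapIso_inv, Iso.symm_inv,
    Functor.map_comp, Category.assoc]
  rw [← Functor.map_comp_assoc, Iso.inv_hom_id]
  exact (congrArg (· ≫ _) ((DCoh.Rpush f).map_id P)).trans (Category.id_comp _)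

end Groth.Agent.KFlat.AdjTensorTest
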