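import Groth.Agent.PerfExt.Supp

/-!
# Factoring a map from a perfect complex through a torsion one, with a range of degrees
-/

set_option autoImplicit false

universe u

open CategoryTheory CategoryTheory.Limits Pretriangulated DerivedCategory
open Groth.Agent.CohDerLib.Kosz Groth.Agent.KFlat.TruncHom

attribute [local instance] HasDerivedCategory.standard

noncomputable section

namespace Groth.Agent.KFlat.ApproxAlg

variable {A : Type u} [CommRing A]

local notation "H" => homologyFunctor (ModuleCat A)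

/-- cohomology in degrees `≥ a` is `g`-power torsion -/
def TorsGE (g : A) (a : ℤ) (C : DerivedCategory (ModuleCat.{u} A)) : Prop :=
  ∀ (i : ℤ), a ≤ i → ∀ x : (homologyFunctor (ModuleCat.{u} A) i).obj C, ∃ k : ℕ, g ^ k • x = 0

/-- cohomology vanishes in degrees `≥ a` -/
def VanA (a : ℤ) (C : DerivedCategory (ModuleCat.{u} A)) : Prop :=
  ∀ (i : ℤ), a ≤ i → IsZero ((homologyFunctor (ModuleCat.{u} A) i).obj C)

/-- maps out of `K` into objects torsion in degrees `≥ a` are torsion -/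
def TH (a : ℤ) (K : DerivedCategory (ModuleCat.{u} A)) : Prop :=
  ∀ (g : A) (C : DerivedCategory (ModuleCat.{u} A)), TorsGE g a C → ∀ φ : K ⟶ C, ∃ k : ℕ, g ^ k • φ = 0

theorem tH_of_iso {a : ℤ} {K L : DerivedCategory (ModuleCat.{u} A)} (e : K ≅ L) (h : TH a K) :
    TH a L := fun g C hC φ => by
  obtain ⟨k, hk⟩ := h g C hC (e.hom ≫ φ)
  refine ⟨k, (cancel_epi e.hom).1 ?_⟩
  rw [Linear.comp_smul, hk, comp_zero]

theorem tH_isZero {a : ℤ} (K : DerivedCategory (ModuleCat.{u} A)) (h : IsZero K) : TH a K :=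
  fun _ _ _ _ => ⟨0, h.eq_of_src _ _⟩

theorem tH_mid {a : ℤ} (T : Triangle (DerivedCategory (ModuleCat.{u} A))) (hT : T ∈ distinguishedTriangles)
    (h₁ : TH a T.obj₁) (h₃ : TH a T.obj₃) : TH a T.obj₂ := fun g C hC φ => by
  obtain ⟨k, hk⟩ := h₁ g C hC (T.mor₁ ≫ φ)
  obtain ⟨ψ, hψ⟩ := Triangle.yoneda_exact₂ T hT (g ^ k • φ) (by rw [Linear.comp_smul, hk])
  obtain ⟨j, hj⟩ := h₃ g C hC ψ
  refine ⟨j + k, ?_⟩
  rw [pow_add, mul_smul, hψ, ← Linear.comp_smul, hj, comp_zero]

theorem tH_mono {a b : ℤ} {K : DerivedCategory (ModuleCat.{u} A)} (hab : a ≤ b) (h : TH b K) : TH a K :=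
  fun g C hC φ => h g C (fun i hi => hC i (by omega)) φ

theorem tH_shift {a : ℤ} {K : DerivedCategory (ModuleCat.{u} A)} (h : TH a K) : TH (a - 1) (K⟦(1 : ℤ)⟧) :=
  fun g C hC φ => by
  let e := (shiftFunctorCompIsoId (DerivedCategory (ModuleCat.{u} A)) (1 : ℤ) (-1) (by omega))
  have hC' : TorsGE g a (C⟦(-1 : ℤ)⟧) := fun i hi x => by
    let ι := (((homologyFunctor (ModuleCat.{u} A) 0).shiftIso (-1 : ℤ) i (i - 1) (by omega)).app C).toLinearEquiv
    obtain ⟨k, hk⟩ := hC (i - 1) (by omega) (ι x)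
    exact ⟨k, ι.injective ((ι.map_smul _ _).trans (hk.trans ι.map_zero.symm))⟩
  obtain ⟨k, hk⟩ := h g _ hC' (e.inv.app K ≫ φ⟦(-1 : ℤ)⟧')
  refine ⟨k, (shiftFunctor (DerivedCategory (ModuleCat.{u} A)) (-1 : ℤ)).map_injective ?_⟩
  rw [Functor.map_zero, Functor.map_smul]
  refine (cancel_epi (e.inv.app K)).1 ?_
  rw [Linear.comp_smul, comp_zero]
  exact hk

theorem tH_single {a : ℤ} (m : ℤ) (hm : a ≤ m) (M : ModuleCat.{u} A) [Module.Finite A M] [Module.Projective A M] :
    TH a ((singleFunctor (ModuleCat.{u} A) m).obj M) := fun g C hC φ => by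
  classical
  have : Projective M := (IsProjective.iff_projective (R := A) (P := M)).1 inferInstance
  obtain ⟨s, hs⟩ := (Module.finite_def (R := A) (M := M)).1 inferInstance
  let f := (Φ M m C φ).hom
  choose k hk using fun x : M => hC m hm (f x)
  refine ⟨s.sup k, (Groth.Agent.KFlat.Generator.Φ_bijective_of_projective M m C).1 ?_⟩
  rw [map_zero]
  refine ModuleCat.hom_ext (LinearMap.ext_on hs fun x hx => ?_)
  have h1 : Φ M m C (g ^ s.sup k • φ) = g ^ s.sup k • Φ M m C φ := by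
    simp only [Φ_apply, homology_smul, Linear.comp_smul]
  rw [h1]
  change g ^ s.sup k • f x = 0
  obtain ⟨d, hd⟩ := Nat.le.dest (Finset.le_sup (f := k) hx)
  rw [← hd, add_comm, pow_add, mul_smul, hk x, smul_zero]

theorem tH_of_rep {a b : ℤ} (E : DRing.Cx A) (hv : DRing.VanishesOutside E a b)
    (hp : ∀ i, Module.Finite A (E.X i) ∧ Module.Projective A (E.X i)) : TH a (DRing.toD E) := by
  refine Groth.Agent.DRing.Devissage.of_terms (TH a) (fun e h => tH_of_iso e h)
    tH_isZero tH_mid E hv fun i => ?_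
  let e := ((SingleFunctors.evaluation _ _ i).mapIso (singleFunctorsPostcompQIso (ModuleCat.{u} A))).app (E.X i)
  by_cases hi : a ≤ i
  · have := (hp i).1
    have := (hp i).2
    exact tH_of_iso e (tH_single i hi (E.X i))
  · exact tH_isZero _ (((singleFunctor (ModuleCat.{u} A) i).map_isZero (hv i (Or.inl (by omega)))).of_iso e.symm)

/-- A map from a perfect object `F` into an object torsion in a range of degrees factors through a perfect
torsion object. -/
theorem exists_factorGE (fs : List A) (F C : DerivedCategory (ModuleCat.{u} A)) (hF : DRing.IsPerfect A F)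
    (a e : ℤ) (hFa : TH a F) (hFe : VanA e F)
    (hC : ∀ g ∈ fs, TorsGE g (a - (fs.length : ℤ) + 1) C) (φ : F ⟶ C) :
    ∃ (Z : DerivedCategory (ModuleCat.{u} A)) (q : F ⟶ Z) (ψ : Z ⟶ C),
      DRing.IsPerfect A Z ∧ q ≫ ψ = φ ∧ (∀ g ∈ fs, HTors g Z) ∧ VanA e Z ∧ TH (a - (fs.length : ℤ)) Z := by
  induction fs with
  | nil => exact ⟨F, 𝟙 F, φ, hF, Category.id_comp φ, by simp, hFe, by simpa using hFa⟩
  | cons g l ih =>
    simp only [List.length_cons, Nat.cast_succ] at hC ⊢
    obtain ⟨Z, q, ψ, hZ, hq, hl, hZe, hZa⟩ := ih fun x hx i hi =>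
      hC x (List.mem_cons_of_mem _ hx) i (by omega)
    obtain ⟨k, hk⟩ := hZa g C (fun i hi => hC g List.mem_cons_self i (by omega)) ψ
    obtain ⟨Z', α, b, hT⟩ := distinguished_cocone_triangle (g ^ k • 𝟙 Z)
    obtain ⟨ψ', hψ'⟩ := Triangle.yoneda_exact₂ _ hT ψ
      ((Linear.smul_comp _ _ _ _ _ _).trans ((congrArg _ (Category.id_comp ψ)).trans hk))
    refine ⟨Z', q ≫ α, ψ', Groth.Agent.DRing.Perfect.perfect_two_of_three hT |>.1 hZ hZ, ?_, ?_, ?_, ?_⟩
    · exact (Category.assoc q α ψ').trans ((congrArg (q ≫ ·) hψ'.symm).trans hq)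
    · intro x hx
      rcases List.mem_cons.1 hx with rfl | hx
      · exact Groth.Agent.PerfExt.hTors_cone_pow x k α b hT
      · exact Groth.Agent.PerfExt.hTors_cone _ hT x (hl x hx) (hl x hx)
    · intro i hi
      exact (HomologySequence.exact₃ _ hT i (i + 1) rfl).isZero_of_both_zeros
        ((hZe i hi).eq_of_src _ _) ((hZe (i + 1) (by omega)).eq_of_tgt _ _)
    · refine tH_mid (Triangle.mk (g ^ k • 𝟙 Z) α b).rotate (rot_of_distTriang _ hT) ?_ ?_
      · exact tH_mono (by omega) hZa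
      · exact tH_mono (by omega) (tH_shift hZa)

end Groth.Agent.KFlat.ApproxAlg
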