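import Groth.Agent.KFlat.Approx

/-!
# Extending an approximation from an open containing the support
-/

set_option autoImplicit false

universe u

open CategoryTheory CategoryTheory.Limits AlgebraicGeometry Pretriangulated DerivedCategory
open Groth.Agent.PerfTri Groth.Agent.CohDerLib Groth.Agent.PerfExt

attribute [local instance] HasDerivedCategory.standard
attribute [-instance] CategoryTheory.ReflQuiver.toQuiver

noncomputable section

namespace Groth.Agent.KFlat.Approx

variable {X : Scheme.{u}}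

/-- extending an approximation from `V` for an object small on `U` -/
theorem extend_open (U V W : X.Opens) (hUV : U ⊔ V = ⊤) (m : ℤ) (E : DCoh.D X) (hUv : VanGE m ((DCoh.restrictD U.ι).obj E))
    (hV : Appx (V.ι ⁻¹ᵁ (U ⊔ W)) m ((DCoh.restrictD V.ι).obj E)) : Appx W m E := by
  obtain ⟨CV, PV₁, bV, cV, dV, hTV, hPV₁, hPVW₁, hCV⟩ := hV
  let PV := PV₁⟦(-1 : ℤ)⟧
  have hT' := inv_rot_of_distTriang _ hTV
  let α : PV ⟶ (DCoh.restrictD V.ι).obj E := (Triangle.mk bV cV dV).invRotate.mor₁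
  have := KFlat.RPush.hasRpush U.ι
  have := KFlat.RPush.hasRpush V.ι
  obtain ⟨adj⟩ := exists_adj (X := X) U.ι
  obtain ⟨adjV⟩ := exists_adj (X := X) V.ι
  have hPVz : IsZero ((DCoh.restrictD (V.ι ⁻¹ᵁ (U ⊔ W)).ι).obj PV) :=
    ((shiftFunctor _ (-1 : ℤ)).map_isZero hPVW₁).of_iso
      (((DCoh.restrictD (V.ι ⁻¹ᵁ (U ⊔ W)).ι).commShiftIso (-1 : ℤ)).app PV₁)
  let R := (DCoh.Rpush V.ι).obj PV
  have hRA : ∀ A : X.Opens, A ≤ U ⊔ W → IsZero ((DCoh.restrictD A.ι).obj R) := fun A hA => by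
    have := KFlat.RPush.hasRpush (V.ι ∣_ A)
    refine ((DCoh.Rpush (V.ι ∣_ A)).map_isZero ?_).of_iso ((KFlat.RPushBase.restrictRpushIso V.ι A).app PV)
    exact isZero_restrict_of_range (V.ι ⁻¹ᵁ (U ⊔ W)) _ (by
      rw [Scheme.Opens.range_ι]
      exact fun y hy => hA hy) hPVz
  have hR : DCoh.IsPerfect R := isPerfect_of_cover U V hUV (Perfect.isPerfect_zero (hRA U le_sup_left))
    (Perfect.isPerfect_of_iso ((Kosz.restrictRpushSelf V).app _).symm (Perfect.isPerfect_shift hPV₁ (-1)))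
  obtain ⟨D, c, d, hD⟩ := distinguished_cocone_triangle (adjV.unit.app E)
  have hDV : IsZero ((DCoh.restrictD V.ι).obj D) :=
    (Triangle.isZero₃_iff_isIso₁ _ ((DCoh.restrictD V.ι).map_distinguished _ hD)).2 (Kosz.isIso_restrict_unit V adjV E)
  have hηD : IsIso (adj.unit.app D) := by
    refine isIso_of_cover U V hUV _ (Kosz.isIso_restrict_unit U adj D)
      (isIso_of_isInitial hDV.isInitial (IsZero.isInitial ?_) _)
    have := KFlat.RPush.hasRpush (U.ι ∣_ V)
    exact ((DCoh.Rpush (U.ι ∣_ V)).map_isZero ((isZero_restrict_of_range V ((U.ι ⁻¹ᵁ V).ι ≫ U.ι)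
      (by rintro _ ⟨z, rfl⟩; exact z.2) hDV).of_iso ((restrictDComp (U.ι ⁻¹ᵁ V).ι U.ι _ rfl).app D))).of_iso
      ((KFlat.RPushBase.restrictRpushIso U.ι V).app _)
  let φ : R ⟶ (DCoh.Rpush V.ι).obj ((DCoh.restrictD V.ι).obj E) := (DCoh.Rpush V.ι).map α
  have hφc : φ ≫ c = 0 := by
    refine (cancel_mono (adj.unit.app D)).1 ?_
    rw [zero_comp]
    exact (adj.homEquiv _ _).symm.injective ((hRA U le_sup_left).eq_of_src _ _)
  obtain ⟨β, hβ⟩ : ∃ β : R ⟶ E, φ = β ≫ adjV.unit.app E := Triangle.coyoneda_exact₂ _ hD φ hφc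
  obtain ⟨C, b, c₂, hC⟩ := distinguished_cocone_triangle β
  have hRW := hRA W le_sup_right
  refine ⟨C, R⟦(1 : ℤ)⟧, b, c₂, -(β⟦(1 : ℤ)⟧'), rot_of_distTriang _ hC, Perfect.isPerfect_shift hR 1,
    ((shiftFunctor _ (1 : ℤ)).map_isZero hRW).of_iso (((DCoh.restrictD W.ι).commShiftIso (1 : ℤ)).app R), ?_⟩
  refine vanGE_of_cover U V hUV ?_ ?_
  · have : IsIso ((DCoh.restrictD U.ι).map b) :=
      (Triangle.isZero₁_iff_isIso₂ _ ((DCoh.restrictD U.ι).map_distinguished _ hC)).1 (hRA U le_sup_left)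
    exact vanGE_of_iso (asIso ((DCoh.restrictD U.ι).map b)) hUv
  · have hcou : (adjV.counit.app PV) ≫ α = (DCoh.restrictD V.ι).map β := by
      apply (adjV.homEquiv _ _).injective
      rw [adjV.homEquiv_unit, adjV.homEquiv_unit, Functor.map_comp, adjV.right_triangle_components_assoc]
      exact hβ.trans (adjV.unit.naturality β)
    have := adjV.isIso_counit_of_iso (Kosz.restrictRpushSelf V)
    refine vanGE_of_iso (Triangle.π₃.mapIso (isoTriangleOfIso₁₂ _ _ hT'
      ((DCoh.restrictD V.ι).map_distinguished _ hC) (asIso (adjV.counit.app PV)).symm (Iso.refl _) ?_)) hCV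
    exact (Category.comp_id α).trans (((cancel_epi (adjV.counit.app PV)).1
      (hcou.trans (IsIso.hom_inv_id_assoc _ _).symm)))

/-- the inverse of `exists_map` -/
theorem appx_of_map {W : X.Opens} {m : ℤ} {E P : DCoh.D X} (α : P ⟶ E) (hP : DCoh.IsPerfect P)
    (hPW : ∀ i : ℤ, CohB1.support (DCoh.HD P i) ⊆ (W : Set X)ᶜ)
    (h₁ : ∀ i : ℤ, m < i → IsIso ((homologyFunctor X.Modules i).map α))
    (h₂ : Epi ((homologyFunctor X.Modules m).map α)) : Appx W m E := by
  obtain ⟨C, b, c, hC⟩ := distinguished_cocone_triangle α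
  refine ⟨C, P⟦(1 : ℤ)⟧, b, c, -(α⟦(1 : ℤ)⟧'), rot_of_distTriang _ hC, Perfect.isPerfect_shift hP 1,
    ((shiftFunctor _ (1 : ℤ)).map_isZero (isZero_restrict_of_support W hPW)).of_iso
      (((DCoh.restrictD W.ι).commShiftIso (1 : ℤ)).app P), fun i hi => ?_⟩
  have he : Epi ((homologyFunctor X.Modules i).map α) := by
    rcases eq_or_lt_of_le hi with rfl | hlt
    · exact h₂
    · have := h₁ i hlt
      infer_instance
  have h := h₁ (i + 1) (by omega)
  have hb : (homologyFunctor X.Modules i).map b = 0 :=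
    (cancel_epi ((homologyFunctor X.Modules i).map α)).1
      ((((homologyFunctor X.Modules i).map_comp α b).symm.trans ((congrArg _
        (comp_distTriang_mor_zero₁₂ _ hC)).trans (Functor.map_zero _ _ _))).trans comp_zero.symm)
  exact (HomologySequence.exact₃ _ hC i (i + 1) rfl).isZero_of_both_zeros hb
    ((cancel_mono ((homologyFunctor X.Modules (i + 1)).map α)).1
      ((HomologySequence.δ_comp _ hC i (i + 1) rfl).trans zero_comp.symm))

end Groth.Agent.KFlat.Approx
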