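import Groth.Agent.KFlat.Assoc

/-!
# Naturality of the associator in the middle variable
-/

set_option autoImplicit false

universe u

open CategoryTheory CategoryTheory.Limits ModSite

namespace Groth.Agent.KFlat

variable {C : Type u} [SmallCategory C] {J : GrothendieckTopology C} {O : Sheaf J CommRingCat.{u}}

theorem tensAssocIso_naturality₂ (K : CochainComplex (Mod O) ℤ) {L L' : CochainComplex (Mod O) ℤ} (φ : L ⟶ L')
    (M : CochainComplex (Mod O) ℤ) :
    ((tens O).map (((tens O).obj K).map φ)).app M ≫ (tensAssocIso O K L' M).hom =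
      (tensAssocIso O K L M).hom ≫ ((tens O).obj K).map (((tens O).map φ).app M) := by
  refine HomologicalComplex.hom_ext _ _ fun j => ?_
  refine HomologicalComplex.mapBifunctor₁₂.hom_ext fun i₁ i₂ i₃ h => ?_
  have h₁₂ : i₁ + i₂ + i₃ = j := h
  have h₂₃ : i₁ + (i₂ + i₃) = j := (add_assoc _ _ _).symm.trans h₁₂
  have hL := square₁₂ (tensorBi O) (Z := M.X i₃)
    (a := totι (tensorBi O) K L i₁ i₂ (i₁ + i₂) rfl) (a' := totι (tensorBi O) K L' i₁ i₂ (i₁ + i₂) rfl)
    (totι_map_right φ i₁ i₂ (i₁ + i₂) rfl) (totι_map_left (((tens O).obj K).map φ) (i₁ + i₂) i₃ j h₁₂)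
  have hR : (((tensorBi O).obj (K.X i₁)).map (totι (tensorBi O) L M i₂ i₃ (i₂ + i₃) rfl) ≫
        totι (tensorBi O) K (((tens O).obj L).obj M) i₁ (i₂ + i₃) j h₂₃) ≫
          (((tens O).obj K).map (((tens O).map φ).app M)).f j =
      ((tensorBi O).obj (K.X i₁)).map (((tensorBi O).map (φ.f i₂)).app (M.X i₃)) ≫
        ((tensorBi O).obj (K.X i₁)).map (totι (tensorBi O) L' M i₂ i₃ (i₂ + i₃) rfl) ≫
          totι (tensorBi O) K (((tens O).obj L').obj M) i₁ (i₂ + i₃) j h₂₃ := by
    rw [Category.assoc, totι_map_right, ← Category.assoc, ← Functor.map_comp, totι_map_left, Functor.map_comp,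
      Category.assoc]
  have hn := NatTrans.congr_app (((assocBi O).hom.app (K.X i₁)).naturality (φ.f i₂)) (M.X i₃)
  have hX := HomologicalComplex.ι_mapBifunctorAssociatorX_hom (assocBi O) K L' M (ComplexShape.up ℤ)
    (ComplexShape.up ℤ) (ComplexShape.up ℤ) i₁ i₂ i₃ j h
  have hX' := HomologicalComplex.ι_mapBifunctorAssociatorX_hom (assocBi O) K L M (ComplexShape.up ℤ)
    (ComplexShape.up ℤ) (ComplexShape.up ℤ) i₁ i₂ i₃ j h
  refine ((Category.assoc _ _ _).symm.trans ((congrArg (· ≫ _) hL).trans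
    ((Category.assoc _ _ _).trans (congrArg (_ ≫ ·) hX)))).trans ?_
  refine Eq.trans ?_ ((congrArg (· ≫ _) hX').symm.trans (Category.assoc _ _ _))
  refine Eq.trans ?_ ((congrArg (_ ≫ ·) hR).symm.trans (Category.assoc _ _ _).symm)
  exact (Category.assoc _ _ _).symm.trans ((congrArg (· ≫ _) hn).trans (Category.assoc _ _ _))

end Groth.Agent.KFlat
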