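import Mathlib.Algebra.Homology.Bifunctor
import Mathlib.Algebra.Homology.BifunctorFlip
import Mathlib.Algebra.Homology.HomologicalComplexLimits
import Mathlib.Algebra.Homology.HomologicalComplexBiprod
import Mathlib.Algebra.Homology.HomologicalComplexAbelian
import Mathlib.Algebra.Homology.HomotopyCategory.MappingCone
import Mathlib.Algebra.Homology.HomotopyCategory.Pretriangulated
import Mathlib.Algebra.Homology.QuasiIso
import Mathlib.Algebra.Homology.ShortComplex.ExactFunctor
import Mathlib.Algebra.Homology.HomologySequenceLemmas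

/-!
# Total complexes of bifunctors: colimits, degreewise split sequences, single complexes, quasi-isomorphisms
-/

set_option autoImplicit false

open CategoryTheory CategoryTheory.Limits

namespace Groth.Agent.KFlat

variable {A B E : Type*} [Category A] [Category B] [Category E]
  [Preadditive A] [Preadditive B] [Preadditive E]
  (F : A ⥤ B ⥤ E) [F.Additive] [∀ X, (F.obj X).Additive]
  [∀ (K : CochainComplex A ℤ) (L : CochainComplex B ℤ),
    HomologicalComplex.HasMapBifunctor K L F (ComplexShape.up ℤ)]

/-- The total complex bifunctor. -/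
noncomputable abbrev tot : CochainComplex A ℤ ⥤ CochainComplex B ℤ ⥤ CochainComplex E ℤ :=
  F.map₂CochainComplex

section Incl

variable {F} {L : CochainComplex A ℤ} {K : CochainComplex B ℤ}

/-- The inclusion of a summand in the total complex. -/
noncomputable def totι (F : A ⥤ B ⥤ E) [F.Additive] [∀ X, (F.obj X).Additive]
    [∀ (K : CochainComplex A ℤ) (L : CochainComplex B ℤ),
      HomologicalComplex.HasMapBifunctor K L F (ComplexShape.up ℤ)]
    (L : CochainComplex A ℤ) (K : CochainComplex B ℤ) (p q n : ℤ) (h : p + q = n) :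
    (F.obj (L.X p)).obj (K.X q) ⟶ (((tot F).obj L).obj K).X n :=
  HomologicalComplex.ιMapBifunctor L K F (ComplexShape.up ℤ) p q n h

/-- Maps out of the total complex in a given degree. -/
noncomputable def totDesc {Y : E} {n : ℤ}
    (f : ∀ p q : ℤ, p + q = n → ((F.obj (L.X p)).obj (K.X q) ⟶ Y)) :
    (((tot F).obj L).obj K).X n ⟶ Y :=
  HomologicalComplex.mapBifunctorDesc fun p q h => f p q h

@[reassoc (attr := simp)]
theorem totι_desc {Y : E} {n : ℤ}
    (f : ∀ p q : ℤ, p + q = n → ((F.obj (L.X p)).obj (K.X q) ⟶ Y)) (p q : ℤ) (h : p + q = n) :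
    totι F L K p q n h ≫ totDesc f = f p q h :=
  HomologicalComplex.ι_mapBifunctorDesc (fun p q h => f p q h) p q h

theorem tot_hom_ext {Y : E} {n : ℤ} {a b : (((tot F).obj L).obj K).X n ⟶ Y}
    (h : ∀ (p q : ℤ) (h : p + q = n), totι F L K p q n h ≫ a = totι F L K p q n h ≫ b) : a = b :=
  HomologicalComplex.mapBifunctor.hom_ext h

@[reassoc]
theorem totι_map_right {K' : CochainComplex B ℤ} (f : K ⟶ K') (p q n : ℤ) (h : p + q = n) :
    totι F L K p q n h ≫ (((tot F).obj L).map f).f n =
      (F.obj (L.X p)).map (f.f q) ≫ totι F L K' p q n h := by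
  exact (HomologicalComplex.ι_mapBifunctorMap ..).trans (by simp; rfl)

@[reassoc]
theorem totι_map_left {L' : CochainComplex A ℤ} (f : L ⟶ L') (p q n : ℤ) (h : p + q = n) :
    totι F L K p q n h ≫ (((tot F).map f).app K).f n =
      (F.map (f.f p)).app (K.X q) ≫ totι F L' K p q n h := by
  exact (HomologicalComplex.ι_mapBifunctorMap ..).trans (by simp; rfl)

end Incl

noncomputable def isColimitMapRight (L : CochainComplex A ℤ) {K : Type*} [Category K]
    {D : K ⥤ CochainComplex B ℤ} {c : Cocone D} (hc : IsColimit c)
    [∀ q, PreservesColimit D (HomologicalComplex.eval B (ComplexShape.up ℤ) q)]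
    [∀ p q, PreservesColimit (D ⋙ HomologicalComplex.eval B (ComplexShape.up ℤ) q) (F.obj (L.X p))] :
    IsColimit (((tot F).obj L).mapCocone c) :=
  HomologicalComplex.isColimitOfEval _ _ fun n =>
    let hpq := fun p q => isColimitOfPreserves (F.obj (L.X p))
      (isColimitOfPreserves (HomologicalComplex.eval B (ComplexShape.up ℤ) q) hc)
    { desc := fun s => totDesc (F := F) (L := L) (K := c.pt) fun p q h => (hpq p q).desc
        { pt := s.pt
          ι :=
            { app := fun j => totι F L (D.obj j) p q n h ≫ s.ι.app j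
              naturality := fun i j g => by
                change (F.obj (L.X p)).map ((D.map g).f q) ≫ totι F L (D.obj j) p q n h ≫ s.ι.app j =
                  (totι F L (D.obj i) p q n h ≫ s.ι.app i) ≫ 𝟙 _
                rw [Category.comp_id, ← s.w g, ← totι_map_right_assoc]
                rfl } }
      fac := fun s j => tot_hom_ext fun p q h => by
        change totι F L (D.obj j) p q n h ≫ (((tot F).obj L).map (c.ι.app j)).f n ≫ totDesc _ = _
        rw [totι_map_right_assoc, totι_desc]
        exact (hpq p q).fac _ j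
      uniq := fun s m hm => tot_hom_ext fun p q h => (hpq p q).hom_ext fun j => by
        rw [totι_desc, (hpq p q).fac]
        change (F.obj (L.X p)).map ((c.ι.app j).f q) ≫ totι F L c.pt p q n h ≫ m =
          totι F L (D.obj j) p q n h ≫ s.ι.app j
        exact (totι_map_right_assoc (c.ι.app j) p q n h m).symm.trans (congrArg _ (hm j)) }

noncomputable def isColimitMapLeft (L : CochainComplex B ℤ) {K : Type*} [Category K]
    {D : K ⥤ CochainComplex A ℤ} {c : Cocone D} (hc : IsColimit c)
    [∀ q, PreservesColimit D (HomologicalComplex.eval A (ComplexShape.up ℤ) q)]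
    [∀ p q, PreservesColimit (D ⋙ HomologicalComplex.eval A (ComplexShape.up ℤ) p) (F.flip.obj (L.X q))] :
    IsColimit (((tot F).flip.obj L).mapCocone c) :=
  HomologicalComplex.isColimitOfEval _ _ fun n =>
    let hpq := fun p q => isColimitOfPreserves (F.flip.obj (L.X q))
      (isColimitOfPreserves (HomologicalComplex.eval A (ComplexShape.up ℤ) p) hc)
    { desc := fun s => totDesc (F := F) (L := c.pt) (K := L) fun p q h => (hpq p q).desc
        { pt := s.pt
          ι :=
            { app := fun j => totι F (D.obj j) L p q n h ≫ s.ι.app j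
              naturality := fun i j g => by
                change (F.map ((D.map g).f p)).app (L.X q) ≫ totι F (D.obj j) L p q n h ≫ s.ι.app j =
                  (totι F (D.obj i) L p q n h ≫ s.ι.app i) ≫ 𝟙 _
                rw [Category.comp_id, ← s.w g, ← totι_map_left_assoc]
                rfl } }
      fac := fun s j => tot_hom_ext fun p q h => by
        change totι F (D.obj j) L p q n h ≫ (((tot F).map (c.ι.app j)).app L).f n ≫ totDesc _ = _
        rw [totι_map_left_assoc, totι_desc]
        exact (hpq p q).fac _ j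
      uniq := fun s m hm => tot_hom_ext fun p q h => (hpq p q).hom_ext fun j => by
        rw [totι_desc, (hpq p q).fac]
        change (F.map ((c.ι.app j).f p)).app (L.X q) ≫ totι F c.pt L p q n h ≫ m =
          totι F (D.obj j) L p q n h ≫ s.ι.app j
        exact (totι_map_left_assoc (c.ι.app j) p q n h m).symm.trans (congrArg _ (hm j)) }

theorem preservesColimitsOfShape_mapRight (L : CochainComplex A ℤ) (K : Type*) [Category K]
    [HasColimitsOfShape K B] [∀ X, PreservesColimitsOfShape K (F.obj X)] :
    PreservesColimitsOfShape K ((tot F).obj L) :=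
  ⟨fun {_} => ⟨fun hc => ⟨isColimitMapRight F L hc⟩⟩⟩

theorem preservesColimitsOfShape_mapLeft (L : CochainComplex B ℤ) (K : Type*) [Category K]
    [HasColimitsOfShape K A] [∀ Y, PreservesColimitsOfShape K (F.flip.obj Y)] :
    PreservesColimitsOfShape K ((tot F).flip.obj L) :=
  ⟨fun {_} => ⟨fun hc => ⟨isColimitMapLeft F L hc⟩⟩⟩

/-! ### Degreewise split short complexes -/

instance additive_map₂_obj (L : CochainComplex A ℤ) : ((tot F).obj L).Additive where
  map_add {K K' f g} := by
    ext n : 1
    refine tot_hom_ext fun p q h => ?_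
    rw [HomologicalComplex.add_f_apply, Preadditive.comp_add, totι_map_right, totι_map_right,
      totι_map_right, HomologicalComplex.add_f_apply, Functor.map_add, Preadditive.add_comp]

instance additive_map₂_flip_obj (L : CochainComplex B ℤ) : ((tot F).flip.obj L).Additive where
  map_add {K K' f g} := by
    ext n : 1
    change (((tot F).map (f + g)).app L).f n =
      (((tot F).map f).app L).f n + (((tot F).map g).app L).f n
    refine tot_hom_ext fun p q h => ?_
    rw [Preadditive.comp_add, totι_map_left, totι_map_left, totι_map_left,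
      HomologicalComplex.add_f_apply, Functor.map_add, NatTrans.app_add, Preadditive.add_comp]

noncomputable def splittingMapRightAux (L : CochainComplex A ℤ) {X₁ X₂ X₃ : CochainComplex B ℤ}
    (f : X₁ ⟶ X₂) (g : X₂ ⟶ X₃) (w : f ≫ g = 0) (r : ∀ q, X₂.X q ⟶ X₁.X q) (s : ∀ q, X₃.X q ⟶ X₂.X q)
    (fr : ∀ q, f.f q ≫ r q = 𝟙 _) (sg : ∀ q, s q ≫ g.f q = 𝟙 _)
    (hid : ∀ q, r q ≫ f.f q + g.f q ≫ s q = 𝟙 _) (n : ℤ) :
    (ShortComplex.mk ((((tot F).obj L).map f).f n) ((((tot F).obj L).map g).f n)
      (by rw [← HomologicalComplex.comp_f, ← Functor.map_comp, w, Functor.map_zero]; rfl)).Splitting where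
  r := totDesc (F := F) (L := L) (K := X₂) fun p q h => (F.obj (L.X p)).map (r q) ≫ totι F L X₁ p q n h
  s := totDesc (F := F) (L := L) (K := X₃) fun p q h => (F.obj (L.X p)).map (s q) ≫ totι F L X₂ p q n h
  f_r := tot_hom_ext fun p q h => by
    dsimp only
    rw [totι_map_right_assoc, totι_desc, ← Functor.map_comp_assoc, fr, CategoryTheory.Functor.map_id,
      Category.id_comp, Category.comp_id]
  s_g := tot_hom_ext fun p q h => by
    dsimp only
    rw [totι_desc_assoc, Category.assoc, totι_map_right, ← Functor.map_comp_assoc, sg, CategoryTheory.Functor.map_id,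
      Category.id_comp, Category.comp_id]
  id := tot_hom_ext fun p q h => by
    dsimp only
    rw [Preadditive.comp_add, totι_desc_assoc, Category.assoc, totι_map_right, totι_map_right_assoc,
      totι_desc, ← Functor.map_comp_assoc, ← Functor.map_comp_assoc, ← Preadditive.add_comp,
      ← Functor.map_add, hid, CategoryTheory.Functor.map_id, Category.id_comp, Category.comp_id]

noncomputable def splittingMapLeftAux (L : CochainComplex B ℤ) {X₁ X₂ X₃ : CochainComplex A ℤ}
    (f : X₁ ⟶ X₂) (g : X₂ ⟶ X₃) (w : f ≫ g = 0) (r : ∀ q, X₂.X q ⟶ X₁.X q) (s : ∀ q, X₃.X q ⟶ X₂.X q)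
    (fr : ∀ q, f.f q ≫ r q = 𝟙 _) (sg : ∀ q, s q ≫ g.f q = 𝟙 _)
    (hid : ∀ q, r q ≫ f.f q + g.f q ≫ s q = 𝟙 _) (n : ℤ) :
    (ShortComplex.mk ((((tot F).map f).app L).f n) ((((tot F).map g).app L).f n)
      (by rw [← HomologicalComplex.comp_f, ← NatTrans.comp_app, ← Functor.map_comp, w]
          exact (congrArg (fun φ => HomologicalComplex.Hom.f φ n) (((tot F).flip.obj L).map_zero _ _)))).Splitting where
  r := totDesc (F := F) (L := X₂) (K := L) fun p q h => (F.map (r p)).app (L.X q) ≫ totι F X₁ L p q n h
  s := totDesc (F := F) (L := X₃) (K := L) fun p q h => (F.map (s p)).app (L.X q) ≫ totι F X₂ L p q n h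
  f_r := tot_hom_ext fun p q h => by
    dsimp only
    rw [totι_map_left_assoc, totι_desc, ← NatTrans.comp_app_assoc, ← Functor.map_comp, fr, CategoryTheory.Functor.map_id,
      NatTrans.id_app, Category.id_comp, Category.comp_id]
  s_g := tot_hom_ext fun p q h => by
    dsimp only
    rw [totι_desc_assoc, Category.assoc, totι_map_left, ← NatTrans.comp_app_assoc, ← Functor.map_comp, sg,
      CategoryTheory.Functor.map_id, NatTrans.id_app, Category.id_comp, Category.comp_id]
  id := tot_hom_ext fun p q h => by
    dsimp only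
    rw [Preadditive.comp_add, totι_desc_assoc, Category.assoc, totι_map_left, totι_map_left_assoc,
      totι_desc, ← NatTrans.comp_app_assoc, ← NatTrans.comp_app_assoc, ← Functor.map_comp,
      ← Functor.map_comp, ← Preadditive.add_comp, ← NatTrans.app_add, ← Functor.map_add, hid,
      CategoryTheory.Functor.map_id, NatTrans.id_app, Category.id_comp, Category.comp_id]

noncomputable def splittingMapRight (L : CochainComplex A ℤ) (S : ShortComplex (CochainComplex B ℤ))
    (σ : ∀ q, (S.map (HomologicalComplex.eval B (ComplexShape.up ℤ) q)).Splitting) (n : ℤ) :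
    ((S.map ((tot F).obj L)).map (HomologicalComplex.eval E (ComplexShape.up ℤ) n)).Splitting :=
  splittingMapRightAux F L S.f S.g S.zero (fun q => (σ q).r) (fun q => (σ q).s) (fun q => (σ q).f_r)
    (fun q => (σ q).s_g) (fun q => (σ q).id) n

noncomputable def splittingMapLeft (L : CochainComplex B ℤ) (S : ShortComplex (CochainComplex A ℤ))
    (σ : ∀ p, (S.map (HomologicalComplex.eval A (ComplexShape.up ℤ) p)).Splitting) (n : ℤ) :
    ((S.map ((tot F).flip.obj L)).map (HomologicalComplex.eval E (ComplexShape.up ℤ) n)).Splitting :=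
  splittingMapLeftAux F L S.f S.g S.zero (fun q => (σ q).r) (fun q => (σ q).s) (fun q => (σ q).f_r)
    (fun q => (σ q).s_g) (fun q => (σ q).id) n

end Groth.Agent.KFlat
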