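import Groth.Agent.KFlat.LocAway
import Groth.Agent.KFlat.Totals
import Groth.Agent.KFlat.Single
import Groth.Agent.KFlat.CxAdj
import Groth.Agent.DHA.KInjectiveResolution
import Groth.Agent.DHA.KInj.Products
import Groth.Agent.S0481
import Mathlib.Algebra.Homology.DerivedCategory.ShortExact
import Mathlib.Algebra.Homology.DerivedCategory.ExactFunctor
import Mathlib.CategoryTheory.Functor.Derived.PointwiseLeftDerived

/-!
# `RHom(O_s, K)` is the derived limit of `⋯ → K →s K`
-/

set_option autoImplicit false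

universe u

open CategoryTheory CategoryTheory.Limits Opposite
open ModSite DerComp Groth.Agent.KFlat Groth.Agent.DHA.KInj

attribute [local instance] HasDerivedCategory.standard

namespace Groth.Agent.KFlat.AwayRlim

section Generic

variable {A B : Type (u + 1)} [Category.{u} A] [Abelian A] [Category.{u} B] [Abelian B]
  {L : A ⥤ B} {R : B ⥤ A} (adj : L ⊣ R) [L.Additive] [R.Additive]
  [PreservesFiniteLimits L] [PreservesFiniteColimits L] (I : CochainComplex B ℤ) [I.IsKInjective]

/-- The counit in the derived category. -/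
noncomputable def counitD :
    L.mapDerivedCategory.obj (DerivedCategory.Q.obj ((R.mapHomologicalComplex (ComplexShape.up ℤ)).obj I)) ⟶
      DerivedCategory.Q.obj I :=
  L.mapDerivedCategoryFactors.hom.app _ ≫ DerivedCategory.Q.map ((CxAdj.mapCx adj (ComplexShape.up ℤ)).counit.app I)

theorem map_comp_counitD {W : CochainComplex A ℤ} (z : W ⟶ (R.mapHomologicalComplex (ComplexShape.up ℤ)).obj I) :
    L.mapDerivedCategory.map (DerivedCategory.Q.map z) ≫ counitD adj I =
      L.mapDerivedCategoryFactors.hom.app W ≫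
        DerivedCategory.Q.map (((CxAdj.mapCx adj (ComplexShape.up ℤ)).homEquiv W I).symm z) := by
  have h := L.mapDerivedCategoryFactors.hom.naturality z
  simp only [Functor.comp_map] at h
  rw [counitD, ← Category.assoc, h, Category.assoc, ← Functor.map_comp]
  rfl

include adj in
theorem isKInjective_map : CochainComplex.IsKInjective ((R.mapHomologicalComplex (ComplexShape.up ℤ)).obj I) :=
  Groth.Agent.S0481.result R L adj I inferInstance

/-- Maps into the image of a K-injective complex, in the derived category. -/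
theorem bijective_counitD (W : DerivedCategory A) : Function.Bijective
    fun z : W ⟶ DerivedCategory.Q.obj ((R.mapHomologicalComplex (ComplexShape.up ℤ)).obj I) =>
      L.mapDerivedCategory.map z ≫ counitD adj I := by
  have := isKInjective_map adj I
  let W₀ := DerivedCategory.Q.objPreimage W
  let e : DerivedCategory.Q.obj W₀ ≅ W := DerivedCategory.Q.objObjPreimageIso W
  let adjC := CxAdj.mapCx adj (ComplexShape.up ℤ)
  suffices h : Function.Bijective
      fun z : DerivedCategory.Q.obj W₀ ⟶ DerivedCategory.Q.obj ((R.mapHomologicalComplex (ComplexShape.up ℤ)).obj I) =>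
        L.mapDerivedCategory.map z ≫ counitD adj I by
    constructor
    · intro z z' hz
      rw [← cancel_epi e.hom]
      refine h.1 ?_
      simp only [Functor.map_comp, Category.assoc]
      exact congrArg (_ ≫ ·) hz
    · intro y
      obtain ⟨z, hz⟩ := h.2 (L.mapDerivedCategory.map e.hom ≫ y)
      refine ⟨e.inv ≫ z, ?_⟩
      simp only at hz ⊢
      rw [Functor.map_comp, Category.assoc, hz, ← Functor.map_comp_assoc, e.inv_hom_id,
        CategoryTheory.Functor.map_id, Category.id_comp]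
  constructor
  · intro z z' hz
    obtain ⟨z, rfl⟩ := Q_map_surjective _ _ z
    obtain ⟨z', rfl⟩ := Q_map_surjective _ _ z'
    simp only [map_comp_counitD, cancel_epi] at hz
    obtain ⟨h⟩ := homotopy_of_Q_map_eq hz
    have h' := ((R.mapHomotopy h).compLeft (adjC.unit.app W₀))
    have e1 : ∀ (v : W₀ ⟶ (R.mapHomologicalComplex (ComplexShape.up ℤ)).obj I),
        adjC.unit.app W₀ ≫ (R.mapHomologicalComplex (ComplexShape.up ℤ)).map ((adjC.homEquiv W₀ I).symm v) = v :=
      fun v => (adjC.homEquiv_unit W₀ I _).symm.trans ((adjC.homEquiv W₀ I).apply_symm_apply v)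
    exact Groth.Agent.DHA.KInj.Q_map_eq_of_homotopy
      (((Homotopy.ofEq (e1 z).symm).trans h').trans (Homotopy.ofEq (e1 z')))
  · intro y
    obtain ⟨y₀, hy⟩ := Q_map_surjective _ I (L.mapDerivedCategoryFactors.inv.app W₀ ≫ y)
    refine ⟨DerivedCategory.Q.map ((adjC.homEquiv W₀ I) y₀), ?_⟩
    simp only [map_comp_counitD]
    rw [Equiv.symm_apply_apply, hy, Iso.hom_inv_id_app_assoc]

end Generic

variable {C : Type u} [SmallCategory C] {J : GrothendieckTopology C} {O : Sheaf J CommRingCat.{u}}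
variable (s : GSec O)

/-- `O_s` in degree zero. -/
noncomputable abbrev Os : CochainComplex (Mod O) ℤ :=
  (CochainComplex.singleFunctor (Mod O) 0).obj (locAway s (unit O))

/-- One degree of the comparison. -/
noncomputable def τX (L : CochainComplex (Mod O) ℤ) (n : ℤ) :
    (LocAway.G s).obj (L.X n) ≅ (((tens O).flip.obj (Os s)).obj L).X n :=
  LocAway.νIso s (L.X n) ≪≫ totSingleIso (tensorBi O) L 0 (locAway s (unit O)) n n (add_zero n)

/-- `W ⊗ O_s ≅ W_s` on complexes. -/
noncomputable def τApp (L : CochainComplex (Mod O) ℤ) :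
    ((LocAway.G s).mapHomologicalComplex (ComplexShape.up ℤ)).obj L ≅ ((tens O).flip.obj (Os s)).obj L :=
  HomologicalComplex.Hom.isoOfComponents (τX s L) fun i j hij => by
    obtain rfl : i + 1 = j := hij
    have h1 := LocAway.νIso_natural s (L.d i (i + 1))
    have h2 := totSingleIso_comm (tensorBi O) L 0 (locAway s (unit O)) i i (i + 1) (add_zero i) rfl
    exact (Category.assoc _ _ _).trans ((congrArg (_ ≫ ·) h2).trans
      ((Category.assoc _ _ _).symm.trans ((congrArg (· ≫ _) h1.symm).trans (Category.assoc _ _ _))))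

theorem totSingleIso_natural {L L' : CochainComplex (Mod O) ℤ} (φ : L ⟶ L') (X : Mod O) (n : ℤ) :
    (totSingleIso (tensorBi O) L 0 X n n (add_zero n)).hom ≫
        (((tens O).map φ).app ((HomologicalComplex.single (Mod O) (ComplexShape.up ℤ) 0).obj X)).f n =
      ((tensorBi O).flip.obj X).map (φ.f n) ≫ (totSingleIso (tensorBi O) L' 0 X n n (add_zero n)).hom := by
  dsimp only [totSingleIso]
  refine (Category.assoc _ _ _).trans ?_
  refine (congrArg (_ ≫ ·) (totι_map_left (F := tensorBi O) (L := L) φ n 0 n (add_zero n))).trans ?_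
  exact ((Category.assoc _ _ _).symm.trans (congrArg (· ≫ _)
    (((tensorBi O).map (φ.f n)).naturality _))).trans (Category.assoc _ _ _)

/-- `- ⊗ O_s` is localisation. -/
noncomputable def τ :
    (LocAway.G s).mapHomologicalComplex (ComplexShape.up ℤ) ≅ (tens O).flip.obj (Os s) :=
  NatIso.ofComponents (τApp s) fun {L L'} φ => by
    refine HomologicalComplex.hom_ext _ _ fun n => ?_
    have h1 := LocAway.νIso_natural s (φ.f n)
    have h2 := totSingleIso_natural φ (locAway s (unit O)) n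
    exact ((Category.assoc _ _ _).symm.trans ((congrArg (· ≫ _) h1).trans (Category.assoc _ _ _))).trans
      ((congrArg (_ ≫ ·) h2.symm).trans (Category.assoc _ _ _).symm)

/-- `- ⊗ᴸ O_s` is localisation. -/
noncomputable def ltIso [ModSite.HasLTensorCx (Os s)] :
    ModSite.LTensorCx (Os s) ≅ (LocAway.G s).mapDerivedCategory :=
  let γ : DerivedCategory.Q ⋙ (LocAway.G s).mapDerivedCategory ≅ ModSite.tensorCxQ (Os s) :=
    (LocAway.G s).mapDerivedCategoryFactors ≪≫ Functor.isoWhiskerRight (τ s) DerivedCategory.Q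
  have : ((LocAway.G s).mapDerivedCategory).IsLeftDerivedFunctor γ.hom
      (HomologicalComplex.quasiIso (Mod O) (ComplexShape.up ℤ)) :=
    Functor.isLeftDerivedFunctor_of_inverts _ _ γ
  Functor.leftDerivedUnique _ _ ((ModSite.tensorCxQ (Os s)).totalLeftDerivedCounit DerivedCategory.Q
    (HomologicalComplex.quasiIso (Mod O) (ComplexShape.up ℤ))) γ.hom
    (HomologicalComplex.quasiIso (Mod O) (ComplexShape.up ℤ))

/-! ### The derived limit -/

/-- `F ↦ ∏ F`. -/
noncomputable def P : Mod O ⥤ Mod O where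
  obj F := ∏ᶜ fun _ : ℕ => F
  map g := Limits.Pi.map fun _ => g
  map_id F := Pi.hom_ext _ _ fun n => by rw [Limits.Pi.map_π, Category.comp_id, Category.id_comp]
  map_comp g g' := Pi.hom_ext _ _ fun n => by
    rw [Limits.Pi.map_π, Category.assoc, Limits.Pi.map_π, Limits.Pi.map_π_assoc]

/-- The projections. -/
noncomputable def projP (n : ℕ) : (P : Mod O ⥤ Mod O) ⟶ 𝟭 (Mod O) where
  app F := Pi.π (fun _ : ℕ => F) n
  naturality F F' g := Limits.Pi.map_π (f := fun _ : ℕ => F) (g := fun _ => F') (fun _ => g) n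

theorem P_ext {W F : Mod O} {f g : W ⟶ (P : Mod O ⥤ Mod O).obj F}
    (h : ∀ n, f ≫ (projP n).app F = g ≫ (projP n).app F) : f = g := Pi.hom_ext (f := fun _ : ℕ => F) _ _ h

instance additive_P : (P : Mod O ⥤ Mod O).Additive where
  map_add {F F' g g'} := P_ext fun n => by
    rw [(projP n).naturality, Preadditive.add_comp, (projP n).naturality, (projP n).naturality]
    exact Preadditive.comp_add _ _ _ _ _ _

instance preservesZeroMorphisms_P : (P : Mod O ⥤ Mod O).PreservesZeroMorphisms :=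
  @Functor.preservesZeroMorphisms_of_additive _ _ _ _ _ _ P additive_P

theorem ψ_natural {F F' : Mod O} (g : F ⟶ F') (n : ℕ) :
    ((Limits.Pi.map fun _ : ℕ => g) ≫ LocAway.ψ s F') ≫ Pi.π (fun _ : ℕ => F') n =
      (LocAway.ψ s F ≫ Limits.Pi.map fun _ : ℕ => g) ≫ Pi.π (fun _ : ℕ => F') n := by
  rw [Category.assoc, LocAway.ψ_π, Preadditive.comp_sub, Limits.Pi.map_π, Limits.Pi.map_π_assoc, Category.assoc,
    Limits.Pi.map_π, LocAway.ψ_π_assoc, Preadditive.sub_comp, Category.assoc, ← smulEnd_comm]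

/-- `(x_n) ↦ (x_n - s x_{n+1})`, naturally. -/
noncomputable def ψT : (P : Mod O ⥤ Mod O) ⟶ P where
  app F := LocAway.ψ s F
  naturality F F' g := Pi.hom_ext _ _ (ψ_natural s g)

/-- The kernel inclusion, naturally. -/
noncomputable def ιT : LocAway.H s ⟶ P where
  app F := kernel.ι (LocAway.ψ s F)
  naturality F F' g := Pi.hom_ext _ _ fun n =>
    (Category.assoc _ _ _).trans ((LocAway.mapH_pr s g n).trans
      ((Category.assoc _ _ _).trans ((congrArg (kernel.ι (LocAway.ψ s F) ≫ ·)
        (Limits.Pi.map_π (f := fun _ : ℕ => F) (g := fun _ => F') (fun _ => g) n).symm).trans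
        (Category.assoc _ _ _).symm)))

variable (I : CochainComplex (Mod O) ℤ)

/-- The product complex. -/
noncomputable abbrev Pc : CochainComplex (Mod O) ℤ := (P.mapHomologicalComplex (ComplexShape.up ℤ)).obj I

/-- Its projections. -/
noncomputable def prc (n : ℕ) : Pc I ⟶ I where
  f k := Pi.π (fun _ : ℕ => I.X k) n
  comm' i j _ := (Limits.Pi.map_π (f := fun _ : ℕ => I.X i) (g := fun _ => I.X j) (fun _ => I.d i j) n).symm

theorem prc_f (n : ℕ) (k : ℤ) : (prc I n).f k = Pi.π (fun _ : ℕ => I.X k) n := rfl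

/-- Maps into the product complex. -/
noncomputable def liftc {W : CochainComplex (Mod O) ℤ} (f : ℕ → (W ⟶ I)) : W ⟶ Pc I where
  f k := Pi.lift fun n => (f n).f k
  comm' i j _ := P_ext fun n => by
    change ((Pi.lift fun n => (f n).f i) ≫ Limits.Pi.map fun _ => I.d i j) ≫ Pi.π (fun _ : ℕ => I.X j) n =
      (W.d i j ≫ Pi.lift fun n => (f n).f j) ≫ Pi.π (fun _ : ℕ => I.X j) n
    rw [Category.assoc, Limits.Pi.map_π, Pi.lift_π_assoc, Category.assoc, Pi.lift_π, (f n).comm]

theorem liftc_prc {W : CochainComplex (Mod O) ℤ} (f : ℕ → (W ⟶ I)) (n : ℕ) : liftc I f ≫ prc I n = f n := by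
  ext k : 1
  exact Pi.lift_π (f := fun _ : ℕ => I.X k) (fun m => (f m).f k) n

theorem nullHomotopic_of_prc {W : CochainComplex (Mod O) ℤ} (f : W ⟶ Pc I)
    (h : ∀ n, Nonempty (Homotopy (f ≫ prc I n) 0)) : Nonempty (Homotopy f 0) := by
  replace h : ∀ n, Homotopy (f ≫ prc I n) 0 := fun n => (h n).some
  let H : ∀ p q, W.X p ⟶ (Pc I).X q := fun p q => Pi.lift fun n => (h n).hom p q
  have hf : f = Homotopy.nullHomotopicMap H := by
    ext k : 1
    refine P_ext fun n => ?_
    change f.f k ≫ Pi.π (fun _ : ℕ => I.X k) n =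
      (Homotopy.nullHomotopicMap H).f k ≫ Pi.π (fun _ : ℕ => I.X k) n
    rw [← prc_f, ← HomologicalComplex.comp_f, ← HomologicalComplex.comp_f, Homotopy.nullHomotopicMap_comp]
    have e : (fun p q => H p q ≫ (prc I n).f q) = (h n).hom :=
      funext fun p => funext fun q => by rw [prc_f]; exact Pi.lift_π _ _
    rw [e, (h n).comm k, HomologicalComplex.zero_f, add_zero]
    rfl
  exact ⟨(Homotopy.ofEq hf).trans (Homotopy.nullHomotopy H fun p q hpq =>
    P_ext fun n => (Pi.lift_π _ _).trans (((h n).zero p q hpq).trans zero_comp.symm))⟩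

theorem isKInjective_Pc [hI : I.IsKInjective] : (Pc I).IsKInjective where
  nonempty_homotopy_zero f hK :=
    nullHomotopic_of_prc I f fun n => ⟨CochainComplex.IsKInjective.homotopyZero (f ≫ prc I n) hK⟩

section GenProd

variable {A : Type (u + 1)} [Category.{u} A] [Abelian A] (I P₀ : CochainComplex A ℤ) (pr : ℕ → (P₀ ⟶ I))

/-- A homotopy product of K-injectives is a product in the derived category. -/
theorem isIso_lift_of_homotopyProduct [I.IsKInjective] [P₀.IsKInjective]
    [HasProduct fun _ : ℕ => DerivedCategory.Q.obj I]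
    (hlift : ∀ (W : CochainComplex A ℤ) (f : ℕ → (W ⟶ I)), ∃ g : W ⟶ P₀, ∀ n, g ≫ pr n = f n)
    (hnull : ∀ (W : CochainComplex A ℤ) (f : W ⟶ P₀), (∀ n, Nonempty (Homotopy (f ≫ pr n) 0)) →
      Nonempty (Homotopy f 0)) :
    IsIso (Pi.lift fun n => DerivedCategory.Q.map (pr n) :
      DerivedCategory.Q.obj P₀ ⟶ ∏ᶜ fun _ : ℕ => DerivedCategory.Q.obj I) := by
  let c : DerivedCategory.Q.obj P₀ ⟶ ∏ᶜ fun _ : ℕ => DerivedCategory.Q.obj I :=
    Pi.lift fun n => DerivedCategory.Q.map (pr n)
  let K := DerivedCategory.Q.objPreimage (∏ᶜ fun _ : ℕ => DerivedCategory.Q.obj I)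
  let e : DerivedCategory.Q.obj K ≅ ∏ᶜ fun _ : ℕ => DerivedCategory.Q.obj I := DerivedCategory.Q.objObjPreimageIso _
  choose f hf using fun n => Q_map_surjective K I (e.hom ≫ Pi.π _ n)
  obtain ⟨l, hl⟩ := hlift K f
  refine ⟨e.inv ≫ DerivedCategory.Q.map l, ?_, ?_⟩
  · obtain ⟨g, hg⟩ := Q_map_surjective P₀ P₀ (c ≫ e.inv ≫ DerivedCategory.Q.map l)
    refine hg.symm.trans ((Groth.Agent.DHA.KInj.Q_map_eq_of_homotopy (Homotopy.equivSubZero.symm
      (hnull P₀ (g - 𝟙 _) fun n => ?_).some)).trans (DerivedCategory.Q.map_id _))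
    rw [Preadditive.sub_comp, Category.id_comp]
    have hq : DerivedCategory.Q.map (g ≫ pr n) = DerivedCategory.Q.map (pr n) := by
      rw [Functor.map_comp, hg]
      simp only [Category.assoc, ← Functor.map_comp, hl, hf, Iso.inv_hom_id_assoc]
      exact Pi.lift_π _ _
    exact (homotopy_of_Q_map_eq hq).map Homotopy.equivSubZero
  · refine Pi.hom_ext _ _ fun n => ?_
    simp only [Category.assoc, Pi.lift_π, ← Functor.map_comp, hl, hf, Iso.inv_hom_id_assoc,
      Category.id_comp]

omit I P₀ pr in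
/-- A short exact sequence presents a derived limit. -/
theorem exists_triangle_of_shortExact {I T P₀ : CochainComplex A ℤ} (f : T ⟶ P₀) (g : P₀ ⟶ P₀) (w : f ≫ g = 0)
    (hS : (ShortComplex.mk f g w).ShortExact) (pr : ℕ → (P₀ ⟶ I)) (μ : I ⟶ I)
    (hg : ∀ n, g ≫ pr n = pr n - pr (n + 1) ≫ μ) [HasProduct fun _ : ℕ => DerivedCategory.Q.obj I]
    (hc : IsIso (Pi.lift fun n => DerivedCategory.Q.map (pr n) :
      DerivedCategory.Q.obj P₀ ⟶ ∏ᶜ fun _ : ℕ => DerivedCategory.Q.obj I))
    {K R : DerivedCategory A} [HasProduct fun _ : ℕ => K] (eK : K ≅ DerivedCategory.Q.obj I) (μK : K ⟶ K)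
    (hμ : DerivedCategory.Q.map μ ≫ eK.inv = eK.inv ≫ μK) (v : DerivedCategory.Q.obj T ≅ R) :
    ∃ (f' : R ⟶ ∏ᶜ fun _ : ℕ => K) (δ : (∏ᶜ fun _ : ℕ => K) ⟶ R⟦(1 : ℤ)⟧),
      Pretriangulated.Triangle.mk f'
        (Pi.lift fun n => Pi.π (fun _ : ℕ => K) n - Pi.π (fun _ : ℕ => K) (n + 1) ≫ μK) δ ∈
        (distTriang (DerivedCategory A)) := by
  let c : DerivedCategory.Q.obj P₀ ≅ ∏ᶜ fun _ : ℕ => K :=
    @asIso _ _ _ _ (Pi.lift fun n => DerivedCategory.Q.map (pr n) :
      DerivedCategory.Q.obj P₀ ⟶ ∏ᶜ fun _ : ℕ => DerivedCategory.Q.obj I) hc ≪≫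
        ⟨Limits.Pi.map fun _ => eK.inv, Limits.Pi.map fun _ => eK.hom, Pi.hom_ext _ _ fun n => by simp,
          Pi.hom_ext _ _ fun n => by simp⟩
  have hcπ : ∀ n, c.hom ≫ Pi.π (fun _ : ℕ => K) n = DerivedCategory.Q.map (pr n) ≫ eK.inv := fun n => by
    simp [c]
  refine ⟨v.inv ≫ DerivedCategory.Q.map f ≫ c.hom,
    c.inv ≫ DerivedCategory.triangleOfSESδ hS ≫ (shiftFunctor _ (1 : ℤ)).map v.hom, ?_⟩
  refine Pretriangulated.isomorphic_distinguished _ (DerivedCategory.triangleOfSES_distinguished hS) _ ?_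
  refine Pretriangulated.Triangle.isoMk _ _ v.symm c.symm c.symm ?_ ?_ ?_
  · show (v.inv ≫ DerivedCategory.Q.map f ≫ c.hom) ≫ c.inv = v.inv ≫ DerivedCategory.Q.map f
    simp
  · show (Pi.lift fun n => Pi.π (fun _ : ℕ => K) n - Pi.π (fun _ : ℕ => K) (n + 1) ≫ μK) ≫ c.inv =
      c.inv ≫ DerivedCategory.Q.map g
    rw [Iso.comp_inv_eq, Category.assoc, Iso.eq_inv_comp]
    refine Pi.hom_ext _ _ fun n => ?_
    simp only [Category.assoc, Pi.lift_π, Preadditive.comp_sub, hcπ]
    rw [← Category.assoc c.hom, hcπ, ← Functor.map_comp_assoc, hg, Functor.map_sub, Preadditive.sub_comp,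
      Functor.map_comp, Category.assoc, Category.assoc, hμ]
  · show (c.inv ≫ DerivedCategory.triangleOfSESδ hS ≫ (shiftFunctor _ (1 : ℤ)).map v.hom) ≫
      (shiftFunctor _ (1 : ℤ)).map v.inv = c.inv ≫ DerivedCategory.triangleOfSESδ hS
    simp [← Functor.map_comp]

end GenProd

/-- `Q` of the product complex is the product in the derived category. -/
theorem isIso_productComparison [I.IsKInjective] [HasProduct fun _ : ℕ => DerivedCategory.Q.obj I] :
    IsIso (Pi.lift fun n => DerivedCategory.Q.map (prc I n) :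
      DerivedCategory.Q.obj (Pc I) ⟶ ∏ᶜ fun _ : ℕ => DerivedCategory.Q.obj I) :=
  have := isKInjective_Pc I
  isIso_lift_of_homotopyProduct I (Pc I) (prc I) (fun _ f => ⟨liftc I f, liftc_prc I f⟩)
    fun _ => nullHomotopic_of_prc I

/-- The sequence `T → ∏ I → ∏ I`. -/
noncomputable def seq : ShortComplex (CochainComplex (Mod O) ℤ) :=
  ShortComplex.mk ((NatTrans.mapHomologicalComplex (ιT s) (ComplexShape.up ℤ)).app I)
    ((NatTrans.mapHomologicalComplex (ψT s) (ComplexShape.up ℤ)).app I)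
    (by ext k : 1; exact kernel.condition _)

theorem shortExact_seq (hI : ∀ k, Injective (I.X k)) : (seq s I).ShortExact :=
  HomologicalComplex.shortExact_of_degreewise_shortExact _ fun k =>
    have := hI k
    have := LocAway.isSplitEpi_ψ s (I.X k)
    { exact := ShortComplex.exact_of_f_is_kernel _ (kernelIsKernel (LocAway.ψ s (I.X k)))
      mono_f := inferInstanceAs (Mono (kernel.ι (LocAway.ψ s (I.X k))))
      epi_g := inferInstanceAs (Epi (LocAway.ψ s (I.X k))) }

theorem smul_f (n : ℕ) (k : ℤ) :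
    (prc I n ≫ (s • 𝟙 I)).f k = Pi.π (fun _ : ℕ => I.X k) n ≫ smulEnd s (I.X k) := by
  rw [HomologicalComplex.comp_f, prc_f]
  exact congrArg (_ ≫ ·) (Category.comp_id _)

theorem ψ_prc (n : ℕ) : (seq s I).g ≫ prc I n = prc I n - prc I (n + 1) ≫ (s • 𝟙 I) := by
  ext k : 1
  rw [HomologicalComplex.sub_f_apply, smul_f]
  exact LocAway.ψ_π s _ n

theorem smul_comm_Q {K : DerivedCategory (Mod O)} (eK : K ≅ DerivedCategory.Q.obj I) :
    DerivedCategory.Q.map (s • 𝟙 I) ≫ eK.inv = eK.inv ≫ (s • 𝟙 K) := by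
  rw [Functor.map_smul, DerivedCategory.Q.map_id, Linear.smul_comp, Linear.comp_smul, Category.comp_id,
    Category.id_comp]

/-- `RHom(O_s, K)` is a derived limit of the tower of multiplications by `s`. -/
theorem isT_RHom [ModSite.HasLTensorCx (Os s)] [DerComp.HasRHom (Os s)]
    (K : DerivedCategory (Mod O)) [HasProduct fun _ : ℕ => K] :
    DerComp.IsT s K ((DerComp.RHom (Os s)).obj K) := by
  obtain ⟨I, r, hI, hr, -, hinj⟩ := exists_resolution (Mod O) (DerivedCategory.Q.objPreimage K)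
  let eK : K ≅ DerivedCategory.Q.obj I :=
    (DerivedCategory.Q.objObjPreimageIso K).symm ≪≫ asIso (DerivedCategory.Q.map r)
  have : HasProduct fun _ : ℕ => DerivedCategory.Q.obj I :=
    hasLimit_of_iso (Discrete.natIso fun _ => eK :
      Discrete.functor (fun _ : ℕ => K) ≅ Discrete.functor fun _ : ℕ => DerivedCategory.Q.obj I)
  let T := ((LocAway.H s).mapHomologicalComplex (ComplexShape.up ℤ)).obj I
  let adjD : (LocAway.G s).mapDerivedCategory ⊣ DerComp.RHom (Os s) :=
    (DerComp.RHomAdj (Os s)).ofNatIsoLeft (ltIso s)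
  let v : DerivedCategory.Q.obj T ⟶ (DerComp.RHom (Os s)).obj K :=
    adjD.homEquiv _ _ (counitD (LocAway.adj s) I ≫ eK.inv)
  have hb : ∀ W, Function.Bijective fun z : W ⟶ DerivedCategory.Q.obj T => z ≫ v := fun W => by
    have he : (fun z : W ⟶ DerivedCategory.Q.obj T => z ≫ v) =
        adjD.homEquiv W K ∘ (fun y => y ≫ eK.inv) ∘
          fun z => (LocAway.G s).mapDerivedCategory.map z ≫ counitD (LocAway.adj s) I := funext fun z =>
      ((congrArg (adjD.homEquiv W K) (Category.assoc _ _ _)).trans (adjD.homEquiv_naturality_left z _)).symm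
    rw [he]
    exact (adjD.homEquiv W K).bijective.comp (Function.Bijective.comp
      ⟨fun a b h => (cancel_mono eK.inv).1 h, fun y => ⟨y ≫ eK.hom, by simp⟩⟩
      (bijective_counitD (LocAway.adj s) I W))
  have hv : IsIso v := by
    obtain ⟨w, hw⟩ := (hb _).2 (𝟙 _)
    exact ⟨w, (hb _).1 (by simp only [Category.assoc] at hw ⊢; rw [hw, Category.comp_id, Category.id_comp]), hw⟩
  exact exists_triangle_of_shortExact _ _ (seq s I).zero (shortExact_seq s I hinj) (prc I) (s • 𝟙 I) (ψ_prc s I)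
    (isIso_productComparison I) eK (s • 𝟙 K) (smul_comm_Q s I eK) (@asIso _ _ _ _ v hv)

end Groth.Agent.KFlat.AwayRlim
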