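import Groth.Agent.DHA.KInjectiveResolution
import Groth.Agent.DHA.KInj.Products
import Mathlib.Algebra.Homology.HomotopyCategory.HomComplexCohomology
import Mathlib.Algebra.Homology.HomotopyCategory.DegreewiseSplit
import Mathlib.CategoryTheory.Adjunction.Basic

/-!
# Bousfield localization away from a set of objects

In the derived category of a Grothendieck abelian category, the full subcategory of objects right
orthogonal to all shifts of a small set of objects is reflective: for every `K` a small object
argument produces `K ⟶ K'` with `K'` orthogonal which is initial among such maps.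
-/

set_option autoImplicit false

universe v u

open CategoryTheory CategoryTheory.Limits CochainComplex CochainComplex.HomComplex ZeroObject
open Groth.Agent.DHA.KInj
open HomologicalComplex (eval)

attribute [local instance] HasDerivedCategory.standard

namespace Groth.Agent.KFlat.Bousfield

variable {A : Type u} [Category.{v} A] [Abelian A] [IsGrothendieckAbelian.{v} A]

/-- Degreewise epimorphisms with injective K-injective kernels lift against monomorphisms with
orthogonal cokernel. -/
theorem hasLiftingProperty_of_hom_zero {K L X Y : CochainComplex A ℤ} (i : K ⟶ L) (p : X ⟶ Y) [Mono i]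
    (hp : fibK A p)
    (h0 : ∀ f : DerivedCategory.Q.obj (cokernel i) ⟶ DerivedCategory.Q.obj ((kernel p)⟦(1 : ℤ)⟧), f = 0) :
    HasLiftingProperty i p where
  sq_hasLift {t b} sq := by
    obtain ⟨hp, hK⟩ := hp
    have := hK
    have : ((kernel p)⟦(1 : ℤ)⟧).IsKInjective := (isKInjective_shift_iff (kernel p) 1).2 hK
    have sq' (n : ℤ) : CommSq (t.f n) (i.f n) (p.f n) (b.f n) :=
      (sq.map (HomologicalComplex.eval _ _ n))
    have (n : ℤ) : (sq' n).HasLift := by
      have := (hp n).hasLiftingProperty (i.f n)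
      infer_instance
    let β : Cocycle (cokernel i) (kernel p) 1 :=
      Lifting.cocycle₁ sq (fun n ↦ ⟨(sq' n).lift, (sq' n).fac_left, (sq' n).fac_right⟩)
        (cokernelIsCokernel i) (kernelIsKernel p) (hπ := by simp) (hι := by simp)
    have hβ : β ∈ coboundaries (cokernel i) (kernel p) 1 := by
      rw [← CohomologyClass.toHom_mk_eq_zero_iff, CohomologyClass.toHom_mk,
        HomotopyCategory.quotient_map_eq_zero_iff]
      exact homotopy_of_Q_map_eq ((h0 _).trans (DerivedCategory.Q.map_zero _ _).symm)
    obtain ⟨α, hα⟩ := (mem_coboundaries_iff β 0 (by simp)).1 hβ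
    exact Lifting.hasLift sq _ (cokernelIsCokernel _) (kernelIsKernel _) α hα

variable {ι : Type v} (T : ι → CochainComplex A ℤ)

/-- Orthogonality to all shifts of the family. -/
def Orth (L : DerivedCategory A) : Prop :=
  ∀ (s : ι) (m : ℤ) (f : DerivedCategory.Q.obj ((T s)⟦m⟧) ⟶ L), f = 0

omit [IsGrothendieckAbelian.{v} A] in
theorem Orth.of_iso {L L' : DerivedCategory A} (e : L ≅ L') (h : Orth T L) : Orth T L' := fun s m f =>
  by rw [← cancel_mono e.inv, zero_comp]; exact h s m _

/-- The cones. -/
noncomputable abbrev cellSrc (x : ι × ℤ) : CochainComplex A ℤ := (T x.1)⟦x.2⟧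

/-- The generating cofibrations. -/
def cells : MorphismProperty (CochainComplex A ℤ) :=
  MorphismProperty.ofHoms fun x : ι × ℤ => mappingCone.inr (𝟙 (cellSrc T x))

/-- All the generators. -/
def J : MorphismProperty (CochainComplex A ℤ) := gens (bound (separator A)) ⊔ cells T

instance : MorphismProperty.IsSmall.{v} (cells T) := by
  dsimp [cells]
  infer_instance

omit [IsGrothendieckAbelian.{v} A] in
theorem mono_inr (K : CochainComplex A ℤ) : Mono (mappingCone.inr (𝟙 K)) :=
  HomologicalComplex.mono_of_mono_f _ fun n =>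
    mono_of_mono_fac (mappingCone.inr_f_snd_v (𝟙 K) n)

theorem J_le_mono : J T ≤ MorphismProperty.monomorphisms _ :=
  sup_le (fun _ _ f hf => (gens_le _ f hf).1) fun _ _ _ ⟨x⟩ => mono_inr _

instance : MorphismProperty.IsSmall.{v} (J T) := by
  have (b : Bool) : MorphismProperty.IsSmall.{v} (cond b (gens (bound (separator A))) (cells T)) := by
    cases b
    · exact (inferInstance : MorphismProperty.IsSmall.{v} (cells T))
    · exact (inferInstanceAs (MorphismProperty.IsSmall.{v} (gens (bound (separator A)))))
  rw [J, sup_eq_iSup]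
  infer_instance

instance : MorphismProperty.HasSmallObjectArgument.{v} (J T) := by
  obtain ⟨κ, hκ', hκ⟩ := HasCardinalLT.exists_regular_cardinal_forall.{v}
    (fun c : Code (bound (separator A)) ⊕ (ι × ℤ) =>
      Subobject (Sum.elim (fun c : Code (bound (separator A)) => c.cx) (cellSrc T) c))
  have : Fact κ.IsRegular := ⟨hκ'⟩
  have : Nonempty κ.ord.ToType := by simpa using hκ'.ne_zero
  have := WellFoundedLT.toOrderBot κ.ord.ToType
  exact ⟨κ, inferInstance, inferInstance,
    { preservesColimit {A' B' X Y} i hi f hf := by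
        let hf' : (MorphismProperty.monomorphisms _).TransfiniteCompositionOfShape κ.ord.ToType f :=
          { toTransfiniteCompositionOfShape := hf.toTransfiniteCompositionOfShape
            map_mem j hj := by
              have := (hf.attachCells j hj).pushouts_coproducts
              simp only [MorphismProperty.ofHoms_homFamily] at this
              refine (?_ : _ ≤ MorphismProperty.monomorphisms _) _ this
              simp only [MorphismProperty.pushouts_le_iff, MorphismProperty.coproducts_le_iff]
              exact J_le_mono T }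
        have (j j' : κ.ord.ToType) (φ : j ⟶ j') : Mono (hf'.F.map φ) := hf'.mem_map φ
        apply IsGrothendieckAbelian.preservesColimit_coyoneda_obj_of_mono (Y := hf'.F) (κ := κ)
        rcases hi with hi | hi
        · obtain ⟨S⟩ := hi
          refine Subobject.hasCardinalLT_of_mono ?_ S.2.1.arrow
          exact hκ (Sum.inl S.1)
        · obtain ⟨x⟩ := hi
          exact hκ (Sum.inr x) }⟩

/-- Fibrant objects. -/
structure Good (L : CochainComplex A ℤ) : Prop where
  kInj : L.IsKInjective
  inj : ∀ n, Injective (L.X n)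
  orth : Orth T (DerivedCategory.Q.obj L)

variable {T}

theorem fibK_zero {L : CochainComplex A ℤ} (hL : Good T L) : fibK A (0 : L ⟶ 0) :=
  ⟨by rw [degreewiseEpiWithInjectiveKernel_iff_of_isZero _ (isZero_zero _)]; exact hL.inj,
    have := hL.kInj; isKInjective_of_iso kernelZeroIsoSource.symm⟩

theorem Good.rlp {L : CochainComplex A ℤ} (hL : Good T L) : (J T).rlp (0 : L ⟶ 0) := by
  intro X Y i hi
  rcases hi with hi | hi
  · have : Mono i := (gens_le _ i hi).1
    have : QuasiIso i := (gens_le _ i hi).2
    exact hasLiftingProperty i _ (fibK_zero hL)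
  · obtain ⟨x⟩ := hi
    refine ⟨fun {t b} sq => ?_⟩
    have := hL.kInj
    obtain ⟨h⟩ : Nonempty (Homotopy t 0) := homotopy_of_Q_map_eq
      ((hL.orth x.1 x.2 _).trans (DerivedCategory.Q.map_zero _ _).symm)
    obtain ⟨z, hz⟩ := Cochain.equivHomotopy _ _ h
    exact CommSq.HasLift.mk'
      { l := mappingCone.desc _ z t (by
          rw [Category.id_comp, hz, Cochain.ofHom_zero, add_zero])
        fac_left := mappingCone.inr_desc _ _ _ _
        fac_right := (isZero_zero _).eq_of_tgt _ _ }

omit [IsGrothendieckAbelian.{v} A] in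
theorem shortExact_triangle (M : CochainComplex A ℤ) :
    (mappingCone.triangleRotateShortComplex (𝟙 M)).ShortExact :=
  HomologicalComplex.shortExact_of_degreewise_shortExact _ fun n =>
    (mappingCone.triangleRotateShortComplexSplitting (𝟙 M) n).shortExact

/-- The path fibration of a good object. -/
noncomputable abbrev path (M : CochainComplex A ℤ) : mappingCone (𝟙 M) ⟶ M⟦(1 : ℤ)⟧ :=
  (mappingCone.triangleRotateShortComplex (𝟙 M)).g

theorem fibK_path {M : CochainComplex A ℤ} [M.IsKInjective] (hM : ∀ n, Injective (M.X n)) :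
    fibK A (path M) := by
  refine ⟨fun n => ?_, ?_⟩
  · rw [Abelian.epiWithInjectiveKernel_iff]
    exact ⟨M.X n, hM n, _, _, ⟨mappingCone.triangleRotateShortComplexSplitting (𝟙 M) n⟩⟩
  · have e : M ≅ kernel (path M) :=
      IsLimit.conePointUniqueUpToIso (shortExact_triangle M).fIsKernel (limit.isLimit _)
    exact isKInjective_of_iso e

theorem path_rlp {M : CochainComplex A ℤ} [M.IsKInjective] (hM : ∀ n, Injective (M.X n))
    (hO : Orth T (DerivedCategory.Q.obj (M⟦(1 : ℤ)⟧))) : (J T).rlp (path M) := by
  intro X Y i hi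
  rcases hi with hi | hi
  · have : Mono i := (gens_le _ i hi).1
    have : QuasiIso i := (gens_le _ i hi).2
    exact hasLiftingProperty i _ (fibK_path hM)
  · obtain ⟨x⟩ := hi
    have := mono_inr (cellSrc T x)
    refine hasLiftingProperty_of_hom_zero _ _ (fibK_path hM) fun f => ?_
    let e₁ : cokernel (mappingCone.inr (𝟙 (cellSrc T x))) ≅ (cellSrc T x)⟦(1 : ℤ)⟧ :=
      IsColimit.coconePointUniqueUpToIso (cokernelIsCokernel _) (shortExact_triangle (cellSrc T x)).gIsCokernel
    let e₂ : kernel (path M) ≅ M :=
      IsLimit.conePointUniqueUpToIso (kernelIsKernel (path M)) (shortExact_triangle M).fIsKernel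
    have h := hO x.1 (x.2 + 1) ((DerivedCategory.Q.mapIso
      ((shiftFunctorAdd (CochainComplex A ℤ) x.2 1).app (T x.1) ≪≫ e₁.symm)).hom ≫ f ≫
      DerivedCategory.Q.map (e₂.hom⟦(1 : ℤ)⟧'))
    have : IsIso (DerivedCategory.Q.map (e₂.hom⟦(1 : ℤ)⟧')) := inferInstance
    rw [← cancel_mono (DerivedCategory.Q.map (e₂.hom⟦(1 : ℤ)⟧')), zero_comp]
    exact (cancel_epi (DerivedCategory.Q.mapIso
      ((shiftFunctorAdd (CochainComplex A ℤ) x.2 1).app (T x.1) ≪≫ e₁.symm)).hom).1 (h.trans comp_zero.symm)

theorem mono_of_llp_rlp {X Y : CochainComplex A ℤ} (i : X ⟶ Y) (hi : (J T).rlp.llp i) : Mono i := by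
  refine (?_ : (J T).rlp.llp ≤ MorphismProperty.monomorphisms _) i hi
  rw [MorphismProperty.llp_rlp_of_hasSmallObjectArgument, MorphismProperty.retracts_le_iff]
  trans MorphismProperty.transfiniteCompositions.{v} (MorphismProperty.monomorphisms _)
  · apply MorphismProperty.transfiniteCompositions_monotone
    simp only [MorphismProperty.pushouts_le_iff, MorphismProperty.coproducts_le_iff]
    exact J_le_mono T
  · exact MorphismProperty.transfiniteCompositions_le _

variable (T)

/-- The reflection. -/
theorem exists_reflection (K₀ : DerivedCategory A) :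
    ∃ (R : DerivedCategory A) (η : K₀ ⟶ R), Orth T R ∧
      ∀ L : DerivedCategory A, Orth T L → Function.Bijective fun g : R ⟶ L => η ≫ g := by
  let K := DerivedCategory.Q.objPreimage K₀
  let eK : DerivedCategory.Q.obj K ≅ K₀ := DerivedCategory.Q.objObjPreimageIso K₀
  let F := MorphismProperty.factorizationData (J T).rlp.llp (J T).rlp (0 : K ⟶ 0)
  let K' := F.Z
  let i : K ⟶ K' := F.i
  have hi : (J T).rlp.llp i := F.hi
  have hK' : (J T).rlp (0 : K' ⟶ 0) := by
    have h := F.hp
    rwa [(isZero_zero (CochainComplex A ℤ)).eq_of_tgt F.p 0] at h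
  have hfib : (monoQis A).rlp (0 : K' ⟶ 0) := by
    rw [← llp_rlp_gens, MorphismProperty.rlp_llp_rlp]
    exact MorphismProperty.antitone_rlp le_sup_left _ hK'
  have := isKInjective_of_rlp hfib
  refine ⟨DerivedCategory.Q.obj K', eK.inv ≫ DerivedCategory.Q.map i, fun s m f => ?_, fun L₀ hL₀ => ?_⟩
  · obtain ⟨f₀, rfl⟩ := Q_map_surjective _ K' f
    have := hK' _ (Or.inr (MorphismProperty.ofHoms.mk (f := fun x : ι × ℤ => mappingCone.inr (𝟙 (cellSrc T x))) (s, m)))
    have sq : CommSq f₀ (mappingCone.inr (𝟙 (cellSrc T (s, m)))) (0 : K' ⟶ 0) 0 := ⟨by simp⟩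
    have hf : Homotopy f₀ 0 :=
      (Homotopy.ofEq (sq.fac_left.symm.trans (by rw [Category.comp_id]))).trans
        ((((mappingCone.homotopyToZeroOfId (cellSrc T (s, m))).compLeft _).compRight sq.lift).trans
          (Homotopy.ofEq (by simp)))
    rw [Groth.Agent.DHA.KInj.Q_map_eq_of_homotopy hf, Functor.map_zero]
  let L' := DerivedCategory.Q.objPreimage L₀
  let L := (resolution A).obj L'
  let eL : DerivedCategory.Q.obj L ≅ L₀ :=
    (asIso (DerivedCategory.Q.map ((resolutionι A).app L'))).symm ≪≫ DerivedCategory.Q.objObjPreimageIso L₀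
  have hL : Good T L := ⟨inferInstance, inferInstance, hL₀.of_iso T eL.symm⟩
  suffices h : Function.Bijective fun g : DerivedCategory.Q.obj K' ⟶ DerivedCategory.Q.obj L =>
      DerivedCategory.Q.map i ≫ g by
    constructor
    · intro g g' hg
      rw [← cancel_mono eL.inv]
      refine h.1 ?_
      simp only [← Category.assoc]
      refine congrArg (· ≫ eL.inv) ?_
      exact (cancel_epi eK.inv).1 (by simpa only [Category.assoc] using hg)
    · intro g
      obtain ⟨g', hg'⟩ := h.2 (eK.hom ≫ g ≫ eL.inv)
      refine ⟨g' ≫ eL.hom, ?_⟩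
      simp only at hg' ⊢
      rw [Category.assoc, ← Category.assoc (DerivedCategory.Q.map i), hg']
      simp
  constructor
  · intro g g' hgg
    obtain ⟨g, rfl⟩ := Q_map_surjective _ L g
    obtain ⟨g', rfl⟩ := Q_map_surjective _ L g'
    simp only [← Functor.map_comp] at hgg
    obtain ⟨h₀⟩ := homotopy_of_Q_map_eq hgg
    have h : Homotopy (i ≫ (g - g')) 0 :=
      (Homotopy.ofEq (Preadditive.comp_sub _ _ _)).trans (Homotopy.equivSubZero h₀)
    have hmi := mono_of_llp_rlp i hi
    have : ∀ n, Mono (i.f n) := fun n => inferInstanceAs (Mono ((eval A _ n).map i))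
    have := hL.inj
    let H : ∀ p q, K'.X p ⟶ L.X q := fun p q =>
      if (ComplexShape.up ℤ).Rel q p then Injective.factorThru (h.hom p q) (i.f p) else 0
    let d := g - g' - Homotopy.nullHomotopicMap H
    have hd : i ≫ d = 0 := by
      have e : (fun p q => i.f p ≫ H p q) = h.hom :=
        funext fun p => funext fun q => by
          dsimp only [H]
          split_ifs with hpq
          · exact Injective.comp_factorThru _ _
          · rw [comp_zero, h.zero p q hpq]
      rw [Preadditive.comp_sub, Homotopy.comp_nullHomotopicMap, e, sub_eq_zero]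
      ext n
      rw [h.comm n, HomologicalComplex.zero_f, add_zero]
      rfl
    let d' : cokernel i ⟶ L := cokernel.desc i d hd
    have hcok : (J T).rlp.llp (0 : (0 : CochainComplex A ℤ) ⟶ cokernel i) := by
      refine MorphismProperty.of_isPushout (P := (J T).rlp.llp) (f := i) (f' := (0 : (0 : CochainComplex A ℤ) ⟶ cokernel i)) (g := (0 : K ⟶ 0)) (g' := cokernel.π i) ?_ hi
      refine ⟨⟨by simp⟩, ⟨PushoutCocone.IsColimit.mk _ (fun s => cokernel.desc i s.inr ?_) ?_ ?_ ?_⟩⟩
      · rw [← s.condition, (isZero_zero _).eq_of_src s.inl 0, comp_zero]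
      · exact fun s => (isZero_zero _).eq_of_src _ _
      · exact fun s => cokernel.π_desc _ _ _
      · intro s m _ hm
        rw [← cancel_epi (cokernel.π i), hm, cokernel.π_desc]
    let M := L⟦(-1 : ℤ)⟧
    have : M.IsKInjective := (isKInjective_shift_iff L (-1)).2 inferInstance
    let eM : M⟦(1 : ℤ)⟧ ≅ L := (shiftFunctorCompIsoId (CochainComplex A ℤ) (-1 : ℤ) 1 (neg_add_cancel _)).app L
    have hp : (J T).rlp (path M) := path_rlp (fun n => hL.inj (n + (-1)))
      (hL.orth.of_iso T (DerivedCategory.Q.mapIso eM).symm)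
    have := hcok _ hp
    have sq : CommSq 0 (0 : (0 : CochainComplex A ℤ) ⟶ cokernel i) (path M) (d' ≫ eM.inv) := ⟨(isZero_zero _).eq_of_src _ _⟩
    have hd' : DerivedCategory.Q.map d' = 0 := by
      have hl : d' = sq.lift ≫ path M ≫ eM.hom := by
        rw [← Category.assoc, sq.fac_right, Category.assoc, Iso.inv_hom_id, Category.comp_id]
      have hz : DerivedCategory.Q.map (𝟙 (mappingCone (𝟙 M))) = 0 :=
        (Groth.Agent.DHA.KInj.Q_map_eq_of_homotopy (mappingCone.homotopyToZeroOfId M)).trans (DerivedCategory.Q.map_zero _ _)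
      have e1 : sq.lift ≫ path M ≫ eM.hom = sq.lift ≫ 𝟙 (mappingCone (𝟙 M)) ≫ (path M ≫ eM.hom) := by
        rw [Category.id_comp]
      rw [hl, e1, Functor.map_comp, Functor.map_comp, hz, zero_comp, comp_zero]
    have hn : DerivedCategory.Q.map (Homotopy.nullHomotopicMap H) = 0 :=
      (Groth.Agent.DHA.KInj.Q_map_eq_of_homotopy (Homotopy.nullHomotopy H fun p q hpq => if_neg hpq)).trans (DerivedCategory.Q.map_zero _ _)
    have hfin : DerivedCategory.Q.map d = 0 := by
      rw [← cokernel.π_desc i d hd, Functor.map_comp, hd', comp_zero]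
    simpa [d, Functor.map_sub, hn, sub_eq_zero] using hfin
  · intro g
    obtain ⟨g, rfl⟩ := Q_map_surjective _ L (g : DerivedCategory.Q.obj K ⟶ DerivedCategory.Q.obj L)
    have := hi _ hL.rlp
    have sq : CommSq g i (0 : L ⟶ 0) 0 := ⟨by simp⟩
    exact ⟨DerivedCategory.Q.map sq.lift, by simp only [← Functor.map_comp, sq.fac_left]⟩

/-- The right orthogonal of a small family is reflective. -/
theorem isRightAdjoint_ι (P : ObjectProperty (DerivedCategory A)) (hP : ∀ L, P L ↔ Orth T L) :
    P.ι.IsRightAdjoint := by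
  choose R η hR hb using exists_reflection T
  let e : ∀ (K : DerivedCategory A) (L : P.FullSubcategory),
      ((⟨R K, (hP _).2 (hR K)⟩ : P.FullSubcategory) ⟶ L) ≃ (K ⟶ P.ι.obj L) := fun K L =>
    InducedCategory.homEquiv.trans (Equiv.ofBijective _ (hb K L.obj ((hP _).1 L.property)))
  exact (Adjunction.adjunctionOfEquivLeft e (fun K L L' g h =>
    show η K ≫ (h.hom ≫ g.hom) = (η K ≫ h.hom) ≫ g.hom from (Category.assoc _ _ _).symm)).isRightAdjoint

end Groth.Agent.KFlat.Bousfield
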