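import Groth.Agent.CohDev.Loc
import Groth.Agent.KFlat.PCNoeth
import Groth.Agent.VanQC.Cech
import Groth.Agent.Props.QApproxMain
import Groth.Agent.InjMod.QCohHull
import Groth.Agent.QCohGen.Closed
import Groth.Agent.S11161
import Groth.Prelude.Def_DCoh3

/-!
# Coherent complexes approximating complexes of quasi-coherent modules over an open
-/

set_option autoImplicit false

universe u

open CategoryTheory CategoryTheory.Limits AlgebraicGeometry TopologicalSpace

attribute [local instance] HasDerivedCategory.standard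

noncomputable section

namespace Groth.Agent.KFlat.CohExt

variable {X : Scheme.{u}}

theorem isQCoh_pullback {A B C : X.Modules} (f : A ⟶ C) (g : B ⟶ C) (hA : Coh.IsQCoh A)
    (hB : Coh.IsQCoh B) (hC : Coh.IsQCoh C) : Coh.IsQCoh (pullback f g) := by
  haveI : C.IsQuasicoherent := hC
  haveI : (A ⊞ B).IsQuasicoherent := CohDev.isQCoh_biprod hA hB
  let k := kernel (biprod.desc f (-g))
  let l : pullback f g ⟶ kernel (biprod.desc f (-g)) :=
    kernel.lift _ (biprod.lift (pullback.fst f g) (pullback.snd f g))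
      (by simp [biprod.lift_desc, pullback.condition])
  let l' : kernel (biprod.desc f (-g)) ⟶ pullback f g :=
    pullback.lift (kernel.ι (biprod.desc f (-g)) ≫ biprod.fst)
      (kernel.ι (biprod.desc f (-g)) ≫ biprod.snd) (by
        have hd : biprod.desc f (-g) = biprod.fst ≫ f - biprod.snd ≫ g :=
          biprod.hom_ext' _ _ (by simp) (by simp)
        rw [Category.assoc, Category.assoc, ← sub_eq_zero, ← Preadditive.comp_sub]
        exact (congrArg (kernel.ι _ ≫ ·) hd.symm).trans (kernel.condition _))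
  have hl' : l' ≫ pullback.fst f g = kernel.ι _ ≫ biprod.fst := pullback.lift_fst _ _ _
  have hl'' : l' ≫ pullback.snd f g = kernel.ι _ ≫ biprod.snd := pullback.lift_snd _ _ _
  have hl : l ≫ kernel.ι _ = biprod.lift (pullback.fst f g) (pullback.snd f g) := kernel.lift_ι _ _ _
  have hw : pullback f g ≅ kernel (biprod.desc f (-g)) :=
    { hom := l
      inv := l'
      hom_inv_id := pullback.hom_ext (by rw [Category.assoc, hl', reassoc_of% hl]; simp)
        (by rw [Category.assoc, hl'', reassoc_of% hl]; simp)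
      inv_hom_id := by
        rw [← cancel_mono (kernel.ι _), Category.assoc, hl]
        refine biprod.hom_ext _ _ ?_ ?_
        · rw [Category.assoc, biprod.lift_fst, hl', Category.id_comp]
        · rw [Category.assoc, biprod.lift_snd, hl'', Category.id_comp] }
  exact @QCoh.isQuasicoherent_of_iso X _ _ hw.symm (QCoh.isQuasicoherent_kernel _)

/-- A quasi-coherent module surjecting onto a coherent one has a coherent submodule doing so. -/
theorem exists_coh_epi [IsNoetherian X] {P Q : X.Modules} (q : P ⟶ Q) [Epi q] (hP : Coh.IsQCoh P)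
    (hQ : Coh.IsCoh Q) : ∃ (D : X.Modules) (d : D ⟶ P), Coh.IsCoh D ∧ Epi (d ≫ q) := by
  classical
  haveI : P.IsQuasicoherent := hP
  haveI : Q.IsQuasicoherent := hQ.1
  choose W hW hxW using fun x : X =>
    (exists_isAffineOpen_mem_and_subset (x := x) (U := ⊤) trivial).imp fun _ h => h.imp id And.left
  obtain ⟨t, ht⟩ := isCompact_univ.elim_finite_subcover (fun x => (W x : Set X))
    (fun x => (W x).2) fun x _ => Set.mem_iUnion.2 ⟨x, hxW x⟩
  have hgen : ∀ x, ∃ s : Finset Γ(Q, W x), Submodule.span Γ(X, W x) (s : Set Γ(Q, W x)) = ⊤ :=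
    fun x => (CohDev.finite_sections hQ (hW x)).fg_top
  choose s hs using hgen
  choose lift hlift using fun x => QCoh.app_surjective_of_epi q (hW x)
  let T : Finset (Σ x : X, Γ(Q, W x)) := t.sigma fun x => s x
  obtain ⟨D, d, hD, -, hd⟩ := VanQC.exists_sub_coh P T (fun k => W k.1) (fun k => hW k.1)
    (fun k => lift k.1 k.2)
  haveI : D.IsQuasicoherent := hD.1
  refine ⟨D, d, hD, Props.QApproxMain.epi_of_cover (d ≫ q) fun y => ?_⟩
  obtain ⟨x, hx, hy⟩ := Set.mem_iUnion₂.1 (ht (Set.mem_univ y))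
  refine ⟨W x, hW x, hy, fun z => ?_⟩
  have hz : z ∈ Submodule.span Γ(X, W x) (s x : Set Γ(Q, W x)) := hs x ▸ Submodule.mem_top
  induction hz using Submodule.span_induction with
  | mem a ha =>
    obtain ⟨b, hb⟩ := hd ⟨x, a⟩ (Finset.mem_sigma.2 ⟨hx, ha⟩)
    refine ⟨b, ?_⟩
    rw [Scheme.Modules.Hom.comp_app, ConcreteCategory.comp_apply, hb]
    exact hlift x a
  | zero => exact ⟨0, map_zero _⟩
  | add a b _ _ ha hb =>
    obtain ⟨a', rfl⟩ := ha
    obtain ⟨b', rfl⟩ := hb
    exact ⟨a' + b', map_add _ _ _⟩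
  | smul c a _ ha =>
    obtain ⟨a', rfl⟩ := ha
    exact ⟨c • a', Scheme.Modules.Hom.app_smul _ _ _⟩

variable (U : X.Opens)

local notation "R" => Scheme.Modules.restrictFunctor U.ι

/-- A coherent module mapping onto a coherent restriction. -/
theorem exists_coh_over_open [IsNoetherian X] {P Q : X.Modules} (q : P ⟶ Q)
    (hP : Coh.IsQCoh P) [Epi ((R).map q)] (hQ : Coh.IsCoh ((R).obj Q)) :
    ∃ (D : X.Modules) (d : D ⟶ P), Coh.IsCoh D ∧ Epi ((R).map (d ≫ q)) := by
  haveI : P.IsQuasicoherent := hP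
  haveI : CompactSpace U := isCompact_iff_compactSpace.mp (NoetherianSpace.isCompact _)
  haveI : IsNoetherian (U : Scheme.{u}) := ⟨⟩
  obtain ⟨G, g, hG, hg⟩ := exists_coh_epi ((R).map q)
    (Scheme.Modules.isQuasicoherent_restrictFunctor U.ι P) hQ
  obtain ⟨D, d, e, hD, he⟩ := CohDev.exists_coh_extension U.ι P hP G hG g
  refine ⟨D, d, hD, ?_⟩
  rw [Functor.map_comp, ← he, Category.assoc]
  exact epi_comp _ _

/-- Bounded objects with quasi-coherent cohomology are represented by bounded complexes of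
quasi-coherent modules. -/
theorem exists_qcoh_rep [IsLocallyNoetherian X] (E : DCoh.D X) (a b : ℤ) [E.IsGE a] [E.IsLE b]
    (hE : DCoh.IsQCohD E) :
    ∃ (K : CochainComplex X.Modules ℤ), K.IsStrictlyGE a ∧ K.IsStrictlyLE b ∧
      (∀ n, Coh.IsQCoh (K.X n)) ∧ Nonempty (E ≅ DerivedCategory.Q.obj K) := by
  let ι := (QCohCat.isQCoh X).ι
  have hmem : ∀ M : X.Modules, ι.essImage M → Coh.IsQCoh M := fun M ⟨N, ⟨e⟩⟩ =>
    @QCoh.isQuasicoherent_of_iso X _ _ e N.property
  have hof : ∀ M : X.Modules, Coh.IsQCoh M → ι.essImage M := fun M hM => ⟨⟨M, hM⟩, ⟨Iso.refl _⟩⟩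
  obtain ⟨I, hI, -, ⟨e⟩⟩ := S11161.result ι
    (fun S hS h₁ h₃ => hof _ (@QCoh.isQuasicoherent_X₂ X S hS (hmem _ h₁) (hmem _ h₃)))
    (fun M => by
      have : M.obj.IsQuasicoherent := M.property
      obtain ⟨H, j, hj, hH, hq⟩ := InjMod.exists_mono_qcoh_injective_loc M.obj
      exact ⟨⟨H, hq⟩, ObjectProperty.homMk j, ι.mono_of_mono_map (show Mono j from hj), hH⟩)
    E a (fun i => hof _ (hE i))
  let J : CochainComplex X.Modules ℤ := (ι.mapHomologicalComplex (ComplexShape.up ℤ)).obj I
  haveI hJ : J.IsStrictlyGE a :=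
    (CochainComplex.isStrictlyGE_iff _ _).2 fun n hn =>
      ι.map_isZero (I.isZero_of_isStrictlyGE a n hn)
  let e' : E ≅ DerivedCategory.Q.obj J := e.symm ≪≫ ι.mapDerivedCategoryFactors.app I
  haveI : (DerivedCategory.Q.obj J).IsLE b :=
    DerivedCategory.TStructure.t.isLE_of_iso e' b
  haveI : J.IsLE b := (DerivedCategory.isLE_Q_obj_iff J b).1 ‹_›
  haveI : QuasiIso (J.ιTruncLE b) := (CochainComplex.quasiIso_ιTruncLE_iff J b).2 ‹_›
  refine ⟨J.truncLE b, ?_, inferInstance, ?_, ⟨e' ≪≫ (asIso (DerivedCategory.Q.map (J.ιTruncLE b))).symm⟩⟩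
  · rw [CochainComplex.isStrictlyGE_iff]
    intro n hn
    rcases lt_trichotomy n b with hb | rfl | hb
    · exact (J.isZero_of_isStrictlyGE a n hn).of_iso (J.truncLEXIso b n hb)
    · exact (IsZero.of_mono (J.iCycles n) (J.isZero_of_isStrictlyGE a n hn)).of_iso
        (J.truncLEXIsoCycles n)
    · exact CochainComplex.isZero_of_isStrictlyLE _ b n hb
  · intro n
    rcases lt_trichotomy n b with hn | rfl | hn
    · exact @QCoh.isQuasicoherent_of_iso X _ _ (J.truncLEXIso b n hn).symm (I.X n).property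
    · haveI : (J.X n).IsQuasicoherent := (I.X n).property
      haveI : (J.X (n + 1)).IsQuasicoherent := (I.X (n + 1)).property
      refine @QCoh.isQuasicoherent_of_iso X _ _ ?_ (QCoh.isQuasicoherent_kernel (J.d n (n + 1)))
      exact (kernelIsKernel _).conePointUniqueUpToIso (J.cyclesIsKernel n (n + 1) (by simp)) ≪≫
        (J.truncLEXIsoCycles n).symm
    · exact (CohDev.isCoh_of_isZero (CochainComplex.isZero_of_isStrictlyLE _ b n hn)).1

section Approx

variable (K : CochainComplex X.Modules ℤ)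

/-- The condition making a family of subobjects a good approximation in degree `n`. -/
def Cond (G : ∀ n, Subobject (K.X n)) (n : ℤ) : Prop :=
  ∀ ⦃A : (U : Scheme.{u}).Modules⦄ (x : A ⟶ (R).obj (K.X n))
    (h : A ⟶ (R).obj (G (n + 1) : X.Modules)),
    x ≫ (R).map (K.d n (n + 1)) = h ≫ (R).map (G (n + 1)).arrow →
    ∃ (A' : (U : Scheme.{u}).Modules) (π : A' ⟶ A) (_ : Epi π)
      (g : A' ⟶ (R).obj (G n : X.Modules)) (z : A' ⟶ (R).obj (K.X (n - 1))),
      π ≫ x = g ≫ (R).map (G n).arrow + z ≫ (R).map (K.d (n - 1) n)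

/-- The family has coherent terms, is preserved by `d`, and is good in degrees `≥ m`. -/
def Good (G : ∀ n, Subobject (K.X n)) (m : ℤ) : Prop :=
  (∀ n, Coh.IsCoh (G n : X.Modules)) ∧
  (∀ n, (G (n + 1)).Factors ((G n).arrow ≫ K.d n (n + 1))) ∧
  (∀ n, n < m → G n = ⊥) ∧
  (∀ n, m ≤ n → Cond U K G n)

variable {U K}

theorem good_start (b : ℤ) [K.IsStrictlyLE b] :
    Good U K (fun _ => ⊥) (b + 1) := by
  refine ⟨fun n => CohDev.isCoh_of_isZero (Limits.IsZero.of_iso (isZero_zero _) Subobject.botCoeIsoZero),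
    fun n => ?_, fun n _ => rfl, fun n hn A x h _ => ⟨A, 𝟙 A, inferInstance, 0, 0, ?_⟩⟩
  · rw [show (⊥ : Subobject (K.X n)).arrow = 0 from Subobject.bot_arrow, zero_comp]
    exact Subobject.factors_zero
  · exact ((R).map_isZero (K.isZero_of_isStrictlyLE b n (by omega))).eq_of_tgt _ _

theorem good_step [IsNoetherian X] (hK : ∀ n, Coh.IsQCoh (K.X n))
    (hH : ∀ n, Coh.IsCoh ((R).obj (K.homology n)))
    {G : ∀ n, Subobject (K.X n)} {m : ℤ} (hG : Good U K G m) :
    ∃ G', Good U K G' (m - 1) := by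
  obtain ⟨hcoh, hfac, hbot, hcond⟩ := hG
  obtain ⟨n₀, rfl⟩ : ∃ n, n + 1 = m := ⟨m - 1, by ring⟩
  haveI : ∀ n, (K.X n).IsQuasicoherent := hK
  -- the opcycles
  have hop : Coh.IsQCoh (K.opcycles n₀) :=
    @QCoh.isQuasicoherent_of_iso X _ _
      ((cokernelIsCokernel (K.d (n₀ - 1) n₀)).coconePointUniqueUpToIso
        (K.opcyclesIsCokernel (n₀ - 1) n₀ (by simp)))
      (QCoh.isQuasicoherent_cokernel _)
  let F := K.fromOpcycles n₀ (n₀ + 1)
  let c := (G (n₀ + 1)).arrow
  let p := K.pOpcycles n₀
  let Q : X.Modules := pullback F c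
  let P : X.Modules := pullback p (pullback.fst F c)
  let r : P ⟶ Q := pullback.snd p (pullback.fst F c)
  have hQ : Coh.IsQCoh Q := isQCoh_pullback _ _ hop (hcoh _).1 (hK _)
  have hP : Coh.IsQCoh P := isQCoh_pullback _ _ (hK _) hQ hop
  have hRQ : Coh.IsCoh ((R).obj Q) := by
    -- kernel of `Q → G` is the homology
    let u : K.homology n₀ ⟶ Q := pullback.lift (K.homologyι n₀) 0
      (by rw [zero_comp]; exact K.homologyι_comp_fromOpcycles n₀ (n₀ + 1))
    let v : Q ⟶ (G (n₀ + 1) : X.Modules) := pullback.snd F c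
    have hu : Mono u := mono_of_mono_fac (pullback.lift_fst _ _ _)
    let T := ShortComplex.mk u (Abelian.factorThruImage v) (by
      rw [← cancel_mono (Abelian.image.ι v), Category.assoc, Abelian.image.fac, zero_comp]
      exact pullback.lift_snd _ _ _)
    have hT : T.ShortExact := by
      refine { exact := ?_, mono_f := hu, epi_g := inferInstanceAs (Epi (Abelian.factorThruImage v)) }
      rw [ShortComplex.exact_iff_exact_up_to_refinements]
      intro A x hx
      have hx' : x ≫ v = 0 := by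
        rw [← Abelian.image.fac v, reassoc_of% hx, zero_comp]
      have h0 : (x ≫ pullback.fst F c) ≫ F = 0 := by
        rw [Category.assoc, pullback.condition, reassoc_of% hx', zero_comp]
      refine ⟨A, 𝟙 A, inferInstance,
        (K.homologyIsKernel n₀ (n₀ + 1) (by simp)).lift (KernelFork.ofι _ h0), ?_⟩
      rw [Category.id_comp]
      refine pullback.hom_ext ?_ ?_
      · rw [Category.assoc]
        erw [pullback.lift_fst]
        exact ((K.homologyIsKernel n₀ (n₀ + 1) (by simp)).fac (KernelFork.ofι _ h0)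
          WalkingParallelPair.zero).symm
      · rw [Category.assoc, hx']
        erw [pullback.lift_snd, comp_zero]
    have hT' := hT.map_of_exact (R)
    refine CohDev.isCoh_of_shortExact hT' (hH n₀) ?_
    haveI : Mono (Abelian.image.ι v) := inferInstance
    haveI : Mono ((R).map (Abelian.image.ι v)) := (R).map_mono _
    haveI : IsLocallyNoetherian (U : Scheme.{u}) := inferInstance
    refine @CohDev.isCoh_of_mono _ _ _ _ ((R).map (Abelian.image.ι v)) ((R).map_mono _) ?_ ?_
    · haveI : Q.IsQuasicoherent := hQ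
      haveI : (G (n₀ + 1) : X.Modules).IsQuasicoherent := (hcoh _).1
      exact Scheme.Modules.isQuasicoherent_restrictFunctor U.ι (Abelian.image v)
    · exact PCNoeth.isCoh_restrict U.ι (hcoh _)
  haveI : Epi r := inferInstance
  haveI : Epi ((R).map r) := inferInstance
  obtain ⟨D, d, hD, hd⟩ := exists_coh_over_open U r hP hRQ
  let w : D ⟶ K.X n₀ := d ≫ pullback.fst p (pullback.fst F c)
  let G' := Function.update G n₀ (imageSubobject w)
  have hne : ∀ {n}, n ≠ n₀ → G' n = G n := fun h => Function.update_of_ne h _ _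
  have hself : G' n₀ = imageSubobject w := Function.update_self _ _ _
  refine ⟨G', fun n => ?_, fun n => ?_, fun n hn => ?_, fun n hn => ?_⟩
  · by_cases h : n = n₀
    · subst h
      rw [hself]
      exact CohDev.isCoh_of_iso (imageSubobjectIso w).symm
        (CohDev.isCoh_of_epi (factorThruImage w) hD
          (@QCoh.isQuasicoherent_of_iso X _ _ (Abelian.imageIsoImage w)
            (@QCoh.isQuasicoherent_image X _ _ w hD.1 (hK _))))
    · rw [hne h]; exact hcoh n
  · by_cases h : n = n₀
    · subst h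
      rw [hne (n := n + 1) (by omega), hself]
      have hw : w ≫ K.d n (n + 1) = (d ≫ r ≫ pullback.snd F c) ≫ c := by
        have hpF : p ≫ F = K.d n (n + 1) := K.p_fromOpcycles _ _
        simp only [w, r, Category.assoc]
        rw [← pullback.condition (f := F), ← pullback.condition_assoc, hpF]
      have sq : CommSq (d ≫ r ≫ pullback.snd F c) (factorThruImageSubobject w) c
          ((imageSubobject w).arrow ≫ K.d n (n + 1)) :=
        ⟨by rw [imageSubobject_arrow_comp_assoc, hw]⟩
      haveI : StrongEpi (factorThruImageSubobject w) := strongEpi_of_epi _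
      exact (Subobject.factors_iff _ _).2 ⟨sq.lift, sq.fac_right⟩
    · rw [hne h]
      by_cases h' : n + 1 = n₀
      · rw [show G n = ⊥ from hbot n (by omega), Subobject.bot_arrow, zero_comp]
        exact Subobject.factors_zero
      · rw [hne h']; exact hfac n
  · rw [hne (by omega)]; exact hbot n (by omega)
  · by_cases h : n = n₀
    · subst h
      rw [Cond, hne (n := n + 1) (by omega), hself]
      intro A x hh hxh
      have hsq : IsPullback ((R).map (pullback.fst F c)) ((R).map (pullback.snd F c))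
          ((R).map F) ((R).map c) := (IsPullback.of_hasPullback F c).map (R)
      have hy0 : (x ≫ (R).map p) ≫ (R).map F = hh ≫ (R).map c := by
        have hpF : p ≫ F = K.d n (n + 1) := K.p_fromOpcycles _ _
        rw [Category.assoc, ← Functor.map_comp, hpF]
        exact hxh
      let y : A ⟶ (R).obj Q := hsq.lift (x ≫ (R).map p) hh hy0
      obtain ⟨A', π, hπ, e, he⟩ := surjective_up_to_refinements_of_epi ((R).map (d ≫ r)) y
      let g : A' ⟶ (R).obj (imageSubobject w : X.Modules) :=
        e ≫ (R).map (factorThruImageSubobject w)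
      have hg : g ≫ (R).map (imageSubobject w).arrow = e ≫ (R).map w := by
        simp only [g, Category.assoc, ← Functor.map_comp, imageSubobject_arrow_comp]
      have h0 : (π ≫ x - g ≫ (R).map (imageSubobject w).arrow) ≫ (R).map p = 0 := by
        rw [Preadditive.sub_comp, hg, sub_eq_zero, Category.assoc, Category.assoc,
          ← hsq.lift_fst (x ≫ (R).map p) hh hy0, reassoc_of% he, ← Functor.map_comp,
          ← Functor.map_comp]
        simp only [w, r, Category.assoc]
        rw [pullback.condition]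
      let Tp := (ShortComplex.mk (K.d (n - 1) n) (K.pOpcycles n) (K.d_pOpcycles _ _))
      have hTp : Tp.Exact := Tp.exact_of_g_is_cokernel
        (K.opcyclesIsCokernel (n - 1) n (by simp))
      obtain ⟨A'', π', hπ', z, hz⟩ := (hTp.map (R)).exact_up_to_refinements _ h0
      refine ⟨A'', π' ≫ π, inferInstance, π' ≫ g, z, ?_⟩
      have hz' : π' ≫ (π ≫ x - g ≫ (R).map (imageSubobject w).arrow) =
          z ≫ (R).map (K.d (n - 1) n) := hz
      rw [Preadditive.comp_sub, sub_eq_iff_eq_add'] at hz'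
      exact (Category.assoc π' π x).trans (hz'.trans
        (congrArg (· + z ≫ (R).map (K.d (n - 1) n)) (Category.assoc π' g _).symm))
    · have hn' : n₀ + 1 ≤ n := by omega
      rw [Cond, hne h, hne (n := n + 1) (by omega)]
      exact hcond n hn'

theorem exists_good [IsNoetherian X] (a b : ℤ) [K.IsStrictlyGE a] [K.IsStrictlyLE b]
    (hK : ∀ n, Coh.IsQCoh (K.X n)) (hH : ∀ n, Coh.IsCoh ((R).obj (K.homology n))) :
    ∃ G : ∀ n, Subobject (K.X n), ∀ n, Coh.IsCoh (G n : X.Modules) ∧
      (G (n + 1)).Factors ((G n).arrow ≫ K.d n (n + 1)) ∧ Cond U K G n := by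
  suffices ∀ k : ℕ, ∃ G, Good U K G (b + 1 - k) by
    obtain ⟨G, hc, hf, -, hg⟩ := this (b + 1 - a).toNat
    refine ⟨G, fun n => ⟨hc n, hf n, ?_⟩⟩
    by_cases hn : b + 1 - (b + 1 - a).toNat ≤ n
    · exact hg n hn
    · exact fun A x h _ => ⟨A, 𝟙 A, inferInstance, 0, 0,
        ((R).map_isZero (K.isZero_of_isStrictlyGE a n (by omega))).eq_of_tgt _ _⟩
  intro k
  induction k with
  | zero => exact ⟨_, by simpa using good_start b⟩
  | succ k ih =>
    obtain ⟨G, hG⟩ := ih
    obtain ⟨G', hG'⟩ := good_step hK hH hG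
    refine ⟨G', ?_⟩
    rwa [show b + 1 - ((k + 1 : ℕ) : ℤ) = b + 1 - (k : ℤ) - 1 by push_cast; ring]

/-- A bounded complex of quasi-coherent modules with coherent cohomology over an open receives,
from a bounded complex of coherent modules, a map which is a quasi-isomorphism over that open. -/
theorem exists_coh_approx [IsNoetherian X] (a b : ℤ) [K.IsStrictlyGE a] [K.IsStrictlyLE b]
    (hK : ∀ n, Coh.IsQCoh (K.X n)) (hH : ∀ n, Coh.IsCoh ((R).obj (K.homology n))) :
    ∃ (G : CochainComplex X.Modules ℤ) (φ : G ⟶ K), (∀ n, Coh.IsCoh (G.X n)) ∧ G.IsStrictlyGE a ∧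
      G.IsStrictlyLE b ∧ QuasiIso ((DCoh.restrictCx U).map φ) := by
  obtain ⟨S, hS⟩ := exists_good (U := U) a b hK hH
  let dS : ∀ n, (S n : X.Modules) ⟶ (S (n + 1) : X.Modules) :=
    fun n => (S (n + 1)).factorThru _ (hS n).2.1
  have hd : ∀ n, dS n ≫ (S (n + 1)).arrow = (S n).arrow ≫ K.d n (n + 1) :=
    fun n => Subobject.factorThru_arrow _ _ _
  let G : CochainComplex X.Modules ℤ := CochainComplex.of (fun n => (S n : X.Modules)) dS
    (fun n => by
      rw [← cancel_mono (S (n + 1 + 1)).arrow, Category.assoc, hd, reassoc_of% hd n]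
      simp)
  let φ : G ⟶ K :=
    { f := fun n => (S n).arrow
      comm' := by
        rintro i j (rfl : i + 1 = j)
        simp only [G, CochainComplex.of_d]
        exact (hd i).symm }
  refine ⟨G, φ, fun n => (hS n).1, (CochainComplex.isStrictlyGE_iff _ _).2 fun n hn =>
      IsZero.of_mono (φ.f n) (K.isZero_of_isStrictlyGE a n hn),
    (CochainComplex.isStrictlyLE_iff _ _).2 fun n hn =>
      IsZero.of_mono (φ.f n) (K.isZero_of_isStrictlyLE b n hn), ⟨fun n => ?_⟩⟩
  rw [quasiIsoAt_iff_isIso_homologyMap]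
  let G' := (DCoh.restrictCx U).obj G
  let K' := (DCoh.restrictCx U).obj K
  let φ' : G' ⟶ K' := (DCoh.restrictCx U).map φ
  haveI : ∀ i, Mono (φ'.f i) := fun i => inferInstanceAs (Mono ((R).map (S i).arrow))
  haveI : Mono (HomologicalComplex.homologyMap φ' n) := by
    obtain ⟨m, rfl⟩ : ∃ m, m + 1 = n := ⟨n - 1, by ring⟩
    rw [HomologicalComplex.mono_homologyMap_iff_up_to_refinements φ' m (m + 1) (m + 1 + 1)
      (by simp) (by simp)]
    intro A x _ y hy
    obtain ⟨A', π, hπ, g, z, hz⟩ := (hS m).2.2 y x hy.symm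
    refine ⟨A', π, hπ, g, ?_⟩
    rw [← cancel_mono (φ'.f (m + 1)), Category.assoc, Category.assoc, hy, ← φ'.comm m (m + 1),
      ← Category.assoc π y, show π ≫ y = g ≫ φ'.f m + z ≫ K'.d (m - 1) m from hz,
      Preadditive.add_comp, Category.assoc, Category.assoc]
    erw [K'.d_comp_d, comp_zero, add_zero]
    rfl
  haveI : Epi (HomologicalComplex.homologyMap φ' n) := by
    rw [HomologicalComplex.epi_homologyMap_iff_up_to_refinements φ' (n - 1) n (n + 1)
      (by simp) (by simp)]
    intro A y hy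
    obtain ⟨A', π, hπ, g, z, hz⟩ := (hS n).2.2 y 0 (by rw [zero_comp]; exact hy)
    have hz' : π ≫ y = g ≫ φ'.f n + z ≫ K'.d (n - 1) n := hz
    refine ⟨A', π, hπ, g, ?_, z, hz'⟩
    rw [← cancel_mono (φ'.f (n + 1)), Category.assoc, ← φ'.comm n (n + 1), zero_comp]
    have := congrArg (· ≫ K'.d n (n + 1)) hz'
    simp only [Category.assoc, Preadditive.add_comp, hy, comp_zero] at this
    erw [K'.d_comp_d, comp_zero, add_zero] at this
    exact this.symm
  exact isIso_of_mono_of_epi _

end Approx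

end Groth.Agent.KFlat.CohExt
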