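import Groth.Agent.KFlat.MapHomology
import Mathlib.Algebra.Homology.DerivedCategory.TStructure

/-!
# Derived functors of composites of exact functors
-/

set_option autoImplicit false

open CategoryTheory Limits DerivedCategory

namespace Groth.Agent.KFlat.MapDerivedComp

theorem bijective_comp {A' D E : Type*} [Category A'] [Category D] [Category E] {F' : D ⥤ E}
    {G' : A' ⥤ D} {H' : A' ⥤ E} (e : G' ⋙ F' ≅ H') (M N : A')
    (h₁ : Function.Bijective (fun φ : M ⟶ N => G'.map φ))
    (h₂ : Function.Bijective (fun φ : G'.obj M ⟶ G'.obj N => F'.map φ)) :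
    Function.Bijective (fun φ : M ⟶ N => H'.map φ) := by
  have h : (fun φ : M ⟶ N => H'.map φ) =
      (Iso.homCongr (e.app M) (e.app N)) ∘ (fun φ => F'.map φ) ∘ (fun φ => G'.map φ) := by
    funext φ
    exact ((NatIso.naturality_1 e φ).symm.trans (by simp [Iso.homCongr]))
  rw [h]
  exact (Iso.homCongr _ _).bijective.comp (h₂.comp h₁)

variable {A B C : Type*} [Category A] [Category B] [Category C] [Abelian A] [Abelian B] [Abelian C]
  [HasDerivedCategory A] [HasDerivedCategory B] [HasDerivedCategory C]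
  (F : A ⥤ B) (G : B ⥤ C) (H : A ⥤ C)
  [F.Additive] [PreservesFiniteLimits F] [PreservesFiniteColimits F]
  [G.Additive] [PreservesFiniteLimits G] [PreservesFiniteColimits G]
  [H.Additive] [PreservesFiniteLimits H] [PreservesFiniteColimits H]

/-- The derived functor of a composite. -/
noncomputable def compIso (a : F ⋙ G ≅ H) :
    F.mapDerivedCategory ⋙ G.mapDerivedCategory ≅ H.mapDerivedCategory :=
  let Q : CochainComplex A ℤ ⥤ DerivedCategory A := DerivedCategory.Q
  let W := HomologicalComplex.quasiIso A (ComplexShape.up ℤ)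
  let c : F.mapHomologicalComplex (ComplexShape.up ℤ) ⋙ G.mapHomologicalComplex (ComplexShape.up ℤ) ≅
      H.mapHomologicalComplex (ComplexShape.up ℤ) :=
    NatIso.ofComponents (fun P => HomologicalComplex.Hom.isoOfComponents
      (fun n => a.app (P.X n)) (fun i j _ => (a.hom.naturality (P.d i j)).symm))
      (fun {P P'} f => by
        ext n
        exact a.hom.naturality (f.f n))
  let e : Q ⋙ F.mapDerivedCategory ⋙ G.mapDerivedCategory ≅ Q ⋙ H.mapDerivedCategory :=
    Functor.isoWhiskerRight F.mapDerivedCategoryFactors G.mapDerivedCategory ≪≫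
      Functor.isoWhiskerLeft (F.mapHomologicalComplex _) G.mapDerivedCategoryFactors ≪≫
      Functor.isoWhiskerRight c DerivedCategory.Q ≪≫ H.mapDerivedCategoryFactors.symm
  letI : Localization.Lifting Q W (Q ⋙ F.mapDerivedCategory ⋙ G.mapDerivedCategory)
    (F.mapDerivedCategory ⋙ G.mapDerivedCategory) := ⟨Iso.refl _⟩
  letI : Localization.Lifting Q W (Q ⋙ H.mapDerivedCategory) H.mapDerivedCategory := ⟨Iso.refl _⟩
  Localization.liftNatIso Q W (Q ⋙ F.mapDerivedCategory ⋙ G.mapDerivedCategory)
    (Q ⋙ H.mapDerivedCategory) _ _ e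

theorem isLE_map (M : DerivedCategory A) (b : ℤ) [M.IsLE b] : (F.mapDerivedCategory.obj M).IsLE b :=
  (DerivedCategory.isLE_iff _ b).2 fun i hi =>
    (F.map_isZero ((DerivedCategory.isLE_iff M b).1 ‹_› i hi)).of_iso ((MapHomology.iso F i).app M)

theorem isGE_map (M : DerivedCategory A) (b : ℤ) [M.IsGE b] : (F.mapDerivedCategory.obj M).IsGE b :=
  (DerivedCategory.isGE_iff _ b).2 fun i hi =>
    (F.map_isZero ((DerivedCategory.isGE_iff M b).1 ‹_› i hi)).of_iso ((MapHomology.iso F i).app M)

theorem isLE_of_map [F.Full] [F.Faithful] (M : DerivedCategory A) (b : ℤ)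
    [(F.mapDerivedCategory.obj M).IsLE b] : M.IsLE b :=
  (DerivedCategory.isLE_iff _ b).2 fun i hi => IsZero.of_full_of_faithful_of_isZero F _
    (((DerivedCategory.isLE_iff (F.mapDerivedCategory.obj M) b).1 ‹_› i hi).of_iso
      ((MapHomology.iso F i).app M).symm)

theorem isGE_of_map [F.Full] [F.Faithful] (M : DerivedCategory A) (b : ℤ)
    [(F.mapDerivedCategory.obj M).IsGE b] : M.IsGE b :=
  (DerivedCategory.isGE_iff _ b).2 fun i hi => IsZero.of_full_of_faithful_of_isZero F _
    (((DerivedCategory.isGE_iff (F.mapDerivedCategory.obj M) b).1 ‹_› i hi).of_iso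
      ((MapHomology.iso F i).app M).symm)

end Groth.Agent.KFlat.MapDerivedComp
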