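import Groth.Agent.KFlat.CohExt
import Groth.Agent.KFlat.MapDerivedComp
import Groth.Agent.S1050
import Groth.Agent.S11166
import Groth.Agent.PCohD.AffineKD

/-!
# `D⁻(Coh) ⥤ D(QCoh)` and `Dᵇ(Coh) ⥤ D(Mod)` on Noetherian schemes
-/

set_option autoImplicit false

universe u

open CategoryTheory CategoryTheory.Limits AlgebraicGeometry
open scoped ZeroObject

attribute [local instance] HasDerivedCategory.standard

noncomputable section

namespace Groth.Agent.KFlat.CohMinus

variable (X : Scheme.{u})

/-- quasi-coherence -/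
abbrev PQ : ObjectProperty X.Modules := fun M => Coh.IsQCoh M

/-- coherence -/
abbrev PC : ObjectProperty X.Modules := fun M => Coh.IsCoh M

/-- coherence, inside quasi-coherent modules -/
abbrev PCQ : ObjectProperty (PQ X).FullSubcategory := fun M => Coh.IsCoh M.obj

/-- the inclusion -/
abbrev incl : (PC X).FullSubcategory ⥤ (PQ X).FullSubcategory :=
  ObjectProperty.lift (PQ X) (PC X).ι (fun M => M.property.1)

/-- coherent modules as a subcategory of quasi-coherent ones -/
def toSub : (PC X).FullSubcategory ⥤ (PCQ X).FullSubcategory :=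
  ObjectProperty.lift (PCQ X) (incl X) (fun M => M.property)

/-- and back -/
def fromSub : (PCQ X).FullSubcategory ⥤ (PC X).FullSubcategory :=
  ObjectProperty.lift (PC X) ((PCQ X).ι ⋙ (PQ X).ι) (fun M => M.property)

def subEquiv : (PC X).FullSubcategory ≌ (PCQ X).FullSubcategory :=
  CategoryTheory.Equivalence.mk (toSub X) (fromSub X)
    (NatIso.ofComponents (fun M => (PC X).isoMk (Iso.refl _)) (fun {M N} f => by
      apply ObjectProperty.hom_ext; simp [toSub, fromSub]))
    (NatIso.ofComponents (fun M => (PCQ X).isoMk ((PQ X).isoMk (Iso.refl _))) (fun {M N} f => by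
      apply ObjectProperty.hom_ext; apply ObjectProperty.hom_ext; simp [toSub, fromSub]))

instance : (toSub X).IsEquivalence := (subEquiv X).isEquivalence_functor
instance : (fromSub X).IsEquivalence := (subEquiv X).isEquivalence_inverse

variable [(PQ X).ContainsZero] [(PQ X).IsClosedUnderKernels] [(PQ X).IsClosedUnderCokernels]
  [(PQ X).IsClosedUnderFiniteProducts]

instance exact₁ : PreservesFiniteLimits (PQ X).ι := by
  have : ∀ ⦃A B : (PQ X).FullSubcategory⦄ (f : A ⟶ B), PreservesLimit (parallelPair f 0) (PQ X).ι :=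
    ObjectProperty.preservesKernels_ι _
  exact Functor.preservesFiniteLimits_of_preservesKernels _

instance exact₂ : PreservesFiniteColimits (PQ X).ι := by
  have : ∀ ⦃A B : (PQ X).FullSubcategory⦄ (f : A ⟶ B), PreservesColimit (parallelPair f 0) (PQ X).ι :=
    ObjectProperty.preservesCokernels_ι _
  exact Functor.preservesFiniteColimits_of_preservesCokernels _

section Noeth

variable [IsNoetherian X]

instance : (PCQ X).IsSerreClass where
  exists_zero := ⟨0, isZero_zero _, CohDev.isCoh_of_isZero ((PQ X).ι.map_isZero (isZero_zero _))⟩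
  prop_of_mono {A B} f _ hB :=
    haveI : Mono f.hom := inferInstanceAs (Mono ((PQ X).ι.map f))
    CohDev.isCoh_of_mono f.hom A.property hB
  prop_of_epi {A B} f _ hA :=
    haveI : Epi f.hom := inferInstanceAs (Epi ((PQ X).ι.map f))
    CohDev.isCoh_of_epi f.hom hA B.property
  prop_X₂_of_shortExact {S} hS h₁ h₃ :=
    CohDev.isCoh_of_shortExact (hS.map_of_exact (PQ X).ι) h₁ h₃

instance : (PCQ X).IsClosedUnderKernels where
  kernels_le := by
    rintro _ ⟨k, c, hk, hf⟩
    haveI : Mono (Fork.ι c) := Fork.IsLimit.mono hk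
    exact (PCQ X).prop_of_mono (Fork.ι c) hf.1

instance : (PCQ X).IsClosedUnderCokernels where
  cokernels_le := by
    rintro _ ⟨k, c, hk, hf⟩
    haveI : Epi (Cofork.π c) := Cofork.IsColimit.epi hk
    exact (PCQ X).prop_of_epi (Cofork.π c) hf.2

theorem hlift (A B : (PQ X).FullSubcategory) (π : A ⟶ B) (hπ : Epi π) (hB : PCQ X B) :
    ∃ (A' : (PQ X).FullSubcategory) (i : A' ⟶ A), Mono i ∧ PCQ X A' ∧ Epi (i ≫ π) := by
  haveI : Epi π.hom := inferInstanceAs (Epi ((PQ X).ι.map π))
  obtain ⟨D, d, hD, hd⟩ := CohExt.exists_coh_epi π.hom A.property hB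
  have hI : Coh.IsCoh (Abelian.image d) := CohDev.isCoh_image d hD A.property
  haveI : Epi (Abelian.image.ι d ≫ π.hom) :=
    epi_of_epi_fac (f := Abelian.factorThruImage d) (h := d ≫ π.hom) (by simp)
  refine ⟨⟨Abelian.image d, hI.1⟩, ObjectProperty.homMk (Abelian.image.ι d), ?_, hI, ?_⟩
  · exact (PQ X).ι.mono_of_mono_map (show Mono (Abelian.image.ι d) from inferInstance)
  · exact (PQ X).ι.epi_of_epi_map (show Epi (Abelian.image.ι d ≫ π.hom) from ‹_›)

variable [(PC X).ContainsZero] [(PC X).IsClosedUnderKernels] [(PC X).IsClosedUnderCokernels]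
  [(PC X).IsClosedUnderFiniteProducts] [PreservesFiniteLimits (incl X)]
  [PreservesFiniteColimits (incl X)]

theorem equivalence_minus :
    (∀ (M N : DerivedCategory (PC X).FullSubcategory) (b : ℤ), M.IsLE b → N.IsLE b →
      Function.Bijective (fun φ : M ⟶ N => (incl X).mapDerivedCategory.map φ)) ∧
    ∀ (K : DerivedCategory (PQ X).FullSubcategory) (b : ℤ), K.IsLE b →
      (∀ i : ℤ, Coh.IsCoh ((DerivedCategory.homologyFunctor (PQ X).FullSubcategory i).obj K).obj) →
      ∃ M : DerivedCategory (PC X).FullSubcategory, M.IsLE b ∧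
        Nonempty ((incl X).mapDerivedCategory.obj M ≅ K) := by
  haveI : PreservesFiniteLimits (PCQ X).ι := by
    have : ∀ ⦃A B : (PCQ X).FullSubcategory⦄ (f : A ⟶ B), PreservesLimit (parallelPair f 0) (PCQ X).ι :=
      ObjectProperty.preservesKernels_ι _
    exact Functor.preservesFiniteLimits_of_preservesKernels _
  haveI : PreservesFiniteColimits (PCQ X).ι := by
    have : ∀ ⦃A B : (PCQ X).FullSubcategory⦄ (f : A ⟶ B), PreservesColimit (parallelPair f 0) (PCQ X).ι :=
      ObjectProperty.preservesCokernels_ι _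
    exact Functor.preservesFiniteColimits_of_preservesCokernels _
  haveI : (toSub X).Additive := Functor.additive_of_preserves_binary_products _
  haveI : (fromSub X).Additive := Functor.additive_of_preserves_binary_products _
  have h := S1050.result (PCQ X) (hlift X)
  let e := MapDerivedComp.compIso (toSub X) (PCQ X).ι (incl X) (Iso.refl _)
  let e' := MapDerivedComp.compIso (fromSub X) (incl X) (PCQ X).ι
    (NatIso.ofComponents (fun M => (PQ X).isoMk (Iso.refl _))
      (fun {M N} f => by apply ObjectProperty.hom_ext; simp [fromSub]))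
  haveI : (toSub X).mapDerivedCategory.IsEquivalence :=
    (CategoryTheory.Equivalence.mk (toSub X).mapDerivedCategory (fromSub X).mapDerivedCategory
      (PCohD.AffineKD.mapDerivedCompIso (toSub X) (fromSub X) (subEquiv X).unitIso.symm).symm
      (PCohD.AffineKD.mapDerivedCompIso (fromSub X) (toSub X) (subEquiv X).counitIso)).isEquivalence_functor
  refine ⟨fun M N b hM hN => MapDerivedComp.bijective_comp e M N
    ⟨(toSub X).mapDerivedCategory.map_injective, (toSub X).mapDerivedCategory.map_surjective⟩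
    (h.1 _ _ b (MapDerivedComp.isLE_map _ M b) (MapDerivedComp.isLE_map _ N b)), fun K b hK hH => ?_⟩
  obtain ⟨M, hM, ⟨i⟩⟩ := h.2 K b hK hH
  exact ⟨(fromSub X).mapDerivedCategory.obj M, MapDerivedComp.isLE_map _ M b, ⟨e'.app M ≪≫ i⟩⟩

end Noeth

variable [IsNoetherian X] [(PC X).ContainsZero] [(PC X).IsClosedUnderKernels]
  [(PC X).IsClosedUnderCokernels] [(PC X).IsClosedUnderFiniteProducts]
  [PreservesFiniteLimits (PC X).ι] [PreservesFiniteColimits (PC X).ι]

instance : PreservesFiniteLimits (incl X) :=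
  haveI : PreservesFiniteLimits (incl X ⋙ (PQ X).ι) := ‹PreservesFiniteLimits (PC X).ι›
  preservesFiniteLimits_of_reflects_of_preserves (incl X) (PQ X).ι

instance : PreservesFiniteColimits (incl X) :=
  haveI : PreservesFiniteColimits (incl X ⋙ (PQ X).ι) := ‹PreservesFiniteColimits (PC X).ι›
  preservesFiniteColimits_of_reflects_of_preserves (incl X) (PQ X).ι

theorem equivalence_bounded :
    (∀ (M N : DerivedCategory (PC X).FullSubcategory) (a b : ℤ), M.IsGE a → M.IsLE b → N.IsGE a → N.IsLE b →
      Function.Bijective (fun φ : M ⟶ N => (PC X).ι.mapDerivedCategory.map φ)) ∧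
    ∀ (K : DCoh.D X) (a b : ℤ), K.IsGE a → K.IsLE b → DCoh.IsCohD K →
      ∃ M : DerivedCategory (PC X).FullSubcategory, M.IsGE a ∧ M.IsLE b ∧
        Nonempty ((PC X).ι.mapDerivedCategory.obj M ≅ K) := by
  haveI : (incl X).Additive := Functor.additive_of_preserves_binary_products _
  have h₁ := equivalence_minus X
  have h₂ := S11166.result X
  let e := MapDerivedComp.compIso (incl X) (PQ X).ι (PC X).ι (Iso.refl _)
  refine ⟨fun M N a b hMa hMb hNa hNb => MapDerivedComp.bijective_comp e M N (h₁.1 M N b hMb hNb)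
    (h₂.1 _ _ a a (MapDerivedComp.isGE_map _ M a) (MapDerivedComp.isGE_map _ N a)),
    fun K a b ha hb hH => ?_⟩
  obtain ⟨N, hNa, ⟨i⟩⟩ := h₂.2 K a ha (fun n => (hH n).1)
  haveI : ((PQ X).ι.mapDerivedCategory.obj N).IsLE b :=
    DerivedCategory.TStructure.t.isLE_of_iso i.symm b
  haveI := MapDerivedComp.isLE_of_map (PQ X).ι N b
  obtain ⟨M, hMb, ⟨j⟩⟩ := h₁.2 N b ‹_› (fun n => CohDev.isCoh_of_iso
    (((DerivedCategory.homologyFunctor X.Modules n).mapIso i).symm ≪≫
      (MapHomology.iso (PQ X).ι n).app N) (hH n))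
  haveI : ((incl X).mapDerivedCategory.obj M).IsGE a :=
    DerivedCategory.TStructure.t.isGE_of_iso j.symm a
  exact ⟨M, MapDerivedComp.isGE_of_map (incl X) M a, hMb,
    ⟨(e.app M).symm ≪≫ (PQ X).ι.mapDerivedCategory.mapIso j ≪≫ i⟩⟩

end Groth.Agent.KFlat.CohMinus
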