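import Groth.Agent.CohDerLib.Compact.Basic
import Groth.Agent.CohDerLib.QC.QFlasque
import Groth.Agent.CohDerLib.QC.PerfHom
import Groth.Agent.S0491
import Groth.Agent.ModShf.GrothAb
import Groth.Agent.DHA.KInjectiveResolution
import Groth.Prelude.Def_CohDer

/-!
# Maps out of the structure sheaf into direct sums, on a qcqs scheme
-/

set_option autoImplicit false
set_option backward.isDefEq.respectTransparency.types false
set_option backward.isDefEq.respectTransparency false

universe w v' u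

open CategoryTheory CategoryTheory.Limits AlgebraicGeometry DerivedCategory
open Groth.Agent.KFlat.QCohAcy Groth.Agent.CohDerLib

attribute [local instance] HasDerivedCategory.standard

namespace Groth.Agent.KFlat.CompactOne

section Generic

variable {D : Type*} [Category.{v'} D] [Preadditive D] {I : Type w}

/-- Maps into `P` are uniquely finite sums of maps into the members of a family. -/
def FinSum (K : D) {M : I → D} {P : D} (j : ∀ i, M i ⟶ P) : Prop :=
  (∀ φ : K ⟶ P, ∃ (S : Finset I) (t : ∀ i, K ⟶ M i), φ = ∑ i ∈ S, t i ≫ j i) ∧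
    ∀ (S : Finset I) (t : ∀ i, K ⟶ M i), ∑ i ∈ S, t i ≫ j i = 0 → ∀ i ∈ S, t i = 0

theorem FinSum.of_iso {K : D} {M M' : I → D} {P P' : D} {j : ∀ i, M i ⟶ P} {j' : ∀ i, M' i ⟶ P'}
    (h : FinSum K j) (e : ∀ i, M i ≅ M' i) (eP : P ≅ P') (w : ∀ i, j i ≫ eP.hom = (e i).hom ≫ j' i) :
    FinSum K j' := by
  have hs : ∀ (S : Finset I) (t : ∀ i, K ⟶ M i),
      (∑ i ∈ S, t i ≫ j i) ≫ eP.hom = ∑ i ∈ S, (t i ≫ (e i).hom) ≫ j' i := fun S t => by
    rw [Preadditive.sum_comp]
    exact Finset.sum_congr rfl fun i _ => by rw [Category.assoc, w, Category.assoc]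
  refine ⟨fun φ => ?_, fun S t ht i hi => ?_⟩
  · obtain ⟨S, t, ht⟩ := h.1 (φ ≫ eP.inv)
    exact ⟨S, fun i => t i ≫ (e i).hom, by rw [← hs, ← ht, Category.assoc, eP.inv_hom_id, Category.comp_id]⟩
  · have h0 := h.2 S (fun i => t i ≫ (e i).inv) ((cancel_mono eP.hom).1 (by
      rw [hs, zero_comp, ← ht]
      exact Finset.sum_congr rfl fun i _ => by simp)) i hi
    exact (cancel_mono (e i).inv).1 (h0.trans zero_comp.symm)

theorem FinSum.of_cofan {K : D} {M : I → D} {c c' : Cofan M} (hc : IsColimit c) (hc' : IsColimit c')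
    (h : FinSum K c.inj) : FinSum K c'.inj :=
  h.of_iso (fun _ => Iso.refl _) (hc.coconePointUniqueUpToIso hc') fun i =>
    (hc.comp_coconePointUniqueUpToIso_hom hc' ⟨i⟩).trans (Category.id_comp _).symm

/-- From `FinSum` to the bijectivity of the map out of the direct sum. -/
theorem homSum_bijective {K : D} {ι : Type v'} (X : ι → D) [HasCoproduct X] (e : ι ≃ I)
    {c : Cofan fun i : I => X (e.symm i)} (hc : IsColimit c) (h : FinSum K c.inj) :
    Function.Bijective (CohDer.homSumToHomCoprod K X) := by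
  classical
  let d : Cofan fun i : I => X (e.symm i) := Cofan.mk (∐ X) fun i => Sigma.ι X (e.symm i)
  have hd : IsColimit d :=
    Cofan.isColimitEquivOfEquiv e.symm (Cofan.mk (∐ X) (Sigma.ι X)) (coproductIsCoproduct X)
  have h' := h.of_cofan hc hd
  have happ : ∀ x, CohDer.homSumToHomCoprod K X x = ∑ a ∈ DFinsupp.support x, x a ≫ Sigma.ι X a := fun x => by
    conv_lhs => rw [← DirectSum.sum_support_of x]
    rw [map_sum]
    exact Finset.sum_congr rfl fun a _ => DirectSum.toAddMonoid_of _ _ _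
  refine ⟨(injective_iff_map_eq_zero _).2 fun x hx => DFinsupp.ext fun a => ?_, fun φ => ?_⟩
  · by_cases ha : a ∈ DFinsupp.support x
    · have hsum : ∑ i ∈ (DFinsupp.support x).map e.toEmbedding, x (e.symm i) ≫ d.inj i = 0 := by
        refine Eq.trans ?_ ((happ x).symm.trans hx)
        rw [Finset.sum_map]
        refine Finset.sum_congr rfl fun b _ => ?_
        change x (e.symm (e b)) ≫ Sigma.ι X (e.symm (e b)) = _
        rw [e.symm_apply_apply]
      have h0 := h'.2 _ (fun i => x (e.symm i)) hsum (e a) (Finset.mem_map_of_mem _ ha)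
      simpa using (e.symm_apply_apply a ▸ h0 : x a = 0)
    · exact DFinsupp.notMem_support_iff.1 ha
  · obtain ⟨S, t, rfl⟩ := h'.1 φ
    refine ⟨∑ i ∈ S, DirectSum.of _ (e.symm i) (t i), ?_⟩
    rw [map_sum]
    exact Finset.sum_congr rfl fun i _ => DirectSum.toAddMonoid_of _ _ _

end Generic

theorem sum_f {A : Type*} [Category A] [Preadditive A] {C D : CochainComplex A ℤ} {I : Type*} (S : Finset I)
    (g : I → (C ⟶ D)) (n : ℤ) : (∑ i ∈ S, g i).f n = ∑ i ∈ S, (g i).f n :=
  (HomologicalComplex.eval A (ComplexShape.up ℤ) n).map_sum _ _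

variable {X : Scheme.{u}} [CompactSpace X] [QuasiSeparatedSpace X]

local notation "O" => Coh.structureModule X

omit [QuasiSeparatedSpace X] in
/-- Maps out of `O` into a direct sum of modules. -/
theorem finSum_module {ι : Type u} (M : ι → X.Modules) (c : Cofan M) (hc : IsColimit c) :
    FinSum O c.inj := by
  refine FinSum.of_cofan (coproductIsCoproduct M) hc ?_
  have hW : IsCompact ((⊤ : X.Opens) : Set X) := isCompact_univ
  let u := QC.freeTopIso X
  refine ⟨fun φ => ?_, fun S t ht i hi => ?_⟩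
  · obtain ⟨S, t, ht⟩ := QC.exists_factor M hW (u.hom ≫ φ)
    refine ⟨S, fun i => u.inv ≫ t i, ?_⟩
    rw [← cancel_epi u.hom, ht, Preadditive.comp_sum]
    exact Finset.sum_congr rfl fun i _ => by simp
  · have h0 := QC.factor_eq_zero M hW S (fun i => u.hom ≫ t i) (by
      simp only [Category.assoc, ← Preadditive.comp_sum]
      exact (congrArg (u.hom ≫ ·) ht).trans comp_zero) i hi
    exact (cancel_epi u.hom).1 (h0.trans comp_zero.symm)

theorem acyclic_of_qf [HasExt.{u} X.Modules] (G : X.Modules) (hG : QC.QF G) :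
    Compact.Acyclic O G := by
  suffices h : ∀ (k : ℕ) (G : X.Modules), QC.QF G → Subsingleton (Abelian.Ext O G (k + 1)) by
    intro k hk
    obtain ⟨p, rfl⟩ : ∃ p, k = p + 1 := ⟨k - 1, by omega⟩
    exact h p G hG
  have := ModShf.schemeModulesEnoughInjectives X
  intro k
  induction k with
  | zero =>
    intro G hG
    let S := ShortComplex.mk (Injective.ι G) (cokernel.π (Injective.ι G)) (cokernel.condition _)
    have hS : S.ShortExact :=
      { exact := S.exact_of_g_is_cokernel (cokernelIsCokernel _) }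
    refine subsingleton_of_forall_eq 0 fun x => ?_
    obtain ⟨x₃, hx₃⟩ := Abelian.Ext.covariant_sequence_exact₁ O hS x
      (Abelian.Ext.eq_zero_of_injective _) (zero_add 1)
    obtain ⟨g, rfl⟩ := (Abelian.Ext.mk₀_bijective _ _).2 x₃
    obtain ⟨a, ha⟩ := QC.exists_lift hS hG (W := ⊤) isCompact_univ
      (isQuasiSeparated_univ) ((QC.freeTopIso X).hom ≫ g)
    have hga : g = ((QC.freeTopIso X).inv ≫ a) ≫ S.g := by rw [Category.assoc, ha, Iso.inv_hom_id_assoc]
    rw [← hx₃, hga, ← Abelian.Ext.mk₀_comp_mk₀, Abelian.Ext.comp_assoc_of_second_deg_zero,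
      ShortComplex.ShortExact.comp_extClass, Abelian.Ext.comp_zero]
  | succ k ih =>
    intro G hG
    let S := ShortComplex.mk (Injective.ι G) (cokernel.π (Injective.ι G)) (cokernel.condition _)
    have hS : S.ShortExact :=
      { exact := S.exact_of_g_is_cokernel (cokernelIsCokernel _) }
    have hq := QC.qf_X₃ hS hG (QC.qf_injective _ (inferInstanceAs (Injective (Injective.under G))))
    refine subsingleton_of_forall_eq 0 fun x => ?_
    obtain ⟨x₃, hx₃⟩ := Abelian.Ext.covariant_sequence_exact₁ O hS x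
      (Abelian.Ext.eq_zero_of_injective _) rfl
    rw [← hx₃, @Subsingleton.elim _ (ih _ hq) x₃ 0, Abelian.Ext.zero_comp]

/-- The two cases of the theorem. -/
def Good (X : Scheme.{u}) {ι : Type u} (M : ι → DCoh.D X) : Prop :=
  (∃ d : ℕ, ∀ (F : X.Modules) (i : ℕ), d < i → Subsingleton (Coh.HH X F i)) ∨ ∃ a : ℤ, ∀ i, (M i).IsGE a

theorem exists_rep {ι : Type u} (M : ι → DCoh.D X) (hM : Good X M) :
    ∃ K : ι → CochainComplex X.Modules ℤ, (∀ i, (K i).IsKInjective) ∧ (∀ i n, Injective ((K i).X n)) ∧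
      (∀ i, Nonempty (Q.obj (K i) ≅ M i)) ∧
      ((∃ d : ℕ, ∀ (F : X.Modules) (i : ℕ), d < i → Subsingleton (Coh.HH X F i)) ∨
        ∃ b : ℤ, ∀ i, (K i).IsStrictlyGE b) := by
  have := ModShf.schemeModulesEnoughInjectives X
  rcases hM with hd | ⟨a, ha⟩
  · refine ⟨fun i => (DHA.KInj.resolution _).obj (Q.objPreimage (M i)), fun i => inferInstance,
      fun i n => inferInstance, fun i => ⟨(asIso (Q.map ((DHA.KInj.resolutionι _).app _))).symm ≪≫
        Q.objObjPreimageIso (M i)⟩, Or.inl hd⟩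
  · have key : ∀ i, ∃ I : CochainComplex X.Modules ℤ, I.IsKInjective ∧
        (∀ q, Injective (I.X q)) ∧ Nonempty (Q.obj I ≅ M i) ∧ I.IsStrictlyGE a := fun i => by
      obtain ⟨L, _, ⟨e⟩⟩ := DerivedCategory.exists_iso_Q_obj_of_isGE (M i) a (hX := ha i)
      obtain ⟨I, r, hr, hinj, hge⟩ := CochainComplex.Plus.modelCategoryQuillen.exists_quasiIso_injective L a
      exact ⟨I, CochainComplex.isKInjective_of_injective I a, hinj, ⟨(e ≪≫ asIso (Q.map r)).symm⟩, hge⟩
    choose K h₁ h₂ h₃ h₄ using key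
    exact ⟨K, h₁, h₂, h₃, Or.inr ⟨a, h₄⟩⟩

theorem exists_finite_dim [HasExt.{u} X.Modules]
    (hd : ∃ d : ℕ, ∀ (F : X.Modules) (i : ℕ), d < i → Subsingleton (Coh.HH X F i)) :
    ∃ d : ℕ, ∀ (Y : X.Modules) (k : ℕ), d < k → Subsingleton (Abelian.Ext O Y k) := by
  obtain ⟨d, hd⟩ := hd
  refine ⟨d, fun Y k hk => ?_⟩
  have := hd Y k hk
  have h : Nonempty (Abelian.Ext O Y k ≃+ Coh.HH X Y k) :=
    @Groth.Agent.S0491.result _ _ (Opens.grothendieckTopology X) X.ringCatSheaf ‹HasExt.{u} X.Modules› Y k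
  exact h.elim fun e => e.toEquiv.subsingleton

/-- Maps out of `O` commute with direct sums. -/
theorem finSum_one {ι : Type u} (M : ι → DCoh.D X) (hM : Good X M) (c : Cofan M) (hc : IsColimit c) :
    FinSum ((singleFunctor X.Modules 0).obj O) c.inj := by
  classical
  have := ModShf.schemeModulesEnoughInjectives X
  have : HasExt.{u} X.Modules := hasExt_of_enoughInjectives.{u} _
  obtain ⟨K, hKI, hinj, he, hb⟩ := exists_rep M hM
  obtain ⟨hQ⟩ := Groth.Agent.DHA.KInj.nonempty_isColimit_Q (T := ι)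
    Groth.Agent.KFlat.Products.exists_isKInjective_resolution K
  let e := fun i => (he i).some
  let c' : Cofan M := Cofan.mk (Q.obj (∐ K)) fun i => (e i).inv ≫ Q.map (Sigma.ι K i)
  have hc' : IsColimit c' := Cofan.IsColimit.mk _
    (fun s => Cofan.IsColimit.desc hQ fun i => (e i).hom ≫ s.inj i)
    (fun s i => (Category.assoc _ _ _).trans ((congrArg ((e i).inv ≫ ·) (Cofan.IsColimit.fac hQ _ i)).trans
      (Iso.inv_hom_id_assoc _ _)))
    (fun s m hm => Cofan.IsColimit.hom_ext hQ _ _ fun i => (Eq.trans (by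
      rw [← hm i]
      change Q.map (Sigma.ι K i) ≫ m = (e i).hom ≫ ((e i).inv ≫ Q.map (Sigma.ι K i)) ≫ m
      simp) (Cofan.IsColimit.fac hQ (fun i => (e i).hom ≫ s.inj i) i).symm))
  refine FinSum.of_cofan hc' hc (FinSum.of_iso (j := fun i => Q.map (Sigma.ι K i)) ?_ e (Iso.refl _)
    fun i => (Category.comp_id _).trans (Iso.hom_inv_id_assoc _ _).symm)
  have hcol : ∀ n, IsColimit (Cofan.mk ((∐ K).X n) fun i => (Sigma.ι K i).f n) := fun n =>
    isColimitCofanMkObjOfIsColimit (HomologicalComplex.eval X.Modules (ComplexShape.up ℤ) n) K _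
      (coproductIsCoproduct K)
  have hF : ∀ n, FinSum O (fun i => (Sigma.ι K i).f n) := fun n => finSum_module _ _ (hcol n)
  have hac : ∀ n, Compact.Acyclic O ((∐ K).X n) := fun n => by
    intro k hk
    have h1 := acyclic_of_qf _ (QC.qf_coproduct (fun i => (K i).X n) fun i => QC.qf_injective _ (hinj i n)) k hk
    let em := (coproductIsCoproduct fun i => (K i).X n).coconePointUniqueUpToIso (hcol n)
    refine subsingleton_of_forall_eq 0 fun x => ?_
    rw [← x.comp_mk₀_id, show 𝟙 ((∐ K).X n) = em.inv ≫ em.hom from em.inv_hom_id.symm, ← Abelian.Ext.mk₀_comp_mk₀,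
      ← Abelian.Ext.comp_assoc_of_third_deg_zero,
      @Subsingleton.elim _ h1 (x.comp (Abelian.Ext.mk₀ em.inv) (add_zero k)) 0, Abelian.Ext.zero_comp]
  have hI : ∃ (J : CochainComplex X.Modules ℤ) (r : (∐ K) ⟶ J), QuasiIso r ∧ J.IsKInjective ∧
      (∀ p, Injective (J.X p)) ∧ ((∃ d : ℕ, ∀ (Y : X.Modules) (k : ℕ), d < k → Subsingleton (Abelian.Ext O Y k)) ∨
        ∃ b : ℤ, (∐ K).IsStrictlyGE b ∧ J.IsStrictlyGE b) := by
    rcases hb with hd | ⟨b, hb⟩
    · exact ⟨(DHA.KInj.resolution _).obj (∐ K), (DHA.KInj.resolutionι _).app _, inferInstance,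
        inferInstance, fun p => inferInstance, Or.inl (exists_finite_dim hd)⟩
    · have : (∐ K).IsStrictlyGE b := by
        rw [CochainComplex.isStrictlyGE_iff]
        intro n hn
        rw [IsZero.iff_id_eq_zero]
        exact Cofan.IsColimit.hom_ext (hcol n) _ _ fun i =>
          (have := hb i; ((K i).isZero_of_isStrictlyGE b n hn).eq_of_src _ _)
      obtain ⟨J, r, hr, hJ, hJ'⟩ :=
        CochainComplex.Plus.modelCategoryQuillen.exists_quasiIso_injective (∐ K) b
      exact ⟨J, r, hr, CochainComplex.isKInjective_of_injective J b, hJ, Or.inr ⟨b, this, hJ'⟩⟩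
  obtain ⟨hsurj, hzero⟩ := Compact.Q_map_single_bijective (F := O) (∐ K) hac hI
  let S0 := (CochainComplex.singleFunctor X.Modules 0).obj O
  change FinSum (Q.obj S0) fun i => Q.map (Sigma.ι K i)
  refine ⟨fun φ => ?_, fun S t ht i hi => ?_⟩
  · obtain ⟨z, hz, rfl⟩ := hsurj φ
    obtain ⟨S, t, rfl⟩ := (hF 0).1 z
    have hcl : ∀ i ∈ S, t i ≫ (K i).d 0 1 = 0 := (hF 1).2 S (fun i => t i ≫ (K i).d 0 1) (by
      refine Eq.trans ?_ hz
      rw [Preadditive.sum_comp]
      exact Finset.sum_congr rfl fun i _ => by rw [Category.assoc, Category.assoc, (Sigma.ι K i).comm])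
    let a : ∀ i, S0 ⟶ K i := fun i => if h : t i ≫ (K i).d 0 1 = 0 then Compact.ofCocycle (t i) h else 0
    refine ⟨S, fun i => Q.map (a i), ?_⟩
    simp only [← Q.map_comp, ← Functor.map_sum]
    refine congrArg Q.map (HomologicalComplex.from_single_hom_ext ?_)
    rw [← cancel_epi (HomologicalComplex.singleObjXSelf (ComplexShape.up ℤ) 0 O).inv]
    rw [sum_f, Preadditive.comp_sum]
    simp only [Compact.ofCocycle, HomologicalComplex.mkHomFromSingle_f, Iso.inv_hom_id_assoc]
    refine Finset.sum_congr rfl fun i hi => ?_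
    simp [a, dif_pos (hcl i hi), Compact.ofCocycle]
  · have hr : ∀ i, ∃ (z : O ⟶ (K i).X 0) (hz : z ≫ (K i).d 0 1 = 0),
        Q.map (Compact.ofCocycle z hz) = t i := fun i => by
      have := hKI i
      obtain ⟨f, hf⟩ := DHA.KInj.Q_map_surjective S0 (K i) (t i)
      obtain ⟨z, hz, rfl⟩ := Compact.exists_ofCocycle f
      exact ⟨z, hz, hf⟩
    choose z hz hzt using hr
    have hzd : (∑ i ∈ S, z i ≫ (Sigma.ι K i).f 0) ≫ (∐ K).d 0 1 = 0 := by
      rw [Preadditive.sum_comp]
      exact Finset.sum_eq_zero fun i _ => by rw [Category.assoc, (Sigma.ι K i).comm, reassoc_of% hz i, zero_comp]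
    have h0 : Q.map (Compact.ofCocycle _ hzd) = 0 := by
      refine Eq.trans ?_ ht
      simp only [← hzt, ← Q.map_comp, ← Functor.map_sum]
      refine congrArg Q.map (HomologicalComplex.from_single_hom_ext ?_)
      rw [← cancel_epi (HomologicalComplex.singleObjXSelf (ComplexShape.up ℤ) 0 O).inv,
        sum_f, Preadditive.comp_sum]
      simp only [Compact.ofCocycle, HomologicalComplex.mkHomFromSingle_f, Iso.inv_hom_id_assoc]
      refine Finset.sum_congr rfl fun i _ => ?_
      simp [Compact.ofCocycle]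
    obtain ⟨w, hw⟩ := hzero _ hzd h0
    obtain ⟨S', s, rfl⟩ := (hF (-1)).1 w
    let z' : ∀ i, O ⟶ (K i).X 0 := fun i => if i ∈ S then z i else 0
    let s' : ∀ i, O ⟶ (K i).X (-1) := fun i => if i ∈ S' then s i else 0
    have h1 := (hF 0).2 (S ∪ S') (fun i => z' i - s' i ≫ (K i).d (-1) 0) (by
      simp only [Preadditive.sub_comp, Finset.sum_sub_distrib, sub_eq_zero]
      calc ∑ i ∈ S ∪ S', z' i ≫ (Sigma.ι K i).f 0 = ∑ i ∈ S, z i ≫ (Sigma.ι K i).f 0 := by
            rw [← Finset.sum_subset Finset.subset_union_left fun i _ hi => by simp [z', hi]]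
            exact Finset.sum_congr rfl fun i hi => by simp [z', hi]
        _ = (∑ i ∈ S', s i ≫ (Sigma.ι K i).f (-1)) ≫ (∐ K).d (-1) 0 := hw.symm
        _ = ∑ i ∈ S ∪ S', (s' i ≫ (K i).d (-1) 0) ≫ (Sigma.ι K i).f 0 := by
            rw [Preadditive.sum_comp, ← Finset.sum_subset Finset.subset_union_right fun i _ hi => by simp [s', hi]]
            exact Finset.sum_congr rfl fun i hi => by
              simp only [s', if_pos hi, Category.assoc, (Sigma.ι K i).comm]) i (Finset.mem_union_left _ hi)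
    simp only [z', if_pos hi, sub_eq_zero] at h1
    obtain ⟨hh⟩ := Compact.nullHomotopy_ofCocycle (z i) (hz i) (s' i) h1.symm
    rw [← hzt i, DHA.KInj.Q_map_eq_of_homotopy hh, Q.map_zero]

end Groth.Agent.KFlat.CompactOne
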