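import Groth.Agent.KFlat.Bousfield
import Groth.Prelude.Def_DerComp
import Groth.Agent.ModShf.GrothAb

/-!
# Derived completion exists on every ringed site, for every sheaf of ideals
-/

set_option autoImplicit false

universe u

open CategoryTheory CategoryTheory.Limits Opposite

attribute [local instance] HasDerivedCategory.standard

namespace Groth.Agent.KFlat.DerCompletion

open Groth.Agent.KFlat.Bousfield

variable {C : Type u} [SmallCategory C] {J : GrothendieckTopology C} {O : Sheaf J CommRingCat.{u}}

/-- The test objects `j_! O_{U,f}`. -/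
noncomputable def test (I : DerComp.IdealSh O) (x : Σ U : C, {f : O.obj.obj (op U) // f ∈ I.ideal U}) :
    CochainComplex (ModSite.Mod O) ℤ :=
  (CochainComplex.singleFunctor (ModSite.Mod O) 0).obj
    ((ModSite.extZero O x.1).obj (DerComp.awayOver O x.1 x.2.1))

theorem isDerComp_iff (I : DerComp.IdealSh O) (L : DerivedCategory (ModSite.Mod O)) :
    DerComp.IsDerComp O I L ↔ Orth (test I) L := by
  constructor
  · intro h x m φ
    let q := (DerivedCategory.Q.commShiftIso m).app (test I x)
    let S := SiteCmp.inD O ((ModSite.extZero O x.1).obj (DerComp.awayOver O x.1 x.2.1))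
    let e : (S⟦m⟧)⟦-m⟧ ≅ S := (shiftFunctorCompIsoId _ m (-m) (add_neg_cancel m)).app S
    have := h x.1 x.2.1 x.2.2 (-m)
    let ψ : S⟦m⟧ ⟶ L := q.inv ≫ φ
    have hψ : ψ = 0 := by
      apply (shiftFunctor (DerivedCategory (ModSite.Mod O)) (-m)).map_injective
      rw [Functor.map_zero, ← cancel_epi e.inv, comp_zero]
      exact Subsingleton.elim (α := S ⟶ L⟦-m⟧) _ _
    exact (cancel_epi q.inv).1 (hψ.trans comp_zero.symm)
  · intro h U f hf n
    refine subsingleton_of_forall_eq 0 fun φ => ?_
    let x : Σ U : C, {f : O.obj.obj (op U) // f ∈ I.ideal U} := ⟨U, f, hf⟩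
    let q := (DerivedCategory.Q.commShiftIso (-n)).app (test I x)
    let e := (shiftFunctorCompIsoId (DerivedCategory (ModSite.Mod O)) n (-n) (add_neg_cancel n)).app L
    have h0 := h x (-n) (q.hom ≫ φ⟦-n⟧' ≫ e.hom)
    apply (shiftFunctor (DerivedCategory (ModSite.Mod O)) (-n)).map_injective
    rw [Functor.map_zero, ← cancel_mono e.hom, zero_comp]
    exact (cancel_epi q.hom).1 (h0.trans comp_zero.symm)

/-- Derived completion exists. -/
theorem hasDerCompletion (I : DerComp.IdealSh O) : DerComp.HasDerCompletion O I :=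
  Bousfield.isRightAdjoint_ι (test I) (DerComp.IsDerComp O I) (isDerComp_iff I)

end Groth.Agent.KFlat.DerCompletion
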