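import Groth.Agent.KFlat.DualCells
import Groth.Agent.KFlat.TotMap
import Mathlib.CategoryTheory.Adjunction.Basic

/-!
# The strict adjunction `- ⊗ E ⊣ - ⊗ E^∨` on cochain complexes
-/

set_option autoImplicit false
set_option linter.unusedSectionVars false

open CategoryTheory CategoryTheory.Limits

namespace Groth.Agent.KFlat.DualAdj

open Groth.Agent.KFlat.DualCells

variable {C : Type*} [Category C] [Preadditive C] (T : C ⥤ C ⥤ C) [T.Additive] [∀ X, (T.obj X).Additive]
  [∀ (K L : CochainComplex C ℤ), HomologicalComplex.HasMapBifunctor K L T (ComplexShape.up ℤ)]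
  [∀ X, (T.flip.obj X).Additive]
  [∀ (X : C) (I : Type), PreservesColimitsOfShape (Discrete I) (T.flip.obj X)]
  {O : C} (ρ : T.flip.obj O ≅ 𝟭 C)

/-- Two complexes of sums of copies of the unit with transposed differentials. -/
structure StrictPair (O : C) (E E' : CochainComplex C ℤ) where
  /-- ranks -/
  k : ℤ → ℕ
  /-- a finite set containing the non-zero degrees -/
  s : Finset ℤ
  hs : ∀ n, n ∉ s → k n = 0
  /-- bases of `E` -/
  c : ∀ n, Cells O (E.X n) (k n)
  /-- bases of `E'` -/
  c' : ∀ n m, m + n = 0 → Cells O (E'.X m) (k n)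
  /-- signs -/
  a : ℤ → ℤ
  ha : ∀ n, a n * a n = 1
  compat : ∀ (n n' m m' : ℤ) (h : m + n = 0) (h' : m' + n' = 0), n + 1 = n' → ∀ i j,
    a n • ((c' n' m' h').i j ≫ E'.d m' m ≫ (c' n m h).p i) =
      ((n.negOnePow : ℤ) * a n') • ((c n).i i ≫ E.d n n' ≫ (c n').p j)

/-- A summand of a twofold total complex. -/
noncomputable def ι₂ (M K L : CochainComplex C ℤ) (r m p q t : ℤ) (h₁ : r + m = p) (h₂ : p + q = t) :
    (T.obj ((T.obj (M.X r)).obj (K.X m))).obj (L.X q) ⟶ (((tot T).obj (((tot T).obj M).obj K)).obj L).X t :=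
  (T.map (totι T M K r m p h₁)).app (L.X q) ≫ totι T _ L p q t h₂

theorem ext₂ {M K L : CochainComplex C ℤ} {t : ℤ} {Y : C}
    {f g : (((tot T).obj (((tot T).obj M).obj K)).obj L).X t ⟶ Y}
    (h : ∀ r m p q (h₁ : r + m = p) (h₂ : p + q = t),
      ι₂ T M K L r m p q t h₁ h₂ ≫ f = ι₂ T M K L r m p q t h₁ h₂ ≫ g) : f = g :=
  tot_hom_ext fun p q h₂ => Cofan.IsColimit.hom_ext (isColimitMapTotι T (T.flip.obj (L.X q)) M K p) _ _
    fun x => (Category.assoc _ _ _).symm.trans ((h x.1.1 x.1.2 p q x.2 h₂).trans (Category.assoc _ _ _))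

theorem tm_zsmul_left {A A' X : C} (n : ℤ) (f : A ⟶ A') :
    (T.map (n • f)).app X = n • (T.map f).app X := by
  rw [Functor.map_zsmul]
  exact map_zsmul (((evaluation C C).obj X).mapAddHom) n _

theorem tm_add_left {A A' X : C} (f g : A ⟶ A') :
    (T.map (f + g)).app X = (T.map f).app X + (T.map g).app X := by
  rw [Functor.map_add]
  exact map_add (((evaluation C C).obj X).mapAddHom) _ _

theorem tm_zero_app {A A' X : C} : (T.map (0 : A ⟶ A')).app X = 0 := by
  rw [Functor.map_zero]
  rfl

theorem tm_sum_app {A A' X : C} {ι : Type*} (s : Finset ι) (f : ι → (A ⟶ A')) :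
    (T.map (∑ i ∈ s, f i)).app X = ∑ i ∈ s, (T.map (f i)).app X := by
  have h := tm_sum_left T s f (𝟙 X)
  simpa only [tm_id_right] using h

variable {E E' : CochainComplex C ℤ} (P : StrictPair O E E')

/-- The value of the counit on a summand. -/
noncomputable def evVal (M : CochainComplex C ℤ) (r m q t : ℤ) (h : r + m + q = t) :
    (T.obj ((T.obj (M.X r)).obj (E'.X m))).obj (E.X q) ⟶ M.X t :=
  if hm : m + q = 0 then
    P.a q • (evc T ρ (P.c q) (P.c' q m hm) (M.X r) ≫ (M.XIsoOfEq (show r = t by omega)).hom)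
  else 0

theorem evVal_zero (M : CochainComplex C ℤ) (r m q t : ℤ) (h : r + m + q = t) (hm : m + q ≠ 0) :
    evVal T ρ P M r m q t h = 0 := dif_neg hm

theorem evVal_self (M : CochainComplex C ℤ) (r m q : ℤ) (hm : m + q = 0) :
    evVal T ρ P M r m q r (by omega) = P.a q • evc T ρ (P.c q) (P.c' q m hm) (M.X r) :=
  (dif_pos hm).trans (by simp [HomologicalComplex.XIsoOfEq])

/-- The counit in one degree. -/
noncomputable def εX (M : CochainComplex C ℤ) (t : ℤ) :
    (((tot T).obj (((tot T).obj M).obj E')).obj E).X t ⟶ M.X t :=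
  totDesc fun p q h₂ => Cofan.IsColimit.desc (isColimitMapTotι T (T.flip.obj (E.X q)) M E' p)
    fun x => evVal T ρ P M x.1.1 x.1.2 q t (by have := x.2; omega)

@[reassoc]
theorem ι₂_εX (M : CochainComplex C ℤ) (r m p q t : ℤ) (h₁ : r + m = p) (h₂ : p + q = t) :
    ι₂ T M E' E r m p q t h₁ h₂ ≫ εX T ρ P M t = evVal T ρ P M r m q t (by omega) := by
  rw [ι₂, Category.assoc, εX, totι_desc]
  exact Cofan.IsColimit.fac (isColimitMapTotι T (T.flip.obj (E.X q)) M E' p) _ ⟨(r, m), h₁⟩

@[reassoc]
theorem ι₂_d (M K L : CochainComplex C ℤ) (r m p q t : ℤ) (h₁ : r + m = p) (h₂ : p + q = t) :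
    ι₂ T M K L r m p q t h₁ h₂ ≫ (((tot T).obj (((tot T).obj M).obj K)).obj L).d t (t + 1) =
      (T.map ((T.map (M.d r (r + 1))).app (K.X m))).app (L.X q) ≫
          ι₂ T M K L (r + 1) m (p + 1) q (t + 1) (by omega) (by omega) +
        (r.negOnePow : ℤ) • ((T.map ((T.obj (M.X r)).map (K.d m (m + 1)))).app (L.X q) ≫
          ι₂ T M K L r (m + 1) (p + 1) q (t + 1) (by omega) (by omega)) +
        (p.negOnePow : ℤ) • ((T.obj ((T.obj (M.X r)).obj (K.X m))).map (L.d q (q + 1)) ≫
          ι₂ T M K L r m p (q + 1) (t + 1) h₁ (by omega)) := by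
  rw [ι₂, Category.assoc, totι_d, Preadditive.comp_add, ← Category.assoc, ← NatTrans.comp_app,
    ← Functor.map_comp, totι_d, Units.smul_def, Units.smul_def, tm_add_left, tm_zsmul_left,
    Preadditive.add_comp, Preadditive.zsmul_comp, Functor.map_comp, NatTrans.comp_app, Functor.map_comp,
    NatTrans.comp_app, Category.assoc, Category.assoc, Preadditive.comp_zsmul]
  congr 2
  rw [← Category.assoc, ← NatTrans.naturality, Category.assoc]
  rfl

theorem evc_shift {M : CochainComplex C ℤ} (r m q : ℤ) (hm : m + q + 1 = 0) :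
    (T.map ((T.obj (M.X r)).map (E'.d m (m + 1)))).app (E.X q) ≫
        (P.a q • evc T ρ (P.c q) (P.c' q (m + 1) (by omega)) (M.X r)) =
      (q.negOnePow : ℤ) • ((T.obj ((T.obj (M.X r)).obj (E'.X m))).map (E.d q (q + 1)) ≫
        (P.a (q + 1) • evc T ρ (P.c (q + 1)) (P.c' (q + 1) m (by omega)) (M.X r))) := by
  have h := evc_transpose T ρ (P.c q) (P.c' q (m + 1) (by omega)) (P.c (q + 1)) (P.c' (q + 1) m (by omega))
    (E.d q (q + 1)) (E'.d m (m + 1)) (P.a q) ((q.negOnePow : ℤ) * P.a (q + 1))
    (fun i j => P.compat q (q + 1) (m + 1) m (by omega) (by omega) rfl i j) (M.X r)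
  rw [tm_id_left, tm_id_right, tm_id_left] at h
  rw [Preadditive.comp_zsmul, Preadditive.comp_zsmul, smul_smul]
  exact h

/-- The counit on complexes. -/
noncomputable def εCx (M : CochainComplex C ℤ) :
    ((tot T).obj (((tot T).obj M).obj E')).obj E ⟶ M where
  f t := εX T ρ P M t
  comm' t t' ht := by
    obtain rfl : t + 1 = t' := ht
    refine ext₂ T fun r m p q h₁ h₂ => ?_
    rw [ι₂_εX_assoc, ι₂_d_assoc]
    simp only [Preadditive.add_comp, Preadditive.zsmul_comp, Category.assoc, ι₂_εX]
    by_cases h0 : m + q = 0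
    · obtain rfl : r = t := by omega
      rw [evVal_self T ρ P M r m q h0, evVal_self T ρ P M (r + 1) m q h0,
        evVal_zero T ρ P M r (m + 1) q (r + 1) (by omega) (by omega),
        evVal_zero T ρ P M r m (q + 1) (r + 1) (by omega) (by omega), comp_zero, comp_zero, smul_zero,
        smul_zero, add_zero, add_zero, Preadditive.zsmul_comp, Preadditive.comp_zsmul]
      refine congrArg (P.a q • ·) ?_
      have h := evc_natural T ρ (P.c q) (P.c' q m h0) (M.d r (r + 1))
      rw [tm_id_right, tm_id_right] at h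
      exact h.symm
    · rw [evVal_zero T ρ P M r m q t (by omega) h0,
        evVal_zero T ρ P M (r + 1) m q (t + 1) (by omega) h0, comp_zero, zero_comp, zero_add]
      by_cases h1 : m + q + 1 = 0
      · obtain rfl : r = t + 1 := by omega
        rw [evVal_self T ρ P M (t + 1) (m + 1) q (by omega),
          evVal_self T ρ P M (t + 1) m (q + 1) (by omega), evc_shift T ρ P (t + 1) m q h1, smul_smul,
          ← add_smul]
        have : (((t + 1).negOnePow : ℤˣ) : ℤ) * (q.negOnePow : ℤ) + (p.negOnePow : ℤ) = 0 := by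
          rw [← Units.val_mul, ← Int.negOnePow_add, show p = (t + 1 + q) + (-(2 * q) - 1) by omega,
            Int.negOnePow_add (t + 1 + q), Int.negOnePow_sub, Int.negOnePow_neg, Int.negOnePow_two_mul,
            Int.negOnePow_one]
          simp
        rw [this, zero_smul]
      · rw [evVal_zero T ρ P M r (m + 1) q (t + 1) (by omega) (by omega),
          evVal_zero T ρ P M r m (q + 1) (t + 1) (by omega) (by omega), comp_zero, comp_zero, smul_zero,
          smul_zero, add_zero]

theorem coc_eq_zero (n m : ℤ) (h : m + n = 0) (hn : n ∉ P.s) (A : C) :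
    coc T ρ (P.c n) (P.c' n m h) A = 0 := by
  have : IsEmpty (Fin (P.k n)) := by
    rw [P.hs n hn]
    infer_instance
  exact Finset.sum_eq_zero fun i _ => isEmptyElim i

/-- A term of the unit. -/
noncomputable def ηTerm (M : CochainComplex C ℤ) (t n : ℤ) :
    M.X t ⟶ (((tot T).obj (((tot T).obj M).obj E)).obj E').X t :=
  P.a n • (coc T ρ (P.c n) (P.c' n (-n) (by omega)) (M.X t) ≫
    ι₂ T M E E' t n (t + n) (-n) t rfl (by omega))

theorem ηTerm_eq (M : CochainComplex C ℤ) (t n p m : ℤ) (hp : t + n = p) (hm : m + n = 0) :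
    P.a n • (coc T ρ (P.c n) (P.c' n m hm) (M.X t) ≫ ι₂ T M E E' t n p m t hp (by omega)) =
      ηTerm T ρ P M t n := by
  subst hp
  obtain rfl : m = -n := by omega
  rfl

/-- The unit in one degree. -/
noncomputable def ηX (M : CochainComplex C ℤ) (t : ℤ) :
    M.X t ⟶ (((tot T).obj (((tot T).obj M).obj E)).obj E').X t :=
  ∑ n ∈ P.s, ηTerm T ρ P M t n

/-- The term of `d ∘ η` raising the degree in `E`. -/
noncomputable def upTerm (M : CochainComplex C ℤ) (t n : ℤ) :
    M.X t ⟶ (((tot T).obj (((tot T).obj M).obj E)).obj E').X (t + 1) :=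
  ((t.negOnePow : ℤ) * P.a n) • (coc T ρ (P.c n) (P.c' n (-n) (by omega)) (M.X t) ≫
    (T.map ((T.obj (M.X t)).map (E.d n (n + 1)))).app (E'.X (-n)) ≫
      ι₂ T M E E' t (n + 1) (t + n + 1) (-n) (t + 1) (by omega) (by omega))

/-- The term of `d ∘ η` raising the degree in `E'`. -/
noncomputable def upTerm' (M : CochainComplex C ℤ) (t n : ℤ) :
    M.X t ⟶ (((tot T).obj (((tot T).obj M).obj E)).obj E').X (t + 1) :=
  (((t + n).negOnePow : ℤ) * P.a n) • (coc T ρ (P.c n) (P.c' n (-n) (by omega)) (M.X t) ≫
    (T.obj ((T.obj (M.X t)).obj (E.X n))).map (E'.d (-n) (-n + 1)) ≫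
      ι₂ T M E E' t n (t + n) (-n + 1) (t + 1) rfl (by omega))

theorem upTerm'_succ_gen (M : CochainComplex C ℤ) (t n m m' : ℤ) (hm : m + (n + 1) = 0) (hm' : m' + n = 0)
    (h : m + 1 = m') :
    (((t + (n + 1)).negOnePow : ℤ) * P.a (n + 1)) • (coc T ρ (P.c (n + 1)) (P.c' (n + 1) m hm) (M.X t) ≫
        (T.obj ((T.obj (M.X t)).obj (E.X (n + 1)))).map (E'.d m m') ≫
          ι₂ T M E E' t (n + 1) (t + (n + 1)) m' (t + 1) rfl (by omega)) +
      ((t.negOnePow : ℤ) * P.a n) • (coc T ρ (P.c n) (P.c' n m' hm') (M.X t) ≫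
        (T.map ((T.obj (M.X t)).map (E.d n (n + 1)))).app (E'.X m') ≫
          ι₂ T M E E' t (n + 1) (t + (n + 1)) m' (t + 1) rfl (by omega)) = 0 := by
  have htr := coc_transpose T ρ (P.c n) (P.c' n m' hm') (P.c (n + 1)) (P.c' (n + 1) m hm)
    (E.d n (n + 1)) (E'.d m m') (P.a n) ((n.negOnePow : ℤ) * P.a (n + 1))
    (fun i j => P.compat n (n + 1) m' m hm' hm rfl i j) (M.X t)
  rw [tm_id_left, tm_id_right, tm_id_left] at htr
  have e2 : (n.negOnePow : ℤ) * (n.negOnePow : ℤ) = 1 := by
    rw [← Units.val_mul, Int.units_mul_self, Units.val_one]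
  have hV : coc T ρ (P.c n) (P.c' n m' hm') (M.X t) ≫
        (T.map ((T.obj (M.X t)).map (E.d n (n + 1)))).app (E'.X m') =
      ((n.negOnePow : ℤ) * P.a (n + 1) * P.a n) • (coc T ρ (P.c (n + 1)) (P.c' (n + 1) m hm) (M.X t) ≫
        (T.obj ((T.obj (M.X t)).obj (E.X (n + 1)))).map (E'.d m m')) := by
    have h1 := congrArg (((n.negOnePow : ℤ) * P.a (n + 1)) • ·) htr
    simp only [smul_smul] at h1
    rw [mul_mul_mul_comm, e2, P.ha, one_mul, one_smul] at h1
    exact h1
  rw [← Category.assoc (coc T ρ (P.c n) _ _), hV, Preadditive.zsmul_comp, Category.assoc, smul_smul, ← add_smul]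
  have : ((t + (n + 1)).negOnePow : ℤ) * P.a (n + 1) +
      (t.negOnePow : ℤ) * P.a n * ((n.negOnePow : ℤ) * P.a (n + 1) * P.a n) = 0 := by
    have e1 : ((t + (n + 1)).negOnePow : ℤ) = -((t.negOnePow : ℤ) * (n.negOnePow : ℤ)) := by
      rw [Int.negOnePow_add, Int.negOnePow_succ]
      simp
    calc _ = -((t.negOnePow : ℤ) * (n.negOnePow : ℤ)) * P.a (n + 1) +
          (t.negOnePow : ℤ) * (n.negOnePow : ℤ) * P.a (n + 1) * (P.a n * P.a n) := by rw [e1]; ring
      _ = 0 := by rw [P.ha]; ring
  rw [this, zero_smul]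

theorem upTerm'_succ (M : CochainComplex C ℤ) (t n : ℤ) :
    upTerm' T ρ P M t (n + 1) + upTerm T ρ P M t n = 0 := by
  have key : ∀ (m' p : ℤ) (hm' : m' + n = 0) (hp : t + (n + 1) = p) (h : -(n + 1) + 1 = m'),
      upTerm' T ρ P M t (n + 1) +
        ((t.negOnePow : ℤ) * P.a n) • (coc T ρ (P.c n) (P.c' n m' hm') (M.X t) ≫
          (T.map ((T.obj (M.X t)).map (E.d n (n + 1)))).app (E'.X m') ≫
            ι₂ T M E E' t (n + 1) p m' (t + 1) hp (by omega)) = 0 := by
    intro m' p hm' hp h
    subst hp h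
    exact upTerm'_succ_gen T ρ P M t n _ _ (by omega) hm' rfl
  exact key (-n) (t + n + 1) (by omega) (by omega) (by omega)

theorem upTerm_eq_zero (M : CochainComplex C ℤ) (t n : ℤ) (hn : n ∉ P.s) : upTerm T ρ P M t n = 0 := by
  rw [upTerm, coc_eq_zero T ρ P n _ _ hn, zero_comp, smul_zero]

theorem upTerm'_eq_zero (M : CochainComplex C ℤ) (t n : ℤ) (hn : n ∉ P.s) : upTerm' T ρ P M t n = 0 := by
  rw [upTerm', coc_eq_zero T ρ P n _ _ hn, zero_comp, smul_zero]

theorem sum_upTerm (M : CochainComplex C ℤ) (t : ℤ) :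
    ∑ n ∈ P.s, (upTerm T ρ P M t n + upTerm' T ρ P M t n) = 0 := by
  classical
  let u := P.s ∪ P.s.image (· - 1)
  have h1 : ∑ n ∈ P.s, upTerm T ρ P M t n = ∑ n ∈ u, upTerm T ρ P M t n :=
    Finset.sum_subset Finset.subset_union_left fun n _ hn => upTerm_eq_zero T ρ P M t n hn
  have h2 : ∑ n ∈ P.s, upTerm' T ρ P M t n = ∑ n ∈ u, upTerm' T ρ P M t (n + 1) := by
    rw [← Finset.sum_image (f := upTerm' T ρ P M t) (g := fun n => n + 1)
      (fun a _ b _ h => by simpa using h)]
    refine Finset.sum_subset (fun n hn => ?_) fun n _ hn => upTerm'_eq_zero T ρ P M t n hn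
    exact Finset.mem_image.2 ⟨n - 1, Finset.mem_union_right _ (Finset.mem_image.2 ⟨n, hn, rfl⟩), by omega⟩
  rw [Finset.sum_add_distrib, h1, h2, ← Finset.sum_add_distrib]
  exact Finset.sum_eq_zero fun n _ => (add_comm _ _).trans (upTerm'_succ T ρ P M t n)

/-- The unit on complexes. -/
noncomputable def ηCx (M : CochainComplex C ℤ) :
    M ⟶ ((tot T).obj (((tot T).obj M).obj E)).obj E' where
  f t := ηX T ρ P M t
  comm' t t' ht := by
    obtain rfl : t + 1 = t' := ht
    have key : ∀ n, ηTerm T ρ P M t n ≫ (((tot T).obj (((tot T).obj M).obj E)).obj E').d t (t + 1) =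
        M.d t (t + 1) ≫ ηTerm T ρ P M (t + 1) n + (upTerm T ρ P M t n + upTerm' T ρ P M t n) := by
      intro n
      have hnat := coc_natural T ρ (P.c n) (P.c' n (-n) (by omega)) (M.d t (t + 1))
      rw [tm_id_right, tm_id_right] at hnat
      rw [ηTerm, Preadditive.zsmul_comp, Category.assoc, ι₂_d, Preadditive.comp_add, Preadditive.comp_add,
        smul_add, smul_add, Preadditive.comp_zsmul, Preadditive.comp_zsmul, smul_smul, smul_smul, add_assoc,
        mul_comm (P.a n), mul_comm (P.a n), ← Category.assoc (coc T ρ (P.c n) _ _), hnat, Category.assoc,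
        ← Preadditive.comp_zsmul,
        ηTerm_eq T ρ P M (t + 1) n (t + n + 1) (-n) (by omega) (by omega)]
      rfl
    rw [ηX, ηX, Preadditive.sum_comp, Preadditive.comp_sum, Finset.sum_congr rfl fun n _ => key n,
      Finset.sum_add_distrib, sum_upTerm, add_zero]

theorem ι₂_map (M M' : CochainComplex C ℤ) (φ : M ⟶ M') (K L : CochainComplex C ℤ)
    (r m p q t : ℤ) (h₁ : r + m = p) (h₂ : p + q = t) :
    ι₂ T M K L r m p q t h₁ h₂ ≫ (((tot T).map (((tot T).map φ).app K)).app L).f t =
      (T.map ((T.map (φ.f r)).app (K.X m))).app (L.X q) ≫ ι₂ T M' K L r m p q t h₁ h₂ := by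
  rw [ι₂, ι₂, Category.assoc, totι_map_left, ← Category.assoc, ← NatTrans.comp_app, ← Functor.map_comp,
    totι_map_left, Functor.map_comp, NatTrans.comp_app, Category.assoc]

/-- The adjunction `- ⊗ E ⊣ - ⊗ E'`. -/
noncomputable def adj : (tot T).flip.obj E ⊣ (tot T).flip.obj E' :=
  Adjunction.mkOfUnitCounit
    { unit :=
        { app := fun M => ηCx T ρ P M
          naturality := fun M M' φ => by
            refine HomologicalComplex.hom_ext _ _ fun t => ?_
            change φ.f t ≫ ηX T ρ P M' t =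
              ηX T ρ P M t ≫ (((tot T).map (((tot T).map φ).app E)).app E').f t
            rw [ηX, ηX, Preadditive.comp_sum, Preadditive.sum_comp]
            refine Finset.sum_congr rfl fun n _ => ?_
            have hnat := coc_natural T ρ (P.c n) (P.c' n (-n) (by omega)) (φ.f t)
            rw [tm_id_right, tm_id_right] at hnat
            rw [ηTerm, ηTerm, Preadditive.comp_zsmul, Preadditive.zsmul_comp, Category.assoc, ι₂_map,
              ← Category.assoc, ← hnat, Category.assoc] }
      counit :=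
        { app := fun M => εCx T ρ P M
          naturality := fun M M' φ => by
            refine HomologicalComplex.hom_ext _ _ fun t => ?_
            change (((tot T).map (((tot T).map φ).app E')).app E).f t ≫ εX T ρ P M' t =
              εX T ρ P M t ≫ φ.f t
            refine ext₂ T fun r m p q h₁ h₂ => ?_
            rw [← Category.assoc, ι₂_map, Category.assoc, ι₂_εX, ι₂_εX_assoc]
            by_cases h0 : m + q = 0
            · obtain rfl : r = t := by omega
              have hnat := evc_natural T ρ (P.c q) (P.c' q m h0) (φ.f r)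
              rw [tm_id_right, tm_id_right] at hnat
              rw [evVal_self T ρ P M' r m q h0, evVal_self T ρ P M r m q h0, Preadditive.comp_zsmul,
                Preadditive.zsmul_comp, hnat]
            · rw [evVal_zero T ρ P M' r m q t (by omega) h0, evVal_zero T ρ P M r m q t (by omega) h0,
                comp_zero, zero_comp] }
      left_triangle := by
        refine NatTrans.ext (funext fun M => HomologicalComplex.hom_ext _ _ fun t => ?_)
        simp only [NatTrans.comp_app, Functor.whiskerRight_app, Functor.associator_hom_app,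
          Functor.whiskerLeft_app, NatTrans.id_app', Category.id_comp, HomologicalComplex.comp_f]
        change (((tot T).map (ηCx T ρ P M)).app E).f t ≫ εX T ρ P (((tot T).obj M).obj E) t = _
        refine tot_hom_ext fun r n h => ?_
        change totι T M E r n t h ≫ _ = totι T M E r n t h ≫ 𝟙 ((((tot T).obj M).obj E).X t)
        rw [totι_map_left_assoc, Category.comp_id]
        change (T.map (ηX T ρ P M r)).app (E.X n) ≫ _ = _
        rw [ηX, tm_sum_app, Preadditive.sum_comp]
        have h0 : ∀ m, (T.map (ηTerm T ρ P M r m)).app (E.X n) ≫ totι T _ E r n t h ≫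
            εX T ρ P (((tot T).obj M).obj E) t = P.a m • ((T.map (coc T ρ (P.c m) (P.c' m (-m) (by omega))
              (M.X r))).app (E.X n) ≫ (T.map ((T.map (totι T M E r m (r + m) rfl)).app (E'.X (-m)))).app (E.X n) ≫
              evVal T ρ P (((tot T).obj M).obj E) (r + m) (-m) n t (by omega)) := fun m => by
          rw [ηTerm, tm_zsmul_left, Preadditive.zsmul_comp, ι₂, Functor.map_comp, Functor.map_comp,
            NatTrans.comp_app, NatTrans.comp_app, Category.assoc, Category.assoc,
            ← ι₂_εX T ρ P (((tot T).obj M).obj E) (r + m) (-m) r n t (by omega) h, ι₂, Category.assoc]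
        rw [Finset.sum_congr rfl fun m _ => h0 m, Finset.sum_eq_single n]
        · subst h
          rw [evVal_self T ρ P _ (r + n) (-n) n (by omega), Preadditive.comp_zsmul,
            Preadditive.comp_zsmul, smul_smul, P.ha, one_smul]
          have hn := evc_natural T ρ (P.c n) (P.c' n (-n) (by omega)) (totι T M E r n (r + n) rfl)
          rw [tm_id_right, tm_id_right] at hn
          have hz := zig T ρ (P.c n) (P.c' n (-n) (by omega)) (M.X r)
          rw [tm_id_right] at hz
          rw [hn, ← Category.assoc, hz, Category.id_comp]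
        · intro m _ hm
          rw [evVal_zero T ρ P _ _ _ _ _ (by omega) (by omega), comp_zero, comp_zero, smul_zero]
        · intro hn
          rw [coc_eq_zero T ρ P n _ _ hn, tm_zero_app, zero_comp, smul_zero]
      right_triangle := by
        refine NatTrans.ext (funext fun M => HomologicalComplex.hom_ext _ _ fun t => ?_)
        simp only [NatTrans.comp_app, Functor.whiskerRight_app, Functor.associator_inv_app,
          Functor.whiskerLeft_app, NatTrans.id_app', Category.id_comp, HomologicalComplex.comp_f]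
        change ηX T ρ P (((tot T).obj M).obj E') t ≫ (((tot T).map (εCx T ρ P M)).app E').f t = _
        refine tot_hom_ext fun r m h => ?_
        change totι T M E' r m t h ≫ _ = totι T M E' r m t h ≫ 𝟙 ((((tot T).obj M).obj E').X t)
        rw [ηX, Preadditive.sum_comp, Preadditive.comp_sum, Category.comp_id]
        have h0 : ∀ n, totι T M E' r m t h ≫ ηTerm T ρ P (((tot T).obj M).obj E') t n ≫
            (((tot T).map (εCx T ρ P M)).app E').f t =
            P.a n • (coc T ρ (P.c n) (P.c' n (-n) (by omega)) ((T.obj (M.X r)).obj (E'.X m)) ≫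
              (T.map (evVal T ρ P M r m n (t + n) (by omega))).app (E'.X (-n)) ≫
                totι T M E' (t + n) (-n) t (by omega)) := fun n => by
          have hnat := coc_natural T ρ (P.c n) (P.c' n (-n) (by omega)) (totι T M E' r m t h)
          rw [tm_id_right, tm_id_right] at hnat
          rw [ηTerm, Preadditive.zsmul_comp, Preadditive.comp_zsmul, Category.assoc,
            ← Category.assoc (totι T M E' r m t h), ← hnat, Category.assoc, ι₂, Category.assoc, totι_map_left,
            ← ι₂_εX T ρ P M r m t n (t + n) h rfl, ι₂]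
          simp only [Functor.map_comp, NatTrans.comp_app, Category.assoc]
          rfl
        rw [Finset.sum_congr rfl fun n _ => h0 n, Finset.sum_eq_single (-m)]
        · obtain rfl : r = t + -m := by omega
          rw [evVal_self T ρ P M (t + -m) m (-m) (by omega), tm_zsmul_left, Preadditive.zsmul_comp,
            Preadditive.comp_zsmul, smul_smul, P.ha, one_smul]
          have key : ∀ m' (hm' : m' + -m = 0) (h' : t + -m + m' = t), m' = m →
              coc T ρ (P.c (-m)) (P.c' (-m) m' hm') ((T.obj (M.X (t + -m))).obj (E'.X m)) ≫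
                (T.map (evc T ρ (P.c (-m)) (P.c' (-m) m (by omega)) (M.X (t + -m)))).app (E'.X m') ≫
                  totι T M E' (t + -m) m' t h' = totι T M E' (t + -m) m t h := by
            intro m' hm' h' he
            subst he
            have hz := zag T ρ (P.c (-m')) (P.c' (-m') m' hm') (M.X (t + -m'))
            rw [tm_id_right] at hz
            rw [← Category.assoc, hz, Category.id_comp]
          exact key (- -m) (by omega) (by omega) (neg_neg m)
        · intro n _ hn
          rw [evVal_zero T ρ P M r m n (t + n) (by omega) (by omega), tm_zero_app, zero_comp, comp_zero,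
            smul_zero]
        · intro hn
          rw [coc_eq_zero T ρ P _ _ _ hn, zero_comp, smul_zero] }

end Groth.Agent.KFlat.DualAdj
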