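import Groth.Agent.KFlat.Totals
import Mathlib.CategoryTheory.Preadditive.AdditiveFunctor
import Mathlib.Algebra.BigOperators.GroupWithZero.Action

/-!
# Evaluation and coevaluation for sums of copies of a right unit
-/

set_option autoImplicit false

open CategoryTheory CategoryTheory.Limits

set_option linter.unusedSectionVars false

namespace Groth.Agent.KFlat.DualCells

variable {C : Type*} [Category C] [Preadditive C] (T : C ⥤ C ⥤ C) [T.Additive] [∀ X, (T.obj X).Additive]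

/-- `f ⊗ g`. -/
def tm {A A' X X' : C} (f : A ⟶ A') (g : X ⟶ X') : (T.obj A).obj X ⟶ (T.obj A').obj X' :=
  (T.map f).app X ≫ (T.obj A').map g

theorem interchange {A A' X X' : C} (f : A ⟶ A') (g : X ⟶ X') :
    (T.obj A).map g ≫ (T.map f).app X' = tm T f g :=
  (T.map f).naturality g

theorem tm_comp {A A' A'' X X' X'' : C} (f : A ⟶ A') (f' : A' ⟶ A'') (g : X ⟶ X') (g' : X' ⟶ X'') :
    tm T f g ≫ tm T f' g' = tm T (f ≫ f') (g ≫ g') := by
  simp only [tm, Category.assoc, Functor.map_comp, NatTrans.comp_app]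
  congr 1
  rw [← Category.assoc]
  exact (congrArg (· ≫ _) (interchange T f' g)).trans (Category.assoc _ _ _)

theorem tm_comp_assoc {A A' A'' X X' X'' Z : C} (f : A ⟶ A') (f' : A' ⟶ A'') (g : X ⟶ X') (g' : X' ⟶ X'')
    (h : (T.obj A'').obj X'' ⟶ Z) : tm T f g ≫ tm T f' g' ≫ h = tm T (f ≫ f') (g ≫ g') ≫ h := by
  rw [← Category.assoc, tm_comp]

theorem tm_id_right {A A' : C} (f : A ⟶ A') (X : C) : tm T f (𝟙 X) = (T.map f).app X := by simp [tm]

theorem tm_id_left (A : C) {X X' : C} (g : X ⟶ X') : tm T (𝟙 A) g = (T.obj A).map g := by simp [tm]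

theorem tm_zero_left {A A' X X' : C} (g : X ⟶ X') : tm T (0 : A ⟶ A') g = 0 := by
  simp [tm, Functor.map_zero]

theorem tm_zero_right {A A' X X' : C} (f : A ⟶ A') : tm T f (0 : X ⟶ X') = 0 := by
  simp [tm, Functor.map_zero]

theorem tm_sum_left {A A' X X' : C} {ι : Type*} (s : Finset ι) (f : ι → (A ⟶ A')) (g : X ⟶ X') :
    tm T (∑ i ∈ s, f i) g = ∑ i ∈ s, tm T (f i) g := by
  have h := map_sum ((((evaluation C C).obj X).mapAddHom (X := T.obj A) (Y := T.obj A')).comp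
    (T.mapAddHom (X := A) (Y := A'))) f s
  simp only [AddMonoidHom.coe_comp, Function.comp_apply, Functor.mapAddHom_apply, evaluation_obj_map] at h
  simp only [tm, h, Preadditive.sum_comp]

theorem tm_sum_right {A A' X X' : C} {ι : Type*} (s : Finset ι) (f : A ⟶ A') (g : ι → (X ⟶ X')) :
    tm T f (∑ i ∈ s, g i) = ∑ i ∈ s, tm T f (g i) := by
  simp only [tm, Functor.map_sum, Preadditive.comp_sum]

theorem tm_zsmul_right {A A' X X' : C} (f : A ⟶ A') (n : ℤ) (g : X ⟶ X') :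
    n • tm T f g = tm T f (n • g) := by
  simp only [tm, Functor.map_zsmul, Preadditive.comp_zsmul]

variable {O : C} (ρ : T.flip.obj O ≅ 𝟭 C)

theorem rho_nat {A B : C} (h : A ⟶ B) : tm T h (𝟙 O) ≫ ρ.hom.app B = ρ.hom.app A ≫ h := by
  rw [tm_id_right]
  exact ρ.hom.naturality h

theorem rhoInv_nat {A B : C} (h : A ⟶ B) : ρ.inv.app A ≫ tm T h (𝟙 O) = h ≫ ρ.inv.app B := by
  rw [tm_id_right]
  exact (ρ.inv.naturality h).symm

theorem tm_rho (A : C) : tm T (ρ.hom.app A) (𝟙 O) = ρ.hom.app ((T.obj A).obj O) := by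
  rw [← cancel_mono (ρ.hom.app A)]
  exact rho_nat T ρ (ρ.hom.app A)

/-- Endomorphisms of the unit act in the same way on both factors. -/
theorem scalar (A : C) (s : O ⟶ O) :
    tm T (tm T (𝟙 A) s) (𝟙 O) ≫ ρ.hom.app _ ≫ ρ.hom.app A =
      tm T (𝟙 ((T.obj A).obj O)) s ≫ ρ.hom.app _ ≫ ρ.hom.app A := by
  rw [← Category.assoc, rho_nat, Category.assoc, ← Category.assoc (tm T (𝟙 _) s), ← tm_rho T ρ,
    tm_comp, Category.id_comp, Category.comp_id]
  rw [← Category.assoc, tm_comp]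
  erw [Category.comp_id, Category.id_comp]

/-- Evaluation through a pair of maps to the unit. -/
noncomputable def ev1 {X X' : C} (p' : X' ⟶ O) (p : X ⟶ O) (A : C) :
    (T.obj ((T.obj A).obj X')).obj X ⟶ A :=
  tm T (tm T (𝟙 A) p') p ≫ ρ.hom.app _ ≫ ρ.hom.app A

/-- Coevaluation through a pair of maps from the unit. -/
noncomputable def co1 {X X' : C} (i : O ⟶ X) (i' : O ⟶ X') (A : C) :
    A ⟶ (T.obj ((T.obj A).obj X)).obj X' :=
  ρ.inv.app A ≫ ρ.inv.app _ ≫ tm T (tm T (𝟙 A) i) i'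

theorem ev1_natural {X X' : C} (p' : X' ⟶ O) (p : X ⟶ O) {A B : C} (h : A ⟶ B) :
    tm T (tm T h (𝟙 X')) (𝟙 X) ≫ ev1 T ρ p' p B = ev1 T ρ p' p A ≫ h := by
  simp only [ev1, Category.assoc]
  rw [tm_comp_assoc, tm_comp, Category.id_comp, Category.id_comp, Category.comp_id,
    ← rho_nat T ρ h, ← Category.assoc (ρ.hom.app _), ← rho_nat T ρ (tm T h (𝟙 O)), Category.assoc,
    tm_comp_assoc, tm_comp, Category.id_comp, Category.comp_id, Category.comp_id]

theorem co1_natural {X X' : C} (i : O ⟶ X) (i' : O ⟶ X') {A B : C} (h : A ⟶ B) :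
    co1 T ρ i i' A ≫ tm T (tm T h (𝟙 X)) (𝟙 X') = h ≫ co1 T ρ i i' B := by
  simp only [co1, Category.assoc, tm_comp]
  rw [← Category.assoc h, ← rhoInv_nat T ρ h, Category.assoc, ← Category.assoc (tm T h (𝟙 O)),
    ← rhoInv_nat T ρ (tm T h (𝟙 O)), Category.assoc, tm_comp, tm_comp]
  simp only [Category.id_comp, Category.comp_id]

theorem comp_ev1 {X X' Y Y' : C} (g' : Y' ⟶ X') (g : Y ⟶ X) (p' : X' ⟶ O) (p : X ⟶ O) (A : C) :
    tm T (tm T (𝟙 A) g') g ≫ ev1 T ρ p' p A = ev1 T ρ (g' ≫ p') (g ≫ p) A := by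
  simp only [ev1]
  rw [tm_comp_assoc, tm_comp, Category.id_comp]

theorem co1_comp {X X' Y Y' : C} (i : O ⟶ X) (i' : O ⟶ X') (g : X ⟶ Y) (g' : X' ⟶ Y') (A : C) :
    co1 T ρ i i' A ≫ tm T (tm T (𝟙 A) g) g' = co1 T ρ (i ≫ g) (i' ≫ g') A := by
  simp only [co1, Category.assoc, tm_comp, Category.id_comp]

theorem ev1_scalar {X X' : C} (p' : X' ⟶ O) (p : X ⟶ O) (s : O ⟶ O) (A : C) :
    ev1 T ρ (p' ≫ s) p A = ev1 T ρ p' (p ≫ s) A := by
  have h := scalar T ρ A s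
  rw [show ev1 T ρ (p' ≫ s) p A = tm T (tm T (𝟙 A) p') p ≫ tm T (tm T (𝟙 A) s) (𝟙 O) ≫
      ρ.hom.app _ ≫ ρ.hom.app A by
    rw [tm_comp_assoc, tm_comp, Category.id_comp, Category.comp_id]; rfl, h, tm_comp_assoc, Category.comp_id]
  rfl

theorem co1_scalar {X X' : C} (i : O ⟶ X) (i' : O ⟶ X') (s : O ⟶ O) (A : C) :
    co1 T ρ (s ≫ i) i' A = co1 T ρ i (s ≫ i') A := by
  have h := scalar T ρ A s
  rw [← Category.assoc, ← Category.assoc (tm T (𝟙 _) s)] at h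
  have h' : ρ.inv.app A ≫ ρ.inv.app _ ≫ tm T (tm T (𝟙 A) s) (𝟙 O) =
      ρ.inv.app A ≫ ρ.inv.app _ ≫ tm T (𝟙 ((T.obj A).obj O)) s := by
    have e₁ := (cancel_mono (ρ.hom.app ((T.obj A).obj O))).1 ((cancel_mono (ρ.hom.app A)).1
      (by simpa only [Category.assoc] using h))
    rw [e₁]
  rw [show co1 T ρ (s ≫ i) i' A = (ρ.inv.app A ≫ ρ.inv.app _ ≫ tm T (tm T (𝟙 A) s) (𝟙 O)) ≫
      tm T (tm T (𝟙 A) i) i' by
    simp only [co1, Category.assoc, tm_comp, Category.id_comp], h']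
  simp only [co1, Category.assoc, tm_comp, Category.id_comp]

theorem ev1_zero_left {X X' : C} (p : X ⟶ O) (A : C) : ev1 T ρ (0 : X' ⟶ O) p A = 0 := by
  rw [ev1, tm_zero_right, tm_zero_left, zero_comp]

theorem ev1_sum_left {X X' : C} {ι : Type*} (s : Finset ι) (p' : ι → (X' ⟶ O)) (p : X ⟶ O) (A : C) :
    ev1 T ρ (∑ i ∈ s, p' i) p A = ∑ i ∈ s, ev1 T ρ (p' i) p A := by
  simp only [ev1, tm_sum_right, tm_sum_left, Preadditive.sum_comp]

theorem ev1_sum_right {X X' : C} {ι : Type*} (s : Finset ι) (p' : X' ⟶ O) (p : ι → (X ⟶ O)) (A : C) :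
    ev1 T ρ p' (∑ i ∈ s, p i) A = ∑ i ∈ s, ev1 T ρ p' (p i) A := by
  simp only [ev1, tm_sum_right, Preadditive.sum_comp]

theorem ev1_zsmul {X X' : C} (n : ℤ) (p' : X' ⟶ O) (p : X ⟶ O) (A : C) :
    n • ev1 T ρ p' p A = ev1 T ρ p' (n • p) A := by
  simp only [ev1, ← tm_zsmul_right, Preadditive.zsmul_comp]

theorem co1_zsmul {X X' : C} (n : ℤ) (i : O ⟶ X) (i' : O ⟶ X') (A : C) :
    n • co1 T ρ i i' A = co1 T ρ i (n • i') A := by
  simp only [co1, ← tm_zsmul_right, Preadditive.comp_zsmul]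

theorem co1_sum_left {X X' : C} {ι : Type*} (s : Finset ι) (i : ι → (O ⟶ X)) (i' : O ⟶ X') (A : C) :
    co1 T ρ (∑ j ∈ s, i j) i' A = ∑ j ∈ s, co1 T ρ (i j) i' A := by
  simp only [co1, tm_sum_right, tm_sum_left, Preadditive.comp_sum]

theorem co1_sum_right {X X' : C} {ι : Type*} (s : Finset ι) (i : O ⟶ X) (i' : ι → (O ⟶ X')) (A : C) :
    co1 T ρ i (∑ j ∈ s, i' j) A = ∑ j ∈ s, co1 T ρ i (i' j) A := by
  simp only [co1, tm_sum_right, Preadditive.comp_sum]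

theorem co1_zero_left {X X' : C} (i' : O ⟶ X') (A : C) : co1 T ρ (0 : O ⟶ X) i' A = 0 := by
  simp only [co1, tm_zero_right, tm_zero_left, comp_zero]

/-- The first zigzag on a single summand. -/
theorem zig_self {X X' : C} (i : O ⟶ X) (i' : O ⟶ X') (p' : X' ⟶ O) (p : X ⟶ O) (h : i' ≫ p' = 𝟙 O)
    (A : C) :
    tm T (co1 T ρ i i' A) (𝟙 X) ≫ ev1 T ρ p' p ((T.obj A).obj X) = tm T (𝟙 A) (p ≫ i) := by
  simp only [ev1]
  rw [tm_comp_assoc, Category.id_comp]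
  have hg : co1 T ρ i i' A ≫ tm T (𝟙 ((T.obj A).obj X)) p' =
      ρ.inv.app A ≫ tm T (𝟙 A) i ≫ ρ.inv.app ((T.obj A).obj X) := by
    simp only [co1, Category.assoc, tm_comp, h, Category.comp_id]
    rw [rhoInv_nat]
  rw [hg, show tm T (ρ.inv.app A ≫ tm T (𝟙 A) i ≫ ρ.inv.app ((T.obj A).obj X)) p =
      tm T (𝟙 A) p ≫ tm T (ρ.inv.app A ≫ tm T (𝟙 A) i ≫ ρ.inv.app ((T.obj A).obj X)) (𝟙 O) by
    rw [tm_comp, Category.id_comp, Category.comp_id], Category.assoc,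
    ← Category.assoc (tm T _ (𝟙 O))]
  erw [rho_nat]
  simp only [Category.assoc, Iso.inv_hom_id_app, Functor.id_obj, Category.comp_id]
  rw [Iso.hom_inv_id_app_assoc, tm_comp, Category.id_comp]

theorem zig_ne {X X' : C} (i : O ⟶ X) (i' : O ⟶ X') (p' : X' ⟶ O) (p : X ⟶ O) (h : i' ≫ p' = 0)
    (A : C) :
    tm T (co1 T ρ i i' A) (𝟙 X) ≫ ev1 T ρ p' p ((T.obj A).obj X) = 0 := by
  simp only [ev1]
  rw [tm_comp_assoc, Category.id_comp]
  have hg : co1 T ρ i i' A ≫ tm T (𝟙 ((T.obj A).obj X)) p' = 0 := by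
    simp only [co1, Category.assoc, tm_comp, h, tm_zero_right, comp_zero]
  rw [hg, tm_zero_left, zero_comp]

/-- The second zigzag on a single summand. -/
theorem zag_self {X X' : C} (i : O ⟶ X) (i' : O ⟶ X') (p' : X' ⟶ O) (p : X ⟶ O) (h : i ≫ p = 𝟙 O)
    (A : C) :
    co1 T ρ i i' ((T.obj A).obj X') ≫ tm T (ev1 T ρ p' p A) (𝟙 X') = tm T (𝟙 A) (p' ≫ i') := by
  simp only [co1, Category.assoc, tm_comp, Category.comp_id]
  have hg : tm T (𝟙 ((T.obj A).obj X')) i ≫ ev1 T ρ p' p A =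
      ρ.hom.app ((T.obj A).obj X') ≫ tm T (𝟙 A) p' ≫ ρ.hom.app A := by
    simp only [ev1]
    rw [tm_comp_assoc, Category.id_comp, h, ← Category.assoc, rho_nat, Category.assoc]
  rw [hg, show tm T (ρ.hom.app ((T.obj A).obj X') ≫ tm T (𝟙 A) p' ≫ ρ.hom.app A) i' =
      tm T (ρ.hom.app ((T.obj A).obj X') ≫ tm T (𝟙 A) p' ≫ ρ.hom.app A) (𝟙 O) ≫ tm T (𝟙 A) i' by
    erw [tm_comp, Category.id_comp, Category.comp_id], ← Category.assoc (ρ.inv.app ((T.obj ((T.obj A).obj X')).obj O))]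
  erw [rhoInv_nat]
  simp only [Category.assoc, Iso.inv_hom_id_app_assoc]
  erw [Iso.hom_inv_id_app_assoc, tm_comp, Category.id_comp]

theorem zag_ne {X X' : C} (i : O ⟶ X) (i' : O ⟶ X') (p' : X' ⟶ O) (p : X ⟶ O) (h : i ≫ p = 0)
    (A : C) :
    co1 T ρ i i' ((T.obj A).obj X') ≫ tm T (ev1 T ρ p' p A) (𝟙 X') = 0 := by
  simp only [co1, Category.assoc, tm_comp, Category.comp_id]
  have hg : tm T (𝟙 ((T.obj A).obj X')) i ≫ ev1 T ρ p' p A = 0 := by
    simp only [ev1]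
    rw [tm_comp_assoc, Category.id_comp, h, tm_zero_right, zero_comp]
  rw [hg, tm_zero_left, comp_zero, comp_zero]

/-! ### Sums of copies of the unit -/

/-- A splitting of an object as a finite sum of copies of the unit. -/
structure Cells (O X : C) (k : ℕ) where
  /-- inclusions -/
  i : Fin k → (O ⟶ X)
  /-- projections -/
  p : Fin k → (X ⟶ O)
  ip : ∀ a b, i a ≫ p b = if a = b then 𝟙 O else 0
  total : ∑ a, p a ≫ i a = 𝟙 X

variable {X X' : C} {k : ℕ} (c : Cells O X k) (c' : Cells O X' k)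

/-- The evaluation. -/
noncomputable def evc (A : C) : (T.obj ((T.obj A).obj X')).obj X ⟶ A :=
  ∑ a, ev1 T ρ (c'.p a) (c.p a) A

/-- The coevaluation. -/
noncomputable def coc (A : C) : A ⟶ (T.obj ((T.obj A).obj X)).obj X' :=
  ∑ a, co1 T ρ (c.i a) (c'.i a) A

theorem evc_natural {A B : C} (h : A ⟶ B) :
    tm T (tm T h (𝟙 X')) (𝟙 X) ≫ evc T ρ c c' B = evc T ρ c c' A ≫ h := by
  simp only [evc, Preadditive.comp_sum, Preadditive.sum_comp, ev1_natural]

theorem coc_natural {A B : C} (h : A ⟶ B) :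
    coc T ρ c c' A ≫ tm T (tm T h (𝟙 X)) (𝟙 X') = h ≫ coc T ρ c c' B := by
  simp only [coc, Preadditive.comp_sum, Preadditive.sum_comp, co1_natural]

theorem zig (A : C) :
    tm T (coc T ρ c c' A) (𝟙 X) ≫ evc T ρ c c' ((T.obj A).obj X) = 𝟙 _ := by
  simp only [coc, evc, tm_sum_left, Preadditive.sum_comp, Preadditive.comp_sum]
  have : ∀ a, ∑ b, tm T (co1 T ρ (c.i b) (c'.i b) A) (𝟙 X) ≫ ev1 T ρ (c'.p a) (c.p a) ((T.obj A).obj X) =
      tm T (𝟙 A) (c.p a ≫ c.i a) := fun a => by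
    rw [Finset.sum_eq_single a (fun b _ hb => zig_ne T ρ _ _ _ _ (by rw [c'.ip, if_neg hb]) A)
      (fun h => absurd (Finset.mem_univ a) h), zig_self T ρ _ _ _ _ (by rw [c'.ip, if_pos rfl]) A]
  rw [Finset.sum_congr rfl fun a _ => this a, ← tm_sum_right, c.total, tm_id_left, CategoryTheory.Functor.map_id]

theorem zag (A : C) :
    coc T ρ c c' ((T.obj A).obj X') ≫ tm T (evc T ρ c c' A) (𝟙 X') = 𝟙 _ := by
  simp only [coc, evc, tm_sum_left, Preadditive.sum_comp, Preadditive.comp_sum]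
  have : ∀ a, ∑ b, co1 T ρ (c.i b) (c'.i b) ((T.obj A).obj X') ≫ tm T (ev1 T ρ (c'.p a) (c.p a) A) (𝟙 X') =
      tm T (𝟙 A) (c'.p a ≫ c'.i a) := fun a => by
    rw [Finset.sum_eq_single a (fun b _ hb => zag_ne T ρ _ _ _ _ (by rw [c.ip, if_neg hb]) A)
      (fun h => absurd (Finset.mem_univ a) h), zag_self T ρ _ _ _ _ (by rw [c.ip, if_pos rfl]) A]
  rw [Finset.sum_congr rfl fun a _ => this a, ← tm_sum_right, c'.total, tm_id_left, CategoryTheory.Functor.map_id]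

/-- Adjointness of maps between sums of copies of the unit, for the evaluation. -/
theorem evc_transpose {Y Y' : C} {l : ℕ} (e : Cells O Y l) (e' : Cells O Y' l) (g : X ⟶ Y) (g' : Y' ⟶ X')
    (a a' : ℤ) (h : ∀ i j, a • (e'.i j ≫ g' ≫ c'.p i) = a' • (c.i i ≫ g ≫ e.p j)) (A : C) :
    a • (tm T (tm T (𝟙 A) g') (𝟙 X) ≫ evc T ρ c c' A) =
      a' • (tm T (𝟙 ((T.obj A).obj Y')) g ≫ evc T ρ e e' A) := by
  have hL : tm T (tm T (𝟙 A) g') (𝟙 X) ≫ evc T ρ c c' A =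
      ∑ j, ∑ i, ev1 T ρ (e'.p j) (c.p i ≫ e'.i j ≫ g' ≫ c'.p i) A := by
    simp only [evc, Preadditive.comp_sum, comp_ev1, Category.id_comp]
    rw [Finset.sum_comm]
    refine Finset.sum_congr rfl fun i _ => ?_
    have hs : g' ≫ c'.p i = ∑ j, e'.p j ≫ (e'.i j ≫ g' ≫ c'.p i) := by
      simp only [← Category.assoc (e'.p _), ← Preadditive.sum_comp, e'.total, Category.id_comp]
    conv_lhs => rw [hs]
    rw [ev1_sum_left]
    exact Finset.sum_congr rfl fun j _ => ev1_scalar T ρ _ _ _ A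
  have hR : tm T (𝟙 ((T.obj A).obj Y')) g ≫ evc T ρ e e' A =
      ∑ j, ∑ i, ev1 T ρ (e'.p j) (c.p i ≫ c.i i ≫ g ≫ e.p j) A := by
    have : tm T (𝟙 ((T.obj A).obj Y')) g = tm T (tm T (𝟙 A) (𝟙 Y')) g := by
      simp only [tm_id_left, CategoryTheory.Functor.map_id]
    rw [this]
    simp only [evc, Preadditive.comp_sum, comp_ev1, Category.id_comp]
    refine Finset.sum_congr rfl fun j _ => ?_
    rw [← ev1_sum_right]
    refine congrArg (fun t => ev1 T ρ (e'.p j) t A) ?_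
    simp only [← Category.assoc (c.p _), ← Preadditive.sum_comp, c.total, Category.id_comp]
  rw [hL, hR]
  simp only [Finset.smul_sum]
  refine Finset.sum_congr rfl fun j _ => Finset.sum_congr rfl fun i _ => ?_
  rw [ev1_zsmul, ev1_zsmul]
  exact congrArg (fun t => ev1 T ρ (e'.p j) t A) (((Preadditive.comp_zsmul ..).symm.trans
    (congrArg (c.p i ≫ ·) (h i j))).trans (Preadditive.comp_zsmul ..))

/-- Adjointness of maps between sums of copies of the unit, for the coevaluation. -/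
theorem coc_transpose {Y Y' : C} {l : ℕ} (e : Cells O Y l) (e' : Cells O Y' l) (g : X ⟶ Y) (g' : Y' ⟶ X')
    (a a' : ℤ) (h : ∀ i j, a • (e'.i j ≫ g' ≫ c'.p i) = a' • (c.i i ≫ g ≫ e.p j)) (A : C) :
    a' • (coc T ρ c c' A ≫ tm T (tm T (𝟙 A) g) (𝟙 X')) =
      a • (coc T ρ e e' A ≫ tm T (𝟙 ((T.obj A).obj Y)) g') := by
  have hL : coc T ρ c c' A ≫ tm T (tm T (𝟙 A) g) (𝟙 X') =
      ∑ i, ∑ j, co1 T ρ (e.i j) ((c.i i ≫ g ≫ e.p j) ≫ c'.i i) A := by
    simp only [coc, Preadditive.sum_comp, co1_comp, Category.comp_id]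
    refine Finset.sum_congr rfl fun i _ => ?_
    have hs : c.i i ≫ g = ∑ j, (c.i i ≫ g ≫ e.p j) ≫ e.i j := by
      simp only [Category.assoc, ← Preadditive.comp_sum, e.total, Category.comp_id]
    conv_lhs => rw [hs]
    rw [co1_sum_left]
    exact Finset.sum_congr rfl fun j _ => co1_scalar T ρ _ _ _ A
  have hR : coc T ρ e e' A ≫ tm T (𝟙 ((T.obj A).obj Y)) g' =
      ∑ i, ∑ j, co1 T ρ (e.i j) ((e'.i j ≫ g' ≫ c'.p i) ≫ c'.i i) A := by
    have : tm T (𝟙 ((T.obj A).obj Y)) g' = tm T (tm T (𝟙 A) (𝟙 Y)) g' := by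
      simp only [tm_id_left, CategoryTheory.Functor.map_id]
    rw [this]
    simp only [coc, Preadditive.sum_comp, co1_comp, Category.comp_id]
    rw [Finset.sum_comm]
    refine Finset.sum_congr rfl fun j _ => ?_
    rw [← co1_sum_right]
    refine congrArg (fun t => co1 T ρ (e.i j) t A) ?_
    simp only [Category.assoc, ← Preadditive.comp_sum, c'.total, Category.comp_id]
  rw [hL, hR]
  simp only [Finset.smul_sum]
  refine Finset.sum_congr rfl fun i _ => Finset.sum_congr rfl fun j _ => ?_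
  rw [co1_zsmul, co1_zsmul]
  exact congrArg (fun t => co1 T ρ (e.i j) t A) (((Preadditive.zsmul_comp ..).symm.trans
    (congrArg (· ≫ c'.i i) (h i j).symm)).trans (Preadditive.zsmul_comp ..))

end Groth.Agent.KFlat.DualCells
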