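import Groth.Agent.KFlat.ProjFormula
import Groth.Agent.KFlat.Single
import Groth.Agent.KFlat.StrictDual

/-!
# The structure sheaf is a right unit for complexes
-/

set_option autoImplicit false

universe u

open CategoryTheory CategoryTheory.Limits AlgebraicGeometry

namespace Groth.Agent.KFlat.UnitCx

variable (X : Scheme.{u})

/-- The unit complex. -/
noncomputable abbrev oneCx : CochainComplex X.Modules ℤ :=
  (HomologicalComplex.single X.Modules (ComplexShape.up ℤ) 0).obj (Coh.structureModule X)

variable {X}

/-- `L ⊗ O ≅ L`. -/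
noncomputable def unitIsoApp (L : CochainComplex X.Modules ℤ) : (DCoh.tensorCx.obj L).obj (oneCx X) ≅ L :=
  HomologicalComplex.Hom.isoOfComponents
    (fun k => (totSingleIso (DCoh.tensorBi (X := X)) L 0 (Coh.structureModule X) k k (add_zero k)).symm ≪≫
      (ProjFormula.unitRight X).app (L.X k))
    fun i j hij => by
      obtain rfl : i + 1 = j := hij
      simp only [Iso.trans_hom, Iso.symm_hom, Iso.app_hom, Category.assoc]
      rw [Iso.inv_comp_eq]
      refine Eq.trans ?_ (Category.assoc _ _ _)
      rw [totSingleIso_hom_d (DCoh.tensorBi (X := X)) L 0 (Coh.structureModule X) i i (add_zero i),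
        Category.assoc, Iso.hom_inv_id_assoc]
      exact ((ProjFormula.unitRight X).hom.naturality (L.d i (i + 1))).symm

/-- `- ⊗ O ≅ 𝟭`. -/
noncomputable def unitNatIso : (DCoh.tensorCx (X := X)).flip.obj (oneCx X) ≅ 𝟭 _ :=
  NatIso.ofComponents unitIsoApp fun {L L'} φ => by
    refine HomologicalComplex.hom_ext _ _ fun k => ?_
    change (((DCoh.tensorCx (X := X)).map φ).app (oneCx X)).f k ≫ (unitIsoApp L').hom.f k =
      (unitIsoApp L).hom.f k ≫ φ.f k
    have h : (totSingleIso (DCoh.tensorBi (X := X)) L 0 (Coh.structureModule X) k k (add_zero k)).hom ≫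
        (((DCoh.tensorCx (X := X)).map φ).app (oneCx X)).f k =
        ((DCoh.tensorBi (X := X)).flip.obj (Coh.structureModule X)).map (φ.f k) ≫
          (totSingleIso (DCoh.tensorBi (X := X)) L' 0 (Coh.structureModule X) k k (add_zero k)).hom := by
      change (((DCoh.tensorBi (X := X)).obj (L.X k)).map _ ≫ totι _ L (oneCx X) k 0 k (add_zero k)) ≫
          (((tot (DCoh.tensorBi (X := X))).map φ).app (oneCx X)).f k =
        ((DCoh.tensorBi (X := X)).map (φ.f k)).app _ ≫
          ((DCoh.tensorBi (X := X)).obj (L'.X k)).map _ ≫ totι _ L' (oneCx X) k 0 k (add_zero k)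
      rw [Category.assoc, totι_map_left, ← Category.assoc, ← Category.assoc, NatTrans.naturality]
    simp only [unitIsoApp, HomologicalComplex.Hom.isoOfComponents_hom_f, Iso.trans_hom, Iso.symm_hom,
      Iso.app_hom]
    rw [← Category.assoc, ← Iso.eq_inv_comp] at *
    rw [h]
    simp only [Category.assoc, Iso.hom_inv_id_assoc]
    exact congrArg _ ((ProjFormula.unitRight X).hom.naturality (φ.f k))

end Groth.Agent.KFlat.UnitCx
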