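import Groth.Agent.KFlat.AssocMiddle
import Groth.Agent.KFlat.UnitCx
import Groth.Agent.KFlat.LTensorAssoc
import Groth.Agent.KFlat.Shift
import Groth.Agent.KFlat.Kflat2

/-!
# The map `M ⊗ᴸ D ⟶ RHom(K, M)` attached to a pairing
-/

set_option autoImplicit false

universe u

open CategoryTheory CategoryTheory.Limits AlgebraicGeometry
open Groth.Agent.KFlat.Pull Groth.Agent.KFlat.LTensor Groth.Agent.KFlat.UnitCx

attribute [local instance] HasDerivedCategory.standard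

namespace Groth.Agent.KFlat.DualMap

/-- Four commutative squares. -/
theorem chain₄ {C : Type*} [Category C] {a₀ a₁ a₂ a₃ a₄ b₀ b₁ b₂ b₃ b₄ : C} {x : a₀ ⟶ b₀} {y : a₁ ⟶ b₁}
    {z : a₂ ⟶ b₂} {w : a₃ ⟶ b₃} {v : a₄ ⟶ b₄} {p : a₀ ⟶ a₁} {p' : b₀ ⟶ b₁} {q : a₁ ⟶ a₂} {q' : b₁ ⟶ b₂}
    {r : a₂ ⟶ a₃} {r' : b₂ ⟶ b₃} {s : a₃ ⟶ a₄} {s' : b₃ ⟶ b₄} (h₁ : x ≫ p' = p ≫ y) (h₂ : y ≫ q' = q ≫ z)
    (h₃ : z ≫ r' = r ≫ w) (h₄ : w ≫ s' = s ≫ v) :
    x ≫ p' ≫ q' ≫ r' ≫ s' = (p ≫ q ≫ r ≫ s) ≫ v := by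
  simp only [Category.assoc]
  rw [← h₄, reassoc_of% h₁, reassoc_of% h₂, reassoc_of% h₃]

/-- Cancellation of the auxiliary isomorphisms in a composite. -/
theorem cancelEq {C : Type*} [Category C] (L F : C ⥤ C) {a₀ a₁ a₂ a₃ a₄ c₁ c₂ c₃ c₄ c₅ : C}
    (a : a₀ ⟶ a₁) (d : a₂ ≅ a₁) (b : L.obj a₁ ⟶ c₁) (al : c₁ ⟶ c₂) (d' : F.obj c₃ ≅ c₂)
    (t : a₃ ⟶ c₃) [IsIso t] (j : c₃ ⟶ a₄) (o : F.obj a₄ ⟶ c₄) (i : c₂ ⟶ c₄) (u : c₄ ⟶ c₅)
    (h : F.map j ≫ o = d'.hom ≫ i) :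
    L.map a ≫ b ≫ al ≫ i ≫ u =
      L.map (a ≫ d.inv) ≫ (L.map d.hom ≫ b ≫ al ≫ d'.inv ≫ F.map (inv t)) ≫ F.map (t ≫ j) ≫ o ≫ u := by
  simp only [Category.assoc, Functor.map_comp]
  rw [← L.map_comp_assoc d.inv, d.inv_hom_id, L.map_id, Category.id_comp, ← F.map_comp_assoc (inv t),
    IsIso.inv_hom_id, F.map_id, Category.id_comp, reassoc_of% h, d'.inv_hom_id_assoc]

/-- Two commutative squares. -/
theorem chain₂ {C : Type*} [Category C] {a₀ a₁ a₂ b₀ b₁ b₂ : C} {x : a₀ ⟶ b₀} {y : a₁ ⟶ b₁}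
    {z : a₂ ⟶ b₂} {p : a₀ ⟶ a₁} {p' : b₀ ⟶ b₁} {q : a₁ ⟶ a₂} {q' : b₁ ⟶ b₂} (h₁ : x ≫ p' = p ≫ y)
    (h₂ : y ≫ q' = q ≫ z) : x ≫ p' ≫ q' = (p ≫ q) ≫ z := by
  simp only [Category.assoc]
  rw [← h₂, reassoc_of% h₁]

variable {X : Scheme.{u}}

local notation "Q" => DerivedCategory.Q (C := X.Modules)
local notation "⊗c" => DCoh.tensorCx (X := X)

/-- A pairing `D ⊗ K ← T → O` with the left map a quasi-isomorphism. -/
structure Pairing (D K : CochainComplex X.Modules ℤ) where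
  /-- the roof -/
  T : CochainComplex X.Modules ℤ
  /-- the quasi-isomorphism -/
  s : T ⟶ (DCoh.tensorCx.obj D).obj K
  /-- the map to the unit -/
  g : T ⟶ oneCx X
  qis : QuasiIso s
  hT : DCoh.IsKFlat T
  hD : DCoh.IsKFlat D
  hK : DCoh.IsKFlat K

variable {D K : CochainComplex X.Modules ℤ} (π : Pairing D K) [DCoh.HasLTensorCx D] [DCoh.HasLTensorCx K]

omit [DCoh.HasLTensorCx D] [DCoh.HasLTensorCx K] in
theorem isIso_tens_s (M : CochainComplex X.Modules ℤ) :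
    IsIso ((Q).map (((⊗c).obj M).map π.s)) := by
  have : QuasiIso (((⊗c).obj M).map π.s) :=
    @Groth.Agent.KFlat.quasiIso_tens_map _ _ _ X.sheaf π.T _ π.s π.qis π.hT
      (Groth.Agent.KFlat.isKFlat_tensorCx π.hD π.hK) M
  infer_instance

/-- Derived tensor products with `D` and `K` as termwise ones. -/
noncomputable def κ (M : CochainComplex X.Modules ℤ) :
    (DCoh.LTensorCx K).obj ((DCoh.LTensorCx D).obj ((Q).obj M)) ⟶
      (Q).obj (((⊗c).obj (((⊗c).obj M).obj D)).obj K) :=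
  (DCoh.LTensorCx K).map ((toTensor D).app M) ≫ (toTensor K).app (((⊗c).obj M).obj D)

/-- The termwise pairing. -/
noncomputable def τ (M : CochainComplex X.Modules ℤ) :
    (Q).obj (((⊗c).obj (((⊗c).obj M).obj D)).obj K) ⟶ (Q).obj M :=
  (Q).map (Groth.Agent.KFlat.tensAssocIso X.sheaf M D K).hom ≫
    @inv _ _ _ _ ((Q).map (((⊗c).obj M).map π.s)) (isIso_tens_s π M) ≫
    (Q).map (((⊗c).obj M).map π.g) ≫ (Q).map (unitIsoApp M).hom

theorem τ_natural {M M' : CochainComplex X.Modules ℤ} (φ : M ⟶ M') :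
    (Q).map (((⊗c).map (((⊗c).map φ).app D)).app K) ≫ τ π M' = τ π M ≫ (Q).map φ := by
  have := isIso_tens_s π M
  have := isIso_tens_s π M'
  have h1 : (Q).map (((⊗c).map (((⊗c).map φ).app D)).app K) ≫
      (Q).map (Groth.Agent.KFlat.tensAssocIso X.sheaf M' D K).hom =
      (Q).map (Groth.Agent.KFlat.tensAssocIso X.sheaf M D K).hom ≫
        (Q).map (((⊗c).map φ).app (((⊗c).obj D).obj K)) :=
    ((Q).map_comp _ _).symm.trans ((congrArg (Q).map
      (Groth.Agent.KFlat.tensAssocIso_naturality (O := X.sheaf) φ D K)).trans ((Q).map_comp _ _))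
  have h2 : (Q).map (((⊗c).map φ).app (((⊗c).obj D).obj K)) ≫ inv ((Q).map (((⊗c).obj M').map π.s)) =
      inv ((Q).map (((⊗c).obj M).map π.s)) ≫ (Q).map (((⊗c).map φ).app π.T) := by
    rw [IsIso.eq_inv_comp, ← Category.assoc, IsIso.comp_inv_eq, ← Functor.map_comp, ← Functor.map_comp,
      ((⊗c).map φ).naturality]
  have h3 : (Q).map (((⊗c).map φ).app π.T) ≫ (Q).map (((⊗c).obj M').map π.g) =
      (Q).map (((⊗c).obj M).map π.g) ≫ (Q).map (((⊗c).map φ).app (oneCx X)) := by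
    rw [← Functor.map_comp, ← Functor.map_comp, ((⊗c).map φ).naturality]
  have h4 : (Q).map (((⊗c).map φ).app (oneCx X)) ≫ (Q).map (unitIsoApp M').hom =
      (Q).map (unitIsoApp M).hom ≫ (Q).map φ :=
    ((Q).map_comp _ _).symm.trans ((congrArg (Q).map (unitNatIso.hom.naturality φ)).trans ((Q).map_comp _ _))
  exact chain₄ h1 h2 h3 h4

/-- The pairing on the level of complexes. -/
noncomputable def βQ : (Q) ⋙ DCoh.LTensorCx D ⋙ DCoh.LTensorCx K ⟶ (Q) ⋙ 𝟭 _ where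
  app M := κ (D := D) (K := K) M ≫ τ π M
  naturality {M M'} φ := by
    have h1 : (DCoh.LTensorCx D).map ((Q).map φ) ≫ (toTensor D).app M' =
        (toTensor D).app M ≫ (Q).map (((⊗c).map φ).app D) := (toTensor D).naturality φ
    have h2 : (DCoh.LTensorCx K).map ((Q).map (((⊗c).map φ).app D)) ≫ (toTensor K).app (((⊗c).obj M').obj D) =
        (toTensor K).app (((⊗c).obj M).obj D) ≫ (Q).map (((⊗c).map (((⊗c).map φ).app D)).app K) :=
      (toTensor K).naturality (((⊗c).map φ).app D)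
    simp only [Functor.comp_map, Functor.id_map, κ, Category.assoc]
    rw [← Functor.map_comp_assoc, h1, Functor.map_comp_assoc, reassoc_of% h2]
    exact congrArg (fun t => _ ≫ _ ≫ t) (τ_natural π φ)

/-- The pairing. -/
noncomputable def β : DCoh.LTensorCx D ⋙ DCoh.LTensorCx K ⟶ 𝟭 (DCoh.D X) :=
  Localization.liftNatTrans (Q) (HomologicalComplex.quasiIso X.Modules (ComplexShape.up ℤ))
    ((Q) ⋙ DCoh.LTensorCx D ⋙ DCoh.LTensorCx K) ((Q) ⋙ 𝟭 _) _ _ (βQ π)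

theorem β_app (M : CochainComplex X.Modules ℤ) :
    (β π).app ((Q).obj M) = κ (D := D) (K := K) M ≫ τ π M := by
  refine (Localization.liftNatTrans_app ..).trans ?_
  erw [Category.id_comp, Category.comp_id]
  rfl

/-- The value of the pairing at the unit. -/
noncomputable def g₀ : (DCoh.LTensorCx K).obj ((Q).obj D) ⟶ (Q).obj (oneCx X) :=
  haveI := π.qis
  (toTensor K).app D ≫ inv ((Q).map π.s) ≫ (Q).map π.g

variable [DCoh.HasRSheafHom K]

/-- `M ⊗ᴸ D ⟶ RHom(K, M)`. -/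
noncomputable def θ : DCoh.LTensorCx D ⟶ DCoh.RSheafHom K where
  app M := (DCoh.RSheafHomAdj K).homEquiv _ _ ((β π).app M)
  naturality {M M'} φ := by
    refine ((DCoh.RSheafHomAdj K).homEquiv_naturality_left _ _).symm.trans
      (Eq.trans ?_ ((DCoh.RSheafHomAdj K).homEquiv_naturality_right _ _))
    exact congrArg _ ((β π).naturality φ)

theorem isIso_θ_app_iff (M : DCoh.D X) :
    IsIso ((θ π).app M) ↔ ∀ N : DCoh.D X, Function.Bijective
      fun x : N ⟶ (DCoh.LTensorCx D).obj M => (DCoh.LTensorCx K).map x ≫ (β π).app M := by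
  let adj := DCoh.RSheafHomAdj K
  have h : ∀ (N : DCoh.D X) (x : N ⟶ (DCoh.LTensorCx D).obj M),
      adj.homEquiv _ _ ((DCoh.LTensorCx K).map x ≫ (β π).app M) = x ≫ (θ π).app M := fun N x =>
    adj.homEquiv_naturality_left _ _
  constructor
  · intro _ N
    refine ((adj.homEquiv N M).bijective.of_comp_iff' _).1 ?_
    rw [show (adj.homEquiv N M ∘ fun x => (DCoh.LTensorCx K).map x ≫ (β π).app M) =
      fun x => x ≫ (θ π).app M from funext (h N)]
    exact ⟨fun a b hab => (cancel_mono ((θ π).app M)).1 hab,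
      fun y => ⟨y ≫ inv ((θ π).app M), by simp⟩⟩
  · intro hb
    have hc : ∀ N, Function.Bijective fun x : N ⟶ (DCoh.LTensorCx D).obj M => x ≫ (θ π).app M := fun N => by
      rw [show (fun x : N ⟶ (DCoh.LTensorCx D).obj M => x ≫ (θ π).app M) =
        adj.homEquiv N M ∘ fun x => (DCoh.LTensorCx K).map x ≫ (β π).app M from (funext (h N)).symm]
      exact (adj.homEquiv N M).bijective.comp (hb N)
    obtain ⟨v, hv⟩ := (hc _).2 (𝟙 _)
    refine ⟨v, (hc _).1 ?_, hv⟩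
    simp only [Category.assoc]
    rw [show v ≫ (θ π).app M = 𝟙 _ from hv, Category.comp_id, Category.id_comp]

/-- Universality of a pairing at the unit. -/
def Univ : Prop :=
  ∀ N : DCoh.D X, Function.Bijective
    fun y : N ⟶ (Q).obj D => (DCoh.LTensorCx K).map y ≫ g₀ π

section Invertible

variable (P : CochainComplex X.Modules ℤ) (hP : DCoh.IsKFlat P)

include hP in
omit [DCoh.HasLTensorCx D] [DCoh.HasLTensorCx K] [DCoh.HasRSheafHom K] in
theorem inverts : (HomologicalComplex.quasiIso X.Modules (ComplexShape.up ℤ)).IsInvertedBy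
    ((⊗c).obj P ⋙ (Q)) := fun A B f hf => by
  have : QuasiIso f := (HomologicalComplex.mem_quasiIso_iff _).1 hf
  have : QuasiIso (((⊗c).obj P).map f) := quasiIso_tensorCx_map_right (E := A) hP f
  exact inferInstanceAs (IsIso ((Q).map (((⊗c).obj P).map f)))

/-- `P ⊗ -` on the derived category. -/
noncomputable def Φ : DCoh.D X ⥤ DCoh.D X :=
  Localization.lift ((⊗c).obj P ⋙ (Q)) (inverts P hP) (Q)

/-- Its value on complexes. -/
noncomputable def ιΦ : (Q) ⋙ Φ P hP ≅ (⊗c).obj P ⋙ (Q) :=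
  Localization.fac _ (inverts P hP) (Q)

variable (hK : DCoh.IsKFlat K)

omit [DCoh.HasLTensorCx D] [DCoh.HasRSheafHom K] in
include hK in
/-- `(P ⊗ M) ⊗ K ≅ P ⊗ (M ⊗ K)` in the derived category. -/
noncomputable def eQApp (M : CochainComplex X.Modules ℤ) :
    (DCoh.LTensorCx K).obj ((Φ P hP).obj ((Q).obj M)) ≅ (Φ P hP).obj ((DCoh.LTensorCx K).obj ((Q).obj M)) :=
  haveI := isIso_toTensor_of_kflat K hK (((⊗c).obj P).obj M)
  haveI := isIso_toTensor_of_kflat K hK M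
  (DCoh.LTensorCx K).mapIso ((ιΦ P hP).app M) ≪≫
    asIso ((toTensor K).app (((⊗c).obj P).obj M)) ≪≫
    (Q).mapIso (Groth.Agent.KFlat.tensAssocIso X.sheaf P M K) ≪≫
    ((ιΦ P hP).app (((⊗c).obj M).obj K)).symm ≪≫ (Φ P hP).mapIso (asIso ((toTensor K).app M)).symm

set_option maxHeartbeats 1000000 in
omit [DCoh.HasLTensorCx D] [DCoh.HasRSheafHom K] in
include hK in
theorem eQApp_natural {M M' : CochainComplex X.Modules ℤ} (φ : M ⟶ M') :
    (DCoh.LTensorCx K).map ((Φ P hP).map ((Q).map φ)) ≫ (eQApp P hP hK M').hom =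
      (eQApp P hP hK M).hom ≫ (Φ P hP).map ((DCoh.LTensorCx K).map ((Q).map φ)) := by
  haveI := isIso_toTensor_of_kflat K hK M
  haveI := isIso_toTensor_of_kflat K hK M'
  have h1 : (Φ P hP).map ((Q).map φ) ≫ (ιΦ P hP).hom.app M' =
      (ιΦ P hP).hom.app M ≫ (Q).map (((⊗c).obj P).map φ) := (ιΦ P hP).hom.naturality φ
  have h2 : (DCoh.LTensorCx K).map ((Q).map (((⊗c).obj P).map φ)) ≫ (toTensor K).app (((⊗c).obj P).obj M') =
      (toTensor K).app (((⊗c).obj P).obj M) ≫ (Q).map (((⊗c).map (((⊗c).obj P).map φ)).app K) :=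
    (toTensor K).naturality (((⊗c).obj P).map φ)
  have h3 : (Q).map (((⊗c).map (((⊗c).obj P).map φ)).app K) ≫
      (Q).map (Groth.Agent.KFlat.tensAssocIso X.sheaf P M' K).hom =
      (Q).map (Groth.Agent.KFlat.tensAssocIso X.sheaf P M K).hom ≫
        (Q).map (((⊗c).obj P).map (((⊗c).map φ).app K)) :=
    ((Q).map_comp _ _).symm.trans ((congrArg (Q).map
      (Groth.Agent.KFlat.tensAssocIso_naturality₂ (O := X.sheaf) P φ K)).trans ((Q).map_comp _ _))
  have h4 : (Q).map (((⊗c).obj P).map (((⊗c).map φ).app K)) ≫ (ιΦ P hP).inv.app (((⊗c).obj M').obj K) =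
      (ιΦ P hP).inv.app (((⊗c).obj M).obj K) ≫ (Φ P hP).map ((Q).map (((⊗c).map φ).app K)) :=
    (ιΦ P hP).inv.naturality (((⊗c).map φ).app K)
  have h5 : (Q).map (((⊗c).map φ).app K) ≫ inv ((toTensor K).app M') =
      inv ((toTensor K).app M) ≫ (DCoh.LTensorCx K).map ((Q).map φ) := by
    rw [IsIso.eq_inv_comp, ← Category.assoc, IsIso.comp_inv_eq]
    exact ((toTensor K).naturality φ).symm
  have h6 : (Φ P hP).map ((Q).map (((⊗c).map φ).app K)) ≫ (Φ P hP).map (inv ((toTensor K).app M')) =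
      (Φ P hP).map (inv ((toTensor K).app M)) ≫ (Φ P hP).map ((DCoh.LTensorCx K).map ((Q).map φ)) :=
    ((Φ P hP).map_comp _ _).symm.trans ((congrArg (Φ P hP).map h5).trans ((Φ P hP).map_comp _ _))
  have h0 : (DCoh.LTensorCx K).map ((Φ P hP).map ((Q).map φ)) ≫ (DCoh.LTensorCx K).map ((ιΦ P hP).hom.app M') =
      (DCoh.LTensorCx K).map ((ιΦ P hP).hom.app M) ≫ (DCoh.LTensorCx K).map ((Q).map (((⊗c).obj P).map φ)) :=
    ((DCoh.LTensorCx K).map_comp _ _).symm.trans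
      ((congrArg (DCoh.LTensorCx K).map h1).trans ((DCoh.LTensorCx K).map_comp _ _))
  exact chain₂ h0 (((chain₄ h2 h3 h4 h6)).trans rfl)

omit [DCoh.HasLTensorCx D] [DCoh.HasRSheafHom K] in
include hK in
/-- `(P ⊗ -) ⊗ K ≅ P ⊗ (- ⊗ K)` on complexes. -/
noncomputable def eQ : (Q) ⋙ Φ P hP ⋙ DCoh.LTensorCx K ≅ (Q) ⋙ DCoh.LTensorCx K ⋙ Φ P hP :=
  NatIso.ofComponents (eQApp P hP hK) (eQApp_natural P hP hK)

include hK in
omit [DCoh.HasLTensorCx D] [DCoh.HasRSheafHom K] in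
/-- `(P ⊗ -) ⊗ K ≅ P ⊗ (- ⊗ K)`. -/
noncomputable def e : Φ P hP ⋙ DCoh.LTensorCx K ≅ DCoh.LTensorCx K ⋙ Φ P hP :=
  Localization.liftNatIso (Q) (HomologicalComplex.quasiIso X.Modules (ComplexShape.up ℤ))
    ((Q) ⋙ Φ P hP ⋙ DCoh.LTensorCx K) ((Q) ⋙ DCoh.LTensorCx K ⋙ Φ P hP) _ _ (eQ P hP hK)

omit [DCoh.HasLTensorCx D] [DCoh.HasRSheafHom K] in
theorem e_app (M : CochainComplex X.Modules ℤ) :
    (e P hP hK).hom.app ((Q).obj M) = (eQ P hP hK).hom.app M := by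
  simp only [e, Localization.liftNatIso_hom, Localization.liftNatTrans_app]
  erw [Category.id_comp, Category.comp_id]

set_option maxHeartbeats 2000000 in
include hP in
/-- A universal pairing is universal at every invertible object. -/
theorem isIso_θ_of_univ (hu : Univ π) [(Φ P hP).IsEquivalence] : IsIso ((θ π).app ((Q).obj P)) := by
  rw [isIso_θ_app_iff]
  intro N
  have := isIso_toTensor D hP
  have := π.qis
  have := isIso_tens_s π P
  have := isIso_toTensor_of_kflat K π.hK D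
  let F := Φ P hP
  let χ : (DCoh.LTensorCx D).obj ((Q).obj P) ≅ F.obj ((Q).obj D) :=
    asIso ((toTensor D).app P) ≪≫ ((ιΦ P hP).app D).symm
  let c : F.obj ((Q).obj (oneCx X)) ≅ (Q).obj P := (ιΦ P hP).app _ ≪≫ (Q).mapIso (unitIsoApp P)
  have hι : F.map (inv ((Q).map π.s) ≫ (Q).map π.g) ≫ (ιΦ P hP).hom.app (oneCx X) =
      (ιΦ P hP).hom.app (((⊗c).obj D).obj K) ≫ inv ((Q).map (((⊗c).obj P).map π.s)) ≫
        (Q).map (((⊗c).obj P).map π.g) := by
    have hg : F.map ((Q).map π.g) ≫ (ιΦ P hP).hom.app (oneCx X) =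
        (ιΦ P hP).hom.app π.T ≫ (Q).map (((⊗c).obj P).map π.g) := (ιΦ P hP).hom.naturality π.g
    have hs : F.map ((Q).map π.s) ≫ (ιΦ P hP).hom.app (((⊗c).obj D).obj K) =
        (ιΦ P hP).hom.app π.T ≫ (Q).map (((⊗c).obj P).map π.s) := (ιΦ P hP).hom.naturality π.s
    rw [Functor.map_comp, Category.assoc, hg, Functor.map_inv, IsIso.inv_comp_eq, reassoc_of% hs,
      IsIso.hom_inv_id_assoc]
  have key : (β π).app ((Q).obj P) =
      (DCoh.LTensorCx K).map χ.hom ≫ (e P hP π.hK).hom.app ((Q).obj D) ≫ F.map (g₀ π) ≫ c.hom := by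
    refine (β_app π P).trans ?_
    refine Eq.trans ?_ (congrArg (fun t => (DCoh.LTensorCx K).map χ.hom ≫ t ≫ F.map (g₀ π) ≫ c.hom)
      (e_app P hP π.hK D)).symm
    refine Eq.trans ?_ (cancelEq (DCoh.LTensorCx K) F ((toTensor D).app P) ((ιΦ P hP).app D)
      ((toTensor K).app (((⊗c).obj P).obj D)) ((Q).map (Groth.Agent.KFlat.tensAssocIso X.sheaf P D K).hom)
      ((ιΦ P hP).app (((⊗c).obj D).obj K)) ((toTensor K).app D) (inv ((Q).map π.s) ≫ (Q).map π.g)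
      ((ιΦ P hP).hom.app (oneCx X)) (@inv _ _ _ _ ((Q).map (((⊗c).obj P).map π.s)) (isIso_tens_s π P) ≫ (Q).map (((⊗c).obj P).map π.g))
      ((Q).map (unitIsoApp P).hom) hι)
    simp only [κ, τ, Category.assoc]
  let N' := F.objPreimage N
  let v : F.obj N' ≅ N := F.objObjPreimageIso N
  let w : (DCoh.LTensorCx K).obj N ≅ F.obj ((DCoh.LTensorCx K).obj N') :=
    (DCoh.LTensorCx K).mapIso v.symm ≪≫ (e P hP π.hK).app N'
  have hw : ∀ y : N' ⟶ (Q).obj D,
      (DCoh.LTensorCx K).map (v.inv ≫ F.map y ≫ χ.inv) ≫ (β π).app ((Q).obj P) =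
        w.hom ≫ F.map ((DCoh.LTensorCx K).map y ≫ g₀ π) ≫ c.hom := fun y => by
    have hn : (DCoh.LTensorCx K).map (F.map y) ≫ (e P hP π.hK).hom.app ((Q).obj D) =
        (e P hP π.hK).hom.app N' ≫ F.map ((DCoh.LTensorCx K).map y) := (e P hP π.hK).hom.naturality y
    rw [key]
    simp only [w, Iso.trans_hom, Functor.mapIso_hom, Iso.symm_hom, Iso.app_hom, Functor.map_comp,
      Category.assoc]
    rw [← Functor.map_comp_assoc (DCoh.LTensorCx K) χ.inv, Iso.inv_hom_id, CategoryTheory.Functor.map_id,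
      Category.id_comp, reassoc_of% hn]
  constructor
  · intro a b hab
    obtain ⟨ya, hya⟩ := F.map_surjective (v.hom ≫ a ≫ χ.hom)
    obtain ⟨yb, hyb⟩ := F.map_surjective (v.hom ≫ b ≫ χ.hom)
    have ea : a = v.inv ≫ F.map ya ≫ χ.inv := by simp [hya]
    have eb : b = v.inv ≫ F.map yb ≫ χ.inv := by simp [hyb]
    have h := hab
    simp only [ea, eb] at h
    rw [hw, hw, cancel_epi, cancel_mono] at h
    rw [ea, eb, (hu N').1 (F.map_injective h)]
  · intro z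
    obtain ⟨z', hz'⟩ := F.map_surjective (w.inv ≫ z ≫ c.inv)
    obtain ⟨y, hy⟩ := (hu N').2 z'
    refine ⟨v.inv ≫ F.map y ≫ χ.inv, ?_⟩
    change (DCoh.LTensorCx K).map _ ≫ _ = z
    simp only at hy
    refine (hw y).trans ?_
    rw [show (DCoh.LTensorCx K).map y ≫ g₀ π = z' from hy, hz']
    simp only [Category.assoc, Iso.hom_inv_id_assoc]
    exact (congrArg (z ≫ ·) c.inv_hom_id).trans (Category.comp_id z)

end Invertible

end Groth.Agent.KFlat.DualMap
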