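import Groth.Agent.KFlat.Resolution
import Groth.Agent.KFlat.Shift

/-!
# Factorisations of maps through K-flat complexes, and short exact sequences with flat quotient
-/

set_option autoImplicit false

universe u

open CategoryTheory CategoryTheory.Limits Opposite CochainComplex

namespace Groth.Agent.KFlat

section Abelian

variable {A : Type*} [Category A] [Abelian A] {P K R L : CochainComplex A ℤ}

/-- The comparison map of mapping cones forgetting the second summand. -/
noncomputable def factorProj (π : P ⟶ K) (g : P ⟶ R) :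
    mappingCone (biprod.lift π g) ⟶ mappingCone π :=
  mappingCone.map _ _ (𝟙 P) biprod.fst (by simp)

/-- The short complex second summand, cone, cone. -/
noncomputable abbrev factorSeq (π : P ⟶ K) (g : P ⟶ R) : ShortComplex (CochainComplex A ℤ) :=
  ShortComplex.mk ((biprod.inr : R ⟶ K ⊞ R) ≫ mappingCone.inr (biprod.lift π g)) (factorProj π g)
    (by simp [factorProj, mappingCone.map])

theorem biprod_total_f (n : ℤ) :
    (biprod.fst : K ⊞ R ⟶ K).f n ≫ (biprod.inl : K ⟶ K ⊞ R).f n +
      (biprod.snd : K ⊞ R ⟶ R).f n ≫ (biprod.inr : R ⟶ K ⊞ R).f n = 𝟙 _ := by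
  rw [← HomologicalComplex.comp_f, ← HomologicalComplex.comp_f, ← HomologicalComplex.add_f_apply,
    biprod.total, HomologicalComplex.id_f]

theorem factor_f_r (π : P ⟶ K) (g : P ⟶ R) (n : ℤ) :
    ((biprod.inr : R ⟶ K ⊞ R) ≫ mappingCone.inr (biprod.lift π g)).f n ≫
      (mappingCone.snd (biprod.lift π g)).v n n (add_zero n) ≫ (biprod.snd : K ⊞ R ⟶ R).f n =
    𝟙 (R.X n) := by
  rw [HomologicalComplex.comp_f, Category.assoc, mappingCone.inr_f_snd_v_assoc, ← HomologicalComplex.comp_f,
    biprod.inr_snd, HomologicalComplex.id_f]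

theorem factor_s_g (π : P ⟶ K) (g : P ⟶ R) (n : ℤ) :
    ((mappingCone.fst π).1.v n (n + 1) rfl ≫
        (mappingCone.inl (biprod.lift π g)).v (n + 1) n (by omega) +
      (mappingCone.snd π).v n n (add_zero n) ≫ (biprod.inl : K ⟶ K ⊞ R).f n ≫
        (mappingCone.inr (biprod.lift π g)).f n) ≫ (factorProj π g).f n =
    𝟙 ((mappingCone π).X n) := by
  rw [mappingCone.ext_from_iff π (n + 1) n rfl]
  constructor <;> simp [factorProj, mappingCone.map, ← HomologicalComplex.comp_f,
    ← HomologicalComplex.comp_f_assoc]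

theorem factor_id (π : P ⟶ K) (g : P ⟶ R) (n : ℤ) :
    ((mappingCone.snd (biprod.lift π g)).v n n (add_zero n) ≫ (biprod.snd : K ⊞ R ⟶ R).f n) ≫
        ((biprod.inr : R ⟶ K ⊞ R) ≫ mappingCone.inr (biprod.lift π g)).f n +
      (factorProj π g).f n ≫ ((mappingCone.fst π).1.v n (n + 1) rfl ≫
        (mappingCone.inl (biprod.lift π g)).v (n + 1) n (by omega) +
      (mappingCone.snd π).v n n (add_zero n) ≫ (biprod.inl : K ⟶ K ⊞ R).f n ≫
        (mappingCone.inr (biprod.lift π g)).f n) = 𝟙 ((mappingCone (biprod.lift π g)).X n) := by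
  rw [mappingCone.ext_from_iff (biprod.lift π g) (n + 1) n rfl]
  constructor
  · simp [factorProj, mappingCone.map]
  · have h := congrArg (· ≫ (mappingCone.inr (biprod.lift π g)).f n) (biprod_total_f (K := K) (R := R) n)
    simp only [Preadditive.add_comp, Category.assoc, Category.id_comp] at h
    simpa [factorProj, mappingCone.map, add_comm] using h

/-- `factorSeq` is degreewise split. -/
noncomputable def factorSplitting (π : P ⟶ K) (g : P ⟶ R) (n : ℤ) :
    ((factorSeq π g).map (HomologicalComplex.eval A (ComplexShape.up ℤ) n)).Splitting where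
  r := (mappingCone.snd (biprod.lift π g)).v n n (add_zero n) ≫ (biprod.snd : K ⊞ R ⟶ R).f n
  s := (mappingCone.fst π).1.v n (n + 1) rfl ≫
      (mappingCone.inl (biprod.lift π g)).v (n + 1) n (by omega) +
    (mappingCone.snd π).v n n (add_zero n) ≫ (biprod.inl : K ⟶ K ⊞ R).f n ≫
      (mappingCone.inr (biprod.lift π g)).f n
  f_r := factor_f_r π g n
  s_g := factor_s_g π g n
  id := factor_id π g n

/-- The map out of the cone. -/
noncomputable def factorDesc (π : P ⟶ K) (g : P ⟶ R) (a : K ⟶ L) (ρ : R ⟶ L)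
    (w : π ≫ a + g ≫ ρ = 0) : mappingCone (biprod.lift π g) ⟶ L :=
  mappingCone.desc _ 0 (biprod.desc a ρ) (by
    have : biprod.lift π g ≫ biprod.desc a ρ = 0 := by simpa using w
    simp [this])

theorem inr_factorDesc (π : P ⟶ K) (g : P ⟶ R) (a : K ⟶ L) (ρ : R ⟶ L) (w : π ≫ a + g ≫ ρ = 0) :
    (biprod.inl ≫ mappingCone.inr (biprod.lift π g)) ≫ factorDesc π g a ρ w = a := by
  simp [factorDesc]

theorem quasiIso_factorDesc (π : P ⟶ K) (g : P ⟶ R) (a : K ⟶ L) (ρ : R ⟶ L)
    (w : π ≫ a + g ≫ ρ = 0) [QuasiIso π] [QuasiIso ρ] : QuasiIso (factorDesc π g a ρ w) := by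
  have hS : (factorSeq π g).ShortExact := shortExact_of_splitting _ (factorSplitting π g)
  have h₁ : QuasiIso (factorSeq π g).f :=
    quasiIso_f_of_acyclic hS (acyclic_mappingCone_of_quasiIso π)
  have h₂ : QuasiIso ((factorSeq π g).f ≫ factorDesc π g a ρ w) := by
    have : (factorSeq π g).f ≫ factorDesc π g a ρ w = ρ := by simp [factorDesc]
    rw [this]
    infer_instance
  exact quasiIso_of_comp_left _ _ (hφ := h₁) (hφφ' := h₂)

end Abelian

end Groth.Agent.KFlat
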