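import Groth.Agent.KFlat.FlatProperModel
import Groth.Agent.KFlat.RpushTensor
import Groth.Agent.PerfExt.Classical
import Groth.Agent.PerfExt.Gen
import Groth.Agent.CohBase.TorBC.Induction
import Groth.Agent.UnitsThick.PushO
import Groth.Agent.DRing.PointHom.DualNbhd
import Groth.Agent.PCohD.Summand
import Groth.Agent.PCohD.PerfTor
import Groth.Agent.S0912
import Groth.Agent.S1061
import Groth.Agent.S0921

/-!
# `Rf_*` of perfect objects along flat proper morphisms of finite presentation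
-/

set_option autoImplicit false

universe u

open CategoryTheory CategoryTheory.Limits AlgebraicGeometry Pretriangulated DerivedCategory
open Groth.Agent.PerfTri Groth.Agent.CohDerLib Groth.Agent.CohBase
open scoped ZeroObject

attribute [local instance] HasDerivedCategory.standard
attribute [-instance] CategoryTheory.ReflQuiver.toQuiver

noncomputable section

namespace Groth.Agent.KFlat.FlatProper

variable {X S : Scheme.{u}}

/-- perfect objects are closed under retracts -/
theorem isPerfect_of_retract {K L : DCoh.D X} (i : K ⟶ L) (r : L ⟶ K) (hir : i ≫ r = 𝟙 K)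
    (h : DCoh.IsPerfect L) : DCoh.IsPerfect K := by
  obtain ⟨K', s, δ, hs⟩ := distinguished_cocone_triangle₁ r
  have : IsSplitEpi r := IsSplitEpi.mk' ⟨i, hir⟩
  have hδ : δ = 0 := (cancel_epi r).1 (((comp_distTriang_mor_zero₂₃ _ hs) : r ≫ δ = 0).trans comp_zero.symm)
  have := HasBinaryBiproducts.of_hasBinaryProducts (C := DCoh.D X)
  obtain ⟨e, -, -⟩ := exists_iso_binaryBiproduct_of_distTriang _ hs hδ
  have h' : DCoh.IsPerfect (K' ⊞ K) := Perfect.isPerfect_of_iso e h
  refine PCohD.PerfTor.isPerfect_of_local fun x => ?_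
  obtain ⟨U, j, hj, hx, E, hE, ⟨e'⟩⟩ := (Perfect.near_iff _).mp h' x
  obtain ⟨a, b, hab, hfl⟩ := PCohD.PerfTor.exists_flatAmp hE e'.symm
  refine ⟨U, j, hj, hx, PCohD.PerfTor.isPerfect_of_flatAmp
    ((Groth.Agent.S0912.result _ a b hab fun G => LTensorMod.hasLTensorMod G).mp
      (SchemeTor.torAmp_of_retract ((DCoh.restrictD j).map biprod.inr) ((DCoh.restrictD j).map biprod.snd)
        (by rw [← Functor.map_comp, biprod.inr_snd, CategoryTheory.Functor.map_id])
        (SchemeTor.torAmp_of_flatAmp hfl)))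
    (PCohD.pc_restrict j (PCohD.pc_biprod (PCohD.pc_of_perfect h' (a - 1))).2)⟩

/-- `Rf_*` is perfect -/
def PushPerf (f : X ⟶ S) [DCoh.HasRpush f] (P : DCoh.D X) : Prop := DCoh.IsPerfect ((DCoh.Rpush f).obj P)

theorem thickClosed_pushPerf (f : X ⟶ S) [DCoh.HasRpush f] : PerfExt.ThickClosed (PushPerf f) := by
  have h0 : ∀ K, IsZero K → PushPerf f K := fun K hK => Perfect.isPerfect_zero ((DCoh.Rpush f).map_isZero hK)
  have h3 : ∀ T : Triangle (DCoh.D X), T ∈ distinguishedTriangles → PushPerf f T.obj₁ → PushPerf f T.obj₂ →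
      PushPerf f T.obj₃ := fun T hT h₁ h₂ => by
    obtain ⟨δ, hδ⟩ := RPushTriangle.distinguished_Rpush f T hT
    exact Perfect.isPerfect₃ _ hδ h₁ h₂
  have hiso : ∀ {K L : DCoh.D X}, (K ≅ L) → PushPerf f K → PushPerf f L :=
    fun e h => Perfect.isPerfect_of_iso ((DCoh.Rpush f).mapIso e) h
  have hup : ∀ K, PushPerf f K ↔ PushPerf f (K⟦(1 : ℤ)⟧) := fun K => by
    have hT := rot_of_distTriang _ (contractible_distinguished K)
    obtain ⟨Z, g, h, hZ⟩ := distinguished_cocone_triangle (𝟙 K)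
    have hz : IsZero Z := (Triangle.isZero₃_iff_isIso₁ _ hZ).2 (inferInstanceAs (IsIso (𝟙 K)))
    have hR := rot_of_distTriang _ hZ
    refine ⟨fun hK => h3 _ hR hK (h0 Z hz), fun hK => ?_⟩
    obtain ⟨δ, hδ⟩ := RPushTriangle.distinguished_Rpush f _ hR
    exact Perfect.isPerfect₁ _ hδ (h0 Z hz) hK
  refine ⟨h0, hiso, fun K n => ?_, h3, fun i r hir h => isPerfect_of_retract ((DCoh.Rpush f).map i)
    ((DCoh.Rpush f).map r) (by rw [← Functor.map_comp, hir, CategoryTheory.Functor.map_id]) h⟩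
  induction n using Int.induction_on generalizing K with
  | zero => exact hiso ((shiftFunctorZero (DCoh.D X) ℤ).app K).symm
  | succ n ih =>
    exact fun hK => hiso ((shiftFunctorAdd' (DCoh.D X) (n : ℤ) 1 _ rfl).app K).symm ((hup _).1 (ih K hK))
  | pred n ih =>
    exact fun hK => (hup _).2 (hiso ((shiftFunctorAdd' (DCoh.D X) (-(n : ℤ) - 1) 1 (-n) (by omega)).app K) (ih K hK))

/-- tensoring with the structure sheaf does nothing -/
theorem nonempty_LTensorMod_unit [DCoh.HasLTensorMod (Coh.structureModule X)] (E : DCoh.D X) :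
    Nonempty ((DCoh.LTensorMod (Coh.structureModule X)).obj E ≅ E) := by
  let F₀ := DerivedCategory.Q.objPreimage E
  let P := (Pull.resY X).obj F₀
  have hP : DCoh.IsKFlat P := Pull.isKFlat_resY F₀
  have := Pull.quasiIso_resYπ F₀
  let eP : DerivedCategory.Q.obj P ≅ E :=
    asIso (DerivedCategory.Q.map ((Pull.resYπ X).app F₀)) ≪≫ DerivedCategory.Q.objObjPreimageIso E
  exact ⟨(DCoh.LTensorMod _).mapIso eP.symm ≪≫ LTensorMod.ltensorModIso _ hP ≪≫
    DerivedCategory.Q.mapIso ((NatIso.mapHomologicalComplex DRing.PointHom.tensorUnitNatIso (ComplexShape.up ℤ) ≪≫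
        Functor.mapHomologicalComplexIdIso X.Modules (ComplexShape.up ℤ)).app P) ≪≫ eP⟩

theorem isPerfect_Rpush_noetherian [IsNoetherian S] (f : X ⟶ S) [IsProper f] [DCoh.HasRpush f]
    (hO : FlatMod.IsFlatOver f (Coh.structureModule X)) (P : DCoh.D X) (hP : DCoh.IsPerfect P) :
    DCoh.IsPerfect ((DCoh.Rpush f).obj P) := by
  have : IsLocallyNoetherian X := LocallyOfFiniteType.isLocallyNoetherian f
  have := LTensorMod.hasLTensorMod (Coh.structureModule X)
  obtain ⟨e⟩ := nonempty_LTensorMod_unit P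
  exact Perfect.isPerfect_of_iso ((DCoh.Rpush f).mapIso e)
    (Groth.Agent.S1061.result f P hP _ (ProperFin.isCoh_structureModule X) hO
      ⟨CohDev.isClosed_support (ProperFin.isCoh_structureModule X), inferInstance⟩)

theorem torSq_of_flat (f : X ⟶ S) [Flat f] {S' : Scheme.{u}} (g : S' ⟶ S) : TorBC.TorSq f g := by
  intro U hU U' _ hle C k _ ψ e
  refine TorBC.torInd_of_flat _ _ ?_
  have : Flat (Spec.map ψ ≫ hU.fromSpec) := by rw [e]; infer_instance
  have : Flat (Spec.map ψ) := MorphismProperty.of_postcomp @Flat (W' := @IsOpenImmersion) _ hU.fromSpec inferInstance this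
  exact (HasRingHomProperty.Spec_iff (P := @Flat)).1 this

/-- derived inverse images commute with shifts, on objects -/
theorem nonempty_Lpull_shift {X₀ : Scheme.{u}} (q : X ⟶ X₀) [DCoh.HasLpull q] (G : DCoh.D X₀) (n : ℤ) :
    Nonempty ((DCoh.Lpull q).obj (G⟦n⟧) ≅ ((DCoh.Lpull q).obj G)⟦n⟧) := by
  let F₀ := DerivedCategory.Q.objPreimage G
  let P := (Pull.resY X₀).obj F₀
  have hP : DCoh.IsKFlat P := Pull.isKFlat_resY F₀
  have := Pull.quasiIso_resYπ F₀
  let eP : DerivedCategory.Q.obj P ≅ G :=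
    asIso (DerivedCategory.Q.map ((Pull.resYπ X₀).app F₀)) ≪≫ DerivedCategory.Q.objObjPreimageIso G
  have hPn : DCoh.IsKFlat (P⟦n⟧) := KFlat.isKFlat_shift (O := X₀.sheaf) hP n
  exact ⟨(DCoh.Lpull q).mapIso ((shiftFunctor _ n).mapIso eP.symm ≪≫ ((DerivedCategory.Q).commShiftIso n).symm.app P) ≪≫
    @asIso _ _ _ _ ((Pull.toPull q).app (P⟦n⟧)) (Pull.isIso_toPull q hPn) ≪≫
    DerivedCategory.Q.mapIso (((Scheme.Modules.pullback q).mapHomologicalComplex (ComplexShape.up ℤ)).commShiftIso n |>.app P) ≪≫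
    ((DerivedCategory.Q).commShiftIso n).app _ ≪≫
    (shiftFunctor _ n).mapIso ((@asIso _ _ _ _ ((Pull.toPull q).app P) (Pull.isIso_toPull q hP)).symm ≪≫
      (DCoh.Lpull q).mapIso eP)⟩

/-- affine base change of a generator generates -/
theorem orth_Lpull {X₀ : Scheme.{u}} (q : X ⟶ X₀) [IsAffineHom q] [DCoh.HasRpush q] [DCoh.HasLpull q]
    (G : DCoh.D X₀) (hG : ∀ E : DCoh.D X₀, DCoh.IsQCohD E → (∀ (n : ℤ) (φ : G⟦n⟧ ⟶ E), φ = 0) → IsZero E)
    (E : DCoh.D X) (hE : DCoh.IsQCohD E) (h : ∀ (n : ℤ) (φ : ((DCoh.Lpull q).obj G)⟦n⟧ ⟶ E), φ = 0) :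
    IsZero E := by
  refine PCohD.isZero_of_rpush q E hE (hG _ (QC.isQCohD_Rpush q E hE) fun n φ => ?_)
  obtain ⟨e⟩ := nonempty_Lpull_shift q G n
  refine ((DerivedAdj.adj q).homEquiv _ _).symm.injective ((cancel_epi e.inv).1 ?_)
  exact (h n _).trans (h n _).symm

theorem isPerfect_Rpush_affine {A : Type u} [CommRing A] (u : X ⟶ Spec (CommRingCat.of A)) [IsProper u]
    [Flat u] [LocallyOfFinitePresentation u] [DCoh.HasRpush u] (P : DCoh.D X) (hP : DCoh.IsPerfect P) :
    DCoh.IsPerfect ((DCoh.Rpush u).obj P) := by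
  obtain ⟨A₀, X₀, u₀, q, hA₀, hu₀, H, hO⟩ := exists_flat_model u
  let g := Spec.map (CommRingCat.ofHom A₀.val.toRingHom)
  have : IsNoetherianRing A₀ := isNoetherianRing_of_fg hA₀
  have : IsNoetherianRing (CommRingCat.of A₀) := this
  have : Flat u₀ := Groth.Agent.UnitsThick.PushO.flat_of_isFlatOver_unit u₀ hO
  have : CompactSpace X₀ := QuasiCompact.compactSpace_of_compactSpace u₀
  have : QuasiSeparatedSpace X₀ := quasiSeparatedSpace_of_quasiSeparated u₀
  have : CompactSpace X := QuasiCompact.compactSpace_of_compactSpace u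
  have : QuasiSeparatedSpace X := quasiSeparatedSpace_of_quasiSeparated u
  have : IsAffineHom q := MorphismProperty.of_isPullback H.flip (inferInstanceAs (IsAffineHom g))
  have := RPush.hasRpush q
  have := RPush.hasRpush u₀
  have := Pull.hasLpull q
  have := Pull.hasLpull g
  obtain ⟨G, hG, -, hgen⟩ := PerfExt.hasGen X₀ ⊥ (by simp)
  have hbot : ∀ E : DCoh.D X₀, IsZero ((DCoh.restrictD (⊥ : X₀.Opens).ι).obj E) := fun E =>
    PerfExt.isZero_restrict_of_support ⊥ fun i x _ h => h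
  refine PerfExt.perfect_induction ((DCoh.Lpull q).obj G) (Groth.Agent.S0921.result q G hG)
    (orth_Lpull q G fun E hE h => hgen E hE (hbot E) h) (thickClosed_pushPerf u) ?_ P hP
  have := TorBC.isBC_of_torSq H (torSq_of_flat u₀ g) G (PerfExt.isQCohD_of_isPerfect hG)
  exact Perfect.isPerfect_of_iso (@asIso _ _ _ _ (TorBC.bc u₀ g q u H.w G) this)
    (Groth.Agent.S0921.result g _ (isPerfect_Rpush_noetherian u₀ hO G hG))

/-- `Rf_*` of a perfect object along a flat proper morphism of finite presentation is perfect -/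
theorem isPerfect_Rpush (f : X ⟶ S) [IsProper f] [Flat f] [LocallyOfFinitePresentation f] [DCoh.HasRpush f]
    (P : DCoh.D X) (hP : DCoh.IsPerfect P) : DCoh.IsPerfect ((DCoh.Rpush f).obj P) := by
  refine (Perfect.near_iff _).mpr fun s => ?_
  obtain ⟨V, hV, hs, -⟩ := exists_isAffineOpen_mem_and_subset (U := (⊤ : S.Opens)) (x := s) trivial
  let h := f ∣_ V
  let e := hV.isoSpec
  let u := h ≫ e.hom
  have : IsProper h := IsZariskiLocalAtTarget.restrict ‹_› V
  have := RPush.hasRpush h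
  have := RPush.hasRpush e.hom
  have := RPush.hasRpush u
  let P' := (DCoh.restrictD (f ⁻¹ᵁ V).ι).obj P
  have hu := isPerfect_Rpush_affine u P' (PerfExt.isPerfect_restrict _ hP)
  obtain ⟨adj⟩ := PerfExt.exists_adj e.hom
  have : (DCoh.restrictD e.hom).IsEquivalence := PerfExt.isEquivalence_restrictD e
  have := adj.isEquivalence_right_of_isEquivalence_left
  have h1 : DCoh.IsPerfect ((DCoh.Rpush h).obj P') := Perfect.isPerfect_of_iso
    ((DCoh.restrictD e.hom).mapIso ((RPush.rpushCompIso h e.hom).app P').symm ≪≫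
      asIso (adj.counit.app ((DCoh.Rpush h).obj P'))) (PerfExt.isPerfect_restrict e.hom hu)
  have h2 : DCoh.IsPerfect ((DCoh.restrictD V.ι).obj ((DCoh.Rpush f).obj P)) :=
    Perfect.isPerfect_of_iso ((RPushBase.restrictRpushIso f V).app P).symm h1
  obtain ⟨U, j, hj, hx, hsp⟩ := (Perfect.near_iff _).mp h2 ⟨s, hs⟩
  obtain ⟨y, hy⟩ := hx
  exact ⟨U, j ≫ V.ι, inferInstance, ⟨y, by simp [hy]⟩,
    Perfect.isSP_of_iso (Perfect.restrComp j V.ι (j ≫ V.ι) rfl _) hsp⟩

end Groth.Agent.KFlat.FlatProper
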