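import Groth.Agent.CBC.Stage
import Groth.Agent.IntProd70.Family

/-!
# A Noetherian model of a flat proper morphism of finite presentation
-/

set_option maxHeartbeats 400000

universe u

open CategoryTheory CategoryTheory.Limits Opposite TopologicalSpace AlgebraicGeometry Function

namespace Groth.Agent.KFlat.FlatProper

/-- a flat proper morphism of finite presentation comes from a Noetherian base -/
theorem exists_flat_model {A : Type u} [CommRing A] {X : Scheme.{u}} (u : X ⟶ Spec (CommRingCat.of A))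
    [IsProper u] [Flat u] [LocallyOfFinitePresentation u] :
    ∃ (A₀ : Subalgebra ℤ A) (X₀ : Scheme.{u}) (u₀ : X₀ ⟶ Spec (CommRingCat.of A₀)) (q : X ⟶ X₀),
      A₀.FG ∧ IsProper u₀ ∧ IsPullback q u u₀ (Spec.map (CommRingCat.ofHom A₀.val.toRingHom)) ∧
        FlatMod.IsFlatOver u₀ (Coh.structureModule X₀) := by
  classical
  let D := LimLib.fgDiagram ℤ A
  let c := LimLib.fgCone ℤ A
  have hc : IsLimit c := LimLib.isLimitFgCone ℤ A
  have : CompactSpace X := QuasiCompact.compactSpace_of_compactSpace u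
  have : QuasiSeparatedSpace X := quasiSeparatedSpace_of_quasiSeparated u
  obtain ⟨k, Xk, uk, g, h₁, h₂, h₃, sq⟩ := @LimLib.hasModel _ _ _ _ _ hc _ _ _ X u ‹LocallyOfFinitePresentation u› ‹_› ‹_›
  obtain ⟨m, φ, hm⟩ := LimLib.descends_isProper D c hc (fun _ _ _ => inferInstance)
    (fun _ => inferInstance) (fun _ => inferInstance) k Xk uk h₂ h₃ inferInstance X g u sq ‹_›
  obtain ⟨a₁, a₂, a₃, sqm⟩ := LimLib.HasModel.at_finer (c := c) (f := (u : X ⟶ c.pt)) h₁ h₂ h₃ sq φ
  let A₁ : Subalgebra ℤ A := Algebra.adjoin ℤ (m.unop : Set A)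
  have hA₁ : A₁.FG := ⟨m.unop, rfl⟩
  let u₁ : pullback uk (D.map φ) ⟶ Spec (CommRingCat.of A₁) := pullback.snd uk (D.map φ)
  haveI : IsProper u₁ := hm
  haveI : LocallyOfFinitePresentation u₁ := a₁
  let cm := LimLib.bcCone (D := D) (c := c) (i₀ := m) (g₀ := pullback.snd uk (D.map φ)) sqm
  obtain ⟨q₁, H₁⟩ : ∃ q₁ : X ⟶ pullback uk (D.map φ),
      IsPullback q₁ u u₁ (Spec.map (CommRingCat.ofHom A₁.val.toRingHom)) := ⟨_, sqm⟩
  haveI := ProjTwist.isQuasicoherent_structureModule (pullback uk (D.map φ))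
  have hfl₁ : FlatMod.IsFlatOver u
      ((Scheme.Modules.pullback q₁).obj (Coh.structureModule (pullback uk (D.map φ)))) := fun x =>
    (CBC.isFlatOverAt_congr_iso u (QCoh.pullbackUnitIso q₁) x).2 (IntProd70.isFlatOver_unit u x)
  obtain ⟨A₂, hA₂, hle, hfl₂⟩ := CBC.exists_flat_stage A₁ hA₁ u₁ u q₁ H₁
    (Coh.structureModule (pullback uk (D.map φ))) (IntProd70.isFP_unit _) hfl₁
  let T := Spec.map (CommRingCat.ofHom (CBC.incl hle))
  let q : X ⟶ pullback u₁ T :=
    pullback.lift q₁ (u ≫ Spec.map (CommRingCat.ofHom A₂.val.toRingHom)) (by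
      rw [H₁.w, Category.assoc, ← Spec.map_comp]
      rfl)
  refine ⟨A₂, _, pullback.snd u₁ T, q, hA₂, inferInstance, ?_,
    fun x => (CBC.isFlatOverAt_congr_iso _ (QCoh.pullbackUnitIso (pullback.fst u₁ T)) x).1 (hfl₂ x)⟩
  refine IsPullback.of_right (h₁₂ := pullback.fst u₁ T) (v₁₃ := u₁) (h₂₂ := T) ?_
    (pullback.lift_snd _ _ _) (IsPullback.of_hasPullback _ _)
  rw [pullback.lift_fst, ← Spec.map_comp]
  exact H₁

end Groth.Agent.KFlat.FlatProper
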