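import Groth.Agent.KFlat.DerivedLimit
import Mathlib.Algebra.Homology.HomotopyCategory.KProjective
import Mathlib.Algebra.Homology.DerivedCategory.KProjective

/-!
# Maps out of a projective object in the derived category, and detection of isomorphisms
-/

set_option autoImplicit false

universe w v u

open CategoryTheory Limits DerivedCategory
open Groth.Agent.KFlat.TruncHom

namespace Groth.Agent.KFlat.Generator

variable {A : Type u} [Category.{v} A] [Abelian A] [HasDerivedCategory.{w} A]

/-- Maps from a single projective object to a smaller object vanish. -/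
theorem eq_zero_of_isLE {P : A} [Projective P] (m : ℤ) (L : DerivedCategory A) (hL : L.IsLE (m - 1))
    (f : (singleFunctor A m).obj P ⟶ L) : f = 0 := by
  obtain ⟨C, _, ⟨e⟩⟩ := L.exists_iso_Q_obj_of_isLE (m - 1)
  let S : CochainComplex A ℤ := (HomologicalComplex.single A (ComplexShape.up ℤ) m).obj P
  have : ∀ n, Projective (S.X n) := fun n => by
    by_cases hn : n = m
    · subst hn
      exact Projective.of_iso (HomologicalComplex.singleObjXSelf (ComplexShape.up ℤ) n P).symm inferInstance
    · exact (HomologicalComplex.isZero_single_obj_X (ComplexShape.up ℤ) m P n hn).projective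
  have : S.IsKProjective := CochainComplex.isKProjective_of_projective S m
  let s := ((SingleFunctors.evaluation _ _ m).mapIso (singleFunctorsPostcompQIso A)).app P
  let f' : Qh.obj ((HomotopyCategory.quotient A _).obj S) ⟶ Qh.obj ((HomotopyCategory.quotient A _).obj C) :=
    (quotientCompQhIso A).hom.app _ ≫ s.inv ≫ f ≫ e.hom ≫ (quotientCompQhIso A).inv.app _
  obtain ⟨g, hg⟩ := (CochainComplex.IsKProjective.Qh_map_bijective S _).2 f'
  obtain ⟨g', rfl⟩ := (HomotopyCategory.quotient A (ComplexShape.up ℤ)).map_surjective g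
  have hg' : g' = 0 :=
    HomologicalComplex.from_single_hom_ext
      ((C.isZero_of_isStrictlyLE (m - 1) m (by lia)).eq_of_tgt _ _)
  have h0 : f' = 0 := by
    rw [← hg, hg', Functor.map_zero, Functor.map_zero]
  have h1 := zero_of_epi_comp ((quotientCompQhIso A).hom.app _) h0
  have h2 := zero_of_epi_comp s.inv h1
  have h3 := zero_of_comp_mono ((quotientCompQhIso A).inv.app _) ((Category.assoc _ _ _).trans h2)
  exact zero_of_comp_mono e.hom h3

/-- For `P` projective, `Hom(P[-m], K) = Hom(P, H^m K)`. -/
theorem Φ_bijective_of_projective (P : A) [Projective P] (m : ℤ) (K : DerivedCategory A) :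
    Function.Bijective (Φ P m K) := by
  constructor
  · rw [injective_iff_map_eq_zero]
    intro g hg
    let ι := (TStructure.t.truncLTι (m + 1)).app K
    let L := (TStructure.t.truncLT (m + 1)).obj K
    let g' := TStructure.t.liftTruncLT g m (m + 1) rfl
    have hg' : g' ≫ ι = g := TStructure.t.liftTruncLT_ι g m (m + 1) rfl
    have := isIso_H_truncLTι K (m + 1) m (by lia)
    have h0 : Φ P m L g' = 0 := zero_of_comp_mono ((homologyFunctor A m).map ι)
      ((Φ_comp P m g' ι).symm.trans ((congrArg (Φ P m K) hg').trans hg))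
    let L' := (TStructure.t.truncGE m).obj L
    have h1 : g' ≫ (TStructure.t.truncGEπ m).app L = 0 :=
      (Φ_bijective_of_isGE_self P m L' (inferInstanceAs (TStructure.t.IsGE ((TStructure.t.truncGE m).obj L) m))).1
        ((Φ_comp P m g' _).trans (((congrArg (· ≫ _) h0).trans zero_comp).trans (map_zero _).symm))
    obtain ⟨g'', hg''⟩ := Pretriangulated.Triangle.coyoneda_exact₂ _
      (TStructure.t.triangleLTGE_distinguished m L) g' h1
    have : g'' = 0 := eq_zero_of_isLE m _
      (inferInstanceAs (TStructure.t.IsLE ((TStructure.t.truncLT m).obj L) (m - 1))) g''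
    have hz : g' = 0 := hg''.trans ((congrArg (· ≫ _) this).trans zero_comp)
    exact hg'.symm.trans ((congrArg (· ≫ ι) hz).trans zero_comp)
  · intro v
    obtain ⟨Z, q, hq, hlift⟩ := Groth.Agent.KFlat.DerivedLimit.exists_epi_lifts K m
    obtain ⟨G, hG⟩ := hlift P (Projective.factorThru v q)
    exact ⟨G, hG.trans (Projective.factorThru_comp v q)⟩

/-- A projective separator detects isomorphisms through bijections on maps out of it. -/
theorem isIso_of_bijective (P : A) [Projective P]
    (hsep : ∀ {M N : A} (f : M ⟶ N), (∀ g : P ⟶ M, g ≫ f = 0) → f = 0) {M N : A} (f : M ⟶ N)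
    (h : Function.Bijective fun g : P ⟶ M => g ≫ f) : IsIso f := by
  have : Mono f := Preadditive.mono_of_cancel_zero _ fun k hk => hsep k fun g => by
    refine h.1 ?_
    simp [hk]
  have : Epi f := Preadditive.epi_of_cancel_zero _ fun k hk => hsep k fun g => by
    obtain ⟨g', rfl⟩ := h.2 g
    simp [hk]
  exact isIso_of_mono_of_epi f

/-- A morphism of the derived category inducing bijections on maps out of all shifts of a projective
separator is an isomorphism. -/
theorem isIso_of_bijective_single (P : A) [Projective P]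
    (hsep : ∀ {M N : A} (f : M ⟶ N), (∀ g : P ⟶ M, g ≫ f = 0) → f = 0) {K L : DerivedCategory A} (f : K ⟶ L)
    (h : ∀ m : ℤ, Function.Bijective fun g : (singleFunctor A m).obj P ⟶ K => g ≫ f) : IsIso f := by
  rw [DerivedCategory.isIso_iff]
  intro m
  refine isIso_of_bijective P hsep _ ⟨fun a b hab => ?_, fun c => ?_⟩
  · obtain ⟨a', rfl⟩ := (Φ_bijective_of_projective P m K).2 a
    obtain ⟨b', rfl⟩ := (Φ_bijective_of_projective P m K).2 b
    refine congrArg _ ((h m).1 ((Φ_bijective_of_projective P m L).1 ?_))
    exact (Φ_comp P m a' f).trans (hab.trans (Φ_comp P m b' f).symm)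
  · obtain ⟨c', rfl⟩ := (Φ_bijective_of_projective P m L).2 c
    obtain ⟨g, rfl⟩ := (h m).2 c'
    exact ⟨Φ P m K g, (Φ_comp P m g f).symm⟩

end Groth.Agent.KFlat.Generator
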