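import Mathlib.GroupTheory.QuotientGroup.Defs
import Mathlib.Algebra.Group.Pi.Basic
import Mathlib.Algebra.Group.Pi.Lemmas
import Mathlib.Tactic.Abel

/-!
# Endomorphisms with bijective telescope maps

For an endomorphism `φ` of an abelian group `M`, `Good φ` says that `x ↦ (x n - φ (x (n + 1)))` is bijective on
sequences, i.e. `M` is derived complete with respect to `φ`. These endomorphisms form an ideal.
-/

set_option autoImplicit false

namespace Groth.Agent.KFlat.GoodEnd

variable {M N : Type*} [AddCommGroup M] [AddCommGroup N]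

/-- The telescope map. -/
def tel (φ : M →+ M) (x : ℕ → M) : ℕ → M := fun n => x n - φ (x (n + 1))

/-- The telescope map is bijective. -/
def Good (φ : M →+ M) : Prop := Function.Bijective (tel φ)

theorem Good.eq_zero {φ : M →+ M} (h : Good φ) {x : ℕ → M} (hx : ∀ n, x n = φ (x (n + 1))) : x = 0 :=
  h.1 (funext fun n => by simp [tel, ← hx n])

theorem Good.exists_sol {φ : M →+ M} (h : Good φ) (a : ℕ → M) : ∃ x : ℕ → M, ∀ n, x n - φ (x (n + 1)) = a n := by
  obtain ⟨x, hx⟩ := h.2 a
  exact ⟨x, fun n => congrFun hx n⟩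

theorem good_of (φ : M →+ M) (hi : ∀ x : ℕ → M, (∀ n, x n = φ (x (n + 1))) → x = 0)
    (hs : ∀ a : ℕ → M, ∃ x : ℕ → M, ∀ n, x n - φ (x (n + 1)) = a n) : Good φ := by
  refine ⟨fun x y hxy => sub_eq_zero.1 (hi (x - y) fun n => ?_), fun a => ?_⟩
  · have := congrFun hxy n
    simp only [tel] at this
    simp only [Pi.sub_apply, map_sub]
    rw [eq_comm, ← sub_eq_zero]
    rw [← sub_eq_zero] at this
    rw [← neg_eq_zero, ← this]
    abel
  · obtain ⟨x, hx⟩ := hs a
    exact ⟨x, funext hx⟩

theorem good_zero : Good (0 : M →+ M) :=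
  good_of _ (fun x hx => funext fun n => by simpa using hx n) fun a => ⟨a, fun n => by simp⟩

/-- Goodness transports along an isomorphism. -/
theorem Good.of_equiv {φ : M →+ M} {φ' : N →+ N} (e : M ≃+ N) (he : ∀ x, e (φ x) = φ' (e x)) (h : Good φ) :
    Good φ' := by
  refine good_of _ (fun y hy => ?_) fun a => ?_
  · have h0 := h.eq_zero (x := fun n => e.symm (y n)) fun n => e.injective (by
      rw [he, e.apply_symm_apply, e.apply_symm_apply, ← hy n])
    exact funext fun n => e.symm.injective (by simpa using congrFun h0 n)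
  · obtain ⟨x, hx⟩ := h.exists_sol fun n => e.symm (a n)
    exact ⟨fun n => e (x n), fun n => by rw [← he, ← map_sub, hx, e.apply_symm_apply]⟩

/-- Multiples of a good endomorphism are good. -/
theorem Good.comp {φ g : M →+ M} (h : Good φ) (hc : ∀ x, φ (g x) = g (φ x)) : Good (g.comp φ) := by
  have hc' : ∀ k x, φ (g^[k] x) = g^[k] (φ x) := fun k x => by
    induction k generalizing x with
    | zero => rfl
    | succ k ih => simp only [Function.iterate_succ_apply, ih, hc]
  refine good_of _ (fun x hx => funext fun n => ?_) fun a => ?_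
  · have h0 := h.eq_zero (x := fun j => g^[j] (x (n + j))) fun j => by
      rw [hc', Function.iterate_succ_apply, ← hc, hc (x (n + (j + 1)))]
      exact congrArg (g^[j]) (hx (n + j))
    simpa using congrFun h0 0
  · choose y hy using fun n : ℕ => h.exists_sol fun j => g^[j] (a (n + j))
    have hy' : ∀ n j, g (y (n + 1) j) = y n (j + 1) := fun n j => by
      have hd := h.eq_zero (x := fun j => g (y (n + 1) j) - y n (j + 1)) fun j => by
        rw [map_sub φ, hc]
        have e1 := congrArg g (hy (n + 1) j)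
        have e2 := hy n (j + 1)
        rw [map_sub, ← Function.iterate_succ_apply' g j, show n + 1 + j = n + (j + 1) by omega, ← e2] at e1
        rw [sub_eq_sub_iff_add_eq_add] at e1
        rw [sub_eq_sub_iff_add_eq_add, e1]
        abel
      exact sub_eq_zero.1 (congrFun hd j)
    refine ⟨fun n => y n 0, fun n => ?_⟩
    rw [AddMonoidHom.comp_apply, ← hc, hy']
    exact hy n 0

theorem surjective_one_sub {φ : M →+ M} (h : Good φ) (a : M) : ∃ x, x - φ x = a := by
  obtain ⟨x, hx⟩ := h.exists_sol fun _ => a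
  have hd := h.eq_zero (x := fun n => x (n + 1) - x n) fun n => by
    rw [map_sub, eq_comm, sub_eq_sub_iff_add_eq_add]
    have e1 := hx n
    have e2 := hx (n + 1)
    rw [← e1, sub_eq_sub_iff_add_eq_add] at e2
    rw [add_comm, ← e2]
  refine ⟨x 0, ?_⟩
  have := hx 0
  rwa [sub_eq_zero.1 (congrFun hd 0)] at this

/-- A group with two good endomorphisms with sum the identity vanishes. -/
theorem eq_zero_of_sum_eq_id {f g : M →+ M} (hf : Good f) (hg : Good g) (he : ∀ x, f x + g x = x) (x : M) :
    x = 0 := by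
  have hsur : ∀ y, ∃ z, g z = y := fun y => by
    obtain ⟨z, hz⟩ := surjective_one_sub hf y
    exact ⟨z, (eq_sub_of_add_eq' (he z)).trans hz⟩
  choose s hs using hsur
  have := hg.eq_zero (x := fun n => s^[n] x) fun n => by rw [Function.iterate_succ_apply', hs]
  exact congrFun this 0

theorem eq_zero_of_sum_invertible {f g h s : M →+ M} (hf : Good f) (hg : Good g) (he : ∀ x, f x + g x = h x)
    (hs : ∀ x, s (h x) = x) (cf : ∀ x, f (s x) = s (f x)) (cg : ∀ x, g (s x) = s (g x)) (x : M) : x = 0 :=
  eq_zero_of_sum_eq_id (hf.comp cf) (hg.comp cg)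
    (fun y => by rw [AddMonoidHom.comp_apply, AddMonoidHom.comp_apply, ← map_add, he, hs]) x

/-- An endomorphism of `M` on sequences. -/
def piMap (φ : M →+ M) : (ℕ → M) →+ ℕ → M where
  toFun x n := φ (x n)
  map_zero' := funext fun _ => map_zero φ
  map_add' x y := funext fun n => map_add φ (x n) (y n)

theorem Good.pi {φ : M →+ M} (h : Good φ) : Good (piMap φ) := by
  refine good_of _ (fun x hx => funext fun k => funext fun n => ?_) fun a => ?_
  · exact congrFun (h.eq_zero (x := fun k => x k n) fun k => congrFun (hx k) n) k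
  · choose z hz using fun n => h.exists_sol fun k => a k n
    exact ⟨fun k n => z n k, fun k => funext fun n => hz n k⟩

theorem Good.ker {A B : Type*} [AddCommGroup A] [AddCommGroup B] {π : A →+ B} {φ : A →+ A} {φB : B →+ B}
    (hA : Good φ) (hB : Good φB) (hc : ∀ a, π (φ a) = φB (π a)) {φK : π.ker →+ π.ker}
    (hK : ∀ a : π.ker, (φK a : A) = φ a) : Good φK := by
  refine good_of _ (fun x hx => ?_) fun a => ?_
  · have := hA.eq_zero (x := fun n => (x n : A)) fun n => (congrArg Subtype.val (hx n)).trans (hK _)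
    exact funext fun n => Subtype.ext (congrFun this n)
  · obtain ⟨x, hx⟩ := hA.exists_sol fun n => (a n : A)
    have hπ : ∀ n, π (a n : A) = 0 := fun n => (a n).2
    have := hB.eq_zero (x := fun n => π (x n)) fun n => by
      rw [← hc, ← sub_eq_zero, ← map_sub, hx, hπ]
    refine ⟨fun n => ⟨x n, congrFun this n⟩, fun n => Subtype.ext ?_⟩
    rw [AddSubgroup.coe_sub, hK]
    exact hx n

theorem Good.coker {A B : Type*} [AddCommGroup A] [AddCommGroup B] {π : A →+ B} {φ : A →+ A} {φB : B →+ B}
    (hA : Good φ) (hB : Good φB) (hc : ∀ a, π (φ a) = φB (π a)) {φC : B ⧸ π.range →+ B ⧸ π.range}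
    (hC : ∀ b : B, φC b = (φB b : B ⧸ π.range)) : Good φC := by
  refine good_of _ (fun x hx => ?_) fun a => ?_
  · choose X hX using fun n => QuotientAddGroup.mk_surjective (x n)
    have hr : ∀ n, X n - φB (X (n + 1)) ∈ π.range := fun n => by
      rw [← QuotientAddGroup.eq_zero_iff, QuotientAddGroup.mk_sub, ← hC, hX, hX, ← hx n, sub_self]
    choose b hb using hr
    obtain ⟨c, hcc⟩ := hA.exists_sol b
    have := hB.eq_zero (x := fun n => X n - π (c n)) fun n => by
      have e := hb n
      rw [← hcc n, map_sub, hc, sub_eq_sub_iff_add_eq_add] at e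
      rw [map_sub, sub_eq_sub_iff_add_eq_add, add_comm (φB (X (n + 1))), e]
    refine funext fun n => ?_
    rw [← hX n]
    exact (QuotientAddGroup.eq_zero_iff _).2 ⟨c n, (sub_eq_zero.1 (congrFun this n)).symm⟩
  · choose A' hA' using fun n => QuotientAddGroup.mk_surjective (a n)
    obtain ⟨x, hx⟩ := hB.exists_sol A'
    exact ⟨fun n => (x n : B ⧸ π.range), fun n => by rw [hC, ← QuotientAddGroup.mk_sub, hx, hA']⟩

/-- The telescope map as a homomorphism. -/
def telHom (φ : M →+ M) : (ℕ → M) →+ ℕ → M where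
  toFun := tel φ
  map_zero' := funext fun n => by simp [tel]
  map_add' x y := funext fun n => by simp [tel]; abel

/-- The shift of sequences. -/
def shiftHom : (ℕ → M) →+ ℕ → M where
  toFun x n := x (n + 1)
  map_zero' := rfl
  map_add' _ _ := rfl

/-- The sum of two commuting good endomorphisms is good. -/
theorem Good.add {f g : M →+ M} (hf : Good f) (hg : Good g) (hc : ∀ x, f (g x) = g (f x)) : Good (f + g) := by
  let h : M →+ M := f + g
  have chf : ∀ x, f (h x) = h (f x) := fun x => by simp [h, hc]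
  have chg : ∀ x, g (h x) = h (g x) := fun x => by simp [h, hc]
  have cT : ∀ (e : M →+ M), (∀ x, e (h x) = h (e x)) → ∀ x : ℕ → M, telHom h (piMap e x) = piMap e (telHom h x) :=
    fun e he x => funext fun n => by
      change e (x n) - h (e (x (n + 1))) = e (x n - h (x (n + 1)))
      rw [map_sub, he]
  -- the kernel vanishes
  let K := (telHom h).ker
  let res : ∀ (e : (ℕ → M) →+ ℕ → M), (∀ x, telHom h x = 0 → telHom h (e x) = 0) → K →+ K := fun e he =>
    (e.comp K.subtype).codRestrict K fun x => he x.1 x.2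
  have hres : ∀ (e : M →+ M) (he : ∀ x, e (h x) = h (e x)) (x : ℕ → M),
      telHom h x = 0 → telHom h (piMap e x) = 0 := fun e he x hx => by rw [cT e he, hx, map_zero]
  have hσ : ∀ x : ℕ → M, telHom h x = 0 → telHom h (shiftHom x) = 0 := fun x hx =>
    funext fun n => congrFun hx (n + 1)
  have zK : ∀ x : K, x = 0 := fun x =>
    eq_zero_of_sum_invertible (h := res (piMap h) (hres h fun _ => rfl)) (s := res shiftHom hσ)
      (Good.ker hf.pi hf.pi (cT f chf) (φK := res (piMap f) (hres f chf)) fun _ => rfl)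
      (Good.ker hg.pi hg.pi (cT g chg) (φK := res (piMap g) (hres g chg)) fun _ => rfl)
      (fun y => rfl)
      (fun y => Subtype.ext (funext fun n => (sub_eq_zero.1 (congrFun y.2 n)).symm))
      (fun y => rfl) (fun y => rfl) x
  -- the cokernel vanishes
  let R := (telHom h).range
  let ind : ∀ (e : (ℕ → M) →+ ℕ → M), (∀ x, telHom h (e x) = e (telHom h x)) →
      ((ℕ → M) ⧸ R →+ (ℕ → M) ⧸ R) := fun e he =>
    QuotientAddGroup.map R R e (fun x ⟨y, hy⟩ => ⟨e y, by rw [he, hy]⟩)
  have cσ : ∀ x : ℕ → M, telHom h (shiftHom x) = shiftHom (telHom h x) := fun _ => rfl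
  have zC : ∀ x : (ℕ → M) ⧸ R, x = 0 := fun x => by
    refine eq_zero_of_sum_invertible (h := ind (piMap h) (cT h fun _ => rfl)) (s := ind shiftHom cσ)
      (f := ind (piMap f) (cT f chf)) (g := ind (piMap g) (cT g chg))
      (Good.coker hf.pi hf.pi (cT f chf) fun _ => rfl) (Good.coker hg.pi hg.pi (cT g chg) fun _ => rfl)
      (fun y => ?_) (fun y => ?_) (fun y => ?_) (fun y => ?_) x
    · obtain ⟨y, rfl⟩ := QuotientAddGroup.mk_surjective y
      rfl
    · obtain ⟨y, rfl⟩ := QuotientAddGroup.mk_surjective y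
      refine (QuotientAddGroup.eq).2 ⟨y, funext fun n => ?_⟩
      change y n - h (y (n + 1)) = -(h (y (n + 1))) + y n
      abel
    · obtain ⟨y, rfl⟩ := QuotientAddGroup.mk_surjective y
      rfl
    · obtain ⟨y, rfl⟩ := QuotientAddGroup.mk_surjective y
      rfl
  refine good_of _ (fun x hx => ?_) fun a => ?_
  · exact congrArg Subtype.val (zK ⟨x, funext fun n => sub_eq_zero.2 (hx n)⟩)
  · obtain ⟨x, hx⟩ := (QuotientAddGroup.eq_zero_iff a).1 (zC (a : (ℕ → M) ⧸ R))
    exact ⟨x, fun n => congrFun hx n⟩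

end Groth.Agent.KFlat.GoodEnd
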