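import Groth.Agent.KFlat.SeqCrit
import Groth.Agent.KFlat.DerCompletion

/-!
# The sheaf of ideals of endomorphisms good for an object of the derived category
-/

set_option autoImplicit false

universe u

open CategoryTheory CategoryTheory.Limits Opposite
open ModSite DerComp Groth.Agent.KFlat Groth.Agent.KFlat.SeqCrit Groth.Agent.DHA.KInj

attribute [local instance] HasDerivedCategory.standard

namespace Groth.Agent.KFlat.GoodLocus

variable {C : Type u} [SmallCategory C] {J : GrothendieckTopology C} {O : Sheaf J CommRingCat.{u}}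
variable (K : DerivedCategory (Mod O))

theorem exists_rep : ∃ I : CochainComplex (Mod O) ℤ, I.IsKInjective ∧ (∀ n, Injective (I.X n)) ∧
    Nonempty (DerivedCategory.Q.obj I ≅ K) := by
  obtain ⟨I, r, hI, hr, -, hinj⟩ := Groth.Agent.DHA.KInj.exists_resolution (Mod O) (DerivedCategory.Q.objPreimage K)
  exact ⟨I, hI, hinj, ⟨(asIso (DerivedCategory.Q.map r)).symm ≪≫ DerivedCategory.Q.objObjPreimageIso K⟩⟩

/-- The telescope of `f` on maps from the shifts of the free module into `K` is bijective. -/
def GoodAt (V : C) (f : O.obj.obj (op V)) : Prop := SeqCx.GoodD (μ V f) K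

theorem subsingleton_iff_goodAt (U : C) (g : O.obj.obj (op U)) :
    (∀ n : ℤ, Subsingleton (SiteCmp.inD O ((extZero O U).obj (awayOver O U g)) ⟶ K⟦n⟧)) ↔ GoodAt K U g := by
  obtain ⟨I, hI, hinj, ⟨e⟩⟩ := exists_rep K
  have h1 := (subsingleton_iff_seqSect I U g).trans (seqSect_iff_goodD I hinj U g)
  refine Iff.trans ?_ (h1.trans ⟨fun h => h.of_iso _ e, fun h => h.of_iso _ e.symm⟩)
  exact forall_congr' fun n => ((Iso.refl _).homCongr ((shiftFunctor _ n).mapIso e.symm)).subsingleton_congr

theorem isDerComp_iff (Id : IdealSh O) :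
    IsDerComp O Id K ↔ ∀ (U : C) (g : O.obj.obj (op U)), g ∈ Id.ideal U → GoodAt K U g :=
  forall_congr' fun U => forall_congr' fun g => forall_congr' fun _ => subsingleton_iff_goodAt K U g

/-- Goodness is local. -/
theorem goodAt_of_local (V : C) (f : O.obj.obj (op V))
    (h : ∃ S ∈ J V, ∀ ⦃W : C⦄ (g : W ⟶ V), S g → GoodAt K W ((O.obj.map g.op).hom f)) : GoodAt K V f := by
  obtain ⟨I, hI, hinj, ⟨e⟩⟩ := exists_rep K
  obtain ⟨S, hS, h⟩ := h
  exact ((seqSect_iff_goodD I hinj V f).1 (seqSect_of_local I
    ⟨S, hS, fun W g hg => (seqSect_iff_goodD I hinj W _).2 ((h g hg).of_iso _ e.symm)⟩)).of_iso _ e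

theorem μ_add (V : C) (f g : O.obj.obj (op V)) : μ V (f + g) = μ V f + μ V g := by
  refine (freeUEquiv V _).injective ?_
  rw [freeUEquiv_add]
  simp only [μ, Equiv.apply_symm_apply]
  exact add_smul _ _ _

theorem μ_zero (V : C) : μ V (0 : O.obj.obj (op V)) = 0 := by
  refine (freeUEquiv V _).injective ?_
  rw [SitePull.freeUEquiv_zero]
  simp only [μ, Equiv.apply_symm_apply]
  exact zero_smul _ _

theorem μ_mul (V : C) (f g : O.obj.obj (op V)) : μ V (f * g) = μ V f ≫ μ V g := by
  refine (freeUEquiv V _).injective ?_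
  rw [μ_comp]
  simp only [μ, Equiv.apply_symm_apply]
  exact mul_smul _ _ _

theorem μ_comm (V : C) (f g : O.obj.obj (op V)) : μ V f ≫ μ V g = μ V g ≫ μ V f := by
  rw [← μ_mul, ← μ_mul, mul_comm]

theorem goodAt_zero (V : C) : GoodAt K V 0 := fun m => by
  have : Preadditive.leftComp K ((DerivedCategory.singleFunctor (Mod O) m).map (μ V (0 : O.obj.obj (op V)))) = 0 :=
    AddMonoidHom.ext fun x => by simp [μ_zero, Preadditive.leftComp]
  rw [this]
  exact GoodEnd.good_zero

theorem goodAt_add {V : C} {f g : O.obj.obj (op V)} (hf : GoodAt K V f) (hg : GoodAt K V g) :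
    GoodAt K V (f + g) := fun m => by
  let F := DerivedCategory.singleFunctor (Mod O) m
  have : Preadditive.leftComp K (F.map (μ V (f + g))) =
      Preadditive.leftComp K (F.map (μ V f)) + Preadditive.leftComp K (F.map (μ V g)) :=
    AddMonoidHom.ext fun x => by simp [F, μ_add, Preadditive.leftComp]
  rw [this]
  refine (hf m).add (hg m) fun x => ?_
  change F.map (μ V f) ≫ F.map (μ V g) ≫ x = F.map (μ V g) ≫ F.map (μ V f) ≫ x
  rw [← Functor.map_comp_assoc, μ_comm, Functor.map_comp_assoc]

theorem goodAt_mul {V : C} (r : O.obj.obj (op V)) {f : O.obj.obj (op V)} (hf : GoodAt K V f) :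
    GoodAt K V (r * f) := fun m => by
  let F := DerivedCategory.singleFunctor (Mod O) m
  have : Preadditive.leftComp K (F.map (μ V (r * f))) =
      (Preadditive.leftComp K (F.map (μ V r))).comp (Preadditive.leftComp K (F.map (μ V f))) :=
    AddMonoidHom.ext fun x => by simp [F, μ_mul, Preadditive.leftComp]
  rw [this]
  refine (hf m).comp fun x => ?_
  change F.map (μ V f) ≫ F.map (μ V r) ≫ x = F.map (μ V r) ≫ F.map (μ V f) ≫ x
  rw [← Functor.map_comp_assoc, μ_comm, Functor.map_comp_assoc]

/-- The largest sheaf of ideals for which `K` is derived complete. -/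
noncomputable def ideal : IdealSh O where
  ideal U :=
    { carrier := {f | ∀ (V : C) (g : V ⟶ U), GoodAt K V ((O.obj.map g.op).hom f)}
      add_mem' := fun {a b} ha hb V g => by rw [map_add]; exact goodAt_add K (ha V g) (hb V g)
      zero_mem' := fun V g => by rw [map_zero]; exact goodAt_zero K V
      smul_mem' := fun r a ha V g => by rw [smul_eq_mul, map_mul]; exact goodAt_mul K _ (ha V g) }
  map_mem {U V} g {f} hf := fun W h => by
    have := hf W (h ≫ g)
    rw [op_comp, Functor.map_comp, CommRingCat.comp_apply] at this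
    exact this
  glue {U f} S hS h := fun V g => goodAt_of_local K V _
    ⟨S.pullback g, J.pullback_stable g hS, fun W k hk => by
      have := h (k ≫ g) hk W (𝟙 W)
      rw [op_comp, Functor.map_comp, CommRingCat.comp_apply, op_id, O.obj.map_id] at this
      exact this⟩

theorem goodAt_of_mem {U : C} {f : O.obj.obj (op U)} (h : f ∈ (ideal K).ideal U) : GoodAt K U f := by
  have := h U (𝟙 U)
  rw [op_id, O.obj.map_id] at this
  exact this

theorem isDerComp_iff_le (Id : IdealSh O) : IsDerComp O Id K ↔ Id ≤ ideal K := by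
  rw [isDerComp_iff]
  constructor
  · intro h U f hf V g
    exact h V _ (Id.map_mem g hf)
  · intro h U f hf
    exact goodAt_of_mem K (h U hf)

end Groth.Agent.KFlat.GoodLocus
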