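import Groth.Prelude.Def_KZero
import Mathlib.CategoryTheory.Triangulated.Functor

/-!
# `K₀` along a fully faithful triangulated functor
-/

set_option autoImplicit false

universe v u v' u'

open CategoryTheory CategoryTheory.Limits CategoryTheory.Pretriangulated
open scoped ZeroObject

noncomputable section

namespace Groth.Agent.KFlat.K0Transfer

variable {C : Type u} [Category.{v} C] [Preadditive C] [HasZeroObject C] [HasShift C ℤ]
  [∀ n : ℤ, (shiftFunctor C n).Additive] [Pretriangulated C]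
variable {D : Type u'} [Category.{v'} D] [Preadditive D] [HasZeroObject D] [HasShift D ℤ]
  [∀ n : ℤ, (shiftFunctor D n).Additive] [Pretriangulated D]

omit [HasZeroObject C] [HasShift C ℤ] [∀ n : ℤ, (shiftFunctor C n).Additive] [Pretriangulated C] in
theorem clTr_eq {P : ObjectProperty D} {X : D} (h : P X) :
    KZero.clTr P X = QuotientAddGroup.mk (FreeAbelianGroup.of ⟨X, h⟩) := dif_pos h

omit [HasZeroObject C] [HasShift C ℤ] [∀ n : ℤ, (shiftFunctor C n).Additive] [Pretriangulated C] in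
theorem clTr_triangle {P : ObjectProperty D} (T : Triangle D) (hT : T ∈ distTriang D) (h₁ : P T.obj₁)
    (h₂ : P T.obj₂) (h₃ : P T.obj₃) :
    KZero.clTr P T.obj₂ = KZero.clTr P T.obj₁ + KZero.clTr P T.obj₃ := by
  rw [clTr_eq h₁, clTr_eq h₂, clTr_eq h₃, ← QuotientAddGroup.mk_add, QuotientAddGroup.eq]
  have hm : FreeAbelianGroup.of ⟨T.obj₂, h₂⟩ - FreeAbelianGroup.of ⟨T.obj₁, h₁⟩ -
      FreeAbelianGroup.of ⟨T.obj₃, h₃⟩ ∈ KZero.relTr P :=
    AddSubgroup.subset_closure ⟨T, h₁, h₂, h₃, hT, rfl⟩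
  convert (KZero.relTr P).neg_mem hm using 1
  abel

omit [HasZeroObject C] [HasShift C ℤ] [∀ n : ℤ, (shiftFunctor C n).Additive] [Pretriangulated C] in
/-- Isomorphic objects have the same class. -/
theorem clTr_iso {P : ObjectProperty D} (h0 : P 0) {A B : D} (e : A ≅ B) (hA : P A) (hB : P B) :
    KZero.clTr P A = KZero.clTr P B := by
  have hz : KZero.clTr P (0 : D) = 0 :=
    left_eq_add.1 (clTr_triangle (contractibleTriangle (0 : D)) (contractible_distinguished _) h0 h0 h0)
  have h := clTr_triangle (Triangle.mk e.hom (0 : B ⟶ 0) 0)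
    (isomorphic_distinguished _ (contractible_distinguished A) _
      (Triangle.isoMk _ _ (Iso.refl _) e.symm (Iso.refl _) (e.hom_inv_id.trans (Category.id_comp _).symm)
        ((isZero_zero D).eq_of_tgt _ _) ((isZero_zero D).eq_of_src _ _))) hA hB h0
  simpa [hz] using h.symm

variable (F : C ⥤ D) [F.CommShift ℤ] [F.IsTriangulated] [F.Full] [F.Faithful]
  {P : ObjectProperty C} {P' : ObjectProperty D} [P'.IsClosedUnderIsomorphisms]

/-- The comparison isomorphism. -/
theorem exists_equiv (hP : ∀ X, P' (F.obj X) ↔ P X) (hess : ∀ Y, P' Y → ∃ X, Nonempty (F.obj X ≅ Y))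
    (h0 : P 0) :
    ∃ φ : KZero.K0tr P ≃+ KZero.K0tr P', ∀ X, P X → φ (KZero.clTr P X) = KZero.clTr P' (F.obj X) := by
  choose g hg using hess
  have hgP : ∀ Y h, P (g Y h) := fun Y h => (hP _).1 (P'.prop_of_iso (hg Y h).some.symm h)
  -- isomorphic objects have the same class
  have isoInv : ∀ {A B : C} (_ : A ≅ B) (_ : P A) (_ : P B), KZero.clTr P A = KZero.clTr P B := by
    intro A B e hA hB
    have hz : KZero.clTr P (0 : C) = 0 := by
      have h := clTr_triangle (Triangle.mk (0 : (0 : C) ⟶ 0) (0 : (0 : C) ⟶ 0) 0)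
        (isomorphic_distinguished _ (contractible_distinguished (0 : C)) _
          (Triangle.isoMk _ _ (Iso.refl _) (Iso.refl _) (Iso.refl _) ((isZero_zero C).eq_of_src _ _)
            ((isZero_zero C).eq_of_src _ _) ((isZero_zero C).eq_of_src _ _))) h0 h0 h0
      exact left_eq_add.1 h
    have h := clTr_triangle (Triangle.mk e.hom (0 : B ⟶ 0) 0)
      (isomorphic_distinguished _ (contractible_distinguished A) _
        (Triangle.isoMk _ _ (Iso.refl _) e.symm (Iso.refl _) (e.hom_inv_id.trans (Category.id_comp _).symm) ((isZero_zero C).eq_of_tgt _ _)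
          ((isZero_zero C).eq_of_src _ _))) hA hB h0
    simpa [hz] using h.symm
  let f₀ : FreeAbelianGroup (Subtype P) →+ KZero.K0tr P' :=
    FreeAbelianGroup.lift fun X => KZero.clTr P' (F.obj X.1)
  have hf : KZero.relTr P ≤ f₀.ker := by
    refine (AddSubgroup.closure_le _).2 ?_
    rintro x ⟨T, h₁, h₂, h₃, hT, rfl⟩
    change f₀ _ = 0
    simp only [f₀, map_sub, FreeAbelianGroup.lift_apply_of]
    rw [show KZero.clTr P' (F.obj T.obj₂) = KZero.clTr P' (F.obj T.obj₁) + KZero.clTr P' (F.obj T.obj₃) from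
      clTr_triangle (F.mapTriangle.obj T) (F.map_distinguished T hT) ((hP _).2 h₁) ((hP _).2 h₂) ((hP _).2 h₃)]
    abel
  let g₀ : FreeAbelianGroup (Subtype P') →+ KZero.K0tr P :=
    FreeAbelianGroup.lift fun Y => KZero.clTr P (g Y.1 Y.2)
  have hg₀ : KZero.relTr P' ≤ g₀.ker := by
    refine (AddSubgroup.closure_le _).2 ?_
    rintro x ⟨T, h₁, h₂, h₃, hT, rfl⟩
    change g₀ _ = 0
    simp only [g₀, map_sub, FreeAbelianGroup.lift_apply_of]
    let e₁ := (hg T.obj₁ h₁).some
    let e₂ := (hg T.obj₂ h₂).some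
    obtain ⟨m, hm⟩ := F.map_surjective (e₁.hom ≫ T.mor₁ ≫ e₂.inv)
    obtain ⟨Z, a, b, mem⟩ := distinguished_cocone_triangle m
    let eT : F.mapTriangle.obj (Triangle.mk m a b) ≅ T :=
      isoTriangleOfIso₁₂ _ _ (F.map_distinguished _ mem) hT e₁ e₂
        (show F.map m ≫ e₂.hom = e₁.hom ≫ T.mor₁ by rw [hm]; simp)
    have hZ : P Z := (hP _).1 (P'.prop_of_iso (Triangle.π₃.mapIso eT).symm h₃)
    have h := clTr_triangle _ mem (hgP _ h₁) (hgP _ h₂) hZ
    rw [isoInv (F.preimageIso ((hg T.obj₃ h₃).some ≪≫ (Triangle.π₃.mapIso eT).symm)) (hgP _ h₃) hZ]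
    change KZero.clTr P (g T.obj₂ h₂) - _ - KZero.clTr P Z = 0
    rw [show KZero.clTr P (g T.obj₂ h₂) = KZero.clTr P (g T.obj₁ h₁) + KZero.clTr P Z from h]
    abel
  let φ₁ := QuotientAddGroup.lift _ f₀ hf
  let ψ₁ := QuotientAddGroup.lift _ g₀ hg₀
  have isoInv' : ∀ {A B : D} (_ : A ≅ B) (_ : P' A) (_ : P' B), KZero.clTr P' A = KZero.clTr P' B := by
    intro A B e hA hB
    have e' := isoInv (F.preimageIso ((hg A hA).some ≪≫ e ≪≫ (hg B hB).some.symm)) (hgP _ hA) (hgP _ hB)
    have hz : P' (F.obj 0) := (hP _).2 h0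
    have hzero : IsZero (F.obj 0) := F.map_isZero (isZero_zero C)
    have hz0 : KZero.clTr P' (F.obj 0) = 0 := by
      have h := clTr_triangle (F.mapTriangle.obj (contractibleTriangle (0 : C)))
        (F.map_distinguished _ (contractible_distinguished _)) hz hz hz
      exact left_eq_add.1 h
    have h := clTr_triangle (Triangle.mk e.hom (0 : B ⟶ F.obj 0) 0)
      (isomorphic_distinguished _ (contractible_distinguished A) _
        (Triangle.isoMk _ _ (Iso.refl _) e.symm (hzero.iso (isZero_zero D)) (e.hom_inv_id.trans (Category.id_comp _).symm)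
          ((isZero_zero D).eq_of_tgt _ _) (hzero.eq_of_src _ _))) hA hB hz
    simpa [hz0] using h.symm
  refine ⟨{ toFun := φ₁, invFun := ψ₁, map_add' := map_add φ₁, left_inv := ?_, right_inv := ?_ },
    fun X hX => ?_⟩
  · intro x
    refine DFunLike.congr_fun (?_ : ψ₁.comp φ₁ = AddMonoidHom.id _) x
    refine QuotientAddGroup.addMonoidHom_ext _ (FreeAbelianGroup.lift_ext _ _ fun X => ?_)
    change ψ₁ (φ₁ (QuotientAddGroup.mk _)) = QuotientAddGroup.mk _
    simp only [φ₁, QuotientAddGroup.lift_mk, f₀, FreeAbelianGroup.lift_apply_of]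
    rw [clTr_eq ((hP _).2 X.2)]
    simp only [ψ₁, QuotientAddGroup.lift_mk, g₀, FreeAbelianGroup.lift_apply_of]
    rw [isoInv (F.preimageIso (hg _ ((hP _).2 X.2)).some) (hgP _ _) X.2, clTr_eq X.2]
  · intro y
    refine DFunLike.congr_fun (?_ : φ₁.comp ψ₁ = AddMonoidHom.id _) y
    refine QuotientAddGroup.addMonoidHom_ext _ (FreeAbelianGroup.lift_ext _ _ fun Y => ?_)
    change φ₁ (ψ₁ (QuotientAddGroup.mk _)) = QuotientAddGroup.mk _
    simp only [ψ₁, QuotientAddGroup.lift_mk, g₀, FreeAbelianGroup.lift_apply_of]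
    rw [clTr_eq (hgP _ Y.2)]
    simp only [φ₁, QuotientAddGroup.lift_mk, f₀, FreeAbelianGroup.lift_apply_of]
    rw [isoInv' (hg _ Y.2).some ((hP _).2 (hgP _ Y.2)) Y.2, clTr_eq Y.2]
  · change φ₁ _ = _
    rw [clTr_eq hX]
    simp [φ₁, f₀]

end Groth.Agent.KFlat.K0Transfer
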