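import Groth.Agent.KFlat.ProjPerfect

/-!
# Natural transformations `- ⊗ᴸ A ⟶ 𝟭` with prescribed component at the unit
-/

set_option autoImplicit false

universe u

open CategoryTheory CategoryTheory.Limits AlgebraicGeometry
open Groth.Agent.KFlat.Pull Groth.Agent.KFlat.LTensor Groth.Agent.KFlat.UnitCx

attribute [local instance] HasDerivedCategory.standard

noncomputable section

namespace Groth.Agent.KFlat.LTensorMap

variable {X : Scheme.{u}}

local notation "Q" => DerivedCategory.Q (C := X.Modules)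

/-- A morphism of complexes on derived tensor products. -/
def mapLT {A B : CochainComplex X.Modules ℤ} [DCoh.HasLTensorCx A] [DCoh.HasLTensorCx B] (g : A ⟶ B) :
    DCoh.LTensorCx A ⟶ DCoh.LTensorCx B :=
  Localization.liftNatTrans (Q) (HomologicalComplex.quasiIso X.Modules (ComplexShape.up ℤ))
    ((Q) ⋙ DCoh.LTensorCx A) ((Q) ⋙ DCoh.LTensorCx B) _ _
    ((LTensorAssoc.ltIso A).hom ≫ Functor.whiskerLeft (resY X)
      (Functor.whiskerRight (DCoh.tensorCx.flip.map g) (Q)) ≫ (LTensorAssoc.ltIso B).inv)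

theorem mapLT_app_Q {A B : CochainComplex X.Modules ℤ} [DCoh.HasLTensorCx A] [DCoh.HasLTensorCx B] (g : A ⟶ B)
    (M : CochainComplex X.Modules ℤ) :
    (mapLT g).app ((Q).obj M) = (LTensorAssoc.ltIso A).hom.app M ≫
      (Q).map ((DCoh.tensorCx.obj ((resY X).obj M)).map g) ≫ (LTensorAssoc.ltIso B).inv.app M := by
  simp [mapLT]

theorem isIso_mapLT {A B : CochainComplex X.Modules ℤ} [DCoh.HasLTensorCx A] [DCoh.HasLTensorCx B] (g : A ⟶ B)
    [QuasiIso g] : IsIso (mapLT g) := by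
  have h : ∀ N, IsIso ((mapLT g).app N) := fun N => by
    refine (NatTrans.isIso_app_iff_of_iso (mapLT g) ((Q).objObjPreimageIso N)).1 ?_
    rw [mapLT_app_Q]
    have := quasiIso_tensorCx_map_right (E := A) (isKFlat_resY ((Q).objPreimage N)) g
    infer_instance
  exact NatIso.isIso_of_isIso_app _

/-- `O ⊗ - ≅ id` at a resolution of `O`. -/
def γ : DCoh.tensorCx.obj ((resY X).obj (oneCx X)) ⋙ (Q) ≅ Q :=
  have : ∀ A, IsIso ((Functor.whiskerRight (DCoh.tensorCx.map ((resYπ X).app (oneCx X))) (Q)).app A) := fun A => by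
    have := quasiIso_resYπ (Y := X) (oneCx X)
    have h : QuasiIso ((DCoh.tensorCx.obj A).map ((resYπ X).app (oneCx X))) :=
      Groth.Agent.KFlat.quasiIso_tens_map (O := X.sheaf) _ (isKFlat_resY _) PerfectDual.isKFlat_one A
    exact (NatIso.isIso_map_iff (ProjPerfect.flipQ A) ((resYπ X).app (oneCx X))).2
      (inferInstanceAs (IsIso ((Q).map ((DCoh.tensorCx.obj A).map ((resYπ X).app (oneCx X))))))
  have := NatIso.isIso_of_isIso_app
    (Functor.whiskerRight (DCoh.tensorCx.map ((resYπ X).app (oneCx X))) (Q))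
  asIso (Functor.whiskerRight (DCoh.tensorCx.map ((resYπ X).app (oneCx X))) (Q)) ≪≫
    Functor.isoWhiskerRight ((ProjPerfect.flipNat (oneCx X)).symm ≪≫ unitNatIso) _ ≪≫ Functor.leftUnitor _

/-- `O ⊗ᴸ A ≅ A`. -/
def ρ (A : CochainComplex X.Modules ℤ) [DCoh.HasLTensorCx A] :
    (DCoh.LTensorCx A).obj ((Q).obj (oneCx X)) ≅ (Q).obj A :=
  (LTensorAssoc.ltIso A).app (oneCx X) ≪≫ γ.app A

theorem mapLT_ρ {A B : CochainComplex X.Modules ℤ} [DCoh.HasLTensorCx A] [DCoh.HasLTensorCx B] (g : A ⟶ B) :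
    (mapLT g).app ((Q).obj (oneCx X)) ≫ (ρ B).hom = (ρ A).hom ≫ (Q).map g := by
  have h := (γ (X := X)).hom.naturality g
  simp only [Functor.comp_map] at h
  rw [mapLT_app_Q]
  simp only [ρ, Iso.trans_hom, Iso.app_hom, Category.assoc, Iso.inv_hom_id_app_assoc]
  rw [h]

/-- `- ⊗ᴸ O ≅ id`. -/
def ltOne [DCoh.HasLTensorCx (oneCx X)] : DCoh.LTensorCx (oneCx X) ≅ 𝟭 (DCoh.D X) :=
  have : ∀ K, IsIso ((toTensor (oneCx X)).app K) := fun K => isIso_toTensor_of_kflat _ PerfectDual.isKFlat_one K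
  have := NatIso.isIso_of_isIso_app (toTensor (oneCx X))
  Localization.liftNatIso (Q) (HomologicalComplex.quasiIso X.Modules (ComplexShape.up ℤ))
    ((Q) ⋙ DCoh.LTensorCx (oneCx X)) ((Q) ⋙ 𝟭 _) _ _
    (asIso (toTensor (oneCx X)) ≪≫ Functor.isoWhiskerRight unitNatIso (Q) ≪≫ Functor.leftUnitor _ ≪≫
      (Functor.rightUnitor _).symm)

/-- Every morphism at the unit extends to a natural transformation to the identity. -/
theorem exists_toId (A : CochainComplex X.Modules ℤ) [DCoh.HasLTensorCx A] (O' : DCoh.D X)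
    (e : O' ≅ (Q).obj (oneCx X)) (ψ : (DCoh.LTensorCx A).obj O' ⟶ O') :
    ∃ τ : DCoh.LTensorCx A ⟶ 𝟭 (DCoh.D X), τ.app O' = ψ := by
  have := LTensor.hasLTensorCx (oneCx X)
  let χ : (Q).obj A ⟶ (Q).obj (oneCx X) :=
    (ρ A).inv ≫ (DCoh.LTensorCx A).map e.inv ≫ ψ ≫ e.hom ≫
      (ltOne (X := X)).inv.app ((Q).obj (oneCx X)) ≫ (ρ (oneCx X)).hom
  obtain ⟨T, s, hs, g, hg⟩ := DerivedCategory.right_fac χ
  have := LTensor.hasLTensorCx T
  have hqs : QuasiIso s := (DerivedCategory.isIso_Q_map_iff_quasiIso X.Modules s).1 hs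
  have := isIso_mapLT s
  let τ : DCoh.LTensorCx A ⟶ 𝟭 (DCoh.D X) := inv (mapLT s) ≫ mapLT g ≫ (ltOne (X := X)).hom
  have hσ : ∀ {B : CochainComplex X.Modules ℤ} [DCoh.HasLTensorCx B] (k : T ⟶ B),
      (mapLT k).app ((Q).obj (oneCx X)) = (ρ T).hom ≫ (Q).map k ≫ (ρ B).inv := fun k => by
    rw [← Category.assoc, ← mapLT_ρ, Category.assoc, Iso.hom_inv_id, Category.comp_id]
  have h1 : τ.app ((Q).obj (oneCx X)) = (DCoh.LTensorCx A).map e.inv ≫ ψ ≫ e.hom := by
    simp only [τ, NatTrans.comp_app, NatIso.isIso_inv_app]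
    rw [IsIso.inv_comp_eq, hσ s, hσ g]
    simp only [Category.assoc]
    congr 1
    have h3 : (Q).map g = (Q).map s ≫ χ := by rw [hg]; simp
    rw [h3]
    simp [χ]
  refine ⟨τ, ?_⟩
  have h2 := τ.naturality e.hom
  rw [h1] at h2
  simp only [Functor.id_map, ← Functor.map_comp_assoc, Iso.hom_inv_id] at h2
  erw [(DCoh.LTensorCx A).map_id, Category.id_comp] at h2
  exact ((cancel_mono e.hom).1 h2.symm)

end Groth.Agent.KFlat.LTensorMap
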