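import Groth.Agent.ModExt.Restr
import Groth.Agent.DHA.Telescope
import Groth.Agent.KFlat.Cells
import Groth.Agent.ModShf.GrothAb
import Groth.Prelude.Def_DerComp

/-!
# Localization of sheaves of modules at a global section as a functor

`F ↦ F_s` is exact, has the right adjoint `F ↦ ker (∏ F ⟶ ∏ F)`, and is `F ↦ F ⊗ O_s`.
-/

set_option autoImplicit false

universe u

open CategoryTheory CategoryTheory.Limits MonoidalCategory Opposite
open ModSite DerComp Groth.Agent.KFlat

namespace Groth.Agent.KFlat.LocAway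

variable {C : Type u} [SmallCategory C] {J : GrothendieckTopology C} {O : Sheaf J CommRingCat.{u}}
variable (s : GSec O)

instance hasExact_nat : HasExactColimitsOfShape ℕ (Mod O) :=
  HasExactColimitsOfShape.of_domain_equivalence (Mod O) (J := AsSmall.{u} ℕ) (AsSmall.equiv (C := ℕ)).symm

/-- The `n`-th map to the localisation. -/
noncomputable def tl (F : Mod O) (n : ℕ) : F ⟶ locAway s F :=
  Sigma.ι (fun _ : ℕ => F) n ≫ cokernel.π (awayMap s F)

theorem tl_rel (F : Mod O) (n : ℕ) : smulEnd s F ≫ tl s F (n + 1) = tl s F n := by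
  have e : Sigma.ι (fun _ : ℕ => F) n ≫ awayMap s F =
      Sigma.ι (fun _ : ℕ => F) n - smulEnd s F ≫ Sigma.ι (fun _ : ℕ => F) (n + 1) := Sigma.ι_desc _ _
  have h : Sigma.ι (fun _ : ℕ => F) n ≫ awayMap s F ≫ cokernel.π (awayMap s F) = 0 := by
    rw [cokernel.condition, comp_zero]
  rw [← Category.assoc, e, Preadditive.sub_comp, Category.assoc, sub_eq_zero] at h
  exact h.symm

theorem hom_ext {F W : Mod O} {f g : locAway s F ⟶ W} (h : ∀ n, tl s F n ≫ f = tl s F n ≫ g) : f = g :=
  (cancel_epi (cokernel.π (awayMap s F))).1 (Sigma.hom_ext _ _ fun n => by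
    simpa only [tl, Category.assoc] using h n)

/-- Maps out of the localisation. -/
noncomputable def desc {F W : Mod O} (x : ℕ → (F ⟶ W)) (hx : ∀ n, smulEnd s F ≫ x (n + 1) = x n) :
    locAway s F ⟶ W :=
  cokernel.desc _ (Sigma.desc x) (Sigma.hom_ext _ _ fun n => by
    rw [awayMap, Sigma.ι_desc_assoc, Preadditive.sub_comp, Category.assoc, Sigma.ι_desc, Sigma.ι_desc, hx,
      sub_self, comp_zero])

@[reassoc]
theorem tl_desc {F W : Mod O} (x : ℕ → (F ⟶ W)) (hx : ∀ n, smulEnd s F ≫ x (n + 1) = x n) (n : ℕ) :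
    tl s F n ≫ desc s x hx = x n := by
  rw [tl, desc, Category.assoc, cokernel.π_desc, Sigma.ι_desc]

theorem map_rel {F F' : Mod O} (g : F ⟶ F') (n : ℕ) :
    smulEnd s F ≫ g ≫ tl s F' (n + 1) = g ≫ tl s F' n := by
  rw [← Category.assoc, smulEnd_comm, Category.assoc, tl_rel]

/-- The value of the localisation functor on a map. -/
noncomputable def mapG {F F' : Mod O} (g : F ⟶ F') : locAway s F ⟶ locAway s F' :=
  desc s (fun n => g ≫ tl s F' n) (map_rel s g)

@[reassoc]
theorem tl_mapG {F F' : Mod O} (g : F ⟶ F') (n : ℕ) : tl s F n ≫ mapG s g = g ≫ tl s F' n :=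
  tl_desc s _ (map_rel s g) n

/-- The localisation functor. -/
noncomputable def G : Mod O ⥤ Mod O where
  obj F := locAway s F
  map g := mapG s g
  map_id F := hom_ext s fun n => by rw [tl_mapG, Category.id_comp, Category.comp_id]
  map_comp g g' := hom_ext s fun n => by rw [tl_mapG, tl_mapG_assoc, tl_mapG, Category.assoc]

@[reassoc]
theorem tl_map {F F' : Mod O} (g : F ⟶ F') (n : ℕ) : tl s F n ≫ (G s).map g = g ≫ tl s F' n :=
  tl_mapG s g n

instance additive_G : (G s).Additive where
  map_add {F F' g g'} := hom_ext s fun n => by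
    change tl s F n ≫ mapG s (g + g') = tl s F n ≫ (mapG s g + mapG s g')
    rw [tl_mapG, Preadditive.comp_add, tl_mapG, tl_mapG, Preadditive.add_comp]

/-- The system `F → F → ⋯`. -/
noncomputable def sys (F : Mod O) : ℕ ⥤ Mod O := Functor.ofSequence (fun _ : ℕ => smulEnd s F)

theorem sys_map (F : Mod O) (n : ℕ) : (sys s F).map (homOfLE (Nat.le_add_right n 1)) = smulEnd s F :=
  Functor.ofSequence_map_homOfLE_succ _ n

/-- The colimit cocone of the system. -/
noncomputable def cocone (F : Mod O) : Cocone (sys s F) :=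
  Cocone.mk (locAway s F) (NatTrans.ofSequence (G := (Functor.const ℕ).obj _) (fun n => tl s F n)
    fun n => ((congrArg (· ≫ _) (sys_map s F n)).trans (tl_rel s F n)).trans (Category.comp_id _).symm)

theorem cocone_w {F : Mod O} (c : Cocone (sys s F)) (n : ℕ) :
    smulEnd s F ≫ (c.ι.app (n + 1) : F ⟶ c.pt) = c.ι.app n :=
  (congrArg (· ≫ c.ι.app (n + 1)) (sys_map s F n).symm).trans (c.w _)

/-- The localisation is the colimit. -/
noncomputable def isColimit (F : Mod O) : IsColimit (cocone s F) where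
  desc c := desc s (fun n => c.ι.app n) (cocone_w s c)
  fac c n := tl_desc s (fun n => (c.ι.app n : F ⟶ c.pt)) (cocone_w s c) n
  uniq c m hm := hom_ext s fun n => (hm n).trans (tl_desc s (fun n => (c.ι.app n : F ⟶ c.pt)) (cocone_w s c) n).symm

instance mono_map {F F' : Mod O} (g : F ⟶ F') [Mono g] : Mono ((G s).map g) := by
  let τ : sys s F ⟶ sys s F' := NatTrans.ofSequence (fun _ => g) fun n =>
    ((congrArg (· ≫ g) (sys_map s F n)).trans (smulEnd_comm s g)).trans
      (congrArg (g ≫ ·) (sys_map s F' n)).symm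
  have : ∀ n, Mono (τ.app n) := fun _ => ‹Mono g›
  have := NatTrans.mono_of_mono_app τ
  exact colim.map_mono' τ (isColimit s F) (isColimit s F') _ fun n => tl_map s g n

theorem mono_awayMap (F : Mod O) : Mono (awayMap s F) :=
  Groth.Agent.DHA.Telescope.mono_oneSub (fun _ : ℕ => smulEnd s F) (coproductIsCoproduct fun _ : ℕ => F)
    (awayMap s F) fun _ => Sigma.ι_desc _ _

/-! ### The right adjoint -/

/-- `(x_n) ↦ (x_n - s x_{n+1})`. -/
noncomputable def ψ (F : Mod O) : (∏ᶜ fun _ : ℕ => F) ⟶ ∏ᶜ fun _ : ℕ => F :=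
  Pi.lift fun n => Pi.π (fun _ : ℕ => F) n - Pi.π (fun _ : ℕ => F) (n + 1) ≫ smulEnd s F

@[reassoc]
theorem ψ_π (F : Mod O) (n : ℕ) : ψ s F ≫ Pi.π (fun _ : ℕ => F) n =
    Pi.π (fun _ : ℕ => F) n - Pi.π (fun _ : ℕ => F) (n + 1) ≫ smulEnd s F := Pi.lift_π _ _

/-- The `n`-th projection of the right adjoint. -/
noncomputable def pr (F : Mod O) (n : ℕ) : kernel (ψ s F) ⟶ F := kernel.ι (ψ s F) ≫ Pi.π _ n

theorem pr_rel (F : Mod O) (n : ℕ) : pr s F (n + 1) ≫ smulEnd s F = pr s F n := by
  have h : kernel.ι (ψ s F) ≫ ψ s F ≫ Pi.π (fun _ : ℕ => F) n = 0 := by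
    rw [kernel.condition_assoc, zero_comp]
  rw [ψ_π, Preadditive.comp_sub, sub_eq_zero] at h
  exact (Category.assoc _ _ _).trans h.symm

theorem pr_ext {W F : Mod O} {f g : W ⟶ kernel (ψ s F)} (h : ∀ n, f ≫ pr s F n = g ≫ pr s F n) : f = g :=
  (cancel_mono (kernel.ι _)).1 (Pi.hom_ext _ _ fun n => by simpa only [pr, Category.assoc] using h n)

/-- Maps into the right adjoint. -/
noncomputable def lift {W F : Mod O} (x : ℕ → (W ⟶ F)) (hx : ∀ n, x (n + 1) ≫ smulEnd s F = x n) :
    W ⟶ kernel (ψ s F) :=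
  kernel.lift _ (Pi.lift x) (Pi.hom_ext _ _ fun n => by
    rw [Category.assoc, ψ_π, zero_comp, Preadditive.comp_sub, Pi.lift_π, Pi.lift_π_assoc, hx, sub_self])

@[reassoc]
theorem lift_pr {W F : Mod O} (x : ℕ → (W ⟶ F)) (hx : ∀ n, x (n + 1) ≫ smulEnd s F = x n) (n : ℕ) :
    lift s x hx ≫ pr s F n = x n := by
  rw [pr, lift, kernel.lift_ι_assoc, Pi.lift_π]

theorem mapH_rel {F F' : Mod O} (g : F ⟶ F') (n : ℕ) :
    (pr s F (n + 1) ≫ g) ≫ smulEnd s F' = pr s F n ≫ g := by
  rw [Category.assoc, ← smulEnd_comm, ← Category.assoc, pr_rel]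

/-- The value of the right adjoint on a map. -/
noncomputable def mapH {F F' : Mod O} (g : F ⟶ F') : kernel (ψ s F) ⟶ kernel (ψ s F') :=
  lift s (fun n => pr s F n ≫ g) (mapH_rel s g)

@[reassoc]
theorem mapH_pr {F F' : Mod O} (g : F ⟶ F') (n : ℕ) : mapH s g ≫ pr s F' n = pr s F n ≫ g :=
  lift_pr s _ (mapH_rel s g) n

/-- The right adjoint. -/
noncomputable def H : Mod O ⥤ Mod O where
  obj F := kernel (ψ s F)
  map g := mapH s g
  map_id F := pr_ext s fun n => by rw [mapH_pr, Category.comp_id, Category.id_comp]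
  map_comp g g' := pr_ext s fun n => by rw [mapH_pr, Category.assoc, mapH_pr, mapH_pr_assoc]

@[reassoc]
theorem map_pr {F F' : Mod O} (g : F ⟶ F') (n : ℕ) : (H s).map g ≫ pr s F' n = pr s F n ≫ g :=
  mapH_pr s g n

theorem homTo_rel {F F' : Mod O} (g : locAway s F ⟶ F') (n : ℕ) :
    (tl s F (n + 1) ≫ g) ≫ smulEnd s F' = tl s F n ≫ g := by
  rw [← smulEnd_comm, ← Category.assoc, tl_rel]

theorem homInv_rel {F F' : Mod O} (z : F ⟶ kernel (ψ s F')) (n : ℕ) :
    smulEnd s F ≫ z ≫ pr s F' (n + 1) = z ≫ pr s F' n := by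
  rw [smulEnd_comm, Category.assoc, pr_rel]

/-- The hom-set bijection. -/
noncomputable def hEquiv (F F' : Mod O) : (locAway s F ⟶ F') ≃ (F ⟶ kernel (ψ s F')) where
  toFun g := lift s (fun n => tl s F n ≫ g) (homTo_rel s g)
  invFun z := desc s (fun n => z ≫ pr s F' n) (homInv_rel s z)
  left_inv g := hom_ext s fun n => (tl_desc s _ _ n).trans (lift_pr s _ _ n)
  right_inv z := pr_ext s fun n => (lift_pr s _ _ n).trans (tl_desc s _ _ n)

theorem hEquiv_pr {F F' : Mod O} (g : locAway s F ⟶ F') (n : ℕ) :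
    hEquiv s F F' g ≫ pr s F' n = tl s F n ≫ g := lift_pr s _ (homTo_rel s g) n

theorem tl_hEquiv_symm {F F' : Mod O} (z : F ⟶ kernel (ψ s F')) (n : ℕ) :
    tl s F n ≫ (hEquiv s F F').symm z = z ≫ pr s F' n := tl_desc s _ (homInv_rel s z) n

theorem hEquiv_symm_natural {F F' F'' : Mod O} (g : F ⟶ F') (z : F' ⟶ kernel (ψ s F'')) :
    (hEquiv s F F'').symm (g ≫ z) = mapG s g ≫ (hEquiv s F' F'').symm z := hom_ext s fun n => by
  rw [tl_hEquiv_symm, tl_mapG_assoc, tl_hEquiv_symm, Category.assoc]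

theorem hEquiv_natural {F F' F'' : Mod O} (g : locAway s F ⟶ F') (g' : F' ⟶ F'') :
    hEquiv s F F'' (g ≫ g') = hEquiv s F F' g ≫ mapH s g' := pr_ext s fun n => by
  rw [hEquiv_pr, Category.assoc, mapH_pr, ← Category.assoc (hEquiv s F F' g), hEquiv_pr, Category.assoc]

/-- The adjunction. -/
noncomputable def adj : G s ⊣ H s :=
  Adjunction.mkOfHomEquiv
    { homEquiv := fun F F' => hEquiv s F F'
      homEquiv_naturality_left_symm := fun g z => hEquiv_symm_natural s g z
      homEquiv_naturality_right := fun g g' => hEquiv_natural s g g' }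

instance isLeftAdjoint_G : (G s).IsLeftAdjoint := (adj s).isLeftAdjoint

instance additive_H : (H s).Additive := (adj s).right_adjoint_additive

instance preservesMono_G : (G s).PreservesMonomorphisms := ⟨fun g _ => mono_map s g⟩

instance preservesHomology_G : (G s).PreservesHomology :=
  Functor.preservesHomology_of_preservesMonos_and_cokernels _

instance preservesFiniteLimits_G : PreservesFiniteLimits (G s) :=
  Functor.preservesFiniteLimits_of_preservesHomology _

theorem isSplitEpi_ψ (F : Mod O) [Injective F] : IsSplitEpi (ψ s F) := by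
  let P := ∏ᶜ fun _ : ℕ => F
  have := mono_awayMap s P
  let x : (∐ fun _ : ℕ => P) ⟶ F :=
    Injective.factorThru (Sigma.desc fun n => Pi.π (fun _ : ℕ => F) n) (awayMap s P)
  have hx : awayMap s P ≫ x = Sigma.desc fun n => Pi.π (fun _ : ℕ => F) n := Injective.comp_factorThru _ _
  refine ⟨⟨{ section_ := Pi.lift fun n => Sigma.ι (fun _ : ℕ => P) n ≫ x, id := Pi.hom_ext _ _ fun n => ?_ }⟩⟩
  have h := congrArg (Sigma.ι (fun _ : ℕ => P) n ≫ ·) hx
  simp only [awayMap, Sigma.ι_desc, Sigma.ι_desc_assoc, Preadditive.sub_comp, Category.assoc] at h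
  simp only [ψ, Category.assoc, Pi.lift_π, Preadditive.comp_sub, Pi.lift_π_assoc, Category.id_comp]
  rw [← h, ← Category.assoc (smulEnd s P), smulEnd_comm, Category.assoc, ← smulEnd_comm s x]

/-! ### The tensor product with `O_s` -/

theorem chain {A B : Type*} [Category A] [Category B] (F : A ⥤ B) {a b c d : A} {p : a ⟶ b} {q : b ⟶ d}
    {r : a ⟶ c} {t : c ⟶ d} (h : p ≫ q = r ≫ t) {x y : B} {e : F.obj d ⟶ x} {e' : F.obj c ⟶ y} {g : y ⟶ x}
    (h' : F.map t ≫ e = e' ≫ g) : F.map p ≫ F.map q ≫ e = (F.map r ≫ e') ≫ g := by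
  rw [← Functor.map_comp_assoc, h, Functor.map_comp_assoc, h', Category.assoc]

theorem smul_whiskerRight_leftUnitor (W : Mod O) :
    (toPre O).map (smulEnd s (unit O)) ▷ (toPre O).obj W ≫ (λ_ ((toPre O).obj W)).hom =
      (λ_ ((toPre O).obj W)).hom ≫ (toPre O).map (smulEnd s W) := by
  refine PresheafOfModules.hom_ext fun X => ?_
  refine ModuleCat.MonoidalCategory.tensor_ext fun a m => ?_
  change (GSec.val' s X * (show (ModSite.ringSh O).obj.obj X from a)) • (show W.val.obj X from m) =
    GSec.val' s X • ((show (ModSite.ringSh O).obj.obj X from a) • (show W.val.obj X from m))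
  exact mul_smul _ _ _

theorem unitTensor_natural (W : Mod O) :
    ((tensorBi O).map (smulEnd s (unit O))).app W ≫ (ModExt.unitTensorIso O W).hom =
      (ModExt.unitTensorIso O W).hom ≫ smulEnd s W := by
  let P := (toPre O).obj W
  change (shPre O).map ((toPre O).map (smulEnd s (unit O)) ▷ P) ≫
    (shPre O).map (λ_ P).hom ≫ (preAdj O).counit.app W =
      ((shPre O).map (λ_ P).hom ≫ (preAdj O).counit.app W) ≫ smulEnd s W
  exact chain (shPre O) (smul_whiskerRight_leftUnitor s W) ((preAdj O).counit.naturality (smulEnd s W))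

/-- `W ⊗ O ≅ W`. -/
noncomputable def rU (W : Mod O) : ((tensorBi O).obj W).obj (unit O) ≅ W :=
  ((tensorBiFlipIso O).app (unit O)).app W ≪≫ ModExt.unitTensorIso O W

theorem rU_smul (W : Mod O) :
    ((tensorBi O).obj W).map (smulEnd s (unit O)) ≫ (rU W).hom = (rU W).hom ≫ smulEnd s W := by
  have h : ((tensorBi O).obj W).map (smulEnd s (unit O)) ≫ ((tensorBiFlipIso O).hom.app (unit O)).app W =
      ((tensorBiFlipIso O).hom.app (unit O)).app W ≫ ((tensorBi O).map (smulEnd s (unit O))).app W :=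
    congrArg (fun t => t.app W) ((tensorBiFlipIso O).hom.naturality (smulEnd s (unit O)))
  simp only [rU, Iso.trans_hom, Iso.app_hom, Category.assoc]
  rw [← unitTensor_natural]
  exact (Category.assoc _ _ _).symm.trans ((congrArg (· ≫ _) h).trans (Category.assoc _ _ _))

theorem rU_natural {W W' : Mod O} (g : W ⟶ W') :
    ((tensorBi O).map g).app (unit O) ≫ (rU W').hom = (rU W).hom ≫ g := by
  have h : ((tensorBi O).map g).app (unit O) ≫ ((tensorBiFlipIso O).hom.app (unit O)).app W' =
      ((tensorBiFlipIso O).hom.app (unit O)).app W ≫ ((tensorBi O).obj (unit O)).map g :=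
    ((tensorBiFlipIso O).hom.app (unit O)).naturality g
  simp only [rU, Iso.trans_hom, Iso.app_hom, Category.assoc]
  refine (Category.assoc _ _ _).symm.trans ((congrArg (· ≫ _) h).trans ((Category.assoc _ _ _).trans ?_))
  refine congrArg (_ ≫ ·) ?_
  let P := (toPre O).map g
  change (shPre O).map ((toPre O).obj (unit O) ◁ P) ≫ (shPre O).map (λ_ _).hom ≫ (preAdj O).counit.app W' =
    ((shPre O).map (λ_ _).hom ≫ (preAdj O).counit.app W) ≫ g
  have hl : (toPre O).obj (unit O) ◁ P ≫ (λ_ ((toPre O).obj W')).hom = (λ_ ((toPre O).obj W)).hom ≫ P :=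
    leftUnitor_naturality P
  exact chain (shPre O) hl ((preAdj O).counit.naturality g)

/-- The comparison map. -/
noncomputable def νHom (W : Mod O) : locAway s W ⟶ ((tensorBi O).obj W).obj (locAway s (unit O)) :=
  desc s (fun n => (rU W).inv ≫ ((tensorBi O).obj W).map (tl s (unit O) n)) fun n => by
    have h : smulEnd s W ≫ (rU W).inv = (rU W).inv ≫ ((tensorBi O).obj W).map (smulEnd s (unit O)) := by
      rw [Iso.eq_inv_comp, ← Category.assoc, Iso.comp_inv_eq, rU_smul]
    rw [← Category.assoc, h, Category.assoc, ← Functor.map_comp, tl_rel]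

theorem isIso_νHom (W : Mod O) : IsIso (νHom s W) := by
  let F := (tensorBi O).obj W
  have : PreservesColimitsOfSize.{0, 0} F := preservesColimitsOfSize_shrink.{0, u, 0, u} _
  let α : sys s (unit O) ⋙ F ≅ sys s W := NatIso.ofComponents (fun _ => rU W) fun {i j} f => by
    suffices h : ∀ k i, F.map ((sys s (unit O)).map (homOfLE (Nat.le_add_right i k))) ≫ (rU W).hom =
        (rU W).hom ≫ (sys s W).map (homOfLE (Nat.le_add_right i k)) by
      obtain ⟨k, rfl⟩ := Nat.exists_eq_add_of_le (leOfHom f)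
      exact h k i
    intro k
    induction k with
    | zero =>
      intro i
      rw [show homOfLE (Nat.le_add_right i 0) = 𝟙 i from rfl, CategoryTheory.Functor.map_id,
        CategoryTheory.Functor.map_id, CategoryTheory.Functor.map_id]
      exact (Category.id_comp _).trans (Category.comp_id _).symm
    | succ k ih =>
      intro i
      rw [show homOfLE (Nat.le_add_right i (k + 1)) = homOfLE (Nat.le_add_right i k) ≫
        homOfLE (Nat.le_add_right (i + k) 1) from rfl, Functor.map_comp, Functor.map_comp, Functor.map_comp]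
      have h1 : F.map ((sys s (unit O)).map (homOfLE (Nat.le_add_right (i + k) 1))) ≫ (rU W).hom =
          (rU W).hom ≫ (sys s W).map (homOfLE (Nat.le_add_right (i + k) 1)) :=
        ((congrArg (fun t => F.map t ≫ (rU W).hom) (sys_map s (unit O) (i + k))).trans (rU_smul s W)).trans
          (congrArg ((rU W).hom ≫ ·) (sys_map s W (i + k)).symm)
      exact (Category.assoc _ _ _).trans ((congrArg (_ ≫ ·) h1).trans ((Category.assoc _ _ _).symm.trans
        ((congrArg (· ≫ _) (ih i)).trans (Category.assoc _ _ _))))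
  let e := IsColimit.coconePointsIsoOfNatIso (isColimitOfPreserves F (isColimit s (unit O))) (isColimit s W) α
  have he : νHom s W = e.inv := hom_ext s fun n => by
    rw [νHom, tl_desc]
    exact (IsColimit.comp_coconePointsIsoOfNatIso_inv (isColimitOfPreserves F (isColimit s (unit O)))
      (isColimit s W) α n).symm
  rw [he]
  exact e.isIso_inv

/-- `W ⊗ O_s ≅ W_s`. -/
noncomputable def νIso (W : Mod O) : (G s).obj W ≅ ((tensorBi O).flip.obj (locAway s (unit O))).obj W :=
  @asIso _ _ _ _ (νHom s W) (isIso_νHom s W)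

theorem νIso_natural {W W' : Mod O} (g : W ⟶ W') :
    (G s).map g ≫ (νIso s W').hom =
      (νIso s W).hom ≫ ((tensorBi O).flip.obj (locAway s (unit O))).map g :=
  hom_ext s fun n => by
    change tl s W n ≫ mapG s g ≫ νHom s W' =
      tl s W n ≫ νHom s W ≫ ((tensorBi O).map g).app (locAway s (unit O))
    rw [tl_mapG_assoc, νHom, tl_desc, νHom, tl_desc_assoc]
    refine (Category.assoc _ _ _).symm.trans ?_
    have h : g ≫ (rU W').inv = (rU W).inv ≫ ((tensorBi O).map g).app (unit O) := by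
      rw [Iso.eq_inv_comp, ← Category.assoc, Iso.comp_inv_eq, rU_natural]
    rw [h, Category.assoc, Category.assoc]
    exact congrArg (_ ≫ ·) (((tensorBi O).map g).naturality (tl s (unit O) n)).symm

end Groth.Agent.KFlat.LocAway
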