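import Groth.Agent.KFlat.MVTriangle

/-!
# Relative Mayer–Vietoris: the direct image of the sequence
-/

set_option autoImplicit false

universe u

open CategoryTheory CategoryTheory.Limits AlgebraicGeometry
open Groth.Agent.KFlat.MVTriangle Groth.Agent.KFlat.WeakKInj Groth.Agent.KFlat.RPush Groth.Agent.KFlat.RPushBase

attribute [local instance] HasDerivedCategory.standard

namespace Groth.Agent.KFlat.MVRel

variable {X Y : Scheme.{u}} (f : X ⟶ Y) {U V : X.Opens} (I : CochainComplex X.Modules ℤ)

theorem shortExact_scc_push (hUV : U ⊔ V = ⊤) (hI : ∀ n, Injective (I.X n)) :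
    ((scc U V I).map (pushCx f)).ShortExact :=
  HomologicalComplex.shortExact_of_degreewise_shortExact _ fun n => by
    have h := ShortComplex.shortExact_of_iso (evalIso U V I n).symm (MVSheaf.shortExact (U := U) (V := V) hUV _)
    have : Injective ((scc U V I).map (HomologicalComplex.eval X.Modules (ComplexShape.up ℤ) n)).X₁ := hI n
    exact (h.splittingOfInjective.map (Scheme.Modules.pushforward f)).shortExact

/-- The direct image of the `j_*`-complex computes the composite derived direct image. -/
noncomputable def pushRcIso (W : X.Opens) [DCoh.HasRpush (W.ι ≫ f)]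
    [PreservesFiniteLimits (Scheme.Modules.restrictFunctor W.ι)] [I.IsKInjective] :
    DerivedCategory.Q.obj ((pushCx f).obj ((Rc W).obj I)) ≅
      (DCoh.Rpush (W.ι ≫ f)).obj ((DCoh.restrictD W.ι).obj (DerivedCategory.Q.obj I)) :=
  DerivedCategory.Q.mapIso ((pushCxComp W.ι f).app ((DCoh.restrictCx W).obj I)) ≪≫
    @asIso _ _ _ _ ((toRpush (W.ι ≫ f)).app ((DCoh.restrictCx W).obj I))
      (@isIso_toRpush _ _ (W.ι ≫ f) _ _ (ExtZero.isKInjective_restrict W I)) ≪≫
    (DCoh.Rpush (W.ι ≫ f)).mapIso ((restrictDIso W).symm.app I)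

end Groth.Agent.KFlat.MVRel
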