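import Groth.Agent.KFlat.ExtZero
import Mathlib.Topology.Sheaves.SheafCondition.UniqueGluing
import Mathlib.Algebra.Category.Grp.EpiMono

/-!
# The Mayer–Vietoris short exact sequence of a sheaf of modules for two opens
-/

set_option autoImplicit false

universe u

open CategoryTheory CategoryTheory.Limits AlgebraicGeometry Opposite

namespace Groth.Agent.KFlat.MVSheaf

variable {X : Scheme.{u}}

/-- `j_* (F|_U)` as a functor in `F`. -/
noncomputable abbrev R (U : X.Opens) : X.Modules ⥤ X.Modules :=
  Scheme.Modules.restrictFunctor U.ι ⋙ Scheme.Modules.pushforward U.ι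

/-- The unit `F ⟶ j_* (F|_U)`. -/
noncomputable abbrev η (U : X.Opens) : 𝟭 X.Modules ⟶ R U := (Scheme.Modules.restrictAdjunction U.ι).unit

/-- Sections over an open, as an additive functor. -/
noncomputable abbrev sec (O : X.Opens) : X.Modules ⥤ AddCommGrpCat.{u} :=
  Scheme.Modules.toPresheaf X ⋙ (evaluation _ _).obj (op O)

instance preservesMonomorphisms_sec (O : X.Opens) : (sec O).PreservesMonomorphisms := by
  have : PreservesFiniteLimits (Scheme.Modules.toPresheaf X) :=
    PreservesLimitsOfSize.preservesFiniteLimits.{u, u} _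
  exact ⟨fun f _ => inferInstanceAs (Mono (((evaluation _ _).obj (op O)).map ((Scheme.Modules.toPresheaf X).map f)))⟩

theorem bijective_map_of_eq (M : X.Modules) {A B : X.Opens} (hle : A ≤ B) (h : A = B) :
    Function.Bijective (M.presheaf.map (homOfLE hle).op) := by
  subst h
  rw [show (homOfLE hle).op = 𝟙 (op A) from Subsingleton.elim _ _, M.presheaf.map_id]
  exact Function.bijective_id

theorem image_preimage_eq {U O : X.Opens} (h : O ≤ U) : U.ι ''ᵁ (U.ι ⁻¹ᵁ O) = O := by
  rw [Scheme.Hom.image_preimage_eq_opensRange_inf, Scheme.Opens.opensRange_ι]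
  exact inf_eq_right.2 h

theorem bijective_η (U : X.Opens) (F : X.Modules) {O : X.Opens} (h : O ≤ U) :
    Function.Bijective (((η U).app F).app O) :=
  bijective_map_of_eq F _ (image_preimage_eq h)

theorem isIso_restrict_η {U W : X.Opens} (h : W ≤ U) (F : X.Modules) :
    IsIso ((Scheme.Modules.restrictFunctor W.ι).map ((η U).app F)) := by
  rw [Scheme.Modules.Hom.isIso_iff_isIso_app]
  intro O
  rw [ConcreteCategory.isIso_iff_bijective]
  exact bijective_η U F ((W.ι_image_le O).trans h)

/-- Restriction `j_{U*}(F|_U) ⟶ j_{W*}(F|_W)` for `W ≤ U`. -/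
noncomputable def res {U W : X.Opens} (h : W ≤ U) : R U ⟶ R W where
  app F := (η W).app ((R U).obj F) ≫ (Scheme.Modules.pushforward W.ι).map
    (@inv _ _ _ _ ((Scheme.Modules.restrictFunctor W.ι).map ((η U).app F)) (isIso_restrict_η h F))
  naturality F G φ := by
    have := isIso_restrict_η h F
    have := isIso_restrict_η h G
    have hη := (η W).naturality ((R U).map φ)
    dsimp only [Functor.id_obj, Functor.id_map] at hη
    rw [← Category.assoc, hη, Category.assoc, Category.assoc]
    congr 1
    change (Scheme.Modules.pushforward W.ι).map _ ≫ _ = _ ≫ (Scheme.Modules.pushforward W.ι).map _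
    rw [← Functor.map_comp, ← Functor.map_comp]
    congr 1
    rw [IsIso.comp_inv_eq, Category.assoc, IsIso.eq_inv_comp, ← Functor.map_comp, ← Functor.map_comp]
    exact congrArg _ ((η U).naturality φ).symm

theorem η_res {U W : X.Opens} (h : W ≤ U) (F : X.Modules) : (η U).app F ≫ (res h).app F = (η W).app F := by
  have := isIso_restrict_η h F
  have hη := (η W).naturality ((η U).app F)
  dsimp only [Functor.id_obj, Functor.id_map] at hη
  change (η U).app F ≫ (η W).app ((R U).obj F) ≫ _ = _
  rw [← Category.assoc, hη, Category.assoc]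
  change (η W).app F ≫ (Scheme.Modules.pushforward W.ι).map _ ≫ (Scheme.Modules.pushforward W.ι).map _ = _
  rw [← Functor.map_comp, IsIso.hom_inv_id, CategoryTheory.Functor.map_id]
  exact Category.comp_id _

theorem bijective_res {U W : X.Opens} (h : W ≤ U) (F : X.Modules) {O : X.Opens}
    (hO : U.ι ''ᵁ (U.ι ⁻¹ᵁ O) = W.ι ''ᵁ (W.ι ⁻¹ᵁ O)) : Function.Bijective (((res h).app F).app O) := by
  have := isIso_restrict_η h F
  have hle : W.ι ⁻¹ᵁ O = W.ι ⁻¹ᵁ O := rfl
  have e : U.ι ⁻¹ᵁ (W.ι ''ᵁ (W.ι ⁻¹ᵁ O)) = U.ι ⁻¹ᵁ O := by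
    rw [← hO, Scheme.Hom.preimage_image_eq]
  have h1 : Function.Bijective (((η W).app ((R U).obj F)).app O) := by
    have hle' : U.ι ''ᵁ (U.ι ⁻¹ᵁ (W.ι ''ᵁ (W.ι ⁻¹ᵁ O))) ≤ U.ι ''ᵁ (U.ι ⁻¹ᵁ O) := (congrArg (U.ι ''ᵁ ·) e).le
    exact bijective_map_of_eq F hle' (congrArg (U.ι ''ᵁ ·) e)
  have h2 : Function.Bijective ((inv ((Scheme.Modules.restrictFunctor W.ι).map ((η U).app F))).app (W.ι ⁻¹ᵁ O)) :=
    (ConcreteCategory.isIso_iff_bijective _).1 inferInstance
  change Function.Bijective ((_ : _ → _) ∘ (_ : _ → _))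
  exact h2.comp h1

variable {U V : X.Opens} (hUV : U ⊔ V = ⊤)
include hUV

theorem le_cover (O : X.Opens) : O ≤ (O ⊓ U) ⊔ (O ⊓ V) := by
  rw [← inf_sup_left, hUV, inf_top_eq]

theorem eq_of_locally (M : X.Modules) {O : X.Opens} (s t : Γ(M, O))
    (h₁ : M.presheaf.map (homOfLE (inf_le_left : O ⊓ U ≤ O)).op s = M.presheaf.map (homOfLE inf_le_left).op t)
    (h₂ : M.presheaf.map (homOfLE (inf_le_left : O ⊓ V ≤ O)).op s = M.presheaf.map (homOfLE inf_le_left).op t) :
    s = t :=
  TopCat.Sheaf.eq_of_locally_eq₂ (⟨M.presheaf, M.isSheaf⟩ : TopCat.Sheaf AddCommGrpCat.{u} X)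
    (homOfLE inf_le_left) (homOfLE inf_le_left) (le_cover hUV O) s t h₁ h₂

theorem mono_of_injective {M N : X.Modules} (φ : M ⟶ N)
    (h : ∀ O : X.Opens, (O ≤ U ∨ O ≤ V) → Function.Injective (φ.app O)) : Mono φ := by
  constructor
  intro Z g g' e
  refine Scheme.Modules.hom_ext _ _ fun O => ?_
  ext z
  refine eq_of_locally hUV M _ _ (h _ (Or.inl inf_le_right) ?_) (h _ (Or.inr inf_le_right) ?_)
  all_goals
    rw [show ∀ (O' : X.Opens) (i : O' ⟶ O) (y : Γ(M, O)), φ.app O' (M.presheaf.map i.op y) =
      N.presheaf.map i.op (φ.app O y) from fun O' i y => congr($(φ.mapPresheaf.naturality i.op) y),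
      show ∀ (O' : X.Opens) (i : O' ⟶ O) (y : Γ(M, O)), φ.app O' (M.presheaf.map i.op y) =
      N.presheaf.map i.op (φ.app O y) from fun O' i y => congr($(φ.mapPresheaf.naturality i.op) y)]
    exact congrArg _ congr(($e).app O z)

theorem epi_of_surjective {M N : X.Modules} (φ : M ⟶ N)
    (h : ∀ O : X.Opens, (O ≤ U ∨ O ≤ V) → Function.Surjective (φ.app O)) : Epi φ := by
  constructor
  intro Z g g' e
  refine Scheme.Modules.hom_ext _ _ fun O => ?_
  ext y
  have key : ∀ (O' : X.Opens) (i : O' ⟶ O), (O' ≤ U ∨ O' ≤ V) →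
      Z.presheaf.map i.op (g.app O y) = Z.presheaf.map i.op (g'.app O y) := by
    intro O' i hO'
    obtain ⟨x, hx⟩ := h O' hO' (N.presheaf.map i.op y)
    refine (congr($(g.mapPresheaf.naturality i.op) y)).symm.trans (Eq.trans ?_ (congr($(g'.mapPresheaf.naturality i.op) y)))
    change g.app O' (N.presheaf.map i.op y) = g'.app O' (N.presheaf.map i.op y)
    rw [← hx]
    exact congr(($e).app O' x)
  exact eq_of_locally hUV Z _ _ (key _ _ (Or.inl inf_le_right)) (key _ _ (Or.inr inf_le_right))

variable (U V)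
omit hUV

/-- The first map. -/
noncomputable def a (F : X.Modules) : F ⟶ (R U).obj F ⊞ (R V).obj F :=
  biprod.lift ((η U).app F) ((η V).app F)

/-- The second map. -/
noncomputable def b (F : X.Modules) : (R U).obj F ⊞ (R V).obj F ⟶ (R (U ⊓ V)).obj F :=
  biprod.fst ≫ (res (inf_le_left : U ⊓ V ≤ U)).app F - biprod.snd ≫ (res (inf_le_right : U ⊓ V ≤ V)).app F

theorem a_b (F : X.Modules) : a U V F ≫ b U V F = 0 := by
  simp only [a, b, Preadditive.comp_sub, biprod.lift_fst_assoc, biprod.lift_snd_assoc, η_res, sub_self]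

/-- The short complex. -/
noncomputable def sc (F : X.Modules) : ShortComplex X.Modules :=
  ShortComplex.mk (a U V F) (b U V F) (a_b U V F)

include hUV

theorem shortExact (F : X.Modules) : (sc U V F).ShortExact where
  mono_f := by
    refine mono_of_injective hUV _ fun O hO x y hxy => ?_
    rcases hO with hO | hO
    · refine (bijective_η U F hO).1 ?_
      rw [← biprod.lift_fst ((η U).app F) ((η V).app F)]
      exact congrArg (((biprod.fst : (R U).obj F ⊞ (R V).obj F ⟶ _)).app O) hxy
    · refine (bijective_η V F hO).1 ?_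
      rw [← biprod.lift_snd ((η U).app F) ((η V).app F)]
      exact congrArg (((biprod.snd : (R U).obj F ⊞ (R V).obj F ⟶ _)).app O) hxy
  epi_g := by
    refine epi_of_surjective hUV _ fun O hO z => ?_
    rcases hO with hO | hO
    · obtain ⟨y, hy⟩ := (bijective_res (inf_le_right : U ⊓ V ≤ V) F (O := O) (by
        simp only [Scheme.Hom.image_preimage_eq_opensRange_inf, Scheme.Opens.opensRange_ι]
        exact le_antisymm (le_inf (le_inf (inf_le_right.trans hO) inf_le_left) inf_le_right)
          (inf_le_inf_right _ inf_le_right))).2 (-z)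
      refine ⟨(biprod.inr : _ ⟶ (R U).obj F ⊞ (R V).obj F).app O y, ?_⟩
      have e : (biprod.inr : _ ⟶ (R U).obj F ⊞ (R V).obj F) ≫ b U V F =
          -(res (inf_le_right : U ⊓ V ≤ V)).app F := by simp [b]
      refine congr(($e).app O y).trans ?_
      change -(((res (inf_le_right : U ⊓ V ≤ V)).app F).app O y) = z
      exact (congrArg (fun t => -t) hy).trans (neg_neg _)
    · obtain ⟨y, hy⟩ := (bijective_res (inf_le_left : U ⊓ V ≤ U) F (O := O) (by
        simp only [Scheme.Hom.image_preimage_eq_opensRange_inf, Scheme.Opens.opensRange_ι]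
        exact le_antisymm (le_inf (le_inf inf_le_left (inf_le_right.trans hO)) inf_le_right)
          (inf_le_inf_right _ inf_le_left))).2 z
      refine ⟨(biprod.inl : _ ⟶ (R U).obj F ⊞ (R V).obj F).app O y, ?_⟩
      have e : (biprod.inl : _ ⟶ (R U).obj F ⊞ (R V).obj F) ≫ b U V F =
          (res (inf_le_left : U ⊓ V ≤ U)).app F := by simp [b]
      exact congr(($e).app O y).trans hy
  exact := by
    rw [ShortComplex.exact_iff_epi_kernel_lift]
    refine epi_of_surjective hUV _ fun O hO k => ?_
    let ι := kernel.ι (b U V F)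
    have hι : Function.Injective (ι.app O) := (AddCommGrpCat.mono_iff_injective ((sec O).map ι)).1 inferInstance
    let p := (biprod.fst : (R U).obj F ⊞ (R V).obj F ⟶ _).app O (ι.app O k)
    let q := (biprod.snd : (R U).obj F ⊞ (R V).obj F ⟶ _).app O (ι.app O k)
    have hk : ((res (inf_le_left : U ⊓ V ≤ U)).app F).app O p = ((res (inf_le_right : U ⊓ V ≤ V)).app F).app O q := by
      refine sub_eq_zero.1 ?_
      exact congr(($(kernel.condition (b U V F))).app O k)
    have hext : ∀ x : Γ(F, O), ((η U).app F).app O x = p → ((η V).app F).app O x = q →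
        (kernel.lift (b U V F) (a U V F) (a_b U V F)).app O x = k := by
      intro x hp hq
      refine hι ?_
      refine congr(($(kernel.lift_ι (b U V F) (a U V F) (a_b U V F))).app O x).trans ?_
      refine (congr(($(biprod.total (X := (R U).obj F) (Y := (R V).obj F))).app O ((a U V F).app O x))).symm.trans ?_
      refine Eq.trans ?_ (congr(($(biprod.total (X := (R U).obj F) (Y := (R V).obj F))).app O (ι.app O k)))
      have e₁ := congr(($(biprod.lift_fst ((η U).app F) ((η V).app F))).app O x)
      have e₂ := congr(($(biprod.lift_snd ((η U).app F) ((η V).app F))).app O x)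
      exact congrArg₂ (fun s t => Scheme.Modules.Hom.app (biprod.inl : _ ⟶ (R U).obj F ⊞ (R V).obj F) O s +
        Scheme.Modules.Hom.app (biprod.inr : _ ⟶ (R U).obj F ⊞ (R V).obj F) O t) (e₁.trans hp) (e₂.trans hq)
    rcases hO with hO | hO
    · obtain ⟨x, hx⟩ := (bijective_η U F hO).2 p
      refine ⟨x, hext x hx ((bijective_res (inf_le_right : U ⊓ V ≤ V) F (O := O) (by
        simp only [Scheme.Hom.image_preimage_eq_opensRange_inf, Scheme.Opens.opensRange_ι]
        exact le_antisymm (le_inf (le_inf (inf_le_right.trans hO) inf_le_left) inf_le_right)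
          (inf_le_inf_right _ inf_le_right))).1 ?_)⟩
      rw [← hk, ← hx]
      exact (congr(($(η_res (inf_le_right : U ⊓ V ≤ V) F)).app O x)).trans
        (congr(($(η_res (inf_le_left : U ⊓ V ≤ U) F)).app O x)).symm
    · obtain ⟨x, hx⟩ := (bijective_η V F hO).2 q
      refine ⟨x, hext x ((bijective_res (inf_le_left : U ⊓ V ≤ U) F (O := O) (by
        simp only [Scheme.Hom.image_preimage_eq_opensRange_inf, Scheme.Opens.opensRange_ι]
        exact le_antisymm (le_inf (le_inf inf_le_left (inf_le_right.trans hO)) inf_le_right)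
          (inf_le_inf_right _ inf_le_left))).1 ?_) hx⟩
      rw [hk, ← hx]
      exact (congr(($(η_res (inf_le_left : U ⊓ V ≤ U) F)).app O x)).trans
        (congr(($(η_res (inf_le_right : U ⊓ V ≤ V) F)).app O x)).symm

end Groth.Agent.KFlat.MVSheaf
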