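import Groth.Agent.KFlat.ProjFormula
import Groth.Agent.KFlat.Single
import Groth.Agent.KFlat.RPush

/-!
# The projection map of complexes
-/

set_option autoImplicit false

universe u

open CategoryTheory CategoryTheory.Limits AlgebraicGeometry
open Groth.Agent.KFlat.ProjFormula Groth.Agent.KFlat.WeakKInj Groth.Agent.KFlat.Pull

namespace Groth.Agent.KFlat.ProjChain

/-- The summand at a concentrated factor is everything. -/
theorem isIso_totι {A B E : Type*} [Category A] [Category B] [Category E] [Preadditive A] [Preadditive B]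
    [Preadditive E] (F : A ⥤ B ⥤ E) [F.Additive] [∀ X, (F.obj X).Additive]
    [∀ (K : CochainComplex A ℤ) (L : CochainComplex B ℤ),
      HomologicalComplex.HasMapBifunctor K L F (ComplexShape.up ℤ)]
    (L : CochainComplex A ℤ) (K : CochainComplex B ℤ) (p n k : ℤ) (h : p + n = k)
    (hz : ∀ q, q ≠ n → IsZero (K.X q)) : IsIso (totι F L K p n k h) := by
  classical
  refine ⟨totDesc fun p' q h' => if hq : q = n then
    (F.map (eqToHom (congrArg L.X (show p' = p by omega)))).app (K.X q) ≫
      (F.obj (L.X p)).map (eqToHom (congrArg K.X hq)) else 0, ?_, tot_hom_ext fun p' q h' => ?_⟩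
  · rw [totι_desc, dif_pos rfl]
    simp
  · rw [Category.comp_id, totι_desc_assoc]
    by_cases hq : q = n
    · subst hq
      obtain rfl : p' = p := by omega
      simp
    · exact ((F.obj (L.X p')).map_isZero (hz q hq)).eq_of_src _ _

/-- A signed square. -/
theorem square_smul {A B : Type*} [Category A] [Category B] [Preadditive A] [Preadditive B] (G : A ⥤ B)
    [G.Additive] {a₁ a₂ a₃ : B} {b₁ b₂ b₃ b₄ : A} (u : a₁ ⟶ a₂) (v : a₁ ⟶ a₃) (t₂ : a₂ ⟶ G.obj b₂)
    (t₃ : a₃ ⟶ G.obj b₃) (T : a₁ ⟶ G.obj b₁) (x : b₁ ⟶ b₂) (y : b₁ ⟶ b₃) (i₂ : b₂ ⟶ b₄) (i₃ : b₃ ⟶ b₄)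
    (s : ℤˣ) (hu : u ≫ t₂ = T ≫ G.map x) (hv : v ≫ t₃ = T ≫ G.map y) :
    u ≫ t₂ ≫ G.map i₂ + s • (v ≫ t₃ ≫ G.map i₃) = T ≫ G.map (x ≫ i₂ + s • (y ≫ i₃)) := by
  rw [← Category.assoc u, hu, ← Category.assoc v, hv, Category.assoc, Category.assoc, G.map_add,
    Preadditive.comp_add, G.map_comp, Units.smul_def, Units.smul_def, Functor.map_zsmul,
    Preadditive.comp_zsmul, G.map_comp]

variable {X Y : Scheme.{u}} (f : X ⟶ Y) (J : CochainComplex X.Modules ℤ)

local notation "BX" => DCoh.tensorBi (X := X)
local notation "BY" => DCoh.tensorBi (X := Y)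

/-- The components. -/
noncomputable def θX (P : CochainComplex Y.Modules ℤ) (k : ℤ) :
    ((DCoh.tensorCx.obj ((pushCx f).obj J)).obj P).X k ⟶
      ((pushCx f).obj ((DCoh.tensorCx.obj J).obj ((pullCx f).obj P))).X k :=
  totDesc (F := BY) (L := (pushCx f).obj J) (K := P) fun p q h => (θ f (J.X p)).app (P.X q) ≫
    (Scheme.Modules.pushforward f).map (totι BX J ((pullCx f).obj P) p q k h)

theorem totι_θX (P : CochainComplex Y.Modules ℤ) (p q k : ℤ) (h : p + q = k) :
    totι BY ((pushCx f).obj J) P p q k h ≫ θX f J P k =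
      (θ f (J.X p)).app (P.X q) ≫ (Scheme.Modules.pushforward f).map (totι BX J ((pullCx f).obj P) p q k h) :=
  totι_desc _ _ _ _

theorem θX_comm (P : CochainComplex Y.Modules ℤ) (k : ℤ) :
    θX f J P k ≫ ((pushCx f).obj ((DCoh.tensorCx.obj J).obj ((pullCx f).obj P))).d k (k + 1) =
      ((DCoh.tensorCx.obj ((pushCx f).obj J)).obj P).d k (k + 1) ≫ θX f J P (k + 1) := by
  refine tot_hom_ext (F := BY) fun p q h => ?_
  refine Eq.trans ?_ (Category.assoc _ _ _)
  refine Eq.trans ?_ (congrArg (· ≫ θX f J P (k + 1)) (totι_d BY ((pushCx f).obj J) P p q k h)).symm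
  rw [Preadditive.add_comp, Category.assoc, totι_θX, Units.smul_def, Preadditive.zsmul_comp, Category.assoc,
    totι_θX, ← Units.smul_def]
  refine Eq.trans ?_ (square_smul (Scheme.Modules.pushforward f) _ _ _ _ _ _ _ _ _ p.negOnePow
    (θ_left f (J.d p (p + 1)) (P.X q)) ((θ f (J.X p)).naturality (P.d q (q + 1)))).symm
  refine Eq.trans ?_ (congrArg (fun t => (θ f (J.X p)).app (P.X q) ≫ (Scheme.Modules.pushforward f).map t)
    (totι_d BX J ((pullCx f).obj P) p q k h))
  refine ((Category.assoc _ _ _).symm.trans (congrArg (· ≫ _) (totι_θX f J P p q k h))).trans ?_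
  exact (Category.assoc _ _ _).trans (congrArg (_ ≫ ·) ((Scheme.Modules.pushforward f).map_comp _ _).symm)

/-- The projection map of complexes. -/
noncomputable def θc : (DCoh.tensorCx (X := Y)).obj ((pushCx f).obj J) ⟶
    pullCx f ⋙ (DCoh.tensorCx (X := X)).obj J ⋙ pushCx f where
  app P :=
    { f := θX f J P
      comm' := fun i j hij => by
        obtain rfl : i + 1 = j := hij
        exact θX_comm f J P i }
  naturality {P P'} φ := by
    refine HomologicalComplex.hom_ext _ _ fun k => tot_hom_ext (F := BY) fun p q h => ?_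
    change totι BY ((pushCx f).obj J) P p q k h ≫ (((tot BY).obj ((pushCx f).obj J)).map φ).f k ≫ θX f J P' k =
      totι BY ((pushCx f).obj J) P p q k h ≫ θX f J P k ≫
        (Scheme.Modules.pushforward f).map ((((tot BX).obj J).map ((pullCx f).map φ)).f k)
    refine Eq.trans ?_ (((Category.assoc _ _ _).symm.trans (congrArg (· ≫ _) (totι_θX f J P p q k h))).trans
      (Category.assoc _ _ _)).symm
    rw [totι_map_right_assoc, totι_θX]
    refine ((Category.assoc _ _ _).symm.trans (congrArg (· ≫ _) ((θ f (J.X p)).naturality (φ.f q)))).trans ?_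
    refine (Category.assoc _ _ _).trans (congrArg (_ ≫ ·) ?_)
    exact ((Scheme.Modules.pushforward f).map_comp _ _).symm.trans
      ((congrArg (Scheme.Modules.pushforward f).map (totι_map_right (F := BX) (L := J) ((pullCx f).map φ) p q k h).symm).trans
        ((Scheme.Modules.pushforward f).map_comp _ _))

/-- The projection map is bijective at a shift of the structure sheaf. -/
theorem isIso_θc_single (n : ℤ) : IsIso ((θc f J).app
    ((HomologicalComplex.single Y.Modules (ComplexShape.up ℤ) n).obj (Coh.structureModule Y))) := by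
  let S := (HomologicalComplex.single Y.Modules (ComplexShape.up ℤ) n).obj (Coh.structureModule Y)
  have : ∀ k, IsIso (((θc f J).app S).f k) := fun k => by
    have h : k - n + n = k := by omega
    have hz : ∀ q, q ≠ n → IsZero (S.X q) := fun q hq => HomologicalComplex.isZero_single_obj_X _ _ _ _ hq
    have h1 := isIso_totι BY ((pushCx f).obj J) S (k - n) n k h hz
    have h2 := isIso_totι BX J ((pullCx f).obj S) (k - n) n k h
      fun q hq => (Scheme.Modules.pullback f).map_isZero (hz q hq)
    have h3 : IsIso ((θ f (J.X (k - n))).app (S.X n)) :=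
      (NatTrans.isIso_app_iff_of_iso (θ f (J.X (k - n)))
        (HomologicalComplex.singleObjXSelf (ComplexShape.up ℤ) n (Coh.structureModule Y))).2 (isIso_θ_unit f _)
    have h4 : IsIso (totι BY ((pushCx f).obj J) S (k - n) n k h ≫ θX f J S k) := by
      rw [totι_θX]
      exact IsIso.comp_isIso' h3 (Functor.map_isIso (Scheme.Modules.pushforward f) (totι BX J ((pullCx f).obj S) (k - n) n k h))
    exact @IsIso.of_isIso_comp_left _ _ _ _ _ _ (θX f J S k) h1 h4
  exact HomologicalComplex.Hom.isIso_of_components _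

end Groth.Agent.KFlat.ProjChain
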