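import Groth.Agent.KFlat.ProjChain
import Groth.Agent.KFlat.ExactComp
import Groth.Agent.KFlat.PerfectDual
import Groth.Agent.KFlat.RPushBase
import Groth.Agent.KFlat.DerivedAdj
import Groth.Agent.KFlat.Brutal
import Groth.Agent.KFlat.LpullComp

/-!
# The projection formula for perfect complexes
-/

set_option autoImplicit false
set_option linter.unusedSectionVars false

universe u

open CategoryTheory CategoryTheory.Limits AlgebraicGeometry CategoryTheory.Pretriangulated
open Groth.Agent.KFlat.Pull Groth.Agent.KFlat.LTensor Groth.Agent.KFlat.WeakKInj Groth.Agent.KFlat.RPush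
open Groth.Agent.KFlat.UnitCx Groth.Agent.KFlat.StalkD Groth.Agent.KFlat.StalkCx Groth.Agent.KFlat.ProjFormula
open Groth.Agent.KFlat.ExtZeroTensorCx

attribute [local instance] HasDerivedCategory.standard

namespace Groth.Agent.KFlat.ProjPerfect

section General

variable {C C' : Type*} [Category C] [Category C'] [Preadditive C] [Preadditive C']

/-- Natural transformations of additive functors at finite sums. -/
theorem isIso_app_of_decomp {F G : C ⥤ C'} [F.Additive] [G.Additive] (η : F ⟶ G) {M O : C} {k : ℕ}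
    (i : Fin k → (O ⟶ M)) (p : Fin k → (M ⟶ O)) (total : ∑ a, p a ≫ i a = 𝟙 M) [IsIso (η.app O)] :
    IsIso (η.app M) := by
  refine ⟨∑ a, G.map (p a) ≫ inv (η.app O) ≫ F.map (i a), ?_, ?_⟩
  · rw [Preadditive.comp_sum]
    calc ∑ a, η.app M ≫ G.map (p a) ≫ inv (η.app O) ≫ F.map (i a) = ∑ a, F.map (p a ≫ i a) :=
          Finset.sum_congr rfl fun a _ => by
            rw [← η.naturality_assoc, IsIso.hom_inv_id_assoc, F.map_comp]
      _ = 𝟙 _ := by rw [← Functor.map_sum, total, F.map_id]
  · rw [Preadditive.sum_comp]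
    calc ∑ a, (G.map (p a) ≫ inv (η.app O) ≫ F.map (i a)) ≫ η.app M = ∑ a, G.map (p a ≫ i a) :=
          Finset.sum_congr rfl fun a _ => by
            rw [Category.assoc, Category.assoc, η.naturality, IsIso.inv_hom_id_assoc, G.map_comp]
      _ = 𝟙 _ := by rw [← Functor.map_sum, total, G.map_id]

end General

section Flip

variable {Y : Scheme.{u}}

/-- Symmetry of the tensor product, natural in the second variable. -/
noncomputable def flipNat (F : CochainComplex Y.Modules ℤ) :
    (DCoh.tensorCx (X := Y)).flip.obj F ≅ (DCoh.tensorCx (X := Y)).obj F :=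
  (Groth.Agent.KFlat.tensFlipIso Y.sheaf).app F

/-- Symmetry, in the derived category. -/
noncomputable def flipQ (F : CochainComplex Y.Modules ℤ) :
    DCoh.tensorCxQ F ≅ (DCoh.tensorCx (X := Y)).obj F ⋙ DerivedCategory.Q :=
  Functor.isoWhiskerRight (flipNat F) _

/-- The derived tensor product through resolutions, in the second variable. -/
noncomputable def ltObjIso (F : CochainComplex Y.Modules ℤ) [DCoh.HasLTensorCx F] :
    DerivedCategory.Q ⋙ DCoh.LTensorCx F ≅ resY Y ⋙ (DCoh.tensorCx (X := Y)).obj F ⋙ DerivedCategory.Q :=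
  LTensorAssoc.ltIso F ≪≫ Functor.isoWhiskerLeft (resY Y) (flipQ F)

end Flip

variable {X Y : Scheme.{u}} (f : X ⟶ Y) [DCoh.HasRpush f] [DCoh.HasLpull f]
  (J : CochainComplex X.Modules ℤ) [J.IsKInjective]

/-- The direct image of `J`. -/
noncomputable def fJ : CochainComplex Y.Modules ℤ := (pushCx f).obj J

variable [DCoh.HasLTensorCx (fJ f J)] [DCoh.HasLTensorCx J]

local notation "QY" => DerivedCategory.Q (C := Y.Modules)
local notation "sglY" => HomologicalComplex.single Y.Modules (ComplexShape.up ℤ)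

/-- `M ↦ M ⊗ᴸ f_* J`. -/
noncomputable abbrev A : DCoh.D Y ⥤ DCoh.D Y := DCoh.LTensorCx (fJ f J)

/-- `M ↦ Rf_* (Lf^* M ⊗ᴸ J)`. -/
noncomputable abbrev B : DCoh.D Y ⥤ DCoh.D Y := (DCoh.Lpull f ⋙ DCoh.LTensorCx J) ⋙ DCoh.Rpush f

/-- The left hand side through resolutions. -/
noncomputable def eA :
    QY ⋙ A f J ≅ resY Y ⋙ (DCoh.tensorCx (X := Y)).obj (fJ f J) ⋙ QY :=
  ltObjIso _

/-- The right hand side through resolutions. -/
noncomputable def eB :
    QY ⋙ B f J ≅ resY Y ⋙ (pullCx f ⋙ (DCoh.tensorCx (X := X)).obj J ⋙ injRes X ⋙ pushCx f) ⋙ QY :=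
  have : ∀ M, IsIso ((Functor.whiskerLeft (resY Y ⋙ pullCx f) (toTensor J)).app M) := fun M =>
    isIso_toTensor J (isKFlat_pullCx f (isKFlat_resY M))
  have : IsIso (Functor.whiskerLeft (resY Y ⋙ pullCx f) (toTensor J)) := NatIso.isIso_of_isIso_app _
  (Functor.associator _ _ _).symm ≪≫ Functor.isoWhiskerRight ((Functor.associator _ _ _).symm ≪≫
      Functor.isoWhiskerRight (Groth.Agent.KFlat.Pull.lpullIso f) _ ≪≫ Functor.associator _ _ _ ≪≫
      Functor.isoWhiskerLeft (resY Y) (Functor.associator _ _ _) ≪≫ (Functor.associator _ _ _).symm ≪≫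
      asIso (Functor.whiskerLeft (resY Y ⋙ pullCx f) (toTensor J)) ≪≫
      Functor.isoWhiskerLeft (resY Y ⋙ pullCx f)
        (flipQ J)) _ ≪≫
    Functor.associator _ _ _ ≪≫ Functor.isoWhiskerLeft (resY Y ⋙ pullCx f)
      (Functor.associator _ _ _ ≪≫ Functor.isoWhiskerLeft _ (rpushIso f))

/-- The projection map on complexes, with resolutions. -/
noncomputable def νc : (DCoh.tensorCx (X := Y)).obj (fJ f J) ⟶
    pullCx f ⋙ (DCoh.tensorCx (X := X)).obj J ⋙ injRes X ⋙ pushCx f :=
  (ProjChain.θc f J : (DCoh.tensorCx (X := Y)).obj (fJ f J) ⟶ _) ≫ Functor.whiskerLeft (pullCx f) (Functor.whiskerLeft ((DCoh.tensorCx (X := X)).obj J)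
    ((Functor.leftUnitor (pushCx f)).inv ≫ Functor.whiskerRight (injι X) (pushCx f)))

/-- The projection map. -/
noncomputable def ν : A f J ⟶ B f J :=
  Localization.liftNatTrans (QY) (HomologicalComplex.quasiIso Y.Modules (ComplexShape.up ℤ))
    ((QY) ⋙ A f J) ((QY) ⋙ B f J) _ _
    ((eA f J).hom ≫ Functor.whiskerLeft (resY Y) (Functor.whiskerRight (νc f J) _) ≫ (eB f J).inv)

theorem isIso_ν_app_Q (P : CochainComplex Y.Modules ℤ)
    (h : IsIso ((QY).map ((νc f J).app ((resY Y).obj P)))) : IsIso ((ν f J).app ((QY).obj P)) := by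
  rw [ν, Localization.liftNatTrans_app]
  have h1 : IsIso (((eA f J).hom ≫ Functor.whiskerLeft (resY Y) (Functor.whiskerRight (νc f J) _) ≫
      (eB f J).inv).app P) :=
    IsIso.comp_isIso' (inferInstanceAs (IsIso ((eA f J).hom.app P)))
      (IsIso.comp_isIso' h (inferInstanceAs (IsIso ((eB f J).inv.app P))))
  exact IsIso.comp_isIso' inferInstance (IsIso.comp_isIso' h1 inferInstance)

theorem isIso_Q_push_injRes_map {M M' : CochainComplex X.Modules ℤ} (q : M ⟶ M') [QuasiIso q] :
    IsIso ((QY).map ((pushCx f).map ((injRes X).map q))) :=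
  (NatIso.isIso_map_iff (rpushIso f) q).1
    (inferInstanceAs (IsIso ((DCoh.Rpush f).map (DerivedCategory.Q.map q))))

theorem isIso_νc_resY (S : CochainComplex Y.Modules ℤ) (hS : DCoh.IsKFlat S)
    (h : IsIso ((QY).map ((νc f J).app S))) : IsIso ((QY).map ((νc f J).app ((resY Y).obj S))) := by
  let π := (resYπ Y).app S
  have hπ : QuasiIso π := quasiIso_resYπ S
  have h1 : QuasiIso (((DCoh.tensorCx (X := Y)).obj (fJ f J)).map π) :=
    @Groth.Agent.KFlat.quasiIso_tens_map _ _ _ Y.sheaf _ _ π hπ (isKFlat_resY S) hS _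
  have h2 : QuasiIso ((pullCx f).map π) := quasiIso_pullCx f π (isKFlat_resY S) hS
  have h3 : QuasiIso (((DCoh.tensorCx (X := X)).obj J).map ((pullCx f).map π)) :=
    @Groth.Agent.KFlat.quasiIso_tens_map _ _ _ X.sheaf _ _ _ h2 (isKFlat_pullCx f (isKFlat_resY S))
      (isKFlat_pullCx f hS) _
  have e1 : IsIso ((QY).map (((DCoh.tensorCx (X := Y)).obj (fJ f J)).map π)) := inferInstance
  have e2 := isIso_Q_push_injRes_map f (((DCoh.tensorCx (X := X)).obj J).map ((pullCx f).map π))
  have hn : (QY).map (((DCoh.tensorCx (X := Y)).obj (fJ f J)).map π) ≫ (QY).map ((νc f J).app S) =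
      (QY).map ((νc f J).app ((resY Y).obj S)) ≫
        (QY).map ((pushCx f).map ((injRes X).map (((DCoh.tensorCx (X := X)).obj J).map ((pullCx f).map π)))) :=
    ((QY).map_comp _ _).symm.trans ((congrArg (QY).map ((νc f J).naturality π)).trans ((QY).map_comp _ _))
  have h4 : IsIso ((QY).map ((νc f J).app ((resY Y).obj S)) ≫ (QY).map ((pushCx f).map
      ((injRes X).map (((DCoh.tensorCx (X := X)).obj J).map ((pullCx f).map π))))) := by
    rw [← hn]
    exact IsIso.comp_isIso' e1 h
  exact @IsIso.of_isIso_comp_right _ _ _ _ _ _ _ e2 h4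

omit [DCoh.HasRpush f] [DCoh.HasLpull f] [J.IsKInjective] [DCoh.HasLTensorCx (fJ f J)]
  [DCoh.HasLTensorCx J] in
theorem isKFlat_single_one (X : Scheme.{u}) (n : ℤ) :
    DCoh.IsKFlat ((HomologicalComplex.single X.Modules (ComplexShape.up ℤ) n).obj (Coh.structureModule X)) :=
  Groth.Agent.KFlat.isKFlat_of_iso (O := X.sheaf)
    (((CochainComplex.singleFunctors X.Modules).shiftIso (-n) n 0 (neg_add_cancel n)).app _)
    (PerfectDual.isKFlat_oneShift (-n))

theorem isIso_ν_single (n : ℤ) : IsIso ((ν f J).app ((QY).obj ((sglY n).obj (Coh.structureModule Y)))) := by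
  refine isIso_ν_app_Q f J _ (isIso_νc_resY f J _ (isKFlat_single_one Y n) ?_)
  let M := ((DCoh.tensorCx (X := X)).obj J).obj ((pullCx f).obj ((sglY n).obj (Coh.structureModule Y)))
  let eS : (pullCx f).obj ((sglY n).obj (Coh.structureModule Y)) ≅ (oneCx X)⟦-n⟧ :=
    (HomologicalComplex.singleMapHomologicalComplex (Scheme.Modules.pullback f) (ComplexShape.up ℤ) n).app _ ≪≫
      (HomologicalComplex.single _ _ n).mapIso (Groth.Agent.QCoh.pullbackUnitIso f) ≪≫
      (((CochainComplex.singleFunctors X.Modules).shiftIso (-n) n 0 (neg_add_cancel n)).app _).symm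
  have hM : M.IsKInjective := CochainComplex.isKInjective_of_iso
    ((((DCoh.tensorCx (X := X)).obj J).mapIso eS) ≪≫ (PerfectDual.flipShiftIso (-n)).app J).symm
  have h1 := isIso_toRpush f M
  have h2 := isIso_toRpush f ((injRes X).obj M)
  have h3 : IsIso ((QY).map ((pushCx f).map ((injι X).app M))) := by
    have hn : (QY).map ((pushCx f).map ((injι X).app M)) ≫ (toRpush f).app ((injRes X).obj M) =
        (toRpush f).app M ≫ (DCoh.Rpush f).map (DerivedCategory.Q.map ((injι X).app M)) :=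
      (toRpush f).naturality ((injι X).app M)
    have : IsIso ((QY).map ((pushCx f).map ((injι X).app M)) ≫ (toRpush f).app ((injRes X).obj M)) := by
      rw [hn]
      infer_instance
    exact IsIso.of_isIso_comp_right _ ((toRpush f).app ((injRes X).obj M))
  let S := (sglY n).obj (Coh.structureModule Y)
  have h0 : IsIso ((QY).map ((ProjChain.θc f J).app S)) :=
    @Functor.map_isIso _ _ _ _ _ _ (QY) _ (ProjChain.isIso_θc_single f J n)
  have e : (QY).map ((νc f J).app S) =
      (QY).map ((ProjChain.θc f J).app S) ≫ (QY).map ((pushCx f).map ((injι X).app M)) :=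
    (congrArg (QY).map (congrArg ((ProjChain.θc f J).app S ≫ ·) (Category.id_comp _))).trans ((QY).map_comp _ _)
  exact (congrArg (fun t => IsIso t) e).mpr (IsIso.comp_isIso' h0 h3)

/-! ### Locality -/

section Local

variable (V : Y.Opens)

/-- The projection map restricted to an open. -/
noncomputable abbrev η : A f J ⋙ DCoh.restrictD V.ι ⟶ B f J ⋙ DCoh.restrictD V.ι :=
  Functor.whiskerRight (ν f J) _

omit [DCoh.HasRpush f] [DCoh.HasLpull f] [J.IsKInjective] [DCoh.HasLTensorCx (fJ f J)]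
  [DCoh.HasLTensorCx J] in
theorem isIso_restrict_of_hStalk {S : Scheme.{u}} (W : S.Opens) {M M' : DCoh.D S} (α : M ⟶ M')
    (h : ∀ y : S, y ∈ W → HStalkIso y α) : IsIso ((DCoh.restrictD W.ι).map α) :=
  isIso_of_hStalk _ fun z i =>
    (NatIso.isIso_map_iff (Functor.isoWhiskerRight (MapHomology.iso (Scheme.Modules.restrictFunctor W.ι) i)
      (DerSch.stalkFunctor (W : Scheme.{u}) z)) α).2 ((stalkIso_restrict_iff z _).2 (h z.1 z.2 i))

/-- Maps of K-flat complexes bijective on the stalks over `V`. -/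
theorem isIso_η_iff {M M' : CochainComplex Y.Modules ℤ} (φ : M ⟶ M') (hM : DCoh.IsKFlat M)
    (hM' : DCoh.IsKFlat M') (hφ : ∀ y : Y, y ∈ V → ∀ q, StalkIso y (φ.f q)) :
    IsIso ((η f J V).app ((QY).obj M)) ↔ IsIso ((η f J V).app ((QY).obj M')) := by
  have ha : IsIso ((A f J ⋙ DCoh.restrictD V.ι).map ((QY).map φ)) := by
    refine isIso_restrict_of_hStalk V _ fun y hy => ?_
    have : IsIso ((stCx y).map φ) :=
      have : ∀ q, IsIso (((stCx y).map φ).f q) := fun q => hφ y hy q
      HomologicalComplex.Hom.isIso_of_components _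
    exact @HStalkIso.conj Y y _ _ _ _ _ _ (hStalkIso_Q _ (isIso_stCx_tens φ (fJ f J))) _ _
      (isIso_toTensor _ hM) (isIso_toTensor _ hM') ((toTensor (fJ f J)).naturality φ)
  have hb : IsIso ((B f J ⋙ DCoh.restrictD V.ι).map ((QY).map φ)) := by
    have := RPush.hasRpush (f ∣_ V)
    refine (NatIso.isIso_map_iff (RPushBase.restrictRpushIso f V)
      ((DCoh.LTensorCx J).map ((DCoh.Lpull f).map ((QY).map φ)))).2 ?_
    have h0 : IsIso ((DCoh.restrictD (f ⁻¹ᵁ V).ι).map
        ((DCoh.LTensorCx J).map ((DCoh.Lpull f).map ((QY).map φ)))) := by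
      refine isIso_restrict_of_hStalk (f ⁻¹ᵁ V) _ fun z hz => ?_
      have : IsIso ((stCx z).map ((pullCx f).map φ)) :=
        have : ∀ q, IsIso (((stCx z).map ((pullCx f).map φ)).f q) := fun q =>
          @stalkIso_pull _ _ f _ _ z (φ.f q) (hφ (f z) hz q)
        HomologicalComplex.Hom.isIso_of_components _
      have hw : (DCoh.LTensorCx J).map ((DCoh.Lpull f).map ((QY).map φ)) ≫
          ((DCoh.LTensorCx J).map ((toPull f).app M') ≫ (toTensor J).app ((pullCx f).obj M')) =
          ((DCoh.LTensorCx J).map ((toPull f).app M) ≫ (toTensor J).app ((pullCx f).obj M)) ≫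
            DerivedCategory.Q.map (((DCoh.tensorCx (X := X)).map ((pullCx f).map φ)).app J) := by
        refine ((Category.assoc _ _ _).symm.trans ((congrArg (· ≫ _) (((DCoh.LTensorCx J).map_comp _ _).symm.trans
          ((congrArg (DCoh.LTensorCx J).map ((toPull f).naturality φ)).trans
            ((DCoh.LTensorCx J).map_comp _ _)))).trans (Category.assoc _ _ _))).trans ?_
        exact (congrArg (_ ≫ ·) ((toTensor J).naturality ((pullCx f).map φ))).trans (Category.assoc _ _ _).symm
      have := isIso_toPull f hM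
      have := isIso_toPull f hM'
      have := isIso_toTensor J (isKFlat_pullCx f hM)
      have := isIso_toTensor J (isKFlat_pullCx f hM')
      exact @HStalkIso.conj X z _ _ _ _ _ _ (hStalkIso_Q _ (isIso_stCx_tens ((pullCx f).map φ) J)) _ _
        (IsIso.comp_isIso' inferInstance inferInstance) (IsIso.comp_isIso' inferInstance inferInstance) hw
    exact inferInstanceAs (IsIso ((DCoh.Rpush (f ∣_ V)).map _))
  have hn := (η f J V).naturality ((QY).map φ)
  constructor
  · intro h
    have : IsIso ((A f J ⋙ DCoh.restrictD V.ι).map ((QY).map φ) ≫ (η f J V).app ((QY).obj M')) := by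
      rw [hn]
      exact IsIso.comp_isIso' h hb
    exact @IsIso.of_isIso_comp_left _ _ _ _ _ _ _ ha this
  · intro h
    have : IsIso ((η f J V).app ((QY).obj M) ≫ (B f J ⋙ DCoh.restrictD V.ι).map ((QY).map φ)) := by
      rw [← hn]
      exact IsIso.comp_isIso' ha h
    exact @IsIso.of_isIso_comp_right _ _ _ _ _ _ _ hb this

/-- The same, for all shifts. -/
theorem allShifts_iff {M M' : CochainComplex Y.Modules ℤ} (φ : M ⟶ M') (hM : DCoh.IsKFlat M)
    (hM' : DCoh.IsKFlat M') (hφ : ∀ y : Y, y ∈ V → ∀ q, StalkIso y (φ.f q)) :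
    NatTransClosed.AllShifts (η f J V) ((QY).obj M) ↔ NatTransClosed.AllShifts (η f J V) ((QY).obj M') := by
  refine forall_congr' fun n => ?_
  refine ((NatTrans.isIso_app_iff_of_iso (η f J V) (((QY).commShiftIso n).app M)).symm.trans
    ?_).trans (NatTrans.isIso_app_iff_of_iso (η f J V) (((QY).commShiftIso n).app M'))
  exact isIso_η_iff f J V (φ⟦n⟧') (Groth.Agent.KFlat.isKFlat_shift (O := Y.sheaf) hM n)
    (Groth.Agent.KFlat.isKFlat_shift (O := Y.sheaf) hM' n) fun y hy q => hφ y hy _

theorem allShifts_single_one (k : ℤ) :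
    NatTransClosed.AllShifts (η f J V) ((QY).obj ((sglY k).obj (Coh.structureModule Y))) := fun n => by
  have h := (NatTrans.isIso_app_iff_of_iso (ν f J) (((QY).commShiftIso n).symm.app _ ≪≫ (QY).mapIso
    (((CochainComplex.singleFunctors Y.Modules).shiftIso n (k - n) k (by omega)).app _)).symm).1
    (isIso_ν_single f J (k - n))
  exact @Functor.map_isIso _ _ _ _ _ _ (DCoh.restrictD V.ι) _ h

omit [DCoh.HasRpush f] [DCoh.HasLpull f] [J.IsKInjective] [DCoh.HasLTensorCx (fJ f J)]
  [DCoh.HasLTensorCx J] in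
theorem isIso_restrict_counit (M : Y.Modules) :
    IsIso ((Scheme.Modules.restrictFunctor V.ι).map ((CxOX.extZeroAdj V.ι).counit.app M)) := by
  have h := (CxOX.extZeroAdj V.ι).right_triangle_components M
  have : IsIso ((CxOX.extZeroAdj V.ι).unit.app ((Scheme.Modules.restrictFunctor V.ι).obj M)) := inferInstance
  have : IsIso ((CxOX.extZeroAdj V.ι).unit.app ((Scheme.Modules.restrictFunctor V.ι).obj M) ≫
      (Scheme.Modules.restrictFunctor V.ι).map ((CxOX.extZeroAdj V.ι).counit.app M)) := by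
    rw [h]
    infer_instance
  exact IsIso.of_isIso_comp_left ((CxOX.extZeroAdj V.ι).unit.app _) _

theorem allShifts_jS_one (k : ℤ) : NatTransClosed.AllShifts (η f J V) ((QY).obj ((jSc V).obj
    ((HomologicalComplex.single (V : Scheme.{u}).Modules (ComplexShape.up ℤ) k).obj
      (Coh.structureModule (V : Scheme.{u}))))) := by
  let u₀ : Coh.structureModule (V : Scheme.{u}) ≅
      (Scheme.Modules.restrictFunctor V.ι).obj (Coh.structureModule Y) :=
    ((Scheme.Modules.restrictFunctorIsoPullback V.ι).app _ ≪≫ Groth.Agent.QCoh.pullbackUnitIso V.ι).symm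
  let φ₀ : (CxOX.extZero V.ι).obj (Coh.structureModule (V : Scheme.{u})) ⟶ Coh.structureModule Y :=
    (CxOX.extZero V.ι).map u₀.hom ≫ (CxOX.extZeroAdj V.ι).counit.app _
  have hφ₀ : IsIso ((Scheme.Modules.restrictFunctor V.ι).map φ₀) := by
    have := isIso_restrict_counit V (Coh.structureModule Y)
    rw [Functor.map_comp]
    infer_instance
  let φ := ((HomologicalComplex.singleMapHomologicalComplex (CxOX.extZero V.ι) (ComplexShape.up ℤ) k).app
    (Coh.structureModule (V : Scheme.{u}))).hom ≫ (sglY k).map φ₀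
  refine (allShifts_iff f J V φ (isKFlat_extZero V (isKFlat_single_one _ k)) (isKFlat_single_one Y k)
    fun y hy q => ?_).2 (allShifts_single_one f J V k)
  have h0 : StalkIso y φ₀ := (stalkIso_restrict_iff (V := V) ⟨y, hy⟩ φ₀).1 inferInstance
  have h1 : IsIso ((stCx y).map φ) := by
    have := isIso_stCx_single (y := y) φ₀ k
    rw [Functor.map_comp]
    infer_instance
  exact inferInstanceAs (IsIso ((HomologicalComplex.eval _ _ q).map ((stCx y).map φ)))

theorem midExact_A : NatTransClosed.MidExact (A f J ⋙ DCoh.restrictD V.ι) :=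
  ExactComp.midExact_comp_right (ExactComp.midExact_LT _) (ExtZero.extZeroDAdj V)

theorem midExact_B : NatTransClosed.MidExact (B f J ⋙ DCoh.restrictD V.ι) :=
  ExactComp.midExact_comp_right
    (ExactComp.midExact_comp_right (ExactComp.midExact_Lpull_LT f J) (DerivedAdj.adj f)) (ExtZero.extZeroDAdj V)

omit [DCoh.HasRpush f] [DCoh.HasLpull f] [J.IsKInjective] [DCoh.HasLTensorCx (fJ f J)]
  [DCoh.HasLTensorCx J] in
theorem additive_Lpull [DCoh.HasLpull f] : (DCoh.Lpull f).Additive := by
  have := RPush.hasRpush f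
  exact (DerivedAdj.adj f).left_adjoint_additive

variable {E E' : CochainComplex (V : Scheme.{u}).Modules ℤ}
  (π : DualAdj.StrictPair (Coh.structureModule (V : Scheme.{u})) E E')

include π in
theorem allShifts_single (k : ℤ) : NatTransClosed.AllShifts (η f J V) ((QY).obj ((jSc V).obj
    ((HomologicalComplex.single (V : Scheme.{u}).Modules (ComplexShape.up ℤ) k).obj (E.X k)))) := fun n => by
  have := LTensorExact.additive_LTensorCx (fJ f J)
  have := LTensorExact.additive_LTensorCx J
  have := additive_Lpull f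
  let T := HomologicalComplex.single (V : Scheme.{u}).Modules (ComplexShape.up ℤ) k ⋙ jSc V ⋙ (QY) ⋙
    shiftFunctor (DCoh.D Y) n
  have : IsIso ((η f J V).app (T.obj (Coh.structureModule (V : Scheme.{u})))) := allShifts_jS_one f J V k n
  refine isIso_app_of_decomp (η f J V) (fun a => T.map ((π.c k).i a)) (fun a => T.map ((π.c k).p a)) ?_
  calc ∑ a, T.map ((π.c k).p a) ≫ T.map ((π.c k).i a) = ∑ a, T.map ((π.c k).p a ≫ (π.c k).i a) :=
        Finset.sum_congr rfl fun a _ => (T.map_comp _ _).symm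
    _ = 𝟙 _ := by rw [← Functor.map_sum, (π.c k).total, T.map_id]

include π in
theorem allShifts_model : NatTransClosed.AllShifts (η f J V) ((QY).obj ((jSc V).obj E)) := by
  obtain ⟨⟨a, b, hv⟩, -⟩ := StrictDual.isStrictlyPerfect_left π
  have := LTensorExact.additive_LTensorCx (fJ f J)
  have := LTensorExact.additive_LTensorCx J
  have := additive_Lpull f
  have key : ∀ d : ℕ, NatTransClosed.AllShifts (η f J V) ((QY).obj ((jSc V).obj (ge E (b + 1 - d)))) := by
    intro d
    induction d with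
    | zero =>
      intro n
      have hz : IsZero (ge E (b + 1 - ((0 : ℕ) : ℤ))) := by
        rw [IsZero.iff_id_eq_zero]
        refine HomologicalComplex.hom_ext _ _ fun q => IsZero.eq_of_src ?_ _ _
        change IsZero (geX E (b + 1 - ((0 : ℕ) : ℤ)) q)
        rw [geX]
        split_ifs with h
        · exact hv q (Or.inr (by omega))
        · exact isZero_zero _
      have hz' := (shiftFunctor (DCoh.D Y) n).map_isZero ((jSc V ⋙ QY).map_isZero hz)
      exact ((A f J ⋙ DCoh.restrictD V.ι).map_isZero hz').isIso ((B f J ⋙ DCoh.restrictD V.ι).map_isZero hz') _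
    | succ d ih =>
      have e : b + 1 - (d : ℤ) = b + 1 - ((d + 1 : ℕ) : ℤ) + 1 := by omega
      rw [e] at ih
      let m := b + 1 - ((d + 1 : ℕ) : ℤ)
      let S := (geSeq E m).map (jSc V)
      have hS : S.ShortExact := CellGen.shortExact_of_splittings fun q => (geSplitting E m q).map (CxOX.extZero V.ι)
      exact NatTransClosed.allShifts_obj₂ (η f J V) (midExact_A f J V) (midExact_B f J V) _
        (DerivedCategory.triangleOfSES_distinguished hS) ih (allShifts_single f J V π m)
  have hi : ∀ q, IsIso ((geToSelf E (b + 1 - ((b + 1 - a).toNat : ℤ))).f q) := fun q => by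
    by_cases hq : b + 1 - ((b + 1 - a).toNat : ℤ) ≤ q
    · exact ⟨geπ E _ q, geι_π E _ _, geπ_ι E hq⟩
    · exact (isZero_ge_X E (by omega)).isIso (hv q (Or.inl (by omega))) _
  have := HomologicalComplex.Hom.isIso_of_components (geToSelf E (b + 1 - ((b + 1 - a).toNat : ℤ)))
  exact NatTransClosed.AllShifts.iso (η f J V) ((QY).mapIso ((jSc V).mapIso (asIso (geToSelf E _))))
    (key (b + 1 - a).toNat)

/-- The counit on complexes. -/
noncomputable def counitCx (P : CochainComplex Y.Modules ℤ) :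
    (jSc V).obj ((DCoh.restrictCx V).obj P) ⟶ P where
  f q := (CxOX.extZeroAdj V.ι).counit.app (P.X q)
  comm' i j _ := ((CxOX.extZeroAdj V.ι).counit.naturality (P.d i j)).symm

include π in
theorem isIso_η_perfect (P : CochainComplex Y.Modules ℤ) (hP : DCoh.IsKFlat P)
    (e : DerivedCategory.Q.obj ((DCoh.restrictCx V).obj P) ≅ DerivedCategory.Q.obj E) :
    IsIso ((η f J V).app ((QY).obj P)) := by
  let fQ := (CxOX.extZero V.ι).mapDerivedCategoryFactors
  let e' : (QY).obj ((jSc V).obj E) ≅ (QY).obj ((jSc V).obj ((DCoh.restrictCx V).obj P)) :=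
    (fQ.app E).symm ≪≫ (CxOX.extZero V.ι).mapDerivedCategory.mapIso e.symm ≪≫ fQ.app _
  exact NatTransClosed.AllShifts.app (η f J V) ((allShifts_iff f J V (counitCx V P)
    (isKFlat_extZero V (LocalD.isKFlat_restrict hP V)) hP (fun y hy q => by
      have := isIso_restrict_counit V (P.X q)
      exact (stalkIso_restrict_iff (V := V) ⟨y, hy⟩ ((CxOX.extZeroAdj V.ι).counit.app (P.X q))).1 inferInstance)).1
    (NatTransClosed.AllShifts.iso (η f J V) e' (allShifts_model f J V π)))

end Local

theorem isIso_ν_perfect (P : CochainComplex Y.Modules ℤ) (hP : DCoh.IsKFlat P)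
    (hperf : DCoh.IsPerfect ((QY).obj P)) : IsIso ((ν f J).app ((QY).obj P)) := by
  refine isIso_of_hStalk _ fun y => ?_
  obtain ⟨V, hyV, -, E, E', π, -, ⟨e⟩⟩ := StrictDual.exists_pair hperf y ⊤ trivial P ⟨Iso.refl _⟩
  have := isIso_η_perfect f J V π P hP e
  exact hStalkIso_of_restrict (V := V) ⟨y, hyV⟩ _ (@hStalkIso_of_isIso _ _ _ _ _ this)

/-- The projection formula. -/
theorem nonempty_iso {X Y : Scheme.{u}} (f : X ⟶ Y) [DCoh.HasRpush f] (P : CochainComplex Y.Modules ℤ)
    (hP : DCoh.IsKFlat P) (hperf : DCoh.IsPerfect (DerivedCategory.Q.obj P)) [DCoh.HasLTensorCx P]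
    [DCoh.HasLTensorCx ((pullCx f).obj P)] (E : DCoh.D X) :
    Nonempty ((DCoh.LTensorCx P).obj ((DCoh.Rpush f).obj E) ≅
      (DCoh.Rpush f).obj ((DCoh.LTensorCx ((pullCx f).obj P)).obj E)) := by
  have := hasLpull f
  let J := (injRes X).obj (DerivedCategory.Q.objPreimage E)
  let eJ : DerivedCategory.Q.obj J ≅ E :=
    injQIso.app (DerivedCategory.Q.objPreimage E) ≪≫ DerivedCategory.Q.objObjPreimageIso E
  have := LTensor.hasLTensorCx (fJ f J)
  have := LTensor.hasLTensorCx J
  have := isIso_ν_perfect f J P hP hperf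
  let rp : DerivedCategory.Q.obj (fJ f J) ≅ (DCoh.Rpush f).obj (DerivedCategory.Q.obj J) :=
    @asIso _ _ _ _ ((toRpush f).app J) (isIso_toRpush f J)
  let l₁ : (DCoh.LTensorCx P).obj (DerivedCategory.Q.obj (fJ f J)) ≅
      DerivedCategory.Q.obj ((DCoh.tensorCx.obj (fJ f J)).obj P) :=
    @asIso _ _ _ _ ((toTensor P).app (fJ f J)) (isIso_toTensor_of_kflat P hP _)
  let l₂ : (A f J).obj (DerivedCategory.Q.obj P) ≅ DerivedCategory.Q.obj ((DCoh.tensorCx.obj (fJ f J)).obj P) :=
    (@asIso _ _ _ _ ((toTensor (fJ f J)).app P) (isIso_toTensor _ hP)) ≪≫ (flipQ (fJ f J)).app P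
  let r₁ : (DCoh.LTensorCx J).obj ((DCoh.Lpull f).obj (DerivedCategory.Q.obj P)) ≅
      DerivedCategory.Q.obj ((DCoh.tensorCx.obj J).obj ((pullCx f).obj P)) :=
    (DCoh.LTensorCx J).mapIso (@asIso _ _ _ _ ((toPull f).app P) (isIso_toPull f hP)) ≪≫
      (@asIso _ _ _ _ ((toTensor J).app ((pullCx f).obj P)) (isIso_toTensor _ (isKFlat_pullCx f hP))) ≪≫
      (flipQ J).app _
  let r₂ : (DCoh.LTensorCx ((pullCx f).obj P)).obj (DerivedCategory.Q.obj J) ≅
      DerivedCategory.Q.obj ((DCoh.tensorCx.obj J).obj ((pullCx f).obj P)) :=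
    @asIso _ _ _ _ ((toTensor ((pullCx f).obj P)).app J) (isIso_toTensor_of_kflat _ (isKFlat_pullCx f hP) _)
  exact ⟨(DCoh.LTensorCx P).mapIso ((DCoh.Rpush f).mapIso eJ.symm ≪≫ rp.symm) ≪≫ l₁ ≪≫ l₂.symm ≪≫
    asIso ((ν f J).app (DerivedCategory.Q.obj P)) ≪≫ (DCoh.Rpush f).mapIso (r₁ ≪≫ r₂.symm ≪≫
      (DCoh.LTensorCx ((pullCx f).obj P)).mapIso eJ)⟩

end Groth.Agent.KFlat.ProjPerfect
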