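import Groth.Agent.KFlat.ProjPerfect
import Groth.Agent.KFlat.LTensorMap
import Groth.Agent.DEq.ProjQCoh

/-!
# The projection map at shifts of the structure sheaf
-/

set_option autoImplicit false
set_option linter.unusedSectionVars false

universe u

open CategoryTheory CategoryTheory.Limits AlgebraicGeometry
open Groth.Agent.KFlat.Pull Groth.Agent.KFlat.LTensor Groth.Agent.KFlat.UnitCx Groth.Agent.KFlat.WeakKInj
open Groth.Agent.KFlat.RPush Groth.Agent.KFlat.PerfectDual Groth.Agent.KFlat.ProjFormula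

attribute [local instance] HasDerivedCategory.standard

noncomputable section

namespace Groth.Agent.KFlat.ProjShift

variable {X Y : Scheme.{u}} (f : X ⟶ Y)

local notation "QX" => DerivedCategory.Q (C := X.Modules)
local notation "QY" => DerivedCategory.Q (C := Y.Modules)
local notation "CX" => CochainComplex X.Modules ℤ
local notation "CY" => CochainComplex Y.Modules ℤ

/-- `O[n]`. -/
abbrev S (Z : Scheme.{u}) (n : ℤ) : CochainComplex Z.Modules ℤ := (oneCx Z)⟦n⟧

/-- `f^* (O[n]) ≅ O[n]`. -/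
def pullS (n : ℤ) : (pullCx f).obj (S Y n) ≅ S X n :=
  (((Scheme.Modules.pullback f).mapHomologicalComplex (ComplexShape.up ℤ)).commShiftIso n).app (oneCx Y) ≪≫
    (shiftFunctor CX n).mapIso
      ((HomologicalComplex.singleMapHomologicalComplex (Scheme.Modules.pullback f) (ComplexShape.up ℤ) 0).app
        (Coh.structureModule Y) ≪≫
      (HomologicalComplex.single _ _ 0).mapIso (Groth.Agent.QCoh.pullbackUnitIso f))

theorem θc_natural {I J : CX} (g : I ⟶ J) (P : CY) :
    (DCoh.tensorCx.map ((pushCx f).map g)).app P ≫ (ProjChain.θc f J).app P =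
      (ProjChain.θc f I).app P ≫ (pushCx f).map ((DCoh.tensorCx.map g).app ((pullCx f).obj P)) := by
  refine HomologicalComplex.hom_ext _ _ fun k => tot_hom_ext (F := DCoh.tensorBi (X := Y)) fun p q h => ?_
  change totι _ _ P p q k h ≫ (((tot (DCoh.tensorBi (X := Y))).map ((pushCx f).map g)).app P).f k ≫ ProjChain.θX f J P k =
    totι _ _ P p q k h ≫ ProjChain.θX f I P k ≫ (Scheme.Modules.pushforward f).map
      ((((tot (DCoh.tensorBi (X := X))).map g).app ((pullCx f).obj P)).f k)
  refine Eq.trans ?_ (((Category.assoc _ _ _).symm.trans (congrArg (· ≫ _) (ProjChain.totι_θX f I P p q k h))).trans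
    (Category.assoc _ _ _)).symm
  refine ((Category.assoc _ _ _).symm.trans (congrArg (· ≫ _) (totι_map_left ((pushCx f).map g) p q k h))).trans ?_
  refine (Category.assoc _ _ _).trans ((congrArg (_ ≫ ·) (ProjChain.totι_θX f J P p q k h)).trans ?_)
  refine ((Category.assoc _ _ _).symm.trans (congrArg (· ≫ _) (θ_left f (g.f p) (P.X q)))).trans ?_
  refine (Category.assoc _ _ _).trans (congrArg (_ ≫ ·) ?_)
  exact ((Scheme.Modules.pushforward f).map_comp _ _).symm.trans
    ((congrArg (Scheme.Modules.pushforward f).map (totι_map_left g p q k h).symm).trans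
      ((Scheme.Modules.pushforward f).map_comp _ _))

/-- The projection map of complexes at `O[n]`, as a natural transformation. -/
def η0 (n : ℤ) : pushCx f ⋙ shiftFunctor CY n ⟶ shiftFunctor CX n ⋙ pushCx f where
  app J := (flipShiftIso n).inv.app ((pushCx f).obj J) ≫ (ProjChain.θc f J).app (S Y n) ≫
    (pushCx f).map ((DCoh.tensorCx.obj J).map (pullS f n).hom ≫ (flipShiftIso n).hom.app J)
  naturality {I J} g := by
    have h1 := (flipShiftIso (X := Y) n).inv.naturality ((pushCx f).map g)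
    have h2 := θc_natural f g (S Y n)
    have h3 := (flipShiftIso (X := X) n).hom.naturality g
    have h4 := (DCoh.tensorCx.map g).naturality (pullS f n).hom
    change (shiftFunctor CY n).map ((pushCx f).map g) ≫ _ = _ ≫ (pushCx f).map ((shiftFunctor CX n).map g)
    refine ((Category.assoc _ _ _).symm.trans (congrArg (· ≫ _) h1)).trans ?_
    refine (Category.assoc _ _ _).trans (Eq.trans ?_ (Category.assoc _ _ _).symm)
    refine congrArg (_ ≫ ·) ?_
    refine ((Category.assoc _ _ _).symm.trans (congrArg (· ≫ _) h2)).trans ?_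
    refine (Category.assoc _ _ _).trans (Eq.trans ?_ (Category.assoc _ _ _).symm)
    refine congrArg (_ ≫ ·) (((pushCx f).map_comp _ _).symm.trans (Eq.trans ?_ ((pushCx f).map_comp _ _)))
    refine congrArg (pushCx f).map ?_
    refine ((Category.assoc _ _ _).symm.trans (congrArg (· ≫ _) h4.symm)).trans ?_
    exact (Category.assoc _ _ _).trans ((congrArg (_ ≫ ·) h3).trans (Category.assoc _ _ _).symm)

theorem isIso_η0 (n : ℤ) (J : CX) : IsIso ((η0 f n).app J) := by
  have h : IsIso ((ProjChain.θc f J).app (S Y n)) :=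
    (NatTrans.isIso_app_iff_of_iso (ProjChain.θc f J)
      (((CochainComplex.singleFunctors Y.Modules).shiftIso n (-n) 0 (add_neg_cancel n)).app (Coh.structureModule Y))).2
      (ProjChain.isIso_θc_single f J (-n))
  exact IsIso.comp_isIso' inferInstance (IsIso.comp_isIso' h inferInstance)

variable [DCoh.HasRpush f]

/-- `Rf_* (I[n]) → (f_* I)[n]`. -/
def c (n : ℤ) (I : CX) [I.IsKInjective] :
    (DCoh.Rpush f).obj ((QX).obj (I⟦n⟧)) ≅ ((QY).obj ((pushCx f).obj I))⟦n⟧ :=
  (@asIso _ _ _ _ ((toRpush f).app (I⟦n⟧)) (isIso_toRpush_of_weak f (WeakKInj.shift (WeakKInj.of_isKInjective I) n))).symm ≪≫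
    (@asIso _ _ _ _ ((QY).map ((η0 f n).app I)) (have := isIso_η0 f n I; inferInstance)).symm ≪≫
    ((QY).commShiftIso n).app _

theorem c_natural (n : ℤ) {I J : CX} [I.IsKInjective] [J.IsKInjective] (g : I ⟶ J) :
    (DCoh.Rpush f).map ((QX).map (g⟦n⟧')) ≫ (c f n J).hom =
      (c f n I).hom ≫ ((QY).map ((pushCx f).map g))⟦n⟧' := by
  have := isIso_toRpush_of_weak f (WeakKInj.shift (WeakKInj.of_isKInjective I) n)
  have := isIso_toRpush_of_weak f (WeakKInj.shift (WeakKInj.of_isKInjective J) n)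
  have := isIso_η0 f n I
  have := isIso_η0 f n J
  have h1 : (pushQ f).map (g⟦n⟧') ≫ (toRpush f).app (J⟦n⟧) =
      (toRpush f).app (I⟦n⟧) ≫ (DCoh.Rpush f).map ((QX).map (g⟦n⟧')) := (toRpush f).naturality (g⟦n⟧')
  have h2 : (QY).map (((pushCx f).map g)⟦n⟧') ≫ (QY).map ((η0 f n).app J) =
      (QY).map ((η0 f n).app I) ≫ (pushQ f).map (g⟦n⟧') := by
    rw [← Functor.map_comp]
    exact (congrArg (QY).map ((η0 f n).naturality g)).trans ((QY).map_comp _ _)
  have h3 := ((QY).commShiftIso n).hom.naturality ((pushCx f).map g)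
  simp only [c, Iso.trans_hom, Iso.symm_hom, asIso_inv, Iso.app_hom, Category.assoc]
  have a1 : (DCoh.Rpush f).map ((QX).map (g⟦n⟧')) ≫ inv ((toRpush f).app (J⟦n⟧)) =
      inv ((toRpush f).app (I⟦n⟧)) ≫ (pushQ f).map (g⟦n⟧') := by
    rw [IsIso.eq_inv_comp, ← Category.assoc, ← h1, Category.assoc, IsIso.hom_inv_id, Category.comp_id]
  have a2 : (pushQ f).map (g⟦n⟧') ≫ inv ((QY).map ((η0 f n).app J)) =
      inv ((QY).map ((η0 f n).app I)) ≫ (QY).map (((pushCx f).map g)⟦n⟧') := by
    rw [IsIso.eq_inv_comp, ← Category.assoc, ← h2, Category.assoc, IsIso.hom_inv_id, Category.comp_id]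
  rw [← Category.assoc, a1, Category.assoc, ← Category.assoc (((pushQ f).map (g⟦n⟧'))), a2, Category.assoc]
  exact congrArg (_ ≫ ·) (congrArg (_ ≫ ·) h3)

/-- A chain map for each morphism into a K-injective complex. -/
theorem exists_map {I J : CX} [J.IsKInjective] (y : (QX).obj I ⟶ (QX).obj J) : ∃ g : I ⟶ J, (QX).map g = y := by
  let e := DerivedCategory.quotientCompQhIso X.Modules
  obtain ⟨g', hg'⟩ := (CochainComplex.IsKInjective.Qh_map_bijective _ J).2 (e.hom.app I ≫ y ≫ e.inv.app J)
  obtain ⟨g, rfl⟩ := (HomotopyCategory.quotient X.Modules (ComplexShape.up ℤ)).map_surjective g'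
  refine ⟨g, ?_⟩
  have h := e.hom.naturality g
  simp only [Functor.comp_map] at h
  rw [hg'] at h
  simp only [Category.assoc, Iso.inv_hom_id_app] at h
  exact (cancel_epi (e.hom.app I)).1 (by simpa using h.symm)

/-- Testing a shifted morphism out of a direct image. -/
theorem bijective_c (n : ℤ) {J : CX} [J.IsKInjective] {I : CX} [I.IsKInjective] {O : DCoh.D Y}
    (χ : (DCoh.Rpush f).obj ((QX).obj J) ⟶ O)
    (hχ : Function.Bijective fun y : (QX).obj I ⟶ (QX).obj J => (DCoh.Rpush f).map y ≫ χ) :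
    Function.Bijective fun y : (QX).obj (I⟦n⟧) ⟶ (QX).obj (J⟦n⟧) =>
      (DCoh.Rpush f).map y ≫ (c f n J).hom ≫ ((toRpush f).app J ≫ χ)⟦n⟧' := by
  have := isIso_toRpush f I
  let cs := fun M : CX => ((QX).commShiftIso n).app M
  let Φ : ((QX).obj I ⟶ (QX).obj J) ≃ ((QX).obj (I⟦n⟧) ⟶ (QX).obj (J⟦n⟧)) :=
    ((Functor.FullyFaithful.ofFullyFaithful (shiftFunctor (DCoh.D X) n)).homEquiv).trans
      (Iso.homCongr (cs I).symm (cs J).symm)
  let R : ((DCoh.Rpush f).obj ((QX).obj I) ⟶ O) ≃ ((DCoh.Rpush f).obj ((QX).obj (I⟦n⟧)) ⟶ O⟦n⟧) :=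
    ((Iso.homCongr (asIso ((toRpush f).app I)).symm (Iso.refl O)).trans
      (Functor.FullyFaithful.ofFullyFaithful (shiftFunctor (DCoh.D Y) n)).homEquiv).trans
        (Iso.homCongr (c f n I).symm (Iso.refl _))
  refine (Function.Bijective.of_comp_iff _ Φ.bijective).1 ?_
  refine (congrArg Function.Bijective (funext fun y => ?_)).mp (R.bijective.comp hχ)
  obtain ⟨g, rfl⟩ := exists_map y
  have h1 : (QX).map (g⟦n⟧') = Φ ((QX).map g) := by
    simp [Φ, cs, Iso.homCongr, Functor.FullyFaithful.ofFullyFaithful, Functor.FullyFaithful.homEquiv]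
  have h2 : (pushQ f).map g ≫ (toRpush f).app J = (toRpush f).app I ≫ (DCoh.Rpush f).map ((QX).map g) :=
    (toRpush f).naturality g
  simp only [Function.comp_apply]
  rw [← h1, ← Category.assoc, c_natural, Category.assoc, ← Functor.map_comp, ← Category.assoc, ]
  simp only [R, Equiv.trans_apply, Iso.homCongr, Equiv.coe_fn_mk, Iso.refl_hom, Category.comp_id, Iso.symm_inv,
    asIso_hom, Functor.FullyFaithful.homEquiv_apply]
  refine congrArg (fun x => (c f n I).hom ≫ x⟦n⟧') ?_
  exact ((Category.assoc _ _ _).symm.trans (congrArg (· ≫ χ) h2.symm))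

end Groth.Agent.KFlat.ProjShift
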