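import Groth.Agent.KFlat.GoodLocus
import Groth.Agent.SitePull.Push

/-!
# Derived direct images of derived complete objects
-/

set_option autoImplicit false

universe u

open CategoryTheory CategoryTheory.Limits Opposite
open ModSite DerComp Groth.Agent.PullFlat Groth.Agent.KFlat Groth.Agent.KFlat.SeqCrit Groth.Agent.SitePull DerivedCategory

attribute [local instance] HasDerivedCategory.standard

namespace Groth.Agent.KFlat.PushComplete

variable {C D : Type u} [SmallCategory C] [SmallCategory D] {J : GrothendieckTopology C}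
  {K : GrothendieckTopology D} {O_C : Sheaf J CommRingCat.{u}} {O_D : Sheaf K CommRingCat.{u}}
  (f : RMor O_C O_D)

/-- The image of a section under the structure map. -/
noncomputable def img (W : D) (g : O_D.obj.obj (op W)) : O_C.obj.obj (op (f.fn.obj W)) :=
  (f.sharp.hom.app (op W)).hom g

theorem push_smul (W : D) (g : O_D.obj.obj (op W)) (M : Mod O_C) (x : sect M (f.fn.obj W)) :
    (g • (show sect (f.push.obj M) W from x) : sect (f.push.obj M) W) =
      (show sect (f.push.obj M) W from img f W g • x) := rfl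

theorem pullFreeUIso_natural (W : D) (g : O_D.obj.obj (op W)) :
    f.pull.map (μ W g) ≫ (pullFreeUIso f W).hom = (pullFreeUIso f W).hom ≫ μ (f.fn.obj W) (img f W g) := by
  apply (corepPull f W).homEquiv.injective
  have hx : (corepPull f W).homEquiv (pullFreeUIso f W).hom = freeUEquiv (f.fn.obj W) _ (𝟙 _) :=
    (corepPull f W).homEquiv.apply_symm_apply _
  change freeUEquiv W _ (f.adj.homEquiv _ _ (f.pull.map (μ W g) ≫ (pullFreeUIso f W).hom)) =
    (corepPull f W).homEquiv ((pullFreeUIso f W).hom ≫ μ (f.fn.obj W) (img f W g))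
  rw [Adjunction.homEquiv_naturality_left, μ_comp, (corepPull f W).homEquiv_comp]
  change g • (show sect (f.push.obj _) W from (corepPull f W).homEquiv (pullFreeUIso f W).hom) = _
  rw [hx]
  refine (push_smul f W g _ _).trans ?_
  refine ((μ_comp (f.fn.obj W) (img f W g) (𝟙 _)).symm.trans (congrArg (freeUEquiv _ _) (Category.comp_id _))).trans ?_
  exact (congrArg (freeUEquiv _ _) (Category.id_comp (μ (f.fn.obj W) (img f W g))).symm).trans
    (freeUEquiv_comp _ (𝟙 _) _)

theorem chain_natural {A B : Type*} [Category A] [Category B] {P P' : A} {X X' : A} {G : A ⥤ B}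
    (a : P ⟶ P') (i : P ⟶ X) (i' : P' ⟶ X') (b : X ⟶ X') (h : a ≫ i' = i ≫ b)
    {Y Y' : B} (j : G.obj X ⟶ Y) (j' : G.obj X' ⟶ Y') (c : Y ⟶ Y') (h' : G.map b ≫ j' = j ≫ c) :
    G.map a ≫ G.map i' ≫ j' = (G.map i ≫ j) ≫ c := by
  rw [← Functor.map_comp_assoc, h, Functor.map_comp_assoc, h', Category.assoc]

theorem comp_natural {B : Type*} [Category B] {P P' X X' Y Y' : B} {a : P ⟶ P'} {i : P ⟶ X} {i' : P' ⟶ X'}
    {b : X ⟶ X'} (h : a ≫ i' = i ≫ b) {j : X ⟶ Y} {j' : X' ⟶ Y'} {c : Y ⟶ Y'} (h' : b ≫ j' = j ≫ c) :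
    a ≫ i' ≫ j' = (i ≫ j) ≫ c := by
  rw [← Category.assoc, h, Category.assoc, h', Category.assoc]

theorem lpullSingleIso_natural (W : D) (g : O_D.obj.obj (op W)) (m : ℤ) :
    (Deriv.derived (L := Q) (resolves f)).map ((singleFunctor (Mod O_D) m).map (μ W g)) ≫ (lpullSingleIso f W m).hom =
      (lpullSingleIso f W m).hom ≫ (singleFunctor (Mod O_C) m).map (μ (f.fn.obj W) (img f W g)) := by
  let G := Deriv.derived (L := Q) (resolves f)
  let σD := (SingleFunctors.evaluation _ _ m).mapIso (singleFunctorsPostcompQIso (Mod O_D))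
  let σC := (SingleFunctors.evaluation _ _ m).mapIso (singleFunctorsPostcompQIso (Mod O_C))
  let sD := (HomologicalComplex.single (Mod O_D) (ComplexShape.up ℤ) m).map (μ W g)
  let sC := (HomologicalComplex.single (Mod O_C) (ComplexShape.up ℤ) m).map (μ (f.fn.obj W) (img f W g))
  have h1 : G.map ((singleFunctor (Mod O_D) m).map (μ W g)) ≫ (G.mapIso (σD.app (freeU O_D W))).hom =
      (G.mapIso (σD.app (freeU O_D W))).hom ≫ G.map (Q.map sD) :=
    ((G.map_comp _ _).symm.trans (congrArg G.map (σD.hom.naturality (μ W g)))).trans (G.map_comp _ _)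
  have h2 := (Deriv.counit (L := Q) (resolves f)).naturality sD
  have h3 : (pullCx f).map sD ≫
      ((HomologicalComplex.singleMapHomologicalComplex f.pull (ComplexShape.up ℤ) m).app (freeU O_D W) ≪≫
        (HomologicalComplex.single (Mod O_C) (ComplexShape.up ℤ) m).mapIso (pullFreeUIso f W)).hom =
      ((HomologicalComplex.singleMapHomologicalComplex f.pull (ComplexShape.up ℤ) m).app (freeU O_D W) ≪≫
        (HomologicalComplex.single (Mod O_C) (ComplexShape.up ℤ) m).mapIso (pullFreeUIso f W)).hom ≫ sC :=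
    comp_natural
      ((HomologicalComplex.singleMapHomologicalComplex f.pull (ComplexShape.up ℤ) m).hom.naturality (μ W g))
      ((((HomologicalComplex.single (Mod O_C) (ComplexShape.up ℤ) m).map_comp _ _).symm.trans
        (congrArg _ (pullFreeUIso_natural f W g))).trans (Functor.map_comp _ _ _))
  have h4 : Q.map ((pullCx f).map sD) ≫
      (Q.mapIso ((HomologicalComplex.singleMapHomologicalComplex f.pull (ComplexShape.up ℤ) m).app (freeU O_D W) ≪≫
        (HomologicalComplex.single (Mod O_C) (ComplexShape.up ℤ) m).mapIso (pullFreeUIso f W))).hom =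
      (Q.mapIso ((HomologicalComplex.singleMapHomologicalComplex f.pull (ComplexShape.up ℤ) m).app (freeU O_D W) ≪≫
        (HomologicalComplex.single (Mod O_C) (ComplexShape.up ℤ) m).mapIso (pullFreeUIso f W))).hom ≫ Q.map sC :=
    ((Q.map_comp _ _).symm.trans (congrArg Q.map h3)).trans (Q.map_comp _ _)
  exact comp_natural h1 (comp_natural h2 (comp_natural h4 (σC.inv.naturality (μ (f.fn.obj W) (img f W g)))))

variable [SiteCmp.HasRpushD f]

theorem additive_RpushD : (SiteCmp.RpushD f).Additive := by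
  have := isRightAdjoint_rpushD f
  have : PreservesLimitsOfShape (Discrete WalkingPair) (SiteCmp.RpushD f) := inferInstance
  exact Functor.additive_of_preserves_binary_products _

theorem homPushEquiv_comp_left (W : D) (g : O_D.obj.obj (op W)) (m : ℤ) {Y : DerivedCategory (Mod O_C)}
    (y : (singleFunctor (Mod O_C) m).obj (freeU O_C (f.fn.obj W)) ⟶ Y) :
    homPushEquiv f W m Y ((singleFunctor (Mod O_C) m).map (μ (f.fn.obj W) (img f W g)) ≫ y) =
      (singleFunctor (Mod O_D) m).map (μ W g) ≫ homPushEquiv f W m Y y := by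
  let adj := DTrunc.LeftResAdj.derivedAdj f.push f.adj (resolves f)
  change adj.homEquiv _ Y ((lpullSingleIso f W m).hom ≫ _) = _ ≫ adj.homEquiv _ Y ((lpullSingleIso f W m).hom ≫ y)
  rw [← adj.homEquiv_naturality_left, ← Category.assoc, ← lpullSingleIso_natural, Category.assoc]

theorem goodAt_push (M : DerivedCategory (Mod O_C)) (W : D) (g : O_D.obj.obj (op W)) :
    GoodLocus.GoodAt ((SiteCmp.RpushD f).obj M) W g ↔ GoodLocus.GoodAt M (f.fn.obj W) (img f W g) := by
  have := additive_RpushD f
  let adj := DTrunc.LeftResAdj.derivedAdj f.push f.adj (resolves f)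
  let e : ∀ m : ℤ, ((singleFunctor (Mod O_C) m).obj (freeU O_C (f.fn.obj W)) ⟶ M) ≃+
      ((singleFunctor (Mod O_D) m).obj (freeU O_D W) ⟶ (SiteCmp.RpushD f).obj M) := fun m =>
    AddEquiv.mk' (homPushEquiv f W m M) fun x y => by
      change adj.homEquiv _ M ((lpullSingleIso f W m).hom ≫ (x + y)) =
        adj.homEquiv _ M ((lpullSingleIso f W m).hom ≫ x) + adj.homEquiv _ M ((lpullSingleIso f W m).hom ≫ y)
      rw [Preadditive.comp_add, Adjunction.homEquiv_unit, Adjunction.homEquiv_unit, Adjunction.homEquiv_unit]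
      exact (congrArg (adj.unit.app _ ≫ ·) ((SiteCmp.RpushD f).map_add)).trans (Preadditive.comp_add _ _ _ _ _ _)
  refine ⟨fun h m => (h m).of_equiv (e m).symm fun x => ?_, fun h m => (h m).of_equiv (e m) fun x => ?_⟩
  · apply (e m).injective
    rw [AddEquiv.apply_symm_apply]
    refine Eq.trans ?_ (homPushEquiv_comp_left f W g m ((e m).symm x)).symm
    exact congrArg ((singleFunctor (Mod O_D) m).map (μ W g) ≫ ·) ((e m).apply_symm_apply x).symm
  · exact homPushEquiv_comp_left f W g m x

/-- `Rf_*` preserves derived completeness. -/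
theorem isDerComp_push (I : IdealSh O_D) (I' : IdealSh O_C) (hf : RMapsIdealInto f I I')
    (M : DerivedCategory (Mod O_C)) (hM : IsDerComp O_C I' M) :
    IsDerComp O_D I ((SiteCmp.RpushD f).obj M) :=
  (GoodLocus.isDerComp_iff _ I).2 fun W g hg =>
    (goodAt_push f M W g).2 ((GoodLocus.isDerComp_iff M I').1 hM _ _ (hf W g hg))

end Groth.Agent.KFlat.PushComplete
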