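import Groth.Agent.KFlat.Resolution
import Groth.Agent.PullFlat.KFlatPull
import Groth.Agent.SitePull.Derived
import Groth.Agent.KFlat.Deriv

/-!
# Derived tensor products with K-flat complexes on a ringed site
-/

set_option autoImplicit false

universe u

open CategoryTheory CategoryTheory.Limits
open ModSite Groth.Agent.KFlat

attribute [local instance] HasDerivedCategory.standard

namespace Groth.Agent.KFlat.SiteLTensor

variable {C : Type u} [SmallCategory C] {J : GrothendieckTopology C} {O : Sheaf J CommRingCat.{u}}
variable (E : CochainComplex (Mod O) ℤ)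

theorem quasiIso_map_left {K K' : CochainComplex (Mod O) ℤ} (s : K ⟶ K') [QuasiIso s]
    (hK : ModSite.IsKFlat K) (hK' : ModSite.IsKFlat K') : QuasiIso (((tens O).flip.obj E).map s) := by
  have := quasiIso_tens_map s hK hK' E
  rw [← NatIso.naturality_2 ((tensFlipIso O).app E) s]
  infer_instance

theorem isIso_tensorCxQ_map {K K' : CochainComplex (Mod O) ℤ} (s : K ⟶ K') [QuasiIso s]
    (hK : ModSite.IsKFlat K) (hK' : ModSite.IsKFlat K') : IsIso ((ModSite.tensorCxQ E).map s) := by
  have := quasiIso_map_left E s hK hK'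
  exact inferInstanceAs (IsIso (DerivedCategory.Q.map (((tens O).flip.obj E).map s)))

theorem resolves : Deriv.Resolves (HomologicalComplex.quasiIso (Mod O) (ComplexShape.up ℤ))
    (res O) (resπ O) (ModSite.tensorCxQ E) where
  mem K := (HomologicalComplex.mem_quasiIso_iff _).2 (quasiIso_resπ K)
  inverted K K' s hs := by
    have : QuasiIso s := (HomologicalComplex.mem_quasiIso_iff _).1 hs
    exact @isIso_tensorCxQ_map _ _ _ _ E _ _ ((res O).map s) (SitePull.quasiIso_res_map s) (isKFlat_res K)
      (isKFlat_res K')
  fix K := @isIso_tensorCxQ_map _ _ _ _ E _ _ ((resπ O).app ((res O).obj K)) (quasiIso_resπ _) (isKFlat_res _)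
    (isKFlat_res _)

/-- The derived tensor product of a K-flat complex is the termwise one. -/
noncomputable def toTensorIso [ModSite.HasLTensorCx E] {P : CochainComplex (Mod O) ℤ} (hP : ModSite.IsKFlat P) :
    (ModSite.LTensorCx E).obj (DerivedCategory.Q.obj P) ≅ DerivedCategory.Q.obj (((tens O).flip.obj E).obj P) :=
  @asIso _ _ _ _ (((ModSite.tensorCxQ E).totalLeftDerivedCounit DerivedCategory.Q
    (HomologicalComplex.quasiIso (Mod O) (ComplexShape.up ℤ))).app P) (by
  let W := HomologicalComplex.quasiIso (Mod O) (ComplexShape.up ℤ)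
  let α := Deriv.counit (L := DerivedCategory.Q) (resolves E)
  let G' := Deriv.derived (L := DerivedCategory.Q) (resolves E)
  have : G'.IsLeftDerivedFunctor α W :=
    ⟨Deriv.isRightKanExtension_derived (L := DerivedCategory.Q) (resolves E)⟩
  let t := (ModSite.tensorCxQ E).totalLeftDerivedCounit DerivedCategory.Q W
  let e : ModSite.LTensorCx E ≅ G' := Functor.leftDerivedUnique G' (ModSite.LTensorCx E) t α W
  have hc : t.app P = e.hom.app (DerivedCategory.Q.obj P) ≫ α.app P := by
    simp [e, α, W, t, G']
  have : IsIso ((ModSite.tensorCxQ E).map ((resπ O).app P)) :=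
    @isIso_tensorCxQ_map _ _ _ _ E _ _ _ (quasiIso_resπ P) (isKFlat_res P) hP
  have := Deriv.isIso_counit_app (L := DerivedCategory.Q) (resolves E) P
  change IsIso (t.app P)
  rw [hc]
  infer_instance)

end Groth.Agent.KFlat.SiteLTensor
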