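import Groth.Agent.KFlat.GoodLocus
import Groth.Agent.KFlat.SiteLTensor
import Groth.Agent.KFlat.LocAway
import Groth.Agent.ModExt.Cx
import Groth.Agent.KFlat.CxAdj

/-!
# `RHom(P, L)` is derived complete when `L` is
-/

set_option autoImplicit false

universe u

open CategoryTheory CategoryTheory.Limits Opposite
open ModSite DerComp Groth.Agent.KFlat Groth.Agent.DHA.KInj

attribute [local instance] HasDerivedCategory.standard

namespace Groth.Agent.KFlat.RHomComplete

variable {C : Type u} [SmallCategory C] {J : GrothendieckTopology C} {O : Sheaf J CommRingCat.{u}}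

theorem isIso_smulEnd_of_iso (s : GSec O) {F G : Mod O} (e : F ≅ G) [IsIso (smulEnd s F)] :
    IsIso (smulEnd s G) := by
  have : smulEnd s G = e.inv ≫ smulEnd s F ≫ e.hom := by
    rw [smulEnd_comm, e.inv_hom_id_assoc]
  rw [this]
  infer_instance

theorem isIso_smulEnd_locAway (s : GSec O) (F : Mod O) : IsIso (smulEnd s (locAway s F)) := by
  refine ⟨LocAway.desc s (fun n => LocAway.tl s F (n + 1)) fun n => LocAway.tl_rel s F (n + 1),
    LocAway.hom_ext s fun n => ?_, LocAway.hom_ext s fun n => ?_⟩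
  · rw [← Category.assoc, ← smulEnd_comm, Category.assoc, LocAway.tl_desc, LocAway.tl_rel, Category.comp_id]
  · rw [LocAway.tl_desc_assoc, ← smulEnd_comm, LocAway.tl_rel, Category.comp_id]

theorem isIso_smulEnd_tensor (s : GSec O) (X : Mod O) :
    IsIso (smulEnd s (((tensorBi O).obj (locAway s (unit O))).obj X)) := by
  have := isIso_smulEnd_locAway s X
  exact isIso_smulEnd_of_iso s (show locAway s X ≅ ((tensorBi O).obj (locAway s (unit O))).obj X from
    LocAway.νIso s X ≪≫ ((tensorBiFlipIso O).app (locAway s (unit O))).app X)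

theorem tensorMono_locAway (s : GSec O) : TensorMono (locAway s (unit O)) :=
  Functor.PreservesMonomorphisms.of_iso
    (NatIso.ofComponents (LocAway.νIso s) (fun g => LocAway.νIso_natural s g) :
      LocAway.G s ≅ (tensorBi O).flip.obj (locAway s (unit O)))

theorem isIso_smulEnd_tot (s : GSec O) (L K : CochainComplex (Mod O) ℤ)
    (h : ∀ p q, IsIso (smulEnd s (((tensorBi O).obj (L.X p)).obj (K.X q)))) (n : ℤ) :
    IsIso (smulEnd s (((tot (tensorBi O)).obj L).obj K |>.X n)) := by
  refine ⟨totDesc (F := tensorBi O) (L := L) (K := K) (n := n) fun p q hpq =>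
    (have := h p q; inv (smulEnd s (((tensorBi O).obj (L.X p)).obj (K.X q)))) ≫
      totι (tensorBi O) L K p q n hpq, tot_hom_ext fun p q hpq => ?_, tot_hom_ext fun p q hpq => ?_⟩
  · rw [← Category.assoc, ← smulEnd_comm, Category.assoc, totι_desc, IsIso.hom_inv_id_assoc, Category.comp_id]
  · rw [← Category.assoc, totι_desc, Category.assoc, ← smulEnd_comm, IsIso.inv_hom_id_assoc, Category.comp_id]

/-- The projection of the right adjoint of localisation on the zeroth factor. -/
noncomputable def pr₀ (s : GSec O) : LocAway.H s ⟶ 𝟭 (Mod O) where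
  app F := LocAway.pr s F 0
  naturality _ _ g := LocAway.map_pr s g 0

/-- Maps from a complex on which `s` is invertible lift to the right adjoint of localisation. -/
theorem exists_lift_H (s : GSec O) {B I : CochainComplex (Mod O) ℤ} (hB : ∀ i, IsIso (smulEnd s (B.X i)))
    (φ : B ⟶ I) :
    ∃ χ : B ⟶ ((LocAway.H s).mapHomologicalComplex (ComplexShape.up ℤ)).obj I,
      ∀ i, χ.f i ≫ LocAway.pr s (I.X i) 0 = φ.f i := by
  let r : ∀ i, B.X i ⟶ B.X i := fun i => have := hB i; inv (smulEnd s (B.X i))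
  have hr : ∀ i, r i ≫ smulEnd s (B.X i) = 𝟙 _ := fun i => by
    have := hB i
    exact IsIso.inv_hom_id _
  let pw : ∀ i, ℕ → (B.X i ⟶ B.X i) := fun i k => Nat.rec (𝟙 _) (fun _ t => r i ≫ t) k
  have hpw : ∀ i k, pw i (k + 1) ≫ smulEnd s (B.X i) = pw i k := fun i k => by
    induction k with
    | zero => change (r i ≫ 𝟙 _) ≫ _ = 𝟙 _; rw [Category.comp_id, hr]
    | succ k ih => change (r i ≫ pw i (k + 1)) ≫ _ = r i ≫ pw i k; rw [Category.assoc, ih]
  have hd : ∀ i j k, B.d i j ≫ pw j k = pw i k ≫ B.d i j := fun i j k => by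
    induction k with
    | zero => change B.d i j ≫ 𝟙 _ = 𝟙 _ ≫ B.d i j; simp
    | succ k ih =>
      change B.d i j ≫ r j ≫ pw j k = (r i ≫ pw i k) ≫ B.d i j
      have := hB i; have := hB j
      have e : B.d i j ≫ r j = r i ≫ B.d i j := by
        rw [IsIso.eq_inv_comp, ← Category.assoc, IsIso.comp_inv_eq, smulEnd_comm]
      rw [← Category.assoc, e, Category.assoc, ih, Category.assoc]
  have hrel : ∀ i k, (pw i (k + 1) ≫ φ.f i) ≫ smulEnd s (I.X i) = pw i k ≫ φ.f i := fun i k => by
    rw [Category.assoc, ← smulEnd_comm, ← Category.assoc, hpw]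
  refine ⟨{ f := fun i => LocAway.lift s (fun k => pw i k ≫ φ.f i) (hrel i)
            comm' := fun i j _ => LocAway.pr_ext s fun k => ?_ }, fun i => ?_⟩
  · refine (Category.assoc _ _ _).trans ((congrArg (_ ≫ ·) (LocAway.map_pr s (I.d i j) k)).trans ?_)
    refine (Category.assoc _ _ _).symm.trans ((congrArg (· ≫ I.d i j) (LocAway.lift_pr s _ _ k)).trans ?_)
    refine Eq.trans ?_ ((congrArg (B.d i j ≫ ·) (LocAway.lift_pr s _ _ k)).symm.trans (Category.assoc _ _ _).symm)
    rw [Category.assoc, φ.comm, ← Category.assoc, ← hd, Category.assoc]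
  · exact (LocAway.lift_pr s _ (hrel i) 0).trans (Category.id_comp _)

variable {V : C} {f : O.obj.obj (op V)} (I : CochainComplex (Mod O) ℤ) [I.IsKInjective]

/-- Nothing maps from an `f`-invertible complex on `V` into a complex complete along `f`. -/
theorem homotopy_zero_of_invertible
    (h : ∀ ⦃W : C⦄ (g : W ⟶ V), SeqCrit.SeqSect I W ((O.obj.map g.op).hom f))
    {B : CochainComplex (Mod (O.over V)) ℤ} (hB : ∀ i, IsIso (smulEnd (GSec.ofSect O V f) (B.X i)))
    (φ : ((extZero O V).mapHomologicalComplex (ComplexShape.up ℤ)).obj B ⟶ I) : Nonempty (Homotopy φ 0) := by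
  have hac : HomologicalComplex.Acyclic (SeqCrit.TU V f I) := fun i => by
    obtain ⟨m, rfl⟩ : ∃ m, m + 1 = i := ⟨i - 1, by omega⟩
    exact SeqCrit.exactAt_TU_of_local I m ⟨⊤, J.top_mem V, fun W g _ => h g⟩
  have := SeqCrit.isKInjective_TU V f I
  let adjC := CxAdj.mapCx (extZeroAdj O V) (ComplexShape.up ℤ)
  let φ' := adjC.homEquiv B I φ
  obtain ⟨χ, hχ⟩ := exists_lift_H (GSec.ofSect O V f) hB φ'
  have H0 : Homotopy χ 0 :=
    ((Homotopy.ofEq (Category.comp_id χ).symm).trans
      (((CochainComplex.IsKInjective.homotopyZero (𝟙 _) hac).compLeft χ).trans (Homotopy.ofEq comp_zero)))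
  let π₀ := (NatTrans.mapHomologicalComplex (pr₀ (GSec.ofSect O V f)) (ComplexShape.up ℤ)).app
    (((restr O V).mapHomologicalComplex (ComplexShape.up ℤ)).obj I) ≫
    (Functor.mapHomologicalComplexIdIso (Mod (O.over V)) (ComplexShape.up ℤ)).hom.app _
  have e : χ ≫ π₀ = φ' := HomologicalComplex.hom_ext _ _ fun i => by
    refine Eq.trans ?_ (hχ i)
    exact congrArg (χ.f i ≫ ·) (Category.comp_id _)
  have H1 : Homotopy φ' 0 := ((Homotopy.ofEq e.symm).trans (H0.compRight π₀)).trans (Homotopy.ofEq zero_comp)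
  have H2 := ((extZero O V).mapHomotopy H1).compRight (adjC.counit.app I)
  have e2 : ((extZero O V).mapHomologicalComplex (ComplexShape.up ℤ)).map φ' ≫ adjC.counit.app I = φ :=
    (adjC.homEquiv_counit B I φ').symm.trans ((adjC.homEquiv B I).symm_apply_apply φ)
  exact ⟨((Homotopy.ofEq e2.symm).trans H2).trans (Homotopy.ofEq (by rw [Functor.map_zero, zero_comp]))⟩

/-- `RHom(P, L)` is derived complete. -/
theorem isDerComp_RHom (Id : IdealSh O) (P : CochainComplex (Mod O) ℤ) [ModSite.HasLTensorCx P]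
    [DerComp.HasRHom P] (L : DerivedCategory (Mod O)) (hL : IsDerComp O Id L) :
    IsDerComp O Id ((DerComp.RHom P).obj L) := by
  intro U g hg
  refine (SeqCrit.subsingleton_shift_iff _ _).2 fun m => ?_
  obtain ⟨I, hI, hinj, ⟨e⟩⟩ := GoodLocus.exists_rep L
  have hseq : ∀ ⦃W : C⦄ (a : W ⟶ U), SeqCrit.SeqSect I W ((O.obj.map a.op).hom g) := fun W a =>
    (SeqCrit.seqSect_iff_goodD I hinj W _).2
      (((GoodLocus.isDerComp_iff L Id).1 hL W _ (Id.map_mem a hg)).of_iso _ e.symm)
  let s := GSec.ofSect O U g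
  let A := awayOver O U g
  let S : CochainComplex (Mod O) ℤ := (HomologicalComplex.single (Mod O) (ComplexShape.up ℤ) m).obj ((extZero O U).obj A)
  have hS : ModSite.IsKFlat S := isKFlat_single (ModExt.tensorMono_extZero O U (tensorMono_locAway s)) m
  let LA : CochainComplex (Mod (O.over U)) ℤ := (HomologicalComplex.single (Mod (O.over U)) (ComplexShape.up ℤ) m).obj A
  let B : CochainComplex (Mod (O.over U)) ℤ :=
    ((tot (tensorBi (O.over U))).obj LA).obj (((restr O U).mapHomologicalComplex _).obj P)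
  have hB : ∀ i, IsIso (smulEnd s (B.X i)) := isIso_smulEnd_tot s LA _ fun p q => by
    rcases eq_or_ne p m with rfl | hp
    · have := isIso_smulEnd_tensor s ((((restr O U).mapHomologicalComplex _).obj P).X q)
      exact isIso_smulEnd_of_iso s
        (((tensorBi (O.over U)).mapIso (HomologicalComplex.singleObjXSelf (ComplexShape.up ℤ) p A).symm).app _)
    · have hz : IsZero (((tensorBi (O.over U)).obj (LA.X p)).obj
          ((((restr O U).mapHomologicalComplex _).obj P).X q)) :=
        Functor.map_isZero ((tensorBi (O.over U)).flip.obj _) (HomologicalComplex.isZero_single_obj_X _ _ _ _ hp)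
      exact ⟨𝟙 _, hz.eq_of_src _ _, hz.eq_of_src _ _⟩
  let ψ : ((extZero O U).mapHomologicalComplex (ComplexShape.up ℤ)).obj B ≅ ((tens O).flip.obj P).obj S :=
    ModExt.projCxIso O U LA P ≪≫ ((tensorCx O).mapIso
      ((HomologicalComplex.singleMapHomologicalComplex (extZero O U) (ComplexShape.up ℤ) m).app A)).app P
  let E : (DerivedCategory.singleFunctor (Mod O) m).obj ((extZero O U).obj A) ≅ DerivedCategory.Q.obj S :=
    SeqCx.σIso m _
  refine subsingleton_of_forall_eq 0 fun z => ?_
  apply ((DerComp.RHomAdj P).homEquiv _ L).symm.injective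
  let z' := ((DerComp.RHomAdj P).homEquiv _ L).symm z
  let w : DerivedCategory.Q.obj (((extZero O U).mapHomologicalComplex (ComplexShape.up ℤ)).obj B) ⟶
      DerivedCategory.Q.obj I :=
    DerivedCategory.Q.map ψ.hom ≫ (SiteLTensor.toTensorIso P hS).inv ≫ (ModSite.LTensorCx P).map E.inv ≫ z' ≫ e.inv
  obtain ⟨φ, hφ⟩ := Q_map_surjective _ I w
  obtain ⟨hh⟩ := homotopy_zero_of_invertible I hseq hB φ
  have hw : w = 0 := hφ.symm.trans
    ((Groth.Agent.DHA.KInj.Q_map_eq_of_homotopy hh).trans (DerivedCategory.Q.map_zero _ _))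
  simp only [w, Preadditive.IsIso.comp_left_eq_zero, Preadditive.IsIso.comp_right_eq_zero] at hw
  refine hw.trans ?_
  rw [Adjunction.homEquiv_counit, Functor.map_zero, zero_comp]

end Groth.Agent.KFlat.RHomComplete
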