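import Groth.Agent.KFlat.GoodLocus
import Groth.Agent.KFlat.AwayRlim
import Mathlib.CategoryTheory.Yoneda

/-!
# Derived completion commutes with restriction
-/

set_option autoImplicit false

universe u

open CategoryTheory CategoryTheory.Limits Opposite
open ModSite DerComp Groth.Agent.KFlat Groth.Agent.DHA.KInj

attribute [local instance] HasDerivedCategory.standard

namespace Groth.Agent.KFlat.RestrCompletion

variable {C : Type u} [SmallCategory C] [HasBinaryProducts C] {J : GrothendieckTopology C}
  {O : Sheaf J CommRingCat.{u}} (U : C)

/-- The direct image from `C/U`. -/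
noncomputable abbrev pushOver : Mod (O.over U) ⥤ Mod O :=
  SheafOfModules.pushforward.{u} (SheafOfModules.pushforwardOver (R := ringSh O) U)

/-- Restriction is left adjoint to it. -/
noncomputable def adj : restr O U ⊣ pushOver (O := O) U :=
  SheafOfModules.overPushforwardOverAdj (R := ringSh O) U

instance additive_pushOver : (pushOver (O := O) U).Additive where

variable [PreservesFiniteLimits (restr O U)] [PreservesFiniteColimits (restr O U)]

/-- The direct image of a derived complete complex is derived complete. -/
theorem isDerComp_pushOver (Id : IdealSh O) (I : CochainComplex (Mod (O.over U)) ℤ) [I.IsKInjective]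
    (h : IsDerComp (O.over U) (Id.over U) (DerivedCategory.Q.obj I)) :
    IsDerComp O Id (DerivedCategory.Q.obj (((pushOver (O := O) U).mapHomologicalComplex (ComplexShape.up ℤ)).obj I)) := by
  have := AwayRlim.isKInjective_map (adj (O := O) U) I
  refine (SeqCrit.isDerComp_iff_seqSect Id _).2 fun V g hg => ?_
  exact (SeqCrit.isDerComp_iff_seqSect (Id.over U) I).1 h ((Over.star U).obj V)
    ((O.obj.map (Limits.prod.snd (X := U) (Y := V)).op).hom g) (Id.map_mem _ hg)

/-- Derived completion commutes with restriction. -/
theorem isIso_transpose (Id : IdealSh O) [HasDerCompletion O Id] [HasDerCompletion (O.over U) (Id.over U)]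
    (F : DerivedCategory (Mod O))
    (h : IsDerComp (O.over U) (Id.over U) ((restr O U).mapDerivedCategory.obj ((derCompletion O Id).obj F).obj)) :
    IsIso (((derCompletionAdj (O.over U) (Id.over U)).homEquiv ((restr O U).mapDerivedCategory.obj F)
      ⟨(restr O U).mapDerivedCategory.obj ((derCompletion O Id).obj F).obj, h⟩).symm
      ((restr O U).mapDerivedCategory.map (toDerCompletion Id F))) := by
  let adjU := derCompletionAdj (O.over U) (Id.over U)
  let Z : DComp (O.over U) (Id.over U) := ⟨(restr O U).mapDerivedCategory.obj ((derCompletion O Id).obj F).obj, h⟩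
  let t := (adjU.homEquiv ((restr O U).mapDerivedCategory.obj F) Z).symm
    ((restr O U).mapDerivedCategory.map (toDerCompletion Id F))
  refine (isIso_iff_coyoneda_map_bijective t).2 fun W => ?_
  obtain ⟨I, hI, hinj, ⟨e⟩⟩ := GoodLocus.exists_rep W.obj
  have hW : IsDerComp (O.over U) (Id.over U) (DerivedCategory.Q.obj I) :=
    (GoodLocus.isDerComp_iff _ _).2 fun V g hg =>
      ((GoodLocus.isDerComp_iff W.obj _).1 W.property V g hg).of_iso _ e.symm
  let M : DComp O Id := ⟨_, isDerComp_pushOver U Id I hW⟩
  -- transposes
  let c := AwayRlim.counitD (adj (O := O) U) I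
  have hD : ∀ X : DerivedCategory (Mod O), Function.Bijective fun z : X ⟶ M.obj =>
      (restr O U).mapDerivedCategory.map z ≫ c ≫ e.hom := fun X => by
    have h1 : Function.Bijective fun y : (restr O U).mapDerivedCategory.obj X ⟶ DerivedCategory.Q.obj I => y ≫ e.hom :=
      ⟨fun a b hab => (cancel_mono e.hom).1 hab, fun y => ⟨y ≫ e.inv, by simp⟩⟩
    have h2 := h1.comp (AwayRlim.bijective_counitD (adj (O := O) U) I X)
    rw [show (fun z : X ⟶ M.obj => (restr O U).mapDerivedCategory.map z ≫ c ≫ e.hom) = _ from
      funext fun z => (Category.assoc _ _ _).symm]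
    exact h2
  have hcomp : Function.Bijective fun y : (restr O U).mapDerivedCategory.obj ((derCompletion O Id).obj F).obj ⟶ W.obj =>
      (restr O U).mapDerivedCategory.map (toDerCompletion Id F) ≫ y := by
    have hu : Function.Bijective fun z : ((derCompletion O Id).obj F).obj ⟶ M.obj => toDerCompletion Id F ≫ z := by
      have hb := (((ObjectProperty.fullyFaithfulι (IsDerComp O Id)).homEquiv
        (X := (derCompletion O Id).obj F) (Y := M)).symm.trans ((derCompletionAdj O Id).homEquiv F M)).bijective
      convert hb using 1
      funext z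
      exact ((derCompletionAdj O Id).homEquiv_unit F M (ObjectProperty.homMk z)).symm
    refine (Function.Bijective.of_comp_iff _ (hD ((derCompletion O Id).obj F).obj)).1 ?_
    convert (hD F).comp hu using 1
    funext z
    simp
  refine (Function.Bijective.of_comp_iff' (adjU.homEquiv _ W).bijective _).1 ?_
  convert hcomp.comp ((ObjectProperty.fullyFaithfulι (IsDerComp (O.over U) (Id.over U))).homEquiv
    (X := Z) (Y := W)).bijective using 1
  funext y
  simp only [Function.comp_apply, t, adjU]
  rw [Adjunction.homEquiv_naturality_right, Equiv.apply_symm_apply]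
  rfl

end Groth.Agent.KFlat.RestrCompletion
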