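import Groth.Agent.PCohD.RelQcoh
import Groth.Agent.CohDerLib.QC.PushVanish
import Groth.Agent.CohDerLib.QC.PushBound
import Groth.Agent.S7240

/-!
# Pseudo-coherence of direct images, from bounded objects
-/

set_option autoImplicit false

universe u

open CategoryTheory CategoryTheory.Limits AlgebraicGeometry DerivedCategory Pretriangulated TopologicalSpace
open Groth.Agent.CohDerLib

attribute [local instance] HasDerivedCategory.standard

noncomputable section

namespace Groth.Agent.KFlat.RpushPC

variable {X Y : Scheme.{u}}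

theorem exists_isLE_of_pc [CompactSpace X] (F : DCoh.D X) (m : ℤ) (h : DCoh.IsPseudoCoherentD m F) :
    ∃ b : ℤ, F.IsLE b := by
  classical
  choose V hxV n hn using fun x => PCohD.exists_bound h x
  obtain ⟨t, ht⟩ := isCompact_univ.elim_finite_subcover (fun x => (V x : Set X))
    (fun x => (V x).2) fun x _ => Set.mem_iUnion.2 ⟨x, hxV x⟩
  obtain ⟨B, hB⟩ := (t.image n).bddAbove
  refine ⟨B, (DerivedCategory.isLE_iff F B).2 fun i hi => ?_⟩
  refine PCohD.isZero_of_cover (fun x : t => V x.1) (fun y => ?_) _ fun x => ?_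
  · obtain ⟨x, hx, hy⟩ := Set.mem_iUnion₂.1 (ht (Set.mem_univ y))
    exact ⟨⟨x, hx⟩, hy⟩
  · have hle : n x.1 ≤ B := hB (Finset.mem_coe.2 (Finset.mem_image_of_mem n x.2))
    exact (hn x.1 i (by omega)).of_iso
      ((KFlat.MapHomology.iso (Scheme.Modules.restrictFunctor (V x.1).ι) i).app F).symm

/-- `Rf_*` preserves pseudo-coherence if it does so, up to a shift, on bounded objects. -/
theorem pc_Rpush_of_bounded (f : X ⟶ Y) [QuasiCompact f] [QuasiSeparated f] [CompactSpace Y] [DCoh.HasRpush f]
    (k : ℤ) (hK : ∀ (F : DCoh.D X) (n a b : ℤ), F.IsGE a → F.IsLE b → DCoh.IsPseudoCoherentD n F →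
      DCoh.IsPseudoCoherentD (n + k) ((DCoh.Rpush f).obj F))
    (F : DCoh.D X) (hF : ∀ m : ℤ, DCoh.IsPseudoCoherentD m F) (m : ℤ) :
    DCoh.IsPseudoCoherentD m ((DCoh.Rpush f).obj F) := by
  have : CompactSpace X := QuasiCompact.compactSpace_of_compactSpace f
  obtain ⟨b, hb⟩ := exists_isLE_of_pc F 0 (hF 0)
  obtain ⟨ι, B, d, hB, hd⟩ := QC.exists_bound f
  have hq : DCoh.IsQCohD F := fun i => (Groth.Agent.S7240.result (i - 1) F (hF (i - 1))).1 i (by omega)
  let a : ℤ := min (m - k) (m - d - 1)
  obtain ⟨δ, hT⟩ := Groth.Agent.KFlat.RPushTriangle.distinguished_Rpush f _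
    (TStructure.t.triangleLTGE_distinguished a F)
  let G := (TStructure.t.truncGE a).obj F
  have hG : DCoh.IsPseudoCoherentD (m - k) G := by
    refine PCohD.pc_of_appr ((TStructure.t.truncGEπ a).app F) ⟨fun i hi => ?_, ?_⟩ (hF _)
    · exact HComp.isIso_homology_truncGEπ F a i (by omega)
    · have := HComp.isIso_homology_truncGEπ F a (m - k) (by omega)
      infer_instance
  have h₃ : DCoh.IsPseudoCoherentD m ((DCoh.Rpush f).obj G) := by
    have hGE : G.IsGE a := inferInstance
    have hLE : G.IsLE b := (DerivedCategory.isLE_iff G b).2 fun i hi => by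
      by_cases hia : i < a
      · exact isZero_of_isGE G a i hia
      · have := HComp.isIso_homology_truncGEπ F a i (by omega)
        exact (isZero_of_isLE F b i hi).of_iso
          (asIso ((homologyFunctor _ i).map ((TStructure.t.truncGEπ a).app F))).symm
    have := hK G (m - k) a b hGE hLE hG
    rwa [sub_add_cancel] at this
  refine PCohD.pc₂ _ hT (PCohD.pc_of_vanish fun i hi => ?_) h₃
  have : ((TStructure.t.truncLT a).obj F).IsLE (a - 1) := inferInstance
  exact QC.isZero_HD_Rpush f B hB _ i fun j =>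
    QC.hom_zero (hd j) _ (QC.isQCohD_truncLT hq a) (a - 1) i (by omega)

end Groth.Agent.KFlat.RpushPC
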