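import Groth.Agent.KFlat.RpushTensor
import Groth.Agent.S0965
import Groth.Agent.KFlat.RHomExists
import Groth.Agent.KFlat.StrictDual

/-!
# `Rf_* RHom(E, G)` is perfect
-/

set_option autoImplicit false

universe u

open CategoryTheory CategoryTheory.Limits AlgebraicGeometry
open Groth.Agent.KFlat Groth.Agent.KFlat.Pull

attribute [local instance] HasDerivedCategory.standard

noncomputable section

namespace Groth.Agent.KFlat.RpushRHom

variable {X : Scheme.{u}}

/-- Commutativity of the derived tensor product with a module. -/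
theorem nonempty_ltensorCx_inD_iso (D : CochainComplex X.Modules ℤ) (hD : DCoh.IsKFlat D) [DCoh.HasLTensorCx D]
    (G : X.Modules) [DCoh.HasLTensorMod G] :
    Nonempty ((DCoh.LTensorCx D).obj (DCoh.inD X G) ≅ (DCoh.LTensorMod G).obj (DerivedCategory.Q.obj D)) := by
  let S := (HomologicalComplex.single X.Modules (ComplexShape.up ℤ) 0).obj G
  have := LTensor.isIso_toTensor_of_kflat D hD S
  exact ⟨(DCoh.LTensorCx D).mapIso ((DerivedCategory.singleFunctorIsoCompQ X.Modules 0).app G) ≪≫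
    (@asIso _ _ _ _ ((LTensor.toTensor D).app S) this) ≪≫
    DerivedCategory.Q.mapIso (((tensFlipIso X.sheaf).app S).app D).symm ≪≫
    ((LTensorMod.tmQIso G).app D).symm ≪≫ (LTensorMod.ltensorModIso G hD).symm⟩

/-- `RHom` out of a perfect complex is `⊗ᴸ` with a perfect object. -/
theorem exists_perfect_dual (E : CochainComplex X.Modules ℤ) (hE : DCoh.IsPerfect (DCoh.toD X E))
    [DCoh.HasLTensorCx E] [DCoh.HasRSheafHom E] (G : X.Modules) [DCoh.HasLTensorMod G] :
    ∃ E' : DCoh.D X, DCoh.IsPerfect E' ∧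
      Nonempty ((DCoh.LTensorMod G).obj E' ≅ (DCoh.RSheafHom E).obj (DCoh.inD X G)) := by
  let P := (resY X).obj E
  have hP : DCoh.IsKFlat P := isKFlat_resY E
  let eP : DerivedCategory.Q.obj P ≅ DerivedCategory.Q.obj E := (resQIso (Y := X)).app E
  have := LTensor.hasLTensorCx P
  have := RHomExists.hasRSheafHom (E := P)
  obtain ⟨c⟩ := StrictDual.nonempty_ltCongr eP
  let eR : DCoh.RSheafHom P ≅ DCoh.RSheafHom E :=
    ((DCoh.RSheafHomAdj P).ofNatIsoLeft c).rightAdjointUniq (DCoh.RSheafHomAdj E)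
  obtain ⟨hd, hM⟩ := Groth.Agent.S0965.result P hP (PerfTri.Perfect.isPerfect_of_iso eP.symm hE)
  let F₁ := DerivedCategory.Q.objPreimage ((DCoh.RSheafHom P).obj
    ((DerivedCategory.singleFunctor X.Modules 0).obj (Coh.structureModule X)))
  let D := (resY X).obj F₁
  have hD : DCoh.IsKFlat D := isKFlat_resY F₁
  let eD := (resQIso (Y := X)).app F₁ ≪≫ DerivedCategory.Q.objObjPreimageIso _
  have := LTensor.hasLTensorCx D
  obtain ⟨w⟩ := hM D hD ⟨eD⟩ (DCoh.inD X G)
  obtain ⟨v⟩ := nonempty_ltensorCx_inD_iso D hD G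
  exact ⟨_, PerfTri.Perfect.isPerfect_of_iso eD.symm hd, ⟨v.symm ≪≫ w ≪≫ eR.app _⟩⟩

end Groth.Agent.KFlat.RpushRHom
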