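import Groth.Agent.KFlat.SeqCx
import Groth.Agent.KFlat.LocAway
import Groth.Agent.SitePull.Stable
import Groth.Agent.ModFlat.LocalFactor
import Groth.Agent.S0481
import Groth.Agent.KFlat.CxAdj

/-!
# Derived completeness through sections of a K-injective complex
-/

set_option autoImplicit false

universe u

open CategoryTheory CategoryTheory.Limits Opposite
open ModSite DerComp Groth.Agent.KFlat Groth.Agent.PullFlat Groth.Agent.ModFlat Groth.Agent.DHA.KInj

attribute [local instance] HasDerivedCategory.standard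

namespace Groth.Agent.KFlat.SeqCrit

variable {C : Type u} [SmallCategory C] {J : GrothendieckTopology C} {O : Sheaf J CommRingCat.{u}}

theorem freeUEquiv_add (V : C) {M : Mod O} (a b : freeU O V ⟶ M) :
    freeUEquiv V M (a + b) = freeUEquiv V M a + freeUEquiv V M b := by
  have e : ∀ t : freeU O V ⟶ M, freeUEquiv V M t = t.val.app _ (freeUEquiv V _ (𝟙 _)) := fun t => by
    rw [← freeUEquiv_comp, Category.id_comp]
  rw [e a, e b, e (a + b)]
  rfl

/-- Multiplication by a section on the free module. -/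
noncomputable def μ (V : C) (f : O.obj.obj (op V)) : freeU O V ⟶ freeU O V :=
  (freeUEquiv V _).symm (f • (show sect (freeU O V) V from freeUEquiv V _ (𝟙 (freeU O V))))

theorem μ_comp (V : C) (f : O.obj.obj (op V)) {M : Mod O} (φ : freeU O V ⟶ M) :
    freeUEquiv V M (μ V f ≫ φ) = f • (show sect M V from freeUEquiv V M φ) := by
  refine (SitePull.freeUEquiv_comp_appS V (μ V f) φ).trans ?_
  rw [μ, Equiv.apply_symm_apply, map_smul]
  exact congrArg (f • ·) ((SitePull.freeUEquiv_comp_appS V (𝟙 _) φ).symm.trans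
    (congrArg (freeUEquiv V M) (Category.id_comp φ)))

/-- Maps into a module, as sequences of sections. -/
def SeqSect (I : CochainComplex (Mod O) ℤ) (V : C) (f : O.obj.obj (op V)) : Prop :=
  ∀ (m : ℤ) (x : ℕ → sect (I.X (m + 1)) V), (∀ k, appS (I.d (m + 1) (m + 2)) V (x k) = 0) →
    (∀ k, f • x (k + 1) = x k) →
    ∃ y : ℕ → sect (I.X m) V, (∀ k, f • y (k + 1) = y k) ∧ ∀ k, appS (I.d m (m + 1)) V (y k) = x k

theorem seqExact_iff (I : CochainComplex (Mod O) ℤ) (V : C) (f : O.obj.obj (op V)) :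
    SeqCx.SeqExact (μ V f) I ↔ SeqSect I V f := by
  constructor
  · intro h m x hx hf
    obtain ⟨y, hy, hy'⟩ := h m (fun k => (freeUEquiv V _).symm (x k))
      (fun k => (freeUEquiv V _).injective (by
        rw [SitePull.freeUEquiv_comp_appS, Equiv.apply_symm_apply, SitePull.freeUEquiv_zero]
        exact hx k))
      fun k => (freeUEquiv V _).injective (by rw [μ_comp, Equiv.apply_symm_apply, Equiv.apply_symm_apply]; exact hf k)
    refine ⟨fun k => freeUEquiv V _ (y k), fun k => (μ_comp V f (y (k + 1))).symm.trans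
      (congrArg (freeUEquiv V _) (hy k)), fun k => ?_⟩
    rw [← SitePull.freeUEquiv_comp_appS, hy', Equiv.apply_symm_apply]
  · intro h m x hx hf
    obtain ⟨y, hy, hy'⟩ := h m (fun k => freeUEquiv V _ (x k))
      (fun k => by rw [← SitePull.freeUEquiv_comp_appS, hx, SitePull.freeUEquiv_zero])
      fun k => (μ_comp V f (x (k + 1))).symm.trans (congrArg (freeUEquiv V _) (hf k))
    refine ⟨fun k => (freeUEquiv V _).symm (y k), fun k => (freeUEquiv V _).injective ?_,
      fun k => (freeUEquiv V _).injective ?_⟩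
    · rw [μ_comp, Equiv.apply_symm_apply, Equiv.apply_symm_apply]; exact hy k
    · rw [SitePull.freeUEquiv_comp_appS, Equiv.apply_symm_apply]; exact hy' k

/-- Goodness in the derived category through sections. -/
theorem seqSect_iff_goodD (I : CochainComplex (Mod O) ℤ) [I.IsKInjective] (hI : ∀ n, Injective (I.X n))
    (V : C) (f : O.obj.obj (op V)) : SeqSect I V f ↔ SeqCx.GoodD (μ V f) (DerivedCategory.Q.obj I) :=
  (seqExact_iff I V f).symm.trans (SeqCx.seqExact_iff_goodD (μ V f) I hI)

/-! ### Maps out of `j_! O_{U,f}` -/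

variable (V : C) (f : O.obj.obj (op V))

theorem elU_smulEnd :
    LocalFactor.elU O V (smulEnd (GSec.ofSect O V f) (unit (O.over V))) = f := by
  change (O.obj.map (𝟙 V).op).hom f * (1 : O.obj.obj (op V)) = f
  rw [mul_one, op_id, O.obj.map_id]
  rfl

/-- The sequence of sections of a map out of `j_! O_{V,f}`. -/
noncomputable def seqOf {G : Mod O} (g : (extZero O V).obj (awayOver O V f) ⟶ G) (k : ℕ) : sect G V :=
  LocalFactor.el O V G (LocAway.tl (GSec.ofSect O V f) (unit (O.over V)) k ≫
    ((extZeroAdj O V).homEquiv _ G) g)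

theorem seqOf_rel {G : Mod O} (g : (extZero O V).obj (awayOver O V f) ⟶ G) (k : ℕ) :
    f • seqOf V f g (k + 1) = seqOf V f g k := by
  have h := LocalFactor.el_comp V G (smulEnd (GSec.ofSect O V f) (unit (O.over V)))
    (LocAway.tl (GSec.ofSect O V f) (unit (O.over V)) (k + 1) ≫ ((extZeroAdj O V).homEquiv _ G) g)
  rw [elU_smulEnd] at h
  refine h.symm.trans (congrArg (LocalFactor.el O V G) ?_)
  exact (Category.assoc _ _ _).symm.trans (congrArg (· ≫ _) (LocAway.tl_rel _ _ k))

theorem seqOf_injective {G : Mod O} {g g' : (extZero O V).obj (awayOver O V f) ⟶ G}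
    (h : ∀ k, seqOf V f g k = seqOf V f g' k) : g = g' :=
  ((extZeroAdj O V).homEquiv _ G).injective
    (LocAway.hom_ext _ fun k => (LocalFactor.el O V G).injective (h k))

theorem exists_seqOf {G : Mod O} (x : ℕ → sect G V) (hx : ∀ k, f • x (k + 1) = x k) :
    ∃ g : (extZero O V).obj (awayOver O V f) ⟶ G, ∀ k, seqOf V f g k = x k := by
  let g' := LocAway.desc (GSec.ofSect O V f) (fun k => (LocalFactor.el O V G).symm (x k)) fun k =>
    (LocalFactor.el O V G).injective (by
      rw [LocalFactor.el_comp, elU_smulEnd, Equiv.apply_symm_apply, Equiv.apply_symm_apply]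
      exact hx k)
  refine ⟨((extZeroAdj O V).homEquiv _ G).symm g', fun k => ?_⟩
  rw [seqOf, Equiv.apply_symm_apply]
  exact (congrArg (LocalFactor.el O V G) (LocAway.tl_desc _ _ _ k)).trans (Equiv.apply_symm_apply _ _)

theorem el_comp_restr {G H : Mod O} (y : SheafOfModules.unit (ringSh (O.over V)) ⟶ (restr O V).obj G) (φ : G ⟶ H) :
    LocalFactor.el O V H (y ≫ (restr O V).map φ) = appS φ V (LocalFactor.el O V G y) := rfl

theorem seqOf_comp {G H : Mod O} (g : (extZero O V).obj (awayOver O V f) ⟶ G) (φ : G ⟶ H) (k : ℕ) :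
    seqOf V f (g ≫ φ) k = appS φ V (seqOf V f g k) := by
  refine Eq.trans ?_ (el_comp_restr V _ φ)
  exact congrArg (LocalFactor.el O V H) ((congrArg (_ ≫ ·)
    ((extZeroAdj O V).homEquiv_naturality_right g φ)).trans (Category.assoc _ _ _).symm)

theorem seqOf_zero {G : Mod O} (k : ℕ) : seqOf V f (0 : (extZero O V).obj (awayOver O V f) ⟶ G) k = 0 := by
  have h := seqOf_comp V f (0 : (extZero O V).obj (awayOver O V f) ⟶ G) (0 : G ⟶ G) k
  rw [comp_zero] at h
  exact h

omit f in
theorem subsingleton_shift_iff (S : Mod O) (K : DerivedCategory (Mod O)) :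
    (∀ n : ℤ, Subsingleton (SiteCmp.inD O S ⟶ K⟦n⟧)) ↔
      ∀ m : ℤ, Subsingleton ((DerivedCategory.singleFunctor (Mod O) m).obj S ⟶ K) := by
  let e : ∀ m : ℤ, (((DerivedCategory.singleFunctor (Mod O) m).obj S ⟶ K) ≃ (SiteCmp.inD O S ⟶ K⟦m⟧)) := fun m =>
    ((Functor.FullyFaithful.ofFullyFaithful (shiftFunctor (DerivedCategory (Mod O)) m)).homEquiv).trans
      ((((DerivedCategory.singleFunctors (Mod O)).shiftIso m 0 m (add_zero m)).app S).homFromEquiv)
  exact ⟨fun h m => (e m).subsingleton_congr.2 (h m), fun h m => (e m).subsingleton_congr.1 (h m)⟩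

omit f in
/-- Vanishing of maps out of `j_! O_{U,g}` through sections. -/
theorem subsingleton_iff_seqSect (I : CochainComplex (Mod O) ℤ) [I.IsKInjective] (U : C) (g : O.obj.obj (op U)) :
    (∀ n : ℤ, Subsingleton (SiteCmp.inD O ((extZero O U).obj (awayOver O U g)) ⟶ (DerivedCategory.Q.obj I)⟦n⟧)) ↔
      SeqSect I U g := by
  constructor
  · intro h m x hx hrel
    have h' := (subsingleton_shift_iff ((extZero O U).obj (awayOver O U g)) _).1 h (m + 1)
    obtain ⟨z, hz⟩ := exists_seqOf U g x hrel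
    have hzd : z ≫ I.d (m + 1) (m + 1 + 1) = 0 := seqOf_injective U g fun k => by
      rw [seqOf_comp, seqOf_zero, hz]
      rw [show m + 1 + 1 = m + 2 by omega]
      exact hx k
    obtain ⟨w, hw⟩ := (SeqCx.cls_eq_zero_iff I m (m + 1) rfl z hzd).1 (Subsingleton.elim _ _)
    exact ⟨fun k => seqOf U g w k, fun k => seqOf_rel U g w k,
      fun k => by rw [← seqOf_comp, hw, hz]⟩
  · intro h
    refine (subsingleton_shift_iff _ _).2 fun n => subsingleton_of_forall_eq 0 fun φ => ?_
    obtain ⟨m, rfl⟩ : ∃ m, m + 1 = n := ⟨n - 1, by omega⟩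
    obtain ⟨z, hzd, rfl⟩ := SeqCx.cls_surjective I (m + 1) φ
    rw [SeqCx.cls_eq_zero_iff I m (m + 1) rfl]
    obtain ⟨y, hy, hy'⟩ := h m (fun k => seqOf U g z k)
      (fun k => by
        rw [← seqOf_comp, show m + 2 = m + 1 + 1 by omega, hzd, seqOf_zero])
      fun k => seqOf_rel U g z k
    obtain ⟨w, hw⟩ := exists_seqOf U g y hy
    exact ⟨w, seqOf_injective U g fun k => by rw [seqOf_comp, hw, hy']⟩

/-- Derived completeness through sections. -/
theorem isDerComp_iff_seqSect (Id : IdealSh O) (I : CochainComplex (Mod O) ℤ) [I.IsKInjective] :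
    IsDerComp O Id (DerivedCategory.Q.obj I) ↔
      ∀ (U : C) (g : O.obj.obj (op U)), g ∈ Id.ideal U → SeqSect I U g :=
  forall_congr' fun U => forall_congr' fun g => forall_congr' fun _ => subsingleton_iff_seqSect I U g

/-! ### Locality -/

/-- The right adjoint of localisation, on the restriction. -/
noncomputable abbrev TU (I : CochainComplex (Mod O) ℤ) : CochainComplex (Mod (O.over V)) ℤ :=
  ((LocAway.H (GSec.ofSect O V f)).mapHomologicalComplex (ComplexShape.up ℤ)).obj
    (((restr O V).mapHomologicalComplex (ComplexShape.up ℤ)).obj I)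

theorem isKInjective_restr (I : CochainComplex (Mod O) ℤ) [I.IsKInjective] :
    CochainComplex.IsKInjective (((restr O V).mapHomologicalComplex (ComplexShape.up ℤ)).obj I) :=
  Groth.Agent.S0481.result (restr O V) (extZero O V) (extZeroAdj O V) I inferInstance

theorem isKInjective_TU (I : CochainComplex (Mod O) ℤ) [I.IsKInjective] :
    CochainComplex.IsKInjective (TU V f I) :=
  Groth.Agent.S0481.result (LocAway.H (GSec.ofSect O V f)) (LocAway.G (GSec.ofSect O V f))
    (LocAway.adj (GSec.ofSect O V f)) _ (isKInjective_restr V I)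

variable {V f}

/-- The sequence of sections of a map into the right adjoint of localisation. -/
noncomputable def seqTo {W : Over V} {G : Mod O}
    (z : freeU (O.over V) W ⟶ (LocAway.H (GSec.ofSect O V f)).obj ((restr O V).obj G)) (k : ℕ) : sect G W.left :=
  freeUEquiv W ((restr O V).obj G) (z ≫ LocAway.pr (GSec.ofSect O V f) ((restr O V).obj G) k)

theorem smulEnd_freeUEquiv {W : Over V} {G : Mod O} (z : freeU (O.over V) W ⟶ (restr O V).obj G) :
    freeUEquiv W ((restr O V).obj G) (z ≫ smulEnd (GSec.ofSect O V f) ((restr O V).obj G)) =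
      (show sect G W.left from (O.obj.map W.hom.op).hom f •
        (show sect G W.left from freeUEquiv W ((restr O V).obj G) z)) :=
  freeUEquiv_comp W z _

theorem seqTo_rel {W : Over V} {G : Mod O}
    (z : freeU (O.over V) W ⟶ (LocAway.H (GSec.ofSect O V f)).obj ((restr O V).obj G)) (k : ℕ) :
    (O.obj.map W.hom.op).hom f • seqTo z (k + 1) = seqTo z k :=
  (smulEnd_freeUEquiv _).symm.trans (congrArg (freeUEquiv W _) ((Category.assoc _ _ _).trans
    (congrArg (z ≫ ·) (LocAway.pr_rel _ _ k))))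

theorem seqTo_comp {W : Over V} {G G' : Mod O}
    (z : freeU (O.over V) W ⟶ (LocAway.H (GSec.ofSect O V f)).obj ((restr O V).obj G)) (φ : G ⟶ G') (k : ℕ) :
    seqTo (z ≫ (LocAway.H (GSec.ofSect O V f)).map ((restr O V).map φ)) k = appS φ W.left (seqTo z k) := by
  refine Eq.trans ?_ (SitePull.freeUEquiv_comp_appS W (z ≫ LocAway.pr _ _ k) ((restr O V).map φ))
  exact congrArg (freeUEquiv W _) ((Category.assoc _ _ _).trans
    ((congrArg (z ≫ ·) (LocAway.map_pr _ _ k)).trans (Category.assoc _ _ _).symm))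

theorem seqTo_injective {W : Over V} {G : Mod O}
    {z z' : freeU (O.over V) W ⟶ (LocAway.H (GSec.ofSect O V f)).obj ((restr O V).obj G)}
    (h : ∀ k, seqTo z k = seqTo z' k) : z = z' :=
  LocAway.pr_ext _ fun k => (freeUEquiv W _).injective (h k)

theorem seqTo_zero {W : Over V} {G : Mod O} (k : ℕ) :
    seqTo (0 : freeU (O.over V) W ⟶ (LocAway.H (GSec.ofSect O V f)).obj ((restr O V).obj G)) k = 0 :=
  (congrArg (freeUEquiv W _) zero_comp).trans (SitePull.freeUEquiv_zero W _)

theorem exists_seqTo {W : Over V} {G : Mod O} (x : ℕ → sect G W.left)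
    (hx : ∀ k, (O.obj.map W.hom.op).hom f • x (k + 1) = x k) :
    ∃ z : freeU (O.over V) W ⟶ (LocAway.H (GSec.ofSect O V f)).obj ((restr O V).obj G), ∀ k, seqTo z k = x k := by
  refine ⟨LocAway.lift (GSec.ofSect O V f) (fun k => (freeUEquiv W ((restr O V).obj G)).symm (x k)) fun k =>
    (freeUEquiv W _).injective ?_, fun k => ?_⟩
  · rw [smulEnd_freeUEquiv, Equiv.apply_symm_apply, Equiv.apply_symm_apply]
    exact hx k
  · exact (congrArg (freeUEquiv W _) (LocAway.lift_pr _ _ _ k)).trans (Equiv.apply_symm_apply _ _)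

theorem exactAt_TU_of_local (I : CochainComplex (Mod O) ℤ) (m : ℤ)
    (h : ∃ S ∈ J V, ∀ ⦃W : C⦄ (g : W ⟶ V), S g → SeqSect I W ((O.obj.map g.op).hom f)) :
    (TU V f I).ExactAt (m + 1) := by
  obtain ⟨S, hS, hS'⟩ := h
  have : Epi ((TU V f I).toCycles m (m + 1)) := by
    refine SitePull.epi_of_locally_surjective _ fun W ξ => ?_
    refine ⟨(Sieve.overEquiv W).symm (S.pullback W.hom), by
      rw [GrothendieckTopology.mem_over_iff]
      exact ((Sieve.overEquiv W).apply_symm_apply _).symm ▸ J.pullback_stable _ hS,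
      fun W' g hg => ?_⟩
    rw [Sieve.overEquiv_symm_iff] at hg
    have hw : g.left ≫ W.hom = W'.hom := Over.w g
    let ξ' := SitePull.gmap g ≫ (freeUEquiv W ((TU V f I).cycles (m + 1))).symm ξ
    let z := ξ' ≫ (TU V f I).iCycles (m + 1)
    obtain ⟨y, hy, hy'⟩ := hS' _ hg m (fun k => seqTo (G := I.X (m + 1)) z k)
      (fun k => by
        refine (seqTo_comp z (I.d (m + 1) (m + 2)) k).symm.trans ?_
        refine (congrArg (fun t => seqTo (G := I.X (m + 2)) t k) ?_).trans (seqTo_zero k)
        exact (Category.assoc _ _ _).trans ((congrArg (ξ' ≫ ·) ((TU V f I).iCycles_d (m + 1) (m + 2))).trans comp_zero))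
      fun k => by
        have := seqTo_rel (G := I.X (m + 1)) z k
        rw [← hw] at this
        exact this
    obtain ⟨l, hl⟩ := exists_seqTo (W := W') (f := f) y (fun k => by rw [← hw]; exact hy k)
    have hlz : l ≫ (TU V f I).toCycles m (m + 1) = ξ' := by
      refine (cancel_mono ((TU V f I).iCycles (m + 1))).1 ((Category.assoc _ _ _).trans
        ((congrArg (l ≫ ·) ((TU V f I).toCycles_i m (m + 1))).trans ?_))
      exact seqTo_injective fun k => (seqTo_comp l (I.d m (m + 1)) k).trans
        ((congrArg (appS (I.d m (m + 1)) W'.left) (hl k)).trans (hy' k))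
    refine ⟨freeUEquiv W' _ l, ?_⟩
    exact (SitePull.freeUEquiv_comp_appS W' l _).symm.trans ((congrArg (freeUEquiv W' _) hlz).trans
      ((SitePull.gmap_comp g _).trans (congrArg _ (Equiv.apply_symm_apply _ _))))
  rw [HomologicalComplex.exactAt_iff_isZero_homology]
  exact IsZero.of_epi_eq_zero ((TU V f I).homologyπ (m + 1))
    ((cancel_epi ((TU V f I).toCycles m (m + 1))).1 (by rw [HomologicalComplex.toCycles_comp_homologyπ, comp_zero]))

/-- Exactness on compatible sequences is local. -/
theorem seqSect_of_local (I : CochainComplex (Mod O) ℤ) [I.IsKInjective]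
    (h : ∃ S ∈ J V, ∀ ⦃W : C⦄ (g : W ⟶ V), S g → SeqSect I W ((O.obj.map g.op).hom f)) :
    SeqSect I V f := by
  have := isKInjective_TU V f I
  have hac : (TU V f I).Acyclic := fun i => by
    obtain ⟨m, rfl⟩ : ∃ m, m + 1 = i := ⟨i - 1, by omega⟩
    exact exactAt_TU_of_local I m h
  have H := CochainComplex.IsKInjective.homotopyZero (𝟙 (TU V f I)) hac
  intro m x hx hrel
  have hf : (O.obj.map (Over.mk (𝟙 V)).hom.op).hom f = f := by
    change (O.obj.map (𝟙 V).op).hom f = f
    rw [op_id, O.obj.map_id]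
    rfl
  obtain ⟨z, hz⟩ := exists_seqTo (W := Over.mk (𝟙 V)) (f := f) (G := I.X (m + 1)) x
    (fun k => by rw [hf]; exact hrel k)
  have hzd : z ≫ (TU V f I).d (m + 1) (m + 2) = 0 := seqTo_injective fun k =>
    (seqTo_comp z (I.d (m + 1) (m + 2)) k).trans ((congrArg (appS _ _) (hz k)).trans ((hx k).trans (seqTo_zero (W := Over.mk (𝟙 V)) (f := f) (G := I.X (m + 2)) k).symm))
  let w := z ≫ H.hom (m + 1) m
  have hw : w ≫ (TU V f I).d m (m + 1) = z := by
    have hc := H.comm (m + 1)
    rw [dNext_eq H.hom (show (ComplexShape.up ℤ).Rel (m + 1) (m + 2) from by simp; omega),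
      prevD_eq H.hom (show (ComplexShape.up ℤ).Rel m (m + 1) from rfl), HomologicalComplex.zero_f, add_zero] at hc
    have h2 : z ≫ 𝟙 _ = z ≫ _ + z ≫ _ := (congrArg (z ≫ ·) hc).trans (Preadditive.comp_add _ _ _ _ _ _)
    have h3 : z ≫ (TU V f I).d (m + 1) (m + 2) ≫ H.hom (m + 2) (m + 1) = 0 :=
      (Category.assoc _ _ _).symm.trans ((congrArg (· ≫ H.hom (m + 2) (m + 1)) hzd).trans zero_comp)
    refine (Category.assoc _ _ _).trans (Eq.trans ?_ (h2.symm.trans (Category.comp_id z)))
    exact (zero_add _).symm.trans (congrArg (· + _) h3.symm)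
  refine ⟨fun k => seqTo (G := I.X m) w k, fun k => ?_, fun k => ?_⟩
  · exact (congrArg (fun r : O.obj.obj (op V) => r • (show sect (I.X m) V from seqTo (G := I.X m) w (k + 1))) hf.symm).trans (seqTo_rel w k)
  · exact (seqTo_comp w (I.d m (m + 1)) k).symm.trans
      ((congrArg (fun t => seqTo (G := I.X (m + 1)) t k) hw).trans (hz k))

end Groth.Agent.KFlat.SeqCrit
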