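import Groth.Agent.KFlat.GoodEnd
import Groth.Agent.DHA.KInjectiveResolution
import Groth.Agent.DHA.KInj.Products
import Groth.Agent.DHA.Telescope
import Mathlib.Algebra.Category.Grp.Preadditive

/-!
# Telescopes on maps into K-injective complexes
-/

set_option autoImplicit false

universe u

open CategoryTheory CategoryTheory.Limits
open Groth.Agent.DHA.KInj Groth.Agent.KFlat.GoodEnd

attribute [local instance] HasDerivedCategory.standard

namespace Groth.Agent.KFlat.SeqCx

variable {A : Type (u + 1)} [Category.{u} A] [Abelian A] {F : A} (μ : F ⟶ F) (I : CochainComplex A ℤ)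

/-- Compatible sequences of cocycles are coboundaries of compatible sequences. -/
def SeqExact : Prop :=
  ∀ (m : ℤ) (x : ℕ → (F ⟶ I.X (m + 1))), (∀ k, x k ≫ I.d (m + 1) (m + 2) = 0) → (∀ k, μ ≫ x (k + 1) = x k) →
    ∃ y : ℕ → (F ⟶ I.X m), (∀ k, μ ≫ y (k + 1) = y k) ∧ ∀ k, y k ≫ I.d m (m + 1) = x k

/-- Single complexes in the derived category. -/
noncomputable def σIso (m : ℤ) (G : A) :
    (DerivedCategory.singleFunctor A m).obj G ≅
      DerivedCategory.Q.obj ((HomologicalComplex.single A (ComplexShape.up ℤ) m).obj G) :=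
  ((SingleFunctors.evaluation _ _ m).mapIso (DerivedCategory.singleFunctorsPostcompQIso A)).app G

theorem σIso_natural (m : ℤ) {G G' : A} (ν : G ⟶ G') :
    (DerivedCategory.singleFunctor A m).map ν ≫ (σIso m G').hom =
      (σIso m G).hom ≫ DerivedCategory.Q.map ((HomologicalComplex.single A (ComplexShape.up ℤ) m).map ν) :=
  ((SingleFunctors.evaluation _ _ m).mapIso (DerivedCategory.singleFunctorsPostcompQIso A)).hom.naturality ν

/-- The derived category class of a cocycle. -/
noncomputable def cls (m : ℤ) (x : F ⟶ I.X m) (hx : x ≫ I.d m (m + 1) = 0) :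
    (DerivedCategory.singleFunctor A m).obj F ⟶ DerivedCategory.Q.obj I :=
  (σIso m F).hom ≫
    DerivedCategory.Q.map (HomologicalComplex.mkHomFromSingle x fun j hj => by
      obtain rfl : m + 1 = j := hj
      exact hx)

theorem comp_cls (m : ℤ) {F' : A} (ν : F' ⟶ F) (x : F ⟶ I.X m) (hx : x ≫ I.d m (m + 1) = 0) :
    (DerivedCategory.singleFunctor A m).map ν ≫ cls I m x hx =
      cls I m (ν ≫ x) (by rw [Category.assoc, hx, comp_zero]) := by
  dsimp only [cls]
  rw [← Category.assoc, σIso_natural, Category.assoc, ← Functor.map_comp]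
  refine congrArg (_ ≫ ·) ?_
  refine congrArg DerivedCategory.Q.map (HomologicalComplex.from_single_hom_ext ?_)
  simp [HomologicalComplex.mkHomFromSingle_f, HomologicalComplex.single_map_f_self]

theorem cls_add (m : ℤ) (x y : F ⟶ I.X m) (hx : x ≫ I.d m (m + 1) = 0) (hy : y ≫ I.d m (m + 1) = 0) :
    cls I m (x + y) (by rw [Preadditive.add_comp, hx, hy, add_zero]) = cls I m x hx + cls I m y hy := by
  dsimp only [cls]
  rw [← Preadditive.comp_add, ← Functor.map_add]
  refine congrArg (_ ≫ ·) (congrArg DerivedCategory.Q.map (HomologicalComplex.from_single_hom_ext ?_))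
  simp [HomologicalComplex.mkHomFromSingle_f]

theorem cls_sub (m : ℤ) (x y : F ⟶ I.X m) (hx : x ≫ I.d m (m + 1) = 0) (hy : y ≫ I.d m (m + 1) = 0) :
    cls I m (x - y) (by rw [Preadditive.sub_comp, hx, hy, sub_zero]) = cls I m x hx - cls I m y hy := by
  rw [eq_sub_iff_add_eq, ← cls_add]
  congr 1
  exact sub_add_cancel x y

theorem cls_zero (m : ℤ) : cls I m (0 : F ⟶ I.X m) zero_comp = 0 := by
  have h := cls_sub I m (0 : F ⟶ I.X m) 0 zero_comp zero_comp
  simp only [sub_self] at h
  exact h

variable [I.IsKInjective]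

theorem cls_surjective (m : ℤ) (φ : (DerivedCategory.singleFunctor A m).obj F ⟶ DerivedCategory.Q.obj I) :
    ∃ (x : F ⟶ I.X m) (hx : x ≫ I.d m (m + 1) = 0), cls I m x hx = φ := by
  let σ := σIso (A := A) m F
  obtain ⟨g, hg⟩ := Q_map_surjective ((HomologicalComplex.single A (ComplexShape.up ℤ) m).obj F) I (σ.inv ≫ φ)
  have hd : g.f m ≫ I.d m (m + 1) = 0 := by
    rw [g.comm, HomologicalComplex.single_obj_d, zero_comp]
  refine ⟨(HomologicalComplex.singleObjXSelf (ComplexShape.up ℤ) m F).inv ≫ g.f m,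
    by rw [Category.assoc, hd, comp_zero], ?_⟩
  refine Eq.trans ?_ ((congrArg (σ.hom ≫ ·) hg).trans (σ.hom_inv_id_assoc φ))
  refine congrArg (σ.hom ≫ ·) (congrArg DerivedCategory.Q.map (HomologicalComplex.from_single_hom_ext ?_))
  simp [HomologicalComplex.mkHomFromSingle_f]

theorem cls_eq_zero_iff (m n : ℤ) (h : m + 1 = n) (x : F ⟶ I.X n) (hx : x ≫ I.d n (n + 1) = 0) :
    cls I n x hx = 0 ↔ ∃ y : F ⟶ I.X m, y ≫ I.d m n = x := by
  let σ := σIso (A := A) n F
  constructor
  · intro h0
    have h1 : DerivedCategory.Q.map (HomologicalComplex.mkHomFromSingle x fun j hj => by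
        obtain rfl : n + 1 = j := hj
        exact hx : (HomologicalComplex.single A (ComplexShape.up ℤ) n).obj F ⟶ I) =
        DerivedCategory.Q.map 0 := by
      refine (cancel_epi σ.hom).1 (h0.trans ?_)
      rw [Functor.map_zero]
      exact comp_zero.symm
    obtain ⟨H⟩ := homotopy_of_Q_map_eq h1
    refine ⟨(HomologicalComplex.singleObjXSelf (ComplexShape.up ℤ) n F).inv ≫ H.hom n m, ?_⟩
    have hc := H.comm n
    rw [dNext_eq H.hom (show (ComplexShape.up ℤ).Rel n (n + 1) from rfl),
      prevD_eq H.hom (show (ComplexShape.up ℤ).Rel m n from h), HomologicalComplex.single_obj_d, zero_comp,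
      zero_add, HomologicalComplex.zero_f, add_zero, HomologicalComplex.mkHomFromSingle_f] at hc
    rw [Category.assoc, ← hc, Iso.inv_hom_id_assoc]
  · rintro ⟨y, rfl⟩
    let H : ∀ p q, ((HomologicalComplex.single A (ComplexShape.up ℤ) n).obj F).X p ⟶ I.X q := fun p q =>
      if hp : p = n ∧ q = m then eqToHom (by rw [hp.1]) ≫
        (HomologicalComplex.singleObjXSelf (ComplexShape.up ℤ) n F).hom ≫ y ≫ eqToHom (by rw [hp.2]) else 0
    have hH : ∀ p q, ¬ (ComplexShape.up ℤ).Rel q p → H p q = 0 := fun p q hpq => by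
      dsimp only [H]
      rw [dif_neg]
      rintro ⟨rfl, rfl⟩
      exact hpq h
    have e : (HomologicalComplex.mkHomFromSingle (y ≫ I.d m n) fun j hj => by
        obtain rfl : n + 1 = j := hj
        simp : (HomologicalComplex.single A (ComplexShape.up ℤ) n).obj F ⟶ I) =
        Homotopy.nullHomotopicMap H := by
      refine HomologicalComplex.from_single_hom_ext ?_
      rw [Homotopy.nullHomotopicMap_f (show (ComplexShape.up ℤ).Rel m n from h)
        (show (ComplexShape.up ℤ).Rel n (n + 1) from rfl), HomologicalComplex.single_obj_d, zero_comp, zero_add,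
        HomologicalComplex.mkHomFromSingle_f]
      simp [H]
    change σ.hom ≫ DerivedCategory.Q.map _ = 0
    rw [Groth.Agent.DHA.KInj.Q_map_eq_of_homotopy ((Homotopy.ofEq e).trans (Homotopy.nullHomotopy H hH))]
    rw [Functor.map_zero]
    exact comp_zero

theorem cls_eq_iff (m n : ℤ) (h : m + 1 = n) (x x' : F ⟶ I.X n) (hx : x ≫ I.d n (n + 1) = 0)
    (hx' : x' ≫ I.d n (n + 1) = 0) :
    cls I n x hx = cls I n x' hx' ↔ ∃ y : F ⟶ I.X m, y ≫ I.d m n = x - x' := by
  rw [← sub_eq_zero, ← cls_sub]
  exact cls_eq_zero_iff I m n h _ _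

/-- Goodness of the endomorphism of maps into an object of the derived category. -/
def GoodD (K : DerivedCategory A) : Prop :=
  ∀ m : ℤ, Good (Preadditive.leftComp K ((DerivedCategory.singleFunctor A m).map μ))

theorem GoodD.of_iso {K K' : DerivedCategory A} (e : K ≅ K') (h : GoodD μ K) : GoodD μ K' := fun m =>
  (h m).of_equiv
    { toFun := fun x => x ≫ e.hom
      invFun := fun x => x ≫ e.inv
      left_inv := fun x => by simp
      right_inv := fun x => by simp
      map_add' := fun x y => Preadditive.add_comp _ _ _ x y e.hom }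
    fun x => Category.assoc ((DerivedCategory.singleFunctor A m).map μ) x e.hom

variable [HasColimitsOfShape ℕ A] [HasExactColimitsOfShape ℕ A] [HasCoproductsOfShape ℕ A]

/-- The telescope is onto on maps into an injective object. -/
theorem exists_tel_sol (G : A) [Injective G] (a : ℕ → (F ⟶ G)) :
    ∃ y : ℕ → (F ⟶ G), ∀ k, y k - μ ≫ y (k + 1) = a k := by
  let φ : (∐ fun _ : ℕ => F) ⟶ ∐ fun _ : ℕ => F :=
    Sigma.desc fun n => Sigma.ι (fun _ : ℕ => F) n - μ ≫ Sigma.ι (fun _ : ℕ => F) (n + 1)
  have : Mono φ := Groth.Agent.DHA.Telescope.mono_oneSub (fun _ : ℕ => μ) (coproductIsCoproduct fun _ : ℕ => F)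
    φ fun _ => Sigma.ι_desc _ _
  refine ⟨fun k => Sigma.ι (fun _ : ℕ => F) k ≫ Injective.factorThru (Sigma.desc a) φ, fun k => ?_⟩
  have h := congrArg (Sigma.ι (fun _ : ℕ => F) k ≫ ·) (Injective.comp_factorThru (Sigma.desc a) φ)
  simp only [φ, Sigma.ι_desc_assoc, Sigma.ι_desc, Preadditive.sub_comp, Category.assoc] at h
  exact h

/-- Exactness on compatible sequences is goodness. -/
theorem seqExact_iff_goodD (hI : ∀ n, Injective (I.X n)) : SeqExact μ I ↔ GoodD μ (DerivedCategory.Q.obj I) := by
  constructor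
  · intro hS n
    obtain ⟨m, rfl⟩ : ∃ m, m + 1 = n := ⟨n - 1, by omega⟩
    refine good_of _ (fun z hz => ?_) fun a => ?_
    · choose x hx hxz using fun k => cls_surjective I (m + 1) (z k)
      have hb : ∀ k, ∃ y : F ⟶ I.X m, y ≫ I.d m (m + 1) = x k - μ ≫ x (k + 1) := fun k => by
        refine (cls_eq_iff I m (m + 1) rfl _ _ (hx k) (by rw [Category.assoc, hx, comp_zero])).1 ?_
        rw [← comp_cls I (m + 1) μ _ (hx (k + 1)), hxz, hxz]
        exact hz k
      choose y hy using hb
      have := hI m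
      obtain ⟨y', hy'⟩ := exists_tel_sol μ (I.X m) y
      obtain ⟨w, -, hw⟩ := hS m (fun k => x k - y' k ≫ I.d m (m + 1))
        (fun k => by
          rw [Preadditive.sub_comp, Category.assoc, I.d_comp_d, comp_zero, sub_zero]
          rw [show m + 2 = m + 1 + 1 by omega]
          exact hx k)
        fun k => by
          have e := hy k
          rw [← hy' k, Preadditive.sub_comp, Category.assoc] at e
          rw [Preadditive.comp_sub, ← sub_eq_zero]
          rw [← sub_eq_zero] at e
          rw [← e]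
          abel
      funext k
      rw [← hxz k, Pi.zero_apply, cls_eq_zero_iff I m (m + 1) rfl]
      exact ⟨y' k + w k, by rw [Preadditive.add_comp, hw, add_sub_cancel]⟩
    · choose α hα hαa using fun k => cls_surjective I (m + 1) (a k)
      have := hI (m + 1)
      obtain ⟨x, hx⟩ := exists_tel_sol μ (I.X (m + 1)) α
      obtain ⟨w, hwμ, hw⟩ := hS (m + 1) (fun k => x k ≫ I.d (m + 1) (m + 1 + 1))
        (fun k => by rw [Category.assoc, I.d_comp_d, comp_zero])
        fun k => by
          have e : (x k - μ ≫ x (k + 1)) ≫ I.d (m + 1) (m + 1 + 1) = 0 := by rw [hx]; exact hα k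
          rw [Preadditive.sub_comp, Category.assoc, sub_eq_zero] at e
          exact e.symm
      have hc : ∀ k, (x k - w k) ≫ I.d (m + 1) (m + 1 + 1) = 0 := fun k => by
        rw [Preadditive.sub_comp, hw, sub_self]
      refine ⟨fun k => cls I (m + 1) (x k - w k) (hc k), fun k => ?_⟩
      change cls I (m + 1) (x k - w k) (hc k) -
        (DerivedCategory.singleFunctor A (m + 1)).map μ ≫ cls I (m + 1) (x (k + 1) - w (k + 1)) (hc (k + 1)) = a k
      rw [comp_cls, ← cls_sub, ← hαa k]
      congr 1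
      rw [Preadditive.comp_sub, hwμ, ← hx k]
      abel
  · intro hG m x hx hμ
    have hd : ∀ k, x k ≫ I.d (m + 1) (m + 1 + 1) = 0 := fun k => by
      rw [show m + 1 + 1 = m + 2 by omega]; exact hx k
    have hz := (hG (m + 1)).eq_zero (x := fun k => cls I (m + 1) (x k) (hd k)) fun k => by
      refine Eq.trans ?_ (comp_cls I (m + 1) μ _ (hd (k + 1))).symm
      congr 1
      exact (hμ k).symm
    choose y hy using fun k => (cls_eq_zero_iff I m (m + 1) rfl _ (hd k)).1 (congrFun hz k)
    have hy0 : ∀ k, (y k - μ ≫ y (k + 1)) ≫ I.d m (m + 1) = 0 := fun k => by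
      rw [Preadditive.sub_comp, Category.assoc, hy, hy, hμ, sub_self]
    obtain ⟨c, hc⟩ := (hG m).exists_sol fun k => cls I m (y k - μ ≫ y (k + 1)) (hy0 k)
    choose γ hγ hγc using fun k => cls_surjective I m (c k)
    obtain ⟨l, hl⟩ : ∃ l, l + 1 = m := ⟨m - 1, by omega⟩
    have hb : ∀ k, ∃ e : F ⟶ I.X l, e ≫ I.d l m = (y k - μ ≫ y (k + 1)) - (γ k - μ ≫ γ (k + 1)) := fun k => by
      refine (cls_eq_iff I l m hl _ _ (hy0 k) (by
        rw [Preadditive.sub_comp, Category.assoc, hγ, hγ, comp_zero, sub_zero])).1 ?_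
      rw [cls_sub I m _ _ (hγ k) (by rw [Category.assoc, hγ, comp_zero]), ← comp_cls I m μ _ (hγ (k + 1)), hγc, hγc]
      exact (hc k).symm
    choose e he using hb
    have := hI l
    obtain ⟨e', he'⟩ := exists_tel_sol μ (I.X l) e
    refine ⟨fun k => y k - γ k - e' k ≫ I.d l m, fun k => ?_, fun k => ?_⟩
    · dsimp only
      have h := he k
      rw [← he' k, Preadditive.sub_comp, Category.assoc] at h
      rw [Preadditive.comp_sub, Preadditive.comp_sub, ← sub_eq_zero]
      rw [← sub_eq_zero] at h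
      rw [← h]
      abel
    · rw [Preadditive.sub_comp, Preadditive.sub_comp, hy, hγ, Category.assoc, I.d_comp_d, comp_zero, sub_zero,
        sub_zero]

end Groth.Agent.KFlat.SeqCx
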