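import Groth.Agent.KFlat.FlatProperPC
import Groth.Agent.KFlat.LTensorExact
import Groth.Agent.KFlat.QCohTensor
import Groth.Agent.KFlat.PerfectCompact
import Groth.Agent.KFlat.FlatRes

/-!
# Pseudo-coherence of `Rf_*(E ⊗ᴸ K)` tested on perfect objects
-/

set_option autoImplicit false

universe u

open CategoryTheory CategoryTheory.Limits AlgebraicGeometry Pretriangulated DerivedCategory
open Groth.Agent.PerfTri Groth.Agent.CohDerLib Groth.Agent.KFlat.Pull Groth.Agent.KFlat.LTensor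

attribute [local instance] HasDerivedCategory.standard
attribute [-instance] CategoryTheory.ReflQuiver.toQuiver

noncomputable section

namespace Groth.Agent.KFlat.TensorTest

variable {X S : Scheme.{u}}

theorem isZero_tensor_above {U : Scheme.{u}} (E M : CochainComplex U.Modules ℤ) (b b₀ : ℤ)
    (hE : ∀ q, b < q → IsZero (E.X q)) (hM : ∀ p, b₀ < p → IsZero (M.X p)) (n : ℤ) (hn : b₀ + b < n) :
    IsZero (((DCoh.tensorCx.obj M).obj E).X n) := by
  rw [IsZero.iff_id_eq_zero]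
  refine tot_hom_ext (F := DCoh.tensorBi (X := U)) fun p q h => IsZero.eq_of_src ?_ _ _
  by_cases hp : b₀ < p
  · exact Functor.map_isZero ((DCoh.tensorBi (X := U)).flip.obj (E.X q)) (hM p hp)
  · exact Functor.map_isZero ((DCoh.tensorBi (X := U)).obj (M.X p)) (hE q (by omega))

/-- bounded above objects tensored with a bounded above complex stay bounded above -/
theorem isLE_LTensor (G : CochainComplex X.Modules ℤ) [DCoh.HasLTensorCx G] (b : ℤ)
    (hb : ∀ i, b < i → IsZero (G.X i)) (A : DCoh.D X) (c : ℤ) [A.IsLE c] :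
    ((DCoh.LTensorCx G).obj A).IsLE (c + b) := by
  let A₀ := DerivedCategory.Q.objPreimage A
  let eA := DerivedCategory.Q.objObjPreimageIso A
  obtain ⟨P, g, hflat, hz, hg⟩ := FlatRes.exists_flatRes A₀ c fun i hi =>
    (isZero_of_isLE A c i hi).of_iso (((homologyFunctorFactors X.Modules i).app A₀).symm ≪≫
      (homologyFunctor _ i).mapIso eA)
  have hP : DCoh.IsKFlat P := isKFlat_of_flat_boundedAbove P c hz hflat
  rw [DerivedCategory.isLE_iff]
  intro i hi
  refine IsZero.of_iso ?_ ((homologyFunctor _ i).mapIso ((DCoh.LTensorCx G).mapIso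
    ((asIso (DerivedCategory.Q.map g)) ≪≫ eA).symm ≪≫
      @asIso _ _ _ _ ((toTensor G).app P) (isIso_toTensor G hP)) ≪≫ (homologyFunctorFactors _ i).app _)
  exact ShortComplex.isZero_homology_of_isZero_X₂ _ (isZero_tensor_above G P b c hb hz i (by omega))

/-- the derived tensor with a complex only depends on its class -/
theorem nonempty_LTensor_congr (K G : CochainComplex X.Modules ℤ) [DCoh.HasLTensorCx K] [DCoh.HasLTensorCx G]
    (e : DerivedCategory.Q.obj K ≅ DerivedCategory.Q.obj G) (A : DCoh.D X) :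
    Nonempty ((DCoh.LTensorCx K).obj A ≅ (DCoh.LTensorCx G).obj A) := by
  let P := (resY X).obj (DerivedCategory.Q.objPreimage A)
  have hP : DCoh.IsKFlat P := isKFlat_resY _
  let eP : DerivedCategory.Q.obj P ≅ A := (resQIso (Y := X)).app _ ≪≫ DerivedCategory.Q.objObjPreimageIso A
  obtain ⟨e'⟩ := QCohTensor.exists_tensor_iso hP e
  exact ⟨(DCoh.LTensorCx K).mapIso eP.symm ≪≫ @asIso _ _ _ _ ((toTensor K).app P) (isIso_toTensor K hP) ≪≫
    e' ≪≫ (@asIso _ _ _ _ ((toTensor G).app P) (isIso_toTensor G hP)).symm ≪≫ (DCoh.LTensorCx G).mapIso eP⟩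

theorem pc_Rpush_tensor [CompactSpace X] [QuasiSeparatedSpace X] [CompactSpace S] (f : X ⟶ S) [QuasiCompact f]
    [QuasiSeparated f] [DCoh.HasRpush f] (G : CochainComplex X.Modules ℤ) (hG : DCoh.IsKFlat G) (b : ℤ)
    (hb : ∀ i, b < i → IsZero (G.X i)) (hGq : DCoh.IsQCohD (DCoh.toD X G)) [DCoh.HasLTensorCx G]
    (h : ∀ P : DCoh.D X, DCoh.IsPerfect P → ∀ m : ℤ,
      DCoh.IsPseudoCoherentD m ((DCoh.Rpush f).obj ((DCoh.LTensorCx G).obj P)))
    (E : DCoh.D X) (hE : ∀ m, DCoh.IsPseudoCoherentD m E) (m : ℤ) :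
    DCoh.IsPseudoCoherentD m ((DCoh.Rpush f).obj ((DCoh.LTensorCx G).obj E)) := by
  obtain ⟨ι, B, d, hB, hd⟩ := QC.exists_bound f
  obtain ⟨r, -, hr⟩ := Approx.exists_good X ⊥ (by simp)
  have hqE := FlatProper.isQCohD_of_pc hE
  obtain ⟨C, P, β, γ, δ, hT, hP, -, hC⟩ := hr (m - d - b) E hqE (hE _) fun i _ =>
    (CohDev.isZero_restrict_of_support (⊥ : X.Opens).ι (M := DCoh.HD E i) (fun x _ => by
      rintro ⟨z, -⟩
      exact z.2)).of_iso (Kosz.homologyRestrictIso ⊥ E i)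
  have hqC : DCoh.IsQCohD C := Groth.Agent.PCohD.isQCohD_obj₃ _ (inv_rot_of_distTriang _ hT)
    (PerfExt.isQCohD_of_isPerfect (Perfect.isPerfect_shift hP (-1))) hqE
  let T := (Triangle.mk β γ δ).invRotate
  have hT' : T ∈ distinguishedTriangles := inv_rot_of_distTriang _ hT
  obtain ⟨A, A', r', ⟨w⟩⟩ := TorTriangle.exists_kflat_cone _ (inv_rot_of_distTriang _ hT')
  let S₀ := (CochainComplex.mappingCone.triangleRotateShortComplex r').map ((DCoh.tensorCx (X := X)).flip.obj G)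
  have hS : S₀.ShortExact := Groth.Agent.KFlat.shortExact_tens_flip (O := X.sheaf)
    (CochainComplex.mappingCone.triangleRotateShortComplexSplitting r') G
  let i₁ : DerivedCategory.Q.obj A.1 ≅ T.obj₃⟦(-1 : ℤ)⟧ := Triangle.π₁.mapIso w
  let i₂ : DerivedCategory.Q.obj A'.1 ≅ T.obj₁ := Triangle.π₂.mapIso w
  let i₃ : DerivedCategory.Q.obj (CochainComplex.mappingCone r') ≅ T.obj₂ := Triangle.π₃.mapIso w
  let k : DerivedCategory.Q.obj (A.1⟦(1 : ℤ)⟧) ≅ T.obj₃ :=
    (DerivedCategory.Q.commShiftIso (1 : ℤ)).app A.1 ≪≫ (shiftFunctor (DCoh.D X) (1 : ℤ)).mapIso i₁ ≪≫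
      (shiftEquiv (DCoh.D X) (1 : ℤ)).counitIso.app T.obj₃
  have t : ∀ K : CochainComplex X.Modules ℤ, Nonempty ((DCoh.LTensorCx G).obj (DerivedCategory.Q.obj K) ≅
      DerivedCategory.Q.obj ((DCoh.tensorCx.obj K).obj G)) := fun K =>
    ⟨@asIso _ _ _ _ ((toTensor G).app K) (isIso_toTensor_of_kflat G hG K)⟩
  obtain ⟨t₁⟩ := t A'.1
  obtain ⟨t₂⟩ := t (CochainComplex.mappingCone r')
  obtain ⟨t₃⟩ := t (A.1⟦(1 : ℤ)⟧)
  obtain ⟨δ', hδ'⟩ := RPushTriangle.distinguished_Rpush f _ (DerivedCategory.triangleOfSES_distinguished hS)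
  refine PCohD.pc_of_iso ((DCoh.Rpush f).mapIso (t₂.symm ≪≫ (DCoh.LTensorCx G).mapIso i₃)) ?_
  refine PCohD.pc₂ _ hδ'
    (PCohD.pc_of_iso ((DCoh.Rpush f).mapIso ((DCoh.LTensorCx G).mapIso i₂.symm ≪≫ t₁))
      (h _ (Perfect.isPerfect_shift hP (-1)) m))
    (PCohD.pc_of_iso ((DCoh.Rpush f).mapIso ((DCoh.LTensorCx G).mapIso k.symm ≪≫ t₃)) ?_)
  have : C.IsLE (m - d - b - 1) := (DerivedCategory.isLE_iff C _).2 fun i hi => hC i (by omega)
  have hle : ((DCoh.LTensorCx G).obj C).IsLE (m - d - b - 1 + b) := isLE_LTensor G b hb C _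
  have hq : DCoh.IsQCohD ((DCoh.LTensorCx G).obj C) := QCohTensor.isQCohD_LTensorCx G hGq C hqC
  exact PCohD.pc_of_vanish fun i hi =>
    QC.isZero_HD_Rpush f B hB _ i fun j => QC.hom_zero (hd j) _ hq (m - d - b - 1 + b) i (by omega)

end Groth.Agent.KFlat.TensorTest
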