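import Groth.Agent.KFlat.PullAcyclic
import Groth.Agent.KFlat.Lpull
import Groth.Agent.KFlat.FlatQuot
import Groth.Agent.KFlat.CxAdj
import Groth.Prelude.Def_DCoh4
import Mathlib.Algebra.Homology.HomotopyCategory.KInjective

/-!
# Complexes right orthogonal to acyclic K-flat complexes, and their direct images
-/

set_option autoImplicit false

universe u

open CategoryTheory CategoryTheory.Limits AlgebraicGeometry CategoryTheory.Pretriangulated
open Groth.Agent.KFlat.Pull

namespace Groth.Agent.KFlat.WeakKInj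

variable {X Y : Scheme.{u}}

/-- Termwise direct image. -/
noncomputable abbrev pushCx (f : X ⟶ Y) : CochainComplex X.Modules ℤ ⥤ CochainComplex Y.Modules ℤ :=
  (Scheme.Modules.pushforward f).mapHomologicalComplex (ComplexShape.up ℤ)

/-- Every map from an acyclic K-flat complex is null-homotopic. -/
def IsWeaklyKInjective (L : CochainComplex X.Modules ℤ) : Prop :=
  ∀ (P : CochainComplex X.Modules ℤ), DCoh.IsKFlat P → P.Acyclic → ∀ g : P ⟶ L, Nonempty (Homotopy g 0)

theorem of_isKInjective (L : CochainComplex X.Modules ℤ) [L.IsKInjective] : IsWeaklyKInjective L :=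
  fun _ _ hP g => ⟨CochainComplex.IsKInjective.homotopyZero g hP⟩

theorem null_of_adjoint (f : X ⟶ Y) {P : CochainComplex Y.Modules ℤ} {L : CochainComplex X.Modules ℤ}
    (g : P ⟶ (pushCx f).obj L)
    (h : ∀ g' : (pullCx f).obj P ⟶ L, Nonempty (Homotopy g' 0)) : Nonempty (Homotopy g 0) := by
  let adj := CxAdj.mapCx (Scheme.Modules.pullbackPushforwardAdjunction f) (ComplexShape.up ℤ)
  obtain ⟨k⟩ := h ((adj.homEquiv _ _).symm g)
  refine ⟨(Homotopy.ofEq ?_).trans ((((Scheme.Modules.pushforward f).mapHomotopy k).compLeft (adj.unit.app P)).trans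
    (Homotopy.ofEq ?_))⟩
  · exact ((adj.homEquiv _ _).apply_symm_apply g).symm.trans (adj.homEquiv_unit _ _ _)
  · rw [Functor.map_zero, comp_zero]

/-- Direct images keep the property. -/
theorem push (f : X ⟶ Y) {L : CochainComplex X.Modules ℤ} (h : IsWeaklyKInjective L) :
    IsWeaklyKInjective ((pushCx f).obj L) := fun P hP hac g =>
  null_of_adjoint f g fun g' => h _ (isKFlat_pullCx f hP)
    ((acyclic_iff_isZero _).2 (isZero_homology_pullCx f hP ((acyclic_iff_isZero _).1 hac))) g'

local notation "q" => HomotopyCategory.quotient _ (ComplexShape.up ℤ)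

theorem quotient_map_eq_zero {L : CochainComplex X.Modules ℤ} (h : IsWeaklyKInjective L)
    {P : CochainComplex X.Modules ℤ} (hP : DCoh.IsKFlat P) (hac : P.Acyclic)
    (g : (HomotopyCategory.quotient X.Modules (ComplexShape.up ℤ)).obj P ⟶
      (HomotopyCategory.quotient X.Modules (ComplexShape.up ℤ)).obj L) : g = 0 := by
  obtain ⟨g, rfl⟩ := (HomotopyCategory.quotient X.Modules (ComplexShape.up ℤ)).map_surjective g
  rw [HomotopyCategory.eq_of_homotopy g 0 (h P hP hac g).some, Functor.map_zero]

theorem shift {L : CochainComplex X.Modules ℤ} (h : IsWeaklyKInjective L) (n : ℤ) :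
    IsWeaklyKInjective (L⟦n⟧) := by
  intro P hP hac g
  let g' : P⟦-n⟧ ⟶ L := g⟦-n⟧' ≫ (shiftShiftNeg L n).hom
  have hz : (HomotopyCategory.quotient X.Modules (ComplexShape.up ℤ)).map g' = 0 :=
    quotient_map_eq_zero h (Groth.Agent.KFlat.isKFlat_shift (O := X.sheaf) hP (-n))
      (Groth.Agent.KFlat.acyclic_shift (O := X.sheaf) hac (-n)) _
  rw [Functor.map_comp] at hz
  have h1 : (HomotopyCategory.quotient X.Modules (ComplexShape.up ℤ)).map (g⟦-n⟧') = 0 := by
    rw [← cancel_mono ((HomotopyCategory.quotient X.Modules (ComplexShape.up ℤ)).map (shiftShiftNeg L n).hom),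
      zero_comp]
    exact hz
  refine ⟨HomotopyCategory.homotopyOfEq _ _ ((shiftFunctor (HomotopyCategory X.Modules (ComplexShape.up ℤ)) (-n)).map_injective ?_)⟩
  rw [Functor.map_zero, Functor.map_zero,
    ← cancel_epi (((HomotopyCategory.quotient X.Modules (ComplexShape.up ℤ)).commShiftIso (-n)).hom.app P),
    comp_zero]
  refine (((HomotopyCategory.quotient X.Modules (ComplexShape.up ℤ)).commShiftIso (-n)).hom.naturality g).symm.trans ?_
  change (HomotopyCategory.quotient X.Modules (ComplexShape.up ℤ)).map (g⟦-n⟧') ≫ _ = 0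
  rw [h1, zero_comp]

/-- Two out of three: the mapping cone. -/
theorem cone {A B : CochainComplex X.Modules ℤ} (φ : A ⟶ B) (hA : IsWeaklyKInjective A)
    (hB : IsWeaklyKInjective B) : IsWeaklyKInjective (CochainComplex.mappingCone φ) := by
  intro P hP hac g
  let Q := HomotopyCategory.quotient X.Modules (ComplexShape.up ℤ)
  let T := CochainComplex.mappingCone.triangleh φ
  have hT : T ∈ distinguishedTriangles := HomotopyCategory.mappingCone_triangleh_distinguished φ
  refine ⟨HomotopyCategory.homotopyOfEq _ _ ?_⟩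
  rw [Functor.map_zero]
  let g₀ : Q.obj P ⟶ T.obj₃ := Q.map g
  have h3 : g₀ ≫ T.mor₃ = 0 := by
    exact (cancel_mono ((Q.commShiftIso (1 : ℤ)).inv.app A)).1
      ((quotient_map_eq_zero (shift hA 1) hP hac _).trans zero_comp.symm)
  obtain ⟨k, hk⟩ := Triangle.coyoneda_exact₃ T hT g₀ h3
  have hk0 : k = 0 := quotient_map_eq_zero hB hP hac k
  change g₀ = 0
  rw [hk, hk0, zero_comp]

/-- Maps from K-flat complexes to acyclic weakly K-injective complexes are null-homotopic. -/
theorem null_of_acyclic {C : CochainComplex X.Modules ℤ} (h : IsWeaklyKInjective C) (hC : C.Acyclic)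
    {P : CochainComplex X.Modules ℤ} (hP : DCoh.IsKFlat P) (g : P ⟶ C) : Nonempty (Homotopy g 0) := by
  obtain ⟨N, b, c, hN, hc, hbc, -⟩ := Groth.Agent.KFlat.exists_factor (O := X.sheaf) g hP
  have hNac : N.Acyclic := @Groth.Agent.KFlat.acyclic_of_quasiIso_right _ _ _ _ _ c hc hC
  obtain ⟨k⟩ := h N hN hNac c
  exact ⟨(Homotopy.ofEq hbc.symm).trans ((k.compLeft b).trans (Homotopy.ofEq comp_zero))⟩

/-- Direct images of acyclic weakly K-injective complexes are acyclic. -/
theorem acyclic_push (f : X ⟶ Y) {C : CochainComplex X.Modules ℤ} (h : IsWeaklyKInjective C) (hC : C.Acyclic) :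
    HomologicalComplex.Acyclic ((pushCx f).obj C) := by
  let ρ : (resY Y).obj ((pushCx f).obj C) ⟶ (pushCx f).obj C := (resYπ Y).app ((pushCx f).obj C)
  have hρ : QuasiIso ρ := quasiIso_resYπ _
  obtain ⟨k⟩ := null_of_adjoint f ρ fun g' => null_of_acyclic h hC (isKFlat_pullCx f (isKFlat_resY _)) g'
  intro i
  rw [HomologicalComplex.exactAt_iff_isZero_homology]
  have h0 : HomologicalComplex.homologyMap ρ i = 0 :=
    (k.homologyMap_eq i).trans (HomologicalComplex.homologyMap_zero _ _ _)
  have hi : IsIso (HomologicalComplex.homologyMap ρ i) :=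
    (quasiIsoAt_iff_isIso_homologyMap ρ i).1 (hρ.quasiIsoAt i)
  refine (IsZero.iff_id_eq_zero _).2 ?_
  exact (IsIso.inv_hom_id (HomologicalComplex.homologyMap ρ i)).symm.trans
    ((congrArg (inv (HomologicalComplex.homologyMap ρ i) ≫ ·) h0).trans comp_zero)

/-- Direct image preserves quasi-isomorphisms between weakly K-injective complexes. -/
theorem quasiIso_push (f : X ⟶ Y) {A B : CochainComplex X.Modules ℤ} (s : A ⟶ B) [QuasiIso s]
    (hA : IsWeaklyKInjective A) (hB : IsWeaklyKInjective B) : QuasiIso ((pushCx f).map s) :=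
  quasiIso_of_acyclic_mappingCone _ (@Groth.Agent.KFlat.acyclic_of_quasiIso_left _ _ _ _ _
    (CochainComplex.mappingCone.mapHomologicalComplexIso s (Scheme.Modules.pushforward f)).hom inferInstance
    (acyclic_push f (cone s hA hB) (acyclic_mappingCone_of_quasiIso s)))

end Groth.Agent.KFlat.WeakKInj
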